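import Mathlib

/-!
# The Schreier property

`Sch K`: every perfect group of automorphisms of `K` consists of inner automorphisms; for a finite group `K` this says
that `Out K` is solvable.
-/

set_option autoImplicit false

namespace Cfsg.Agent.Schreier.Basic

/-- The Schreier property: every perfect subgroup of `Aut K` consists of inner automorphisms. -/
def Sch (K : Type*) [Group K] : Prop :=
  ∀ C : Subgroup (MulAut K), ⁅C, C⁆ = C → C ≤ (MulAut.conj : K →* MulAut K).range

theorem sch_def {K : Type*} [Group K] :
    Sch K ↔ ∀ C : Subgroup (MulAut K), ⁅C, C⁆ = C → C ≤ (MulAut.conj : K →* MulAut K).range := Iff.rfl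

/-- A perfect solvable subgroup is trivial. -/
theorem eq_bot_of_perfect_of_solvable {A : Type*} [Group A] {C : Subgroup A} (hC : ⁅C, C⁆ = C)
    (hs : Group.IsSolvable C) : C = ⊥ := by
  have h1 : ∀ n : ℕ, derivedSeries C n = ⊤ := by
    intro n
    induction n with
    | zero => rfl
    | succ n ih =>
      rw [derivedSeries_succ, ih]
      apply Subgroup.map_injective C.subtype_injective
      rw [Subgroup.map_commutator, ← MonoidHom.range_eq_map, Subgroup.range_subtype, hC]
  obtain ⟨n, hn⟩ := hs.solvable
  rw [h1 n] at hn
  have : (⊤ : Subgroup C).map C.subtype = (⊥ : Subgroup C).map C.subtype := by rw [hn]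
  rwa [← MonoidHom.range_eq_map, Subgroup.range_subtype, Subgroup.map_bot] at this

/-- The image of a perfect subgroup is perfect. -/
theorem map_perfect {A B : Type*} [Group A] [Group B] (f : A →* B) {C : Subgroup A} (hC : ⁅C, C⁆ = C) :
    ⁅C.map f, C.map f⁆ = C.map f := by
  rw [← Subgroup.map_commutator, hC]

/-- A perfect subgroup with solvable image lies in the kernel. -/
theorem le_ker_of_perfect {A B : Type*} [Group A] [Group B] (f : A →* B) {C : Subgroup A} (hC : ⁅C, C⁆ = C)
    (hs : Group.IsSolvable (C.map f)) : C ≤ f.ker := by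
  rw [← Subgroup.map_eq_bot_iff]
  exact eq_bot_of_perfect_of_solvable (map_perfect f hC) hs

/-- A homomorphism from a group all of whose image is in a solvable group kills perfect subgroups. -/
theorem apply_eq_one_of_perfect {A B : Type*} [Group A] [Group B] [Group.IsSolvable B] (f : A →* B) {C : Subgroup A}
    (hC : ⁅C, C⁆ = C) {c : A} (hc : c ∈ C) : f c = 1 :=
  le_ker_of_perfect f hC inferInstance hc

/-- Every subgroup `N` of a finite group contains a perfect subgroup `D` such that `N` is solvable if `D = ⊥`. -/
theorem exists_perfect_residual {A : Type*} [Group A] [Finite A] (N : Subgroup A) :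
    ∃ D : Subgroup A, D ≤ N ∧ ⁅D, D⁆ = D ∧ (D = ⊥ → Group.IsSolvable N) := by
  have hanti : Antitone (derivedSeries N) := derivedSeries_antitone N
  -- the derived series is stationary
  have hst : ∃ n, derivedSeries N (n + 1) = derivedSeries N n := by
    by_contra hcon
    push Not at hcon
    have hlt : ∀ n, derivedSeries N (n + 1) < derivedSeries N n := fun n =>
      lt_of_le_of_ne (hanti (Nat.le_succ n)) (hcon n)
    have hsa : StrictAnti (derivedSeries N) := strictAnti_nat_of_succ_lt hlt
    exact not_injective_infinite_finite _ hsa.injective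
  obtain ⟨n, hn⟩ := hst
  refine ⟨(derivedSeries N n).map N.subtype, Subgroup.map_subtype_le _, ?_, fun h => ?_⟩
  · rw [← Subgroup.map_commutator, ← derivedSeries_succ, hn]
  · refine ⟨n, ?_⟩
    rwa [Subgroup.map_eq_bot_iff_of_injective _ N.subtype_injective] at h

/-- If every perfect subgroup of `N` is trivial then `N` is solvable. -/
theorem isSolvable_of_perfect_eq_bot {A : Type*} [Group A] [Finite A] (N : Subgroup A)
    (h : ∀ D : Subgroup A, D ≤ N → ⁅D, D⁆ = D → D = ⊥) : Group.IsSolvable N := by
  obtain ⟨D, h1, h2, h3⟩ := exists_perfect_residual N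
  exact h3 (h D h1 h2)

/-- The inner automorphism group is normal in `MulAut K`. -/
theorem conj_range_normal (K : Type*) [Group K] : ((MulAut.conj : K →* MulAut K).range).Normal := by
  constructor
  rintro _ ⟨k, rfl⟩ φ
  refine ⟨φ k, ?_⟩
  ext x
  simp [MulAut.conj_apply]

/-- The Schreier property transfers along isomorphisms. -/
theorem Sch.of_equiv {K L : Type*} [Group K] [Group L] (e : K ≃* L) (h : Sch K) : Sch L := by
  intro C hC φ hφ
  let E : MulAut L ≃* MulAut K := MulAut.congr e.symm
  have h1 := h (C.map E.toMonoidHom) (map_perfect _ hC)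
  have h2 : E φ ∈ (MulAut.conj : K →* MulAut K).range := h1 ⟨φ, hφ, rfl⟩
  obtain ⟨k, hk⟩ := h2
  refine ⟨e k, ?_⟩
  ext x
  have h3 := DFunLike.congr_fun hk (e.symm x)
  have h4 : (E φ) (e.symm x) = e.symm (φ x) := by
    simp [E, MulAut.congr]
  rw [h4, MulAut.conj_apply] at h3
  rw [MulAut.conj_apply]
  have h5 := congrArg e h3
  simpa using h5

/-- The Schreier property holds when the automorphism group is solvable. -/
theorem sch_of_solvable_mulAut {K : Type*} [Group K] [Group.IsSolvable (MulAut K)] : Sch K := by
  intro C hC
  have : C = ⊥ := eq_bot_of_perfect_of_solvable hC inferInstance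
  rw [this]; exact bot_le

/-- The Schreier property from a hom `f : A →* MulAut K` whose range contains all perfect subgroups.. when
`A` has a normal series with solvable top over a subgroup `N` acting by inner automorphisms. -/
theorem sch_of_normal {K : Type*} [Group K] {A : Type*} [Group A] (f : A →* MulAut K)
    (hf : ∀ C : Subgroup (MulAut K), ⁅C, C⁆ = C → C ≤ f.range) (N : Subgroup A) [N.Normal]
    (hN : Group.IsSolvable (A ⧸ N)) (hNi : N.map f ≤ (MulAut.conj : K →* MulAut K).range) : Sch K := by
  intro C hC
  have hI := conj_range_normal K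
  set I : Subgroup (MulAut K) := (MulAut.conj : K →* MulAut K).range with hIdef
  -- the composite `A → MulAut K → MulAut K ⧸ I` factors through `A ⧸ N`
  let g : A ⧸ N →* MulAut K ⧸ I := QuotientGroup.lift N ((QuotientGroup.mk' I).comp f) (by
    intro a ha
    rw [MonoidHom.mem_ker, MonoidHom.comp_apply, QuotientGroup.mk'_apply, QuotientGroup.eq_one_iff]
    exact hNi ⟨a, ha, rfl⟩)
  have hrange : C.map (QuotientGroup.mk' I) ≤ g.range := by
    rintro _ ⟨c, hc, rfl⟩
    obtain ⟨a, rfl⟩ := hf C hC hc
    exact ⟨QuotientGroup.mk' N a, rfl⟩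
  have hsol : Group.IsSolvable g.range := by
    have := hN
    exact Group.isSolvable_of_surjective g.rangeRestrict_surjective
  have hsol2 : Group.IsSolvable (C.map (QuotientGroup.mk' I)) :=
    Group.isSolvable_of_isSolvable_injective (Subgroup.inclusion_injective hrange)
  have := le_ker_of_perfect (QuotientGroup.mk' I) hC hsol2
  rwa [QuotientGroup.ker_mk'] at this

end Cfsg.Agent.Schreier.Basic
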