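import Mathlib
import Cfsg.Prelude.Def_Spor_Mathieu
import Cfsg.Agent.S0387
import Cfsg.Agent.S0388
import Cfsg.Agent.SporadicA.M11Comp
import Cfsg.Agent.SectRankFour.AutM11
import Cfsg.Agent.Schreier.Basic

/-!
# The Schreier property of the Mathieu group `M₁₁`
-/

set_option autoImplicit false

open scoped Pointwise

namespace Cfsg.Agent.Schreier.MEleven

open Cfsg Cfsg.Agent.Schreier.Basic

theorem squareDodecad_mem : Cfsg.Spor.squareDodecad ∈ Cfsg.dodecads := by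
  have h : Cfsg.Spor.squareDodecad = Cfsg.Agent.SporadicA.M11Comp.sqD := by
    ext x
    rw [Cfsg.Agent.SporadicA.M11Comp.mem_sqD]
    revert x
    decide +kernel
  rw [h]
  exact Cfsg.Agent.SporadicA.M11Comp.sqD_mem_dodecads

theorem zero_mem : (some 0 : GolayPt) ∈ Cfsg.Spor.squareDodecad := by decide +kernel

/-- The two descriptions of `M₁₁`. -/
def equiv : ↥(MulAction.stabilizer Cfsg.M24 Cfsg.Spor.squareDodecad ⊓
    MulAction.stabilizer Cfsg.M24 (some 0 : GolayPt)) ≃* Cfsg.Spor.M11 where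
  toFun g := ⟨((g : Cfsg.M24) : Equiv.Perm GolayPt), ⟨(g : Cfsg.M24).2, g.2.1⟩, g.2.2⟩
  invFun g := ⟨⟨(g : Equiv.Perm GolayPt), g.2.1.1⟩, g.2.1.2, g.2.2⟩
  left_inv _ := rfl
  right_inv _ := rfl
  map_mul' _ _ := rfl

theorem isM11 : Cfsg.IsM11 ↥(MulAction.stabilizer Cfsg.M24 Cfsg.Spor.squareDodecad ⊓
    MulAction.stabilizer Cfsg.M24 (some 0 : GolayPt)) :=
  ⟨Cfsg.Agent.S0388.result _ squareDodecad_mem _ zero_mem,
    Cfsg.Agent.S0387.result _ squareDodecad_mem _ zero_mem⟩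

/-- **The Schreier property of `M₁₁`.** -/
theorem sch : Sch Cfsg.Spor.M11 := by
  apply Sch.of_equiv equiv
  intro C _ φ _
  have hfin : Finite ↥(MulAction.stabilizer Cfsg.M24 Cfsg.Spor.squareDodecad ⊓
    MulAction.stabilizer Cfsg.M24 (some 0 : GolayPt)) :=
    Nat.finite_of_card_ne_zero (by rw [isM11.2]; norm_num)
  obtain ⟨g, hg⟩ := Cfsg.Agent.SectRankFour.AutM11.exists_conj isM11 φ
  exact ⟨g, hg.symm⟩

end Cfsg.Agent.Schreier.MEleven
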