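import Mathlib
import Cfsg.Agent.S0144
import Cfsg.Agent.Schreier.Basic

/-!
# Perfect groups of automorphisms and invariant subgroups
-/

set_option autoImplicit false

namespace Cfsg.Agent.Schreier.Tools

open Cfsg.Agent.Schreier.Basic

variable {K : Type*} [Group K]

/-- Every element of `D` maps the subgroup `A` onto itself. -/
def Inv (D : Subgroup (MulAut K)) (A : Subgroup K) : Prop :=
  ∀ φ ∈ D, A.map φ.toMonoidHom = A

/-- Every element of `D` fixes every element of `A`. -/
def Tr (D : Subgroup (MulAut K)) (A : Subgroup K) : Prop :=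
  ∀ φ ∈ D, ∀ a ∈ A, φ a = a

/-- Every element of `D` fixes every left coset of `B` in `A`. -/
def TrMod (D : Subgroup (MulAut K)) (A B : Subgroup K) : Prop :=
  ∀ φ ∈ D, ∀ a ∈ A, a⁻¹ * φ a ∈ B

theorem inv_iff {D : Subgroup (MulAut K)} {A : Subgroup K} :
    Inv D A ↔ ∀ φ ∈ D, ∀ a ∈ A, φ a ∈ A := by
  constructor
  · intro h φ hφ a ha
    rw [← h φ hφ]
    exact ⟨a, ha, rfl⟩
  · intro h φ hφ
    apply le_antisymm
    · rintro _ ⟨a, ha, rfl⟩
      exact h φ hφ a ha
    · intro a ha
      refine ⟨φ⁻¹ a, h φ⁻¹ (inv_mem hφ) a ha, ?_⟩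
      exact MulAut.apply_inv_self _ φ a

theorem Inv.apply_mem {D : Subgroup (MulAut K)} {A : Subgroup K} (h : Inv D A) {φ : MulAut K} (hφ : φ ∈ D)
    {a : K} (ha : a ∈ A) : φ a ∈ A := inv_iff.1 h φ hφ a ha

theorem Inv.apply_mem_iff {D : Subgroup (MulAut K)} {A : Subgroup K} (h : Inv D A) {φ : MulAut K} (hφ : φ ∈ D)
    {a : K} : φ a ∈ A ↔ a ∈ A := by
  refine ⟨fun ha => ?_, fun ha => h.apply_mem hφ ha⟩
  have := h.apply_mem (inv_mem hφ) ha
  rwa [MulAut.inv_apply_self] at this

theorem inv_top (D : Subgroup (MulAut K)) : Inv D (⊤ : Subgroup K) := inv_iff.2 fun _ _ _ _ => Subgroup.mem_top _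

theorem inv_bot (D : Subgroup (MulAut K)) : Inv D (⊥ : Subgroup K) := inv_iff.2 fun φ _ a ha => by
  rw [Subgroup.mem_bot] at ha ⊢
  rw [ha, map_one]

theorem Inv.inf {D : Subgroup (MulAut K)} {A B : Subgroup K} (hA : Inv D A) (hB : Inv D B) : Inv D (A ⊓ B) :=
  inv_iff.2 fun _ hφ _ ha => ⟨hA.apply_mem hφ ha.1, hB.apply_mem hφ ha.2⟩

theorem Inv.sup {D : Subgroup (MulAut K)} {A B : Subgroup K} (hA : Inv D A) (hB : Inv D B) : Inv D (A ⊔ B) := by
  intro φ hφ
  rw [Subgroup.map_sup, hA φ hφ, hB φ hφ]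

theorem Inv.commutator {D : Subgroup (MulAut K)} {A B : Subgroup K} (hA : Inv D A) (hB : Inv D B) :
    Inv D ⁅A, B⁆ := by
  intro φ hφ
  rw [Subgroup.map_commutator, hA φ hφ, hB φ hφ]

theorem Inv.centralizer {D : Subgroup (MulAut K)} {A : Subgroup K} (hA : Inv D A) :
    Inv D (Subgroup.centralizer (A : Set K)) := by
  refine inv_iff.2 fun φ hφ c hc => ?_
  rw [Subgroup.mem_centralizer_iff] at hc ⊢
  intro a ha
  have h1 : φ⁻¹ a ∈ A := hA.apply_mem (inv_mem hφ) ha
  have h2 := congrArg φ (hc _ h1)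
  simpa [map_mul, MulAut.apply_inv_self] using h2

theorem Inv.normalizer {D : Subgroup (MulAut K)} {A : Subgroup K} (hA : Inv D A) :
    Inv D (Subgroup.normalizer (A : Set K)) := by
  refine inv_iff.2 fun φ hφ c hc => ?_
  rw [Subgroup.mem_normalizer_iff] at hc ⊢
  intro a
  have h1 := hc (φ⁻¹ a)
  rw [← hA.apply_mem_iff hφ, ← hA.apply_mem_iff hφ (a := c * φ⁻¹ a * c⁻¹)] at h1
  simpa [map_mul, MulAut.apply_inv_self] using h1

/-- The centre of an invariant subgroup. -/
theorem Inv.center {D : Subgroup (MulAut K)} {A : Subgroup K} (hA : Inv D A) :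
    Inv D (A ⊓ Subgroup.centralizer (A : Set K)) := hA.inf hA.centralizer

/-- The elements of `A` that centralise `B` modulo `C`. -/
theorem Inv.mono_sub {D D' : Subgroup (MulAut K)} (h : D' ≤ D) {A : Subgroup K} (hA : Inv D A) : Inv D' A :=
  fun φ hφ => hA φ (h hφ)

theorem Inv.closure {D : Subgroup (MulAut K)} {S : Set K} (hS : ∀ φ ∈ D, ∀ s ∈ S, φ s ∈ S) :
    Inv D (Subgroup.closure S) := by
  refine inv_iff.2 fun φ hφ a ha => ?_
  have h1 : Subgroup.closure S ≤ (Subgroup.closure S).comap φ.toMonoidHom := by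
    rw [Subgroup.closure_le]
    intro s hs
    exact Subgroup.subset_closure (hS φ hφ s hs)
  exact h1 ha

/-- Characteristic subgroups of invariant subgroups are invariant. -/
theorem Inv.of_characteristic {D : Subgroup (MulAut K)} {A : Subgroup K} (hA : Inv D A) (X : Subgroup A)
    [hX : X.Characteristic] : Inv D (X.map A.subtype) := by
  refine inv_iff.2 ?_
  rintro φ hφ _ ⟨x, hx, rfl⟩
  -- the restriction of `φ` to `A`
  let ψ : A ≃* A :=
    { toFun := fun a => ⟨φ a, hA.apply_mem hφ a.2⟩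
      invFun := fun a => ⟨φ⁻¹ a, hA.apply_mem (inv_mem hφ) a.2⟩
      left_inv := fun a => Subtype.ext (MulAut.inv_apply_self _ φ a)
      right_inv := fun a => Subtype.ext (MulAut.apply_inv_self _ φ a)
      map_mul' := fun a b => Subtype.ext (map_mul φ _ _) }
  have h1 : X.comap ψ.toMonoidHom = X := hX.fixed ψ
  have h2 : ψ x ∈ X := by
    rw [← h1] at hx
    exact hx
  exact ⟨ψ x, h2, rfl⟩

/-- Restriction of the elements of `D` to an invariant subgroup. -/
def Inv.res {D : Subgroup (MulAut K)} {A : Subgroup K} (hA : Inv D A) : D →* MulAut A where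
  toFun φ :=
    { toFun := fun a => ⟨(φ : MulAut K) a, hA.apply_mem φ.2 a.2⟩
      invFun := fun a => ⟨(φ : MulAut K)⁻¹ a, hA.apply_mem (inv_mem φ.2) a.2⟩
      left_inv := fun a => Subtype.ext (MulAut.inv_apply_self _ (φ : MulAut K) a)
      right_inv := fun a => Subtype.ext (MulAut.apply_inv_self _ (φ : MulAut K) a)
      map_mul' := fun a b => Subtype.ext (map_mul (φ : MulAut K) _ _) }
  map_one' := by ext a; rfl
  map_mul' φ ψ := by ext a; rfl

theorem Inv.res_apply {D : Subgroup (MulAut K)} {A : Subgroup K} (hA : Inv D A) (φ : D) (a : A) :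
    ((hA.res φ a : A) : K) = (φ : MulAut K) a := rfl

/-- The full group `D` as a subgroup of itself is perfect. -/
theorem top_perfect {A : Type*} [Group A] {D : Subgroup A} (hD : ⁅D, D⁆ = D) :
    ⁅(⊤ : Subgroup D), (⊤ : Subgroup D)⁆ = ⊤ := by
  apply Subgroup.map_injective D.subtype_injective
  rw [Subgroup.map_commutator, ← MonoidHom.range_eq_map, Subgroup.range_subtype, hD]

/-- A homomorphism from a perfect subgroup to a solvable group is trivial. -/
theorem hom_eq_one {A B : Type*} [Group A] [Group B] [Group.IsSolvable B] {D : Subgroup A} (hD : ⁅D, D⁆ = D)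
    (f : D →* B) (d : D) : f d = 1 :=
  apply_eq_one_of_perfect f (top_perfect hD) (Subgroup.mem_top d)

/-- A perfect group acts trivially on an invariant subgroup whose automorphism group is solvable. -/
theorem tr_of_solvable_mulAut {D : Subgroup (MulAut K)} (hD : ⁅D, D⁆ = D) {A : Subgroup K} (hA : Inv D A)
    [Group.IsSolvable (MulAut A)] : Tr D A := by
  intro φ hφ a ha
  have h1 := hom_eq_one hD hA.res ⟨φ, hφ⟩
  have h2 := congrArg (fun ψ : MulAut A => ((ψ ⟨a, ha⟩ : A) : K)) h1
  exact h2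

/-- More generally when the image of the perfect group in the automorphism group is solvable. -/
theorem tr_of_solvable_range {D : Subgroup (MulAut K)} (hD : ⁅D, D⁆ = D) {A : Subgroup K} (hA : Inv D A)
    (hs : Group.IsSolvable hA.res.range) : Tr D A := by
  intro φ hφ a ha
  have h1 := hom_eq_one hD hA.res.rangeRestrict ⟨φ, hφ⟩
  have h2 := congrArg (fun ψ : hA.res.range => (((ψ : MulAut A) ⟨a, ha⟩ : A) : K)) h1
  exact h2

/-- Symmetric groups of degree at most 4 are solvable. -/
theorem isSolvable_perm_of_card_le_four (α : Type*) [Finite α] (h : Nat.card α ≤ 4) :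
    Group.IsSolvable (Equiv.Perm α) := by
  have h1 : Nat.card (Equiv.Perm α) = (Nat.card α).factorial := Nat.card_perm
  have h2 : Nat.card α = 0 ∨ Nat.card α = 1 ∨ Nat.card α = 2 ∨ Nat.card α = 3 ∨ Nat.card α = 4 := by omega
  have key : ∃ a b : ℕ, Nat.card (Equiv.Perm α) = 2 ^ a * 3 ^ b := by
    rcases h2 with h | h | h | h | h
    · exact ⟨0, 0, by rw [h1, h]; rfl⟩
    · exact ⟨0, 0, by rw [h1, h]; rfl⟩
    · exact ⟨1, 0, by rw [h1, h]; rfl⟩
    · exact ⟨1, 1, by rw [h1, h]; rfl⟩
    · exact ⟨3, 1, by rw [h1, h]; rfl⟩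
  obtain ⟨a, b, hab⟩ := key
  exact Cfsg.Agent.S0144.result 2 3 a b Nat.prime_two Nat.prime_three hab

/-- A perfect group acting on a set with at most 4 elements acts trivially. -/
theorem perm_eq_one {A : Type*} [Group A] {D : Subgroup A} (hD : ⁅D, D⁆ = D) {α : Type*} [Finite α]
    (h : Nat.card α ≤ 4) (f : D →* Equiv.Perm α) (d : D) (x : α) : f d x = x := by
  have := isSolvable_perm_of_card_le_four α h
  rw [hom_eq_one hD f d]
  rfl

/-- A perfect group permuting a family of at most 4 subgroups fixes every one of them. -/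
theorem inv_of_family {D : Subgroup (MulAut K)} (hD : ⁅D, D⁆ = D) (S : Set (Subgroup K)) (hfin : S.Finite)
    (hcard : S.ncard ≤ 4) (hS : ∀ φ ∈ D, ∀ A ∈ S, A.map φ.toMonoidHom ∈ S) {A : Subgroup K} (hA : A ∈ S) :
    Inv D A := by
  have : Finite S := hfin
  let f : D →* Equiv.Perm S :=
    { toFun := fun φ =>
        { toFun := fun B => ⟨(B : Subgroup K).map (φ : MulAut K).toMonoidHom, hS φ φ.2 B B.2⟩
          invFun := fun B => ⟨(B : Subgroup K).map ((φ : MulAut K)⁻¹).toMonoidHom,
            hS (φ : MulAut K)⁻¹ (inv_mem φ.2) B B.2⟩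
          left_inv := fun B => by
            apply Subtype.ext
            apply SetLike.coe_injective
            show (fun x => (φ : MulAut K)⁻¹ x) '' ((fun x => (φ : MulAut K) x) '' (B : Set K)) = _
            rw [Set.image_image]
            simp
          right_inv := fun B => by
            apply Subtype.ext
            apply SetLike.coe_injective
            show (fun x => (φ : MulAut K) x) '' ((fun x => (φ : MulAut K)⁻¹ x) '' (B : Set K)) = _
            rw [Set.image_image]
            simp }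
      map_one' := by
        ext B x
        show x ∈ (fun x => (1 : MulAut K) x) '' ((B : Subgroup K) : Set K) ↔ _
        simp
      map_mul' := fun φ ψ => by
        ext B x
        show x ∈ (fun x => ((φ : MulAut K) * (ψ : MulAut K)) x) '' ((B : Subgroup K) : Set K) ↔
          x ∈ (fun x => (φ : MulAut K) x) '' ((fun x => (ψ : MulAut K) x) '' ((B : Subgroup K) : Set K))
        rw [Set.image_image]
        simp }
  intro φ hφ
  have h1 := perm_eq_one hD (α := S) hcard f ⟨φ, hφ⟩ ⟨A, hA⟩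
  exact congrArg Subtype.val h1

/-- A perfect group acts trivially on the cosets of an invariant subgroup of index at most 4. -/
theorem trMod_of_relIndex_le_four {D : Subgroup (MulAut K)} (hD : ⁅D, D⁆ = D) {A B : Subgroup K} (hA : Inv D A)
    (hB : Inv D B) (h0 : B.relIndex A ≠ 0) (h4 : B.relIndex A ≤ 4) : TrMod D A B := by
  have hfin : Finite (A ⧸ B.subgroupOf A) := Nat.finite_of_card_ne_zero h0
  -- the action of `D` on the left cosets
  have hact : ∀ (φ : MulAut K) (hφ : φ ∈ D) (a b : A), (a⁻¹ * b : A) ∈ B.subgroupOf A →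
      ((⟨φ a, hA.apply_mem hφ a.2⟩ : A)⁻¹ * ⟨φ b, hA.apply_mem hφ b.2⟩ : A) ∈ B.subgroupOf A := by
    intro φ hφ a b hab
    rw [Subgroup.mem_subgroupOf] at hab ⊢
    have := hB.apply_mem hφ hab
    simpa [map_mul, map_inv] using this
  let g : ∀ φ : MulAut K, φ ∈ D → A ⧸ B.subgroupOf A → A ⧸ B.subgroupOf A := fun φ hφ =>
    Quotient.lift (fun a : A => (QuotientGroup.mk (⟨φ a, hA.apply_mem hφ a.2⟩ : A) : A ⧸ B.subgroupOf A))
      (by
        intro a b hab
        have hab' : a⁻¹ * b ∈ B.subgroupOf A := QuotientGroup.leftRel_apply.1 hab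
        exact QuotientGroup.eq.2 (hact φ hφ a b hab'))
  have hg : ∀ (φ : MulAut K) (hφ : φ ∈ D) (a : A), g φ hφ (QuotientGroup.mk a) =
      QuotientGroup.mk (⟨φ a, hA.apply_mem hφ a.2⟩ : A) := fun φ hφ a => rfl
  let f : D →* Equiv.Perm (A ⧸ B.subgroupOf A) :=
    { toFun := fun φ =>
        { toFun := g φ φ.2
          invFun := g (φ : MulAut K)⁻¹ (inv_mem φ.2)
          left_inv := fun x => by
            induction x using QuotientGroup.induction_on with
            | H a =>
              exact congrArg QuotientGroup.mk (Subtype.ext (MulAut.inv_apply_self _ (φ : MulAut K) a))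
          right_inv := fun x => by
            induction x using QuotientGroup.induction_on with
            | H a =>
              exact congrArg QuotientGroup.mk (Subtype.ext (MulAut.apply_inv_self _ (φ : MulAut K) a)) }
      map_one' := by
        apply Equiv.ext
        intro x
        induction x using QuotientGroup.induction_on with
        | H a => rfl
      map_mul' := fun φ ψ => by
        apply Equiv.ext
        intro x
        induction x using QuotientGroup.induction_on with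
        | H a => rfl }
  intro φ hφ a ha
  have h1 : f ⟨φ, hφ⟩ (QuotientGroup.mk ⟨a, ha⟩) = QuotientGroup.mk ⟨a, ha⟩ :=
    perm_eq_one hD h4 f ⟨φ, hφ⟩ _
  have h2 : (QuotientGroup.mk (⟨a, ha⟩ : A) : A ⧸ B.subgroupOf A) =
      QuotientGroup.mk (⟨φ a, hA.apply_mem hφ ha⟩ : A) := h1.symm
  rw [QuotientGroup.eq, Subgroup.mem_subgroupOf] at h2
  exact h2

/-- Acting trivially on `B` (solvable) and on the cosets of `B` in `A` implies acting trivially on `A`. -/
theorem tr_of_trMod {D : Subgroup (MulAut K)} (hD : ⁅D, D⁆ = D) {A B : Subgroup K}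
    (hs : Group.IsSolvable B) (hB : Tr D B) (h : TrMod D A B) : Tr D A := by
  intro φ hφ a ha
  -- `φ ↦ a⁻¹ φ(a)` is a homomorphism `D → B`
  let f : D →* B :=
    { toFun := fun φ => ⟨a⁻¹ * (φ : MulAut K) a, h φ φ.2 a ha⟩
      map_one' := by
        apply Subtype.ext
        simp
      map_mul' := fun φ ψ => by
        apply Subtype.ext
        show a⁻¹ * ((φ : MulAut K) * (ψ : MulAut K)) a = a⁻¹ * (φ : MulAut K) a * (a⁻¹ * (ψ : MulAut K) a)
        have h1 : (φ : MulAut K) (a⁻¹ * (ψ : MulAut K) a) = a⁻¹ * (ψ : MulAut K) a :=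
          hB φ φ.2 _ (h ψ ψ.2 a ha)
        have h2 : ((φ : MulAut K) * (ψ : MulAut K)) a = (φ : MulAut K) a * (a⁻¹ * (ψ : MulAut K) a) := by
          rw [← h1, MulAut.mul_apply, ← map_mul]
          congr 1
          group
        rw [h2]
        group }
  have h1 := hom_eq_one hD f ⟨φ, hφ⟩
  have h2 : a⁻¹ * φ a = 1 := congrArg (fun b : B => (b : K)) h1
  rw [inv_mul_eq_one] at h2
  exact h2.symm

theorem TrMod.trans {D : Subgroup (MulAut K)} (hD : ⁅D, D⁆ = D) {A B C : Subgroup K}
    (hs : ∀ a ∈ A, ∀ c ∈ C, a * c * a⁻¹ ∈ C) (hBA : B ≤ A)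
    (hsol : Group.IsSolvable B)
    (h1 : TrMod D A B) (h2 : TrMod D B C) : TrMod D A C := by
  -- work modulo `C`, normal in `A`
  intro φ hφ a ha
  have hCn : (C.subgroupOf B).Normal := by
    constructor
    intro c hc b
    rw [Subgroup.mem_subgroupOf] at hc ⊢
    exact hs _ (hBA b.2) _ hc
  let f : D →* B ⧸ C.subgroupOf B :=
    { toFun := fun φ => QuotientGroup.mk ⟨a⁻¹ * (φ : MulAut K) a, h1 φ φ.2 a ha⟩
      map_one' := by
        have : (⟨a⁻¹ * (1 : MulAut K) a, h1 1 (one_mem D) a ha⟩ : B) = 1 := by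
          apply Subtype.ext; simp
        show QuotientGroup.mk (⟨a⁻¹ * (1 : MulAut K) a, _⟩ : B) = _
        rw [this]; rfl
      map_mul' := fun φ ψ => by
        show QuotientGroup.mk (⟨a⁻¹ * ((φ : MulAut K) * (ψ : MulAut K)) a, _⟩ : B) =
          QuotientGroup.mk ((⟨a⁻¹ * (φ : MulAut K) a, h1 φ φ.2 a ha⟩ : B) *
            ⟨a⁻¹ * (ψ : MulAut K) a, h1 ψ ψ.2 a ha⟩)
        rw [QuotientGroup.eq, Subgroup.mem_subgroupOf]
        show (a⁻¹ * ((φ : MulAut K) * (ψ : MulAut K)) a)⁻¹ *
          (a⁻¹ * (φ : MulAut K) a * (a⁻¹ * (ψ : MulAut K) a)) ∈ C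
        set u := a⁻¹ * (ψ : MulAut K) a with hu
        have huB : u ∈ B := h1 ψ ψ.2 a ha
        have h3 : u⁻¹ * (φ : MulAut K) u ∈ C := h2 φ φ.2 u huB
        have h4 : ((φ : MulAut K) * (ψ : MulAut K)) a = (φ : MulAut K) a * (φ : MulAut K) u := by
          rw [hu, MulAut.mul_apply, ← map_mul]
          congr 1
          group
        rw [h4]
        have h5 : (a⁻¹ * ((φ : MulAut K) a * (φ : MulAut K) u))⁻¹ * (a⁻¹ * (φ : MulAut K) a * u) =
            (u⁻¹ * (φ : MulAut K) u)⁻¹ := by group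
        rw [h5]
        exact inv_mem h3 }
  have hsq : Group.IsSolvable (B ⧸ C.subgroupOf B) := by
    have := hsol
    infer_instance
  have h6 := hom_eq_one hD f ⟨φ, hφ⟩
  have h7 : (QuotientGroup.mk (⟨a⁻¹ * φ a, h1 φ hφ a ha⟩ : B) : B ⧸ C.subgroupOf B) = 1 := h6
  rw [QuotientGroup.eq_one_iff, Subgroup.mem_subgroupOf] at h7
  exact h7

theorem Tr.mono {D : Subgroup (MulAut K)} {A B : Subgroup K} (h : Tr D A) (hBA : B ≤ A) : Tr D B :=
  fun φ hφ b hb => h φ hφ b (hBA hb)

theorem TrMod.mono {D : Subgroup (MulAut K)} {A A' B B' : Subgroup K} (h : TrMod D A B) (hA : A' ≤ A)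
    (hB : B ≤ B') : TrMod D A' B' :=
  fun φ hφ a ha => hB (h φ hφ a (hA ha))

theorem trMod_bot {D : Subgroup (MulAut K)} {A : Subgroup K} : TrMod D A ⊥ ↔ Tr D A := by
  constructor
  · intro h φ hφ a ha
    have := h φ hφ a ha
    rw [Subgroup.mem_bot, inv_mul_eq_one] at this
    exact this.symm
  · intro h φ hφ a ha
    rw [h φ hφ a ha, inv_mul_cancel]
    exact one_mem _

/-- If `D` centralises `E` and normalises `T ≤ N(E)` then `D` fixes the cosets of `C_T(E)` in `T`; if this is
contained in the solvable group `E` then `D` centralises `T`. -/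
theorem tr_of_centralizer_le {D : Subgroup (MulAut K)} (hD : ⁅D, D⁆ = D) {T E : Subgroup K} (hT : Inv D T)
    (hTE : T ≤ Subgroup.normalizer (E : Set K)) (hE : Tr D E) (hs : Group.IsSolvable E)
    (hC : T ⊓ Subgroup.centralizer (E : Set K) ≤ E) : Tr D T := by
  refine tr_of_trMod hD hs hE ?_
  intro φ hφ t ht
  apply hC
  refine Subgroup.mem_inf.2 ⟨mul_mem (inv_mem ht) (hT.apply_mem hφ ht), ?_⟩
  rw [Subgroup.mem_centralizer_iff]
  intro e he
  -- `φ (t e t⁻¹) = t e t⁻¹`
  have h1 : t * e * t⁻¹ ∈ E := (Subgroup.mem_normalizer_iff.1 (hTE ht) e).1 he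
  have h2 := hE φ hφ _ h1
  rw [map_mul, map_mul, map_inv, hE φ hφ e he] at h2
  -- `φ t * e * (φ t)⁻¹ = t * e * t⁻¹`
  calc e * (t⁻¹ * φ t) = t⁻¹ * (t * e * t⁻¹) * φ t := by group
    _ = t⁻¹ * (φ t * e * (φ t)⁻¹) * φ t := by rw [h2]
    _ = t⁻¹ * φ t * e := by group

end Cfsg.Agent.Schreier.Tools
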