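import Mathlib
import Cfsg.Prelude.Def_Local
import Cfsg.Agent.SignalizersComponents.CentSylowPerfect
import Cfsg.Agent.SignalizersComponents.PCompCore
import Cfsg.Agent.SignalizersComponents.LBalanceTwo
import Cfsg.Agent.Schreier.Basic
import Cfsg.Agent.Schreier.Tools

/-!
# L-balance from the Schreier property

`L_{p'}(C_X(R)) ≤ L_{p'}(X)` for every `p`-subgroup `R` of the finite group `X` if the simple quotients of the
components of `X / O_{p'}(X)` have the Schreier property.
-/

set_option autoImplicit false

open scoped commutatorElement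

namespace Cfsg.Agent.Schreier.Balance

open Cfsg Cfsg.Agent.Lib Cfsg.Agent.SignalizersComponents Cfsg.Agent.Schreier.Basic Cfsg.Agent.Schreier.Tools

section Quasisimple

variable {L : Type*} [Group L]

/-- The automorphism of the central quotient induced by an automorphism. -/
def quoAut (L : Type*) [Group L] : MulAut L →* MulAut (L ⧸ Subgroup.center L) where
  toFun φ := QuotientGroup.congr (Subgroup.center L) (Subgroup.center L) φ (by
    exact (Subgroup.characteristic_iff_map_eq.1 (inferInstance : (Subgroup.center L).Characteristic) φ))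
  map_one' := by
    apply MulEquiv.ext
    intro x
    induction x using QuotientGroup.induction_on with
    | H a => rfl
  map_mul' φ ψ := by
    apply MulEquiv.ext
    intro x
    induction x using QuotientGroup.induction_on with
    | H a => rfl

theorem quoAut_mk (φ : MulAut L) (x : L) :
    quoAut L φ (QuotientGroup.mk x) = QuotientGroup.mk (φ x) := rfl

/-- An automorphism of a perfect group which is trivial modulo the centre is trivial. -/
theorem eq_one_of_quoAut_eq_one (hL : Group.IsPerfect L) {φ : MulAut L} (h : quoAut L φ = 1) : φ = 1 := by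
  have h1 : ∀ x : L, x⁻¹ * φ x ∈ Subgroup.center L := by
    intro x
    have h2 : quoAut L φ (QuotientGroup.mk x) = QuotientGroup.mk x := by rw [h]; rfl
    rw [quoAut_mk] at h2
    exact QuotientGroup.eq.1 h2.symm
  let f : L →* Subgroup.center L :=
    { toFun := fun x => ⟨x⁻¹ * φ x, h1 x⟩
      map_one' := by
        apply Subtype.ext
        simp
      map_mul' := fun x y => by
        apply Subtype.ext
        change (x * y)⁻¹ * φ (x * y) = (x⁻¹ * φ x) * (y⁻¹ * φ y)
        have h3 := Subgroup.mem_center_iff.1 (h1 x) y⁻¹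
        rw [map_mul, mul_inv_rev]
        calc y⁻¹ * x⁻¹ * (φ x * φ y) = (y⁻¹ * (x⁻¹ * φ x)) * φ y := by group
          _ = (x⁻¹ * φ x) * y⁻¹ * φ y := by rw [h3]
          _ = (x⁻¹ * φ x) * (y⁻¹ * φ y) := by group }
  apply MulEquiv.ext
  intro x
  have h4 : f x = 1 := by
    have h41 : commutator L ≤ f.ker := by
      rw [commutator_def, Subgroup.commutator_le]
      intro a _ b _
      rw [MonoidHom.mem_ker, map_commutatorElement, commutatorElement_eq_one_iff_mul_comm]
      apply Subtype.ext
      exact Subgroup.mem_center_iff.1 (f b).2 _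
    rw [hL.commutator_eq_top] at h41
    exact h41 (Subgroup.mem_top x)
  have h5 : x⁻¹ * φ x = 1 := congrArg Subtype.val h4
  change φ x = x
  rw [inv_mul_eq_one] at h5
  exact h5.symm

theorem quoAut_injective (hL : Group.IsPerfect L) : Function.Injective (quoAut L) := by
  rw [injective_iff_map_eq_one]
  intro φ h
  exact eq_one_of_quoAut_eq_one hL h

/-- The centre of the simple quotient of a quasisimple group is trivial. -/
theorem center_quotient_eq_bot (hL : IsQuasisimple L) :
    Subgroup.center (L ⧸ Subgroup.center L) = ⊥ := by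
  have hs := hL.2
  rcases (inferInstance : (Subgroup.center (L ⧸ Subgroup.center L)).Normal).eq_bot_or_eq_top with h | h
  · exact h
  · exfalso
    have hp : Group.IsPerfect (L ⧸ Subgroup.center L) :=
      haveI := hL.1
      Group.IsPerfect.ofSurjective (f := QuotientGroup.mk' (Subgroup.center L)) (QuotientGroup.mk'_surjective _)
    have hcomm : ∀ a b : L ⧸ Subgroup.center L, a * b = b * a := by
      intro a b
      have : b ∈ Subgroup.center (L ⧸ Subgroup.center L) := h ▸ Subgroup.mem_top b
      exact Subgroup.mem_center_iff.1 this a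
    have h1 : commutator (L ⧸ Subgroup.center L) = ⊥ := by
      rw [commutator_eq_bot_iff_center_eq_top]
      exact h
    have h2 := hp.commutator_eq_top
    rw [h1] at h2
    have := hs.toNontrivial
    exact bot_ne_top h2

/-- A perfect group of automorphisms of the quasisimple group `L` fixing a Sylow `p`-subgroup pointwise has order
prime to `p`, if `L / Z(L)` has the Schreier property. -/
theorem coprime_of_quasisimple [Finite L] {p : ℕ} [hp : Fact p.Prime] (hL : IsQuasisimple L)
    (hSch : Sch (L ⧸ Subgroup.center L)) (S : Sylow p L) (C : Subgroup (MulAut L))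
    (hC : ∀ φ ∈ C, ∀ s ∈ S, φ s = s) (hCp : ⁅C, C⁆ = C) : (Nat.card C).Coprime p := by
  set K := L ⧸ Subgroup.center L with hK
  set D : Subgroup (MulAut K) := C.map (quoAut L) with hD
  have hDp : ⁅D, D⁆ = D := map_perfect _ hCp
  have hDi := hSch D hDp
  have hcard : Nat.card C = Nat.card D :=
    Nat.card_congr (C.equivMapOfInjective _ (quoAut_injective hL.1)).toEquiv
  rw [hcard, Nat.coprime_comm, Nat.Prime.coprime_iff_not_dvd hp.out]
  intro hdvd
  have hDperf : Group.IsPerfect D := by
    rw [Subgroup.isPerfect_iff]; exact hDp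
  obtain ⟨P⟩ : Nonempty (Sylow p D) := inferInstance
  let T : Sylow p K := S.mapSurjective (f := QuotientGroup.mk' (Subgroup.center L)) (QuotientGroup.mk'_surjective _)
  have hT : ∀ t ∈ T, ∃ s ∈ S, (QuotientGroup.mk s : K) = t := by
    intro t ht
    have : t ∈ (S : Subgroup L).map (QuotientGroup.mk' (Subgroup.center L)) := ht
    obtain ⟨s, hs, rfl⟩ := this
    exact ⟨s, hs, rfl⟩
  have hfix : ∀ d ∈ D, ∀ t ∈ T, d t = t := by
    rintro _ ⟨φ, hφ, rfl⟩ t ht
    obtain ⟨s, hs, rfl⟩ := hT t ht
    change quoAut L φ (QuotientGroup.mk s) = QuotientGroup.mk s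
    rw [quoAut_mk, hC φ hφ s hs]
  refine CompBasic.sylow_not_le_center_of_perfect hDperf p hdvd P ?_
  intro x hx
  obtain ⟨k, hk⟩ := P.2 ⟨x, hx⟩
  have hk' : (x : MulAut K) ^ p ^ k = 1 := congrArg (fun z : (P : Subgroup D) => ((z : D) : MulAut K)) hk
  obtain ⟨a, ha⟩ := hDi x.2
  -- the element `a` has `p`-power order
  have ha1 : a ^ p ^ k = 1 := by
    have h1 : MulAut.conj (a ^ p ^ k) = 1 := by rw [map_pow, ha, hk']
    have h2 : a ^ p ^ k ∈ Subgroup.center K := by
      rw [Subgroup.mem_center_iff]
      intro g
      have h3 := congrArg (fun ψ : MulAut K => ψ g) h1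
      simp only [MulAut.conj_apply, MulAut.one_apply] at h3
      rw [mul_inv_eq_iff_eq_mul] at h3
      exact h3.symm
    rw [center_quotient_eq_bot hL, Subgroup.mem_bot] at h2
    exact h2
  -- it centralises `T`
  have ha2 : a ∈ Subgroup.centralizer ((T : Subgroup K) : Set K) := by
    rw [Subgroup.mem_centralizer_iff]
    intro t ht
    have h3 := hfix x x.2 t ht
    rw [← ha, MulAut.conj_apply, mul_inv_eq_iff_eq_mul] at h3
    exact h3.symm
  have ha3 : a ∈ T := by
    have hz : IsPGroup p (Subgroup.zpowers a) := by
      apply IsPGroup.of_card_dvd_pow (n := k)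
      rw [Nat.card_zpowers]
      exact orderOf_dvd_of_pow_eq_one ha1
    have h4 := IsPGroup.inf_normalizer_sylow hz T
    have h5 : a ∈ Subgroup.zpowers a ⊓ Subgroup.normalizer ((T : Subgroup K) : Set K) :=
      ⟨Subgroup.mem_zpowers a, Subgroup.centralizer_le_normalizer _ ha2⟩
    have h6 : a ∈ Subgroup.zpowers a ⊓ (T : Subgroup K) := h4 ▸ h5
    exact h6.2
  rw [Subgroup.mem_center_iff]
  intro g
  apply Subtype.ext
  change (g : MulAut K) * (x : MulAut K) = (x : MulAut K) * (g : MulAut K)
  rw [← ha]
  apply MulEquiv.ext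
  intro y
  change (g : MulAut K) (MulAut.conj a y) = MulAut.conj a ((g : MulAut K) y)
  rw [MulAut.conj_apply, MulAut.conj_apply, map_mul, map_mul, map_inv, hfix g g.2 a ha3]

end Quasisimple

section Group

variable {F : Type*} [Group F] [Finite F] {p : ℕ} [hp : Fact p.Prime]

/-- Automorphisms fixing a Sylow `p`-subgroup pointwise leave every component invariant (`O_{p'}(F) = 1`). -/
theorem map_component_eq (hO : pPrimeCore p F = ⊥) (S : Sylow p F) {φ : MulAut F} (hφ : ∀ s ∈ S, φ s = s)
    {L : Subgroup F} (hL : IsComponent L) : L.map φ.toMonoidHom = L := by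
  by_contra hne
  have hL' : IsComponent (L.map φ.toMonoidHom) := Components.isComponent_map_equiv φ hL
  have h1 := Components.component_le_centralizer_of_ne hL' hL hne
  have h2 : ¬ p ∣ (S : Subgroup F).relIndex L := fun h =>
    S.not_dvd_index (h.trans (PCompCore.relIndex_dvd_index_of_subnormal _ hL.1))
  refine PCompCore.not_le_centralizer_of_component hO hL (S : Subgroup F) h2 ?_
  rintro s ⟨hs, hsL⟩
  apply h1
  exact ⟨s, hsL, hφ s hs⟩

/-- Perfect groups of automorphisms of `F` fixing a Sylow `p`-subgroup pointwise have order prime to `p`, if `F` is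
generated by its components and `O_p(F)`, and the simple quotients of the components have the Schreier property. -/
theorem autProp_of_components (hO : pPrimeCore p F = ⊥) (hF : layer F ⊔ pCore p F = ⊤)
    (hSch : ∀ L : Subgroup F, IsComponent L → Sch (L ⧸ Subgroup.center L)) :
    CentSylowPerfect.AutProp p F := by
  intro S C hC hCp
  have hinv : ∀ L : Subgroup F, IsComponent L → Inv C L := fun L hL φ hφ =>
    map_component_eq hO S (hC φ hφ) hL
  rw [Nat.coprime_comm, Nat.Prime.coprime_iff_not_dvd hp.out]
  intro hdvd
  obtain ⟨c, hc⟩ := exists_prime_orderOf_dvd_card' p hdvd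
  -- `c` is trivial on every component
  have h1 : ∀ L : Subgroup F, IsComponent L → ∀ x ∈ L, (c : MulAut F) x = x := by
    intro L hL x hx
    have hI := hinv L hL
    have h2 : ¬ p ∣ (S : Subgroup F).relIndex L := fun h =>
      S.not_dvd_index (h.trans (PCompCore.relIndex_dvd_index_of_subnormal _ hL.1))
    let SL : Sylow p L := (S.2.comap_subtype (K := L)).toSylow (P := (S : Subgroup F).subgroupOf L) h2
    have hSL : ∀ s ∈ SL, (s : F) ∈ S := fun s hs => hs
    have h3 : (Nat.card (hI.res.range)).Coprime p := by
      refine coprime_of_quasisimple hL.2 (hSch L hL) SL hI.res.range ?_ ?_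
      · rintro _ ⟨d, rfl⟩ s hs
        apply Subtype.ext
        rw [hI.res_apply]
        exact hC d d.2 _ (hSL s hs)
      · rw [MonoidHom.range_eq_map]
        exact map_perfect _ (top_perfect hCp)
    have h4 : orderOf (hI.res c) ∣ p := hc ▸ orderOf_map_dvd hI.res c
    have h5 : orderOf (hI.res c) ∣ Nat.card (hI.res.range) := by
      have h51 : hI.res c ∈ hI.res.range := ⟨c, rfl⟩
      rw [← Subgroup.orderOf_mk (hI.res c) h51]
      exact orderOf_dvd_natCard _
    have h6 := Nat.dvd_gcd h5 h4
    rw [(h3 : (Nat.card (hI.res.range)).gcd p = 1), Nat.dvd_one, orderOf_eq_one_iff] at h6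
    have h7 := hI.res_apply c ⟨x, hx⟩
    rw [h6] at h7
    exact h7.symm
  -- `c` is trivial on `O_p(F)`
  have h2 : ∀ x ∈ pCore p F, (c : MulAut F) x = x := by
    intro x hx
    refine hC c c.2 x ?_
    have : pCore p F ≤ (S : Subgroup F) :=
      haveI := Cores.pCore_normal (G := F) p
      IsPGroup.le_sylow_of_normal (Cores.pCore_isPGroup p) S
    exact this hx
  -- hence trivial
  have h3 : layer F ⊔ pCore p F ≤ (MonoidHom.eqLocus (c : MulAut F).toMonoidHom (MonoidHom.id F)) := by
    refine sup_le ?_ fun x hx => h2 x hx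
    refine sSup_le fun L hL x hx => h1 L hL x hx
  have h4 : (c : MulAut F) = 1 := by
    apply MulEquiv.ext
    intro x
    exact h3 (hF ▸ Subgroup.mem_top x)
  have h5 : c = 1 := Subtype.ext h4
  rw [h5, orderOf_one] at hc
  exact hp.out.one_lt.ne hc

end Group

section Final

variable {X : Type*} [Group X] [Finite X] {p : ℕ} [hp : Fact p.Prime]

/-- The generalized Fitting subgroup of a group with trivial `p'`-core is generated by its components and its
`p`-core. -/
theorem layer_sup_pCore_genFitting {Y : Type*} [Group Y] [Finite Y] (hY : pPrimeCore p Y = ⊥) :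
    layer (generalizedFittingSubgroup Y) ⊔ pCore p (generalizedFittingSubgroup Y) = ⊤ := by
  apply Subgroup.map_injective (generalizedFittingSubgroup Y).subtype_injective
  rw [← MonoidHom.range_eq_map, Subgroup.range_subtype]
  apply le_antisymm
  · exact Subgroup.map_subtype_le _
  · rw [Subgroup.map_sup, GenFitting.layer_eq_of_genFitting_le le_rfl]
    conv_lhs => rw [GenFitting.genFitting_def, PConstrained.fittingSubgroup_eq_pCore_of_pPrimeCore_eq_bot p hY]
    refine sup_le_sup le_rfl (GenFitting.pCore_le_of_le p ?_)
    rw [← PConstrained.fittingSubgroup_eq_pCore_of_pPrimeCore_eq_bot p hY]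
    exact GenFitting.fitting_le_genFitting

/-- The Schreier property for the central quotient transfers along isomorphisms. -/
theorem sch_center_quotient {K L : Type*} [Group K] [Group L] (e : K ≃* L) (h : Sch (K ⧸ Subgroup.center K)) :
    Sch (L ⧸ Subgroup.center L) := by
  refine Sch.of_equiv (QuotientGroup.congr (Subgroup.center K) (Subgroup.center L) e ?_) h
  ext x
  constructor
  · rintro ⟨y, hy, rfl⟩
    rw [Subgroup.mem_center_iff]
    intro g
    have h1 := Subgroup.mem_center_iff.1 hy (e.symm g)
    have h2 := congrArg e h1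
    simpa using h2
  · intro hx
    refine ⟨e.symm x, ?_, by simp⟩
    change e.symm x ∈ Subgroup.center K
    rw [Subgroup.mem_center_iff]
    intro g
    have h1 := Subgroup.mem_center_iff.1 hx (e g)
    have h2 := congrArg e.symm h1
    simpa using h2

/-- **L-balance** from the Schreier property for the components of `X / O_{p'}(X)`. -/
theorem l_balance
    (hSch : ∀ E : Subgroup (X ⧸ pPrimeCore p X), IsComponent E → Sch (E ⧸ Subgroup.center E))
    (R : Subgroup X) (hR : IsPGroup p R) :
    (pLayer p ↥(Subgroup.centralizer (R : Set X))).map (Subgroup.centralizer (R : Set X)).subtype ≤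
      pLayer p X := by
  have hO : pPrimeCore p (X ⧸ pPrimeCore p X) = ⊥ := PComponents.pPrimeCore_quotient_eq_bot p
  have hFn : (generalizedFittingSubgroup (X ⧸ pPrimeCore p X)).Normal := GenFitting.genFitting_normal
  refine CentSylowPerfect.pLayer_centralizer_le_of_autProp ?_ R hR
  refine autProp_of_components (LBalanceTwo.pPrimeCore_eq_bot_of_normal hO hFn)
    (layer_sup_pCore_genFitting hO) ?_
  intro L hL
  have h1 := Components.isComponent_map_subtype hFn.isSubnormal hL
  exact sch_center_quotient (L.equivMapOfInjective _ (Subgroup.subtype_injective _)).symm (hSch _ h1)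

end Final

end Cfsg.Agent.Schreier.Balance
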