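import Mathlib
import Cfsg.Agent.Schreier.Basic
import Cfsg.Agent.Schreier.Tools

/-!
# The Sylow criterion for the Schreier property (abstract part)
-/

set_option autoImplicit false

namespace Cfsg.Agent.Schreier.SylowCrit

open Cfsg.Agent.Schreier.Basic Cfsg.Agent.Schreier.Tools

open scoped Pointwise

variable {K : Type*} [Group K]

/-- The automorphisms fixing every element of `T`. -/
def fixer (T : Subgroup K) : Subgroup (MulAut K) where
  carrier := {φ | ∀ t ∈ T, φ t = t}
  one_mem' := fun _ _ => rfl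
  mul_mem' := fun {φ ψ} hφ hψ t ht => by
    rw [MulAut.mul_apply, hψ t ht, hφ t ht]
  inv_mem' := fun {φ} hφ t ht => by
    have h1 := hφ t ht
    calc φ⁻¹ t = φ⁻¹ (φ t) := by rw [h1]
      _ = t := MulAut.inv_apply_self _ φ t

theorem mem_fixer {T : Subgroup K} {φ : MulAut K} : φ ∈ fixer T ↔ ∀ t ∈ T, φ t = t := Iff.rfl

/-- The automorphisms mapping `A` onto itself. -/
def stab (A : Subgroup K) : Subgroup (MulAut K) where
  carrier := {φ | A.map φ.toMonoidHom = A}
  one_mem' := by
    show A.map (1 : MulAut K).toMonoidHom = A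
    exact Subgroup.map_id A
  mul_mem' := fun {φ ψ} hφ hψ => by
    show A.map (φ * ψ).toMonoidHom = A
    have h1 : A.map (φ * ψ).toMonoidHom = (A.map ψ.toMonoidHom).map φ.toMonoidHom := by
      rw [Subgroup.map_map]; rfl
    rw [h1, show A.map ψ.toMonoidHom = A from hψ, show A.map φ.toMonoidHom = A from hφ]
  inv_mem' := fun {φ} hφ => by
    show A.map (φ⁻¹).toMonoidHom = A
    have h1 : (A.map φ.toMonoidHom).map (φ⁻¹).toMonoidHom = A := by
      rw [Subgroup.map_map]
      have : (φ⁻¹).toMonoidHom.comp φ.toMonoidHom = MonoidHom.id K := by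
        ext x
        exact MulAut.inv_apply_self _ φ x
      rw [this, Subgroup.map_id]
    rwa [show A.map φ.toMonoidHom = A from hφ] at h1

theorem mem_stab {A : Subgroup K} {φ : MulAut K} : φ ∈ stab A ↔ A.map φ.toMonoidHom = A := Iff.rfl

theorem map_conj_eq_of_mem_normalizer {A : Subgroup K} {k : K} (hk : k ∈ Subgroup.normalizer (A : Set K)) :
    A.map (MulAut.conj k).toMonoidHom = A := by
  ext x
  constructor
  · rintro ⟨a, ha, rfl⟩
    exact (Subgroup.mem_normalizer_iff.1 hk a).1 ha
  · intro hx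
    refine ⟨k⁻¹ * x * k, ?_, ?_⟩
    · rw [SetLike.mem_coe]
      rw [Subgroup.mem_normalizer_iff.1 hk]
      simpa [mul_assoc] using hx
    · show (MulAut.conj k) (k⁻¹ * x * k) = x
      rw [MulAut.conj_apply]; group

/-- **Sylow criterion, abstract form.**  `T` is a Sylow 2-subgroup of `K` normalising `E`; perfect groups of
automorphisms map `E` to conjugates; the fixer of `T` is solvable; perfect groups of automorphisms normalising `T` and
`E` centralise `T`. -/
theorem sch_of_stable [Finite K] (T : Sylow 2 K) (E : Subgroup K)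
    (hTE : (T : Subgroup K) ≤ Subgroup.normalizer (E : Set K))
    (hst : ∀ C : Subgroup (MulAut K), ⁅C, C⁆ = C → ∀ φ ∈ C, ∃ k : K,
      E.map φ.toMonoidHom = E.map (MulAut.conj k).toMonoidHom)
    (hfix : Group.IsSolvable (fixer (T : Subgroup K)))
    (h : ∀ D : Subgroup (MulAut K), ⁅D, D⁆ = D → Inv D (T : Subgroup K) → Inv D E → Tr D (T : Subgroup K)) :
    Sch K := by
  intro C hC
  have hI := conj_range_normal K
  set I : Subgroup (MulAut K) := (MulAut.conj : K →* MulAut K).range with hIdef
  set N : Subgroup (MulAut K) := stab (T : Subgroup K) ⊓ stab E with hNdef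
  -- `N` is solvable
  have hN : Group.IsSolvable N := by
    apply isSolvable_of_perfect_eq_bot
    intro D hDN hD
    have h1 : Tr D (T : Subgroup K) := h D hD (fun φ hφ => (hDN hφ).1) (fun φ hφ => (hDN hφ).2)
    have h2 : D ≤ fixer (T : Subgroup K) := fun φ hφ => h1 φ hφ
    exact eq_bot_of_perfect_of_solvable hD
      (Group.isSolvable_of_isSolvable_injective (Subgroup.inclusion_injective h2))
  -- `C ≤ I N`
  have hCN : C ≤ I ⊔ N := by
    intro c hc
    obtain ⟨k, hk⟩ := hst C hC c hc
    -- `c₁ := conj k⁻¹ * c` stabilises `E`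
    set c₁ : MulAut K := (MulAut.conj k)⁻¹ * c with hc₁
    have h1 : E.map c₁.toMonoidHom = E := by
      have h2 : E.map c₁.toMonoidHom = (E.map c.toMonoidHom).map ((MulAut.conj k)⁻¹).toMonoidHom := by
        rw [Subgroup.map_map]; rfl
      rw [h2, hk, Subgroup.map_map]
      have : ((MulAut.conj k)⁻¹).toMonoidHom.comp (MulAut.conj k).toMonoidHom = MonoidHom.id K := by
        ext x
        exact MulAut.inv_apply_self _ (MulAut.conj k) x
      rw [this, Subgroup.map_id]
    -- `c₁ T` is a Sylow 2-subgroup of `N_K(E)`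
    have h3 : (T : Subgroup K).map c₁.toMonoidHom ≤ Subgroup.normalizer (E : Set K) := by
      rintro _ ⟨t, ht, rfl⟩
      rw [Subgroup.mem_normalizer_iff]
      intro e
      have h4 := Subgroup.mem_normalizer_iff.1 (hTE ht) (c₁⁻¹ e)
      have h5 : ∀ x, c₁ x ∈ E ↔ x ∈ E := by
        intro x
        constructor
        · intro hx
          rw [← h1] at hx
          obtain ⟨y, hy, hxy⟩ := hx
          have : y = x := c₁.injective hxy
          rwa [← this]
        · intro hx
          rw [← h1]
          exact ⟨x, hx, rfl⟩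
      have h6 : c₁ (c₁⁻¹ e) = e := MulAut.apply_inv_self _ c₁ e
      rw [← h5 (c₁⁻¹ e), ← h5 (t * c₁⁻¹ e * t⁻¹), map_mul, map_mul, map_inv, h6] at h4
      exact h4
    have hT0 : Nat.card ((T : Subgroup K).map c₁.toMonoidHom) = Nat.card (T : Subgroup K) :=
      Nat.card_congr ((T : Subgroup K).equivMapOfInjective c₁.toMonoidHom c₁.injective).symm.toEquiv
    -- conjugacy in `H = N_K(E)`
    set H : Subgroup K := Subgroup.normalizer (E : Set K) with hH
    let T₁ : Sylow 2 H := T.subtype hTE
    have hT₁ : (T₁ : Subgroup H) = (T : Subgroup K).subgroupOf H := rfl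
    have hp2 : IsPGroup 2 ((T : Subgroup K).map c₁.toMonoidHom) := T.2.map _
    have hp3 : IsPGroup 2 (((T : Subgroup K).map c₁.toMonoidHom).subgroupOf H) :=
      hp2.comap_subtype
    obtain ⟨T₂, hT₂⟩ := hp3.exists_le_sylow
    obtain ⟨n, hn⟩ := MulAction.exists_smul_eq H T₁ T₂
    -- `T₂ = n T₁ n⁻¹`, so `(c₁ T) ≤ n T n⁻¹`, equality by order
    have h7 : (T : Subgroup K).map c₁.toMonoidHom ≤ (T : Subgroup K).map (MulAut.conj (n : K)).toMonoidHom := by
      intro x hx
      have hxH : x ∈ H := h3 hx
      have h8 : (⟨x, hxH⟩ : H) ∈ (T₂ : Subgroup H) := hT₂ (Subgroup.mem_subgroupOf.2 hx)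
      rw [← hn] at h8
      have h9 : (⟨x, hxH⟩ : H) ∈ (MulAut.conj n • (T₁ : Subgroup H) : Subgroup H) := h8
      rw [Subgroup.mem_pointwise_smul_iff_inv_smul_mem] at h9
      have h10 : (n : K)⁻¹ * x * (n : K) ∈ (T : Subgroup K) := by
        have := Subgroup.mem_subgroupOf.1 h9
        simpa [MulAut.smul_def, mul_assoc] using this
      refine ⟨_, h10, ?_⟩
      show (MulAut.conj (n : K)) ((n : K)⁻¹ * x * (n : K)) = x
      rw [MulAut.conj_apply]; group
    have h11 : (T : Subgroup K).map c₁.toMonoidHom = (T : Subgroup K).map (MulAut.conj (n : K)).toMonoidHom := by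
      apply Subgroup.eq_of_le_of_card_ge h7
      rw [hT0]
      exact le_of_eq (Nat.card_congr ((T : Subgroup K).equivMapOfInjective (MulAut.conj (n : K)).toMonoidHom
        (MulAut.conj (n : K)).injective).symm.toEquiv)
    set c₂ : MulAut K := (MulAut.conj (n : K))⁻¹ * c₁ with hc₂
    have h12 : c₂ ∈ N := by
      constructor
      · show (T : Subgroup K).map c₂.toMonoidHom = T
        have h2 : (T : Subgroup K).map c₂.toMonoidHom =
            ((T : Subgroup K).map c₁.toMonoidHom).map ((MulAut.conj (n : K))⁻¹).toMonoidHom := by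
          rw [Subgroup.map_map]; rfl
        rw [h2, h11, Subgroup.map_map]
        have : ((MulAut.conj (n : K))⁻¹).toMonoidHom.comp (MulAut.conj (n : K)).toMonoidHom = MonoidHom.id K := by
          ext x
          exact MulAut.inv_apply_self _ (MulAut.conj (n : K)) x
        rw [this, Subgroup.map_id]
      · show E.map c₂.toMonoidHom = E
        have h2 : E.map c₂.toMonoidHom =
            (E.map c₁.toMonoidHom).map (MulAut.conj ((n : K)⁻¹)).toMonoidHom := by
          rw [Subgroup.map_map, map_inv]; rfl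
        rw [h2, h1]
        exact map_conj_eq_of_mem_normalizer (inv_mem n.2)
    have h13 : c = MulAut.conj k * MulAut.conj (n : K) * c₂ := by
      rw [hc₂, hc₁]; group
    rw [h13]
    exact mul_mem (mul_mem (Subgroup.mem_sup_left ⟨k, rfl⟩) (Subgroup.mem_sup_left ⟨(n : K), rfl⟩))
      (Subgroup.mem_sup_right h12)
  -- the image of `C` in `MulAut K ⧸ I` is solvable
  have h1 : C.map (QuotientGroup.mk' I) ≤ N.map (QuotientGroup.mk' I) := by
    have h2 : C.map (QuotientGroup.mk' I) ≤ (I ⊔ N).map (QuotientGroup.mk' I) := Subgroup.map_mono hCN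
    rw [Subgroup.map_sup] at h2
    have h3 : I.map (QuotientGroup.mk' I) = ⊥ := by
      rw [Subgroup.map_eq_bot_iff, QuotientGroup.ker_mk']
    rwa [h3, bot_sup_eq] at h2
  have hsolN : Group.IsSolvable (N.map (QuotientGroup.mk' I)) :=
    Group.isSolvable_of_surjective (f := (QuotientGroup.mk' I).subgroupMap N)
      ((QuotientGroup.mk' I).subgroupMap_surjective N)
  have hsolC : Group.IsSolvable (C.map (QuotientGroup.mk' I)) :=
    Group.isSolvable_of_isSolvable_injective (Subgroup.inclusion_injective h1)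
  have := le_ker_of_perfect (QuotientGroup.mk' I) hC hsolC
  rwa [QuotientGroup.ker_mk'] at this

end Cfsg.Agent.Schreier.SylowCrit
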