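import Mathlib
import Cfsg.Agent.S0205
import Cfsg.Agent.S0227
import Cfsg.Agent.Schreier.Basic
import Cfsg.Agent.Schreier.Tools
import Cfsg.Agent.Schreier.SylowCrit

/-!
# The Sylow criterion for the Schreier property of simple groups
-/

set_option autoImplicit false

namespace Cfsg.Agent.Schreier.Crit

open Cfsg.Agent.Schreier.Basic Cfsg.Agent.Schreier.Tools Cfsg.Agent.Schreier.SylowCrit

variable {K : Type*} [Group K]

/-- A non-abelian finite simple group has no nontrivial normal subgroup of odd order. -/
theorem odd_normal_eq_bot [Finite K] [IsSimpleGroup K] (hK : ¬ IsMulCommutative K) (N : Subgroup K)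
    (hN : N.Normal) (hodd : Odd (Nat.card N)) : N = ⊥ := by
  rcases hN.eq_bot_or_eq_top with h | h
  · exact h
  · exfalso
    subst h
    rw [Subgroup.card_top] at hodd
    have hs : Group.IsSolvable K := Cfsg.Agent.S0205.result hodd
    apply hK
    have h1 := IsSimpleGroup.comm_iff_isSolvable.2 hs
    exact ⟨⟨h1⟩⟩

/-- The automorphisms fixing a Sylow 2-subgroup of a non-abelian simple group form a solvable group. -/
theorem isSolvable_fixer [Finite K] [IsSimpleGroup K] (hK : ¬ IsMulCommutative K) (T : Sylow 2 K) :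
    Group.IsSolvable (fixer (T : Subgroup K)) :=
  (Cfsg.Agent.S0227.result (fun N hN hodd => odd_normal_eq_bot hK N hN hodd) T (fixer (T : Subgroup K))
    (fun _ => Iff.rfl)).2

/-- **Criterion with a stable subgroup `E`.** -/
theorem sch_of_stable [Finite K] [IsSimpleGroup K] (hK : ¬ IsMulCommutative K) (T : Sylow 2 K)
    (E : Subgroup K) (hTE : (T : Subgroup K) ≤ Subgroup.normalizer (E : Set K))
    (hst : ∀ C : Subgroup (MulAut K), ⁅C, C⁆ = C → ∀ φ ∈ C, ∃ k : K,
      E.map φ.toMonoidHom = E.map (MulAut.conj k).toMonoidHom)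
    (h : ∀ D : Subgroup (MulAut K), ⁅D, D⁆ = D → Inv D (T : Subgroup K) → Inv D E → Tr D (T : Subgroup K)) :
    Sch K :=
  SylowCrit.sch_of_stable T E hTE hst (isSolvable_fixer hK T) h

/-- **Sylow criterion**: if every perfect group of automorphisms of the simple group `K` normalising the Sylow
2-subgroup `T` centralises `T`, then `K` has the Schreier property. -/
theorem sch_of_sylow [Finite K] [IsSimpleGroup K] (hK : ¬ IsMulCommutative K) (T : Sylow 2 K)
    (h : ∀ D : Subgroup (MulAut K), ⁅D, D⁆ = D → Inv D (T : Subgroup K) → Tr D (T : Subgroup K)) :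
    Sch K := by
  refine sch_of_stable hK T ⊥ ?_ ?_ (fun D hD h1 _ => h D hD h1)
  · intro t _
    rw [Subgroup.mem_normalizer_iff]
    intro x
    simp
  · intro C _ φ _
    exact ⟨1, by simp⟩

/-- A Sylow 2-subgroup with solvable automorphism group. -/
theorem sch_of_solvable_mulAut_sylow [Finite K] [IsSimpleGroup K] (hK : ¬ IsMulCommutative K) (T : Sylow 2 K)
    [Group.IsSolvable (MulAut (T : Subgroup K))] : Sch K :=
  sch_of_sylow hK T fun _ hD hT => tr_of_solvable_mulAut hD hT

end Cfsg.Agent.Schreier.Crit
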