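import Mathlib
import Cfsg.Agent.S0029
import Cfsg.Agent.Schreier.Basic
import Cfsg.Agent.Schreier.Tools

/-!
# More tools on perfect groups of automorphisms: the Frattini lemma, commuting with irreducible actions
-/

set_option autoImplicit false

namespace Cfsg.Agent.Schreier.Tools2

open Cfsg.Agent.Schreier.Basic Cfsg.Agent.Schreier.Tools

/-- An automorphism of order prime to `p` of a `p`-group acting trivially modulo the Frattini subgroup is trivial. -/
theorem eq_one_of_coprime {T : Type*} [Group T] [Finite T] {p : ℕ} [hp : Fact p.Prime] (hT : IsPGroup p T)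
    (φ : MulAut T) (hφ : (orderOf φ).Coprime p) (h : ∀ t : T, φ t * t⁻¹ ∈ frattini T) : φ = 1 := by
  let G := T ⋊[(Subgroup.zpowers φ).subtype] Subgroup.zpowers φ
  have hfin : Finite G :=
    Finite.of_equiv (T × Subgroup.zpowers φ) SemidirectProduct.equivProd.symm
  let K : Subgroup G := (SemidirectProduct.inl : T →* G).range
  let A : Subgroup G := (SemidirectProduct.inr : Subgroup.zpowers φ →* G).range
  have hKn : K.Normal := by
    have : K = (SemidirectProduct.rightHom : G →* Subgroup.zpowers φ).ker := by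
      exact SemidirectProduct.range_inl_eq_ker_rightHom
    rw [this]; infer_instance
  let e : T →* K := (SemidirectProduct.inl : T →* G).rangeRestrict
  have he : Function.Surjective e := MonoidHom.rangeRestrict_surjective _
  have hcardA : Nat.card A = orderOf φ := by
    rw [← Nat.card_zpowers]
    exact (Nat.card_congr (MonoidHom.ofInjective
      (SemidirectProduct.inr_injective (φ := (Subgroup.zpowers φ).subtype))).toEquiv).symm
  have hKp : IsPGroup p K := hT.of_surjective e he
  have hcop : (Nat.card A).Coprime (Nat.card (frattini K)) := by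
    rw [hcardA]
    obtain ⟨n, hn⟩ := (hKp.to_subgroup (frattini K)).exists_card_eq
    rw [hn]
    exact Nat.Coprime.pow_right n hφ
  have hpow : ∀ ψ ∈ Subgroup.zpowers φ, ∀ t : T, ψ t * t⁻¹ ∈ frattini T := by
    intro ψ hψ
    let F : Subgroup (MulAut T) :=
      { carrier := {χ : MulAut T | ∀ t : T, χ t * t⁻¹ ∈ frattini T}
        one_mem' := fun t => by
          rw [MulAut.one_apply, mul_inv_cancel]
          exact one_mem _
        mul_mem' := fun {χ₁ χ₂} h1 h2 t => by
          have h3 : (χ₁ * χ₂) t * t⁻¹ = (χ₁ (χ₂ t) * (χ₂ t)⁻¹) * (χ₂ t * t⁻¹) := by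
            rw [MulAut.mul_apply]; group
          rw [h3]
          exact mul_mem (h1 _) (h2 _)
        inv_mem' := fun {χ} h1 t => by
          have h3 : χ⁻¹ t * t⁻¹ = (χ (χ⁻¹ t) * (χ⁻¹ t)⁻¹)⁻¹ := by
            rw [MulAut.apply_inv_self]; group
          rw [h3]
          exact inv_mem (h1 _) }
    have hF : Subgroup.zpowers φ ≤ F := by
      rw [Subgroup.zpowers_le]
      exact h
    exact hF hψ
  have htriv : ∀ a ∈ A, ∀ k ∈ K, a * k * a⁻¹ * k⁻¹ ∈ (frattini K).map K.subtype := by
    rintro _ ⟨ψ, rfl⟩ _ ⟨t, rfl⟩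
    have h1 : (SemidirectProduct.inr ψ : G) * SemidirectProduct.inl t * (SemidirectProduct.inr ψ)⁻¹ *
        (SemidirectProduct.inl t)⁻¹ = SemidirectProduct.inl ((ψ : MulAut T) t * t⁻¹) := by
      rw [← map_inv SemidirectProduct.inr, map_mul, map_inv SemidirectProduct.inl]
      congr 1
      exact (SemidirectProduct.inl_aut ψ t).symm
    rw [h1]
    have h2 : e ((ψ : MulAut T) t * t⁻¹) ∈ frattini K :=
      frattini_le_comap_frattini_of_surjective he (hpow ψ ψ.2 t)
    exact ⟨e ((ψ : MulAut T) t * t⁻¹), h2, rfl⟩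
  have hmain := Cfsg.Agent.S0029.result A K
    (fun a _ => by rw [Subgroup.normalizer_eq_top]; exact Subgroup.mem_top a) hcop htriv
  apply MulEquiv.ext
  intro t
  have h1 : (SemidirectProduct.inr (⟨φ, Subgroup.mem_zpowers φ⟩ : Subgroup.zpowers φ) : G) ∈
      Subgroup.centralizer (K : Set G) := hmain ⟨_, rfl⟩
  rw [Subgroup.mem_centralizer_iff] at h1
  have h2 := h1 (SemidirectProduct.inl t) ⟨t, rfl⟩
  have h3 : (SemidirectProduct.inl (φ t) : G) = SemidirectProduct.inl t := by
    have h4 := SemidirectProduct.inl_aut (φ := (Subgroup.zpowers φ).subtype)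
      (⟨φ, Subgroup.mem_zpowers φ⟩ : Subgroup.zpowers φ) t
    have h5 : (SemidirectProduct.inl (φ t) : G) =
        SemidirectProduct.inr (⟨φ, Subgroup.mem_zpowers φ⟩ : Subgroup.zpowers φ) * SemidirectProduct.inl t *
          SemidirectProduct.inr (⟨φ, Subgroup.mem_zpowers φ⟩ : Subgroup.zpowers φ)⁻¹ := h4
    rw [h5, ← h2, map_inv]
    group
  exact SemidirectProduct.inl_injective h3

/-- The automorphisms of a `p`-group acting trivially modulo the Frattini subgroup form a `p`-group. -/
theorem isPGroup_of_trivial_mod_frattini {T : Type*} [Group T] [Finite T] {p : ℕ} [hp : Fact p.Prime]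
    (hT : IsPGroup p T) (R : Subgroup (MulAut T)) (h : ∀ φ ∈ R, ∀ t : T, φ t * t⁻¹ ∈ frattini T) :
    IsPGroup p R := by
  intro φ
  obtain ⟨k, m, hm, hk⟩ := Nat.exists_eq_pow_mul_and_not_dvd (n := orderOf (φ : MulAut T))
    (orderOf_pos _).ne' p hp.out.ne_one
  refine ⟨k, ?_⟩
  apply Subtype.ext
  show (φ : MulAut T) ^ p ^ k = 1
  apply eq_one_of_coprime hT
  · rw [orderOf_pow, hk, Nat.gcd_eq_right (Dvd.intro m rfl), Nat.mul_div_cancel_left _ (pow_pos hp.out.pos k)]
    exact ((Nat.Prime.coprime_iff_not_dvd hp.out).2 hm).symm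
  · exact h _ (pow_mem φ.2 _)

variable {K : Type*} [Group K]

/-- **Frattini lemma**: a perfect group of automorphisms acting trivially on a `p`-subgroup `T` modulo its Frattini
subgroup centralises `T`. -/
theorem tr_of_frattini {D : Subgroup (MulAut K)} (hD : ⁅D, D⁆ = D) {p : ℕ} [hp : Fact p.Prime] {T B : Subgroup K}
    [Finite T] (hTp : IsPGroup p T) (hT : Inv D T) (hB : B ≤ (frattini T).map T.subtype) (h : TrMod D T B) :
    Tr D T := by
  have hfm : Finite (MulAut T) := inferInstance
  have h1 : IsPGroup p hT.res.range := by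
    apply isPGroup_of_trivial_mod_frattini hTp
    rintro _ ⟨φ, rfl⟩ t
    have h2 : (t : K)⁻¹ * (φ : MulAut K) t ∈ B := h φ φ.2 t t.2
    obtain ⟨x, hx, hxt⟩ := hB h2
    have h3 : x = t⁻¹ * hT.res φ t := Subtype.ext (by rw [← T.coe_subtype, hxt]; rfl)
    rw [SetLike.mem_coe, h3] at hx
    have h4 : hT.res φ t * t⁻¹ = t * (t⁻¹ * hT.res φ t) * t⁻¹ := by group
    rw [h4]
    exact (inferInstance : (frattini T).Normal).conj_mem _ hx t
  have h2 : Group.IsSolvable hT.res.range := by
    have : Group.IsNilpotent hT.res.range := h1.isNilpotent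
    infer_instance
  exact tr_of_solvable_range hD hT h2

/-- A perfect group acting trivially on a generating set of `T` modulo the squares and commutators. -/
theorem trMod_of_generators {D : Subgroup (MulAut K)} {T B : Subgroup K} (hB : Inv D B)
    (hn : ∀ t ∈ T, ∀ b ∈ B, t * b * t⁻¹ ∈ B) (S : Set K) (hS : T ≤ Subgroup.closure S ⊔ B) (hST : S ⊆ T)
    (hBT : B ≤ T) (h : ∀ φ ∈ D, ∀ s ∈ S, s⁻¹ * φ s ∈ B) : TrMod D T B := by
  intro φ hφ
  -- the set of elements of `T` fixed modulo `B` is a subgroup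
  let F : Subgroup K :=
    { carrier := {t | t ∈ T ∧ t⁻¹ * φ t ∈ B}
      one_mem' := ⟨one_mem _, by simp [one_mem]⟩
      mul_mem' := fun {a b} ha hb => ⟨mul_mem ha.1 hb.1, by
        have h1 : (a * b)⁻¹ * φ (a * b) = (b⁻¹ * (a⁻¹ * φ a) * b) * (b⁻¹ * φ b) := by
          rw [map_mul]; group
        rw [h1]
        refine mul_mem ?_ hb.2
        have := hn b⁻¹ (inv_mem hb.1) _ ha.2
        simpa using this⟩
      inv_mem' := fun {a} ha => ⟨inv_mem ha.1, by
        have h1 : (a⁻¹)⁻¹ * φ a⁻¹ = a * (a⁻¹ * φ a)⁻¹ * a⁻¹ := by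
          rw [map_inv]; group
        rw [h1]
        exact hn a ha.1 _ (inv_mem ha.2)⟩ }
  have h1 : Subgroup.closure S ⊔ B ≤ F := by
    refine sup_le ((Subgroup.closure_le F).2 fun s hs => ⟨hST hs, h φ hφ s hs⟩) ?_
    intro b hb
    exact ⟨hBT hb, mul_mem (inv_mem hb) (hB.apply_mem hφ hb)⟩
  intro a ha
  exact (h1 (hS ha)).2

end Cfsg.Agent.Schreier.Tools2
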