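import Mathlib
import Cfsg.Agent.S0205
import Cfsg.Agent.Schreier.Basic
import Cfsg.Agent.Schreier.Tools
import Cfsg.Agent.Schreier.Tools2

/-!
# The normaliser-quotient lemma
-/

set_option autoImplicit false

namespace Cfsg.Agent.Schreier.Tools3

open Cfsg.Agent.Schreier.Basic Cfsg.Agent.Schreier.Tools

/-- The normaliser of a subgroup of odd index which is a 2-group is solvable. -/
theorem isSolvable_normalizer {A : Type*} [Group A] [Finite A] (S : Subgroup A) (hS : IsPGroup 2 S)
    (hodd : Odd S.index) : Group.IsSolvable (Subgroup.normalizer (S : Set A)) := by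
  set N := Subgroup.normalizer (S : Set A) with hN
  have hSN : S ≤ N := Subgroup.le_normalizer
  have h1 : Group.IsSolvable (S.subgroupOf N) := by
    have h2 : IsPGroup 2 (S.subgroupOf N) := hS.comap_subtype
    have : Group.IsNilpotent (S.subgroupOf N) := h2.isNilpotent
    infer_instance
  have hn : (S.subgroupOf N).Normal := Subgroup.normal_in_normalizer
  have h3 : Group.IsSolvable (N ⧸ S.subgroupOf N) := by
    apply Cfsg.Agent.S0205.result
    have h4 : Nat.card (N ⧸ S.subgroupOf N) = S.relIndex N := rfl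
    rw [h4]
    exact Odd.of_dvd_nat hodd (Subgroup.relIndex_dvd_index_of_le hSN)
  exact Group.isSolvable_of_ker_le_range (S.subgroupOf N).subtype (QuotientGroup.mk' (S.subgroupOf N)) (by simp)

variable {K : Type*} [Group K]

/-- The conjugation action of the normaliser of `E` on `E`. -/
def act (E : Subgroup K) : Subgroup.normalizer (E : Set K) →* MulAut E := E.normalizerMonoidHom

theorem act_apply (E : Subgroup K) (n : Subgroup.normalizer (E : Set K)) (e : E) :
    ((act E n e : E) : K) = n * e * (n : K)⁻¹ := rfl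

/-- **Normaliser-quotient lemma**: `T` a Sylow 2-subgroup of `K` normalising `E`, both invariant under the perfect
group `D`; every perfect group of automorphisms of `E` normalising the group `Aut_K(E)` induced by `N_K(E)` lies in
it. Then `D` centralises `E`. -/
theorem tr_of_normalizer [Finite K] {D : Subgroup (MulAut K)} (hD : ⁅D, D⁆ = D) (T : Sylow 2 K)
    {E : Subgroup K} (hT : Inv D (T : Subgroup K)) (hE : Inv D E)
    (hTE : (T : Subgroup K) ≤ Subgroup.normalizer (E : Set K))
    (hq : ∀ C : Subgroup (MulAut E), ⁅C, C⁆ = C →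
      C ≤ Subgroup.normalizer ((act E).range : Set (MulAut E)) → C ≤ (act E).range) : Tr D E := by
  set N := Subgroup.normalizer (E : Set K) with hN
  set A := (act E).range with hA
  set C := hE.res.range with hC
  have hNinv : Inv D N := hE.normalizer
  -- `C` is perfect
  have hCp : ⁅C, C⁆ = C := by
    rw [hC, MonoidHom.range_eq_map, ← Subgroup.map_commutator, top_perfect hD]
  -- commutation rule
  have hrule : ∀ (φ : D) (n : N), hE.res φ * act E n * (hE.res φ)⁻¹ =
      act E ⟨(φ : MulAut K) n, hNinv.apply_mem φ.2 n.2⟩ := by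
    intro φ n
    rw [mul_inv_eq_iff_eq_mul]
    apply MulEquiv.ext
    intro e
    apply Subtype.ext
    show (φ : MulAut K) ((n : K) * (e : K) * (n : K)⁻¹) =
      (φ : MulAut K) n * (φ : MulAut K) e * ((φ : MulAut K) n)⁻¹
    rw [map_mul, map_mul, map_inv]
  have hCA : C ≤ A := by
    apply hq C hCp
    rintro _ ⟨φ, rfl⟩
    rw [Subgroup.mem_normalizer_iff]
    intro a
    constructor
    · rintro ⟨n, rfl⟩
      rw [hrule]
      exact ⟨_, rfl⟩
    · rintro ⟨n, hn⟩
      have h1 : a = (hE.res φ)⁻¹ * act E n * hE.res φ := by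
        rw [hn]; group
      have h2 := hrule φ⁻¹ n
      rw [map_inv, inv_inv] at h2
      rw [h1, h2]
      exact ⟨_, rfl⟩
  -- the Sylow subgroup of `A`
  let f : N →* A := (act E).rangeRestrict
  have hf : Function.Surjective f := MonoidHom.rangeRestrict_surjective _
  set S : Subgroup A := ((T : Subgroup K).subgroupOf N).map f with hS
  have hSp : IsPGroup 2 S := (T.2.comap_subtype (K := N)).map f
  have hTi : Odd ((T : Subgroup K).subgroupOf N).index := by
    have h1 : (T : Subgroup K).relIndex N ∣ (T : Subgroup K).index := Subgroup.relIndex_dvd_index_of_le hTE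
    have h2 : Odd (T : Subgroup K).index := by
      rw [← Nat.not_even_iff_odd, even_iff_two_dvd]
      exact T.not_dvd_index
    exact Odd.of_dvd_nat h2 h1
  have hSi : Odd S.index := Odd.of_dvd_nat hTi (Subgroup.index_map_dvd _ hf)
  have hNS := isSolvable_normalizer S hSp hSi
  -- `C` normalises `S`
  have hCS : C.subgroupOf A ≤ Subgroup.normalizer (S : Set A) := by
    rintro c hc
    rw [Subgroup.mem_subgroupOf] at hc
    obtain ⟨φ, hφ⟩ := hc
    rw [Subgroup.mem_normalizer_iff]
    have key : ∀ (ψ : D) (d : A), (d : MulAut E) = hE.res ψ → ∀ s ∈ S, d * s * d⁻¹ ∈ S := by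
      rintro ψ d hd _ ⟨t, ht, rfl⟩
      rw [SetLike.mem_coe, Subgroup.mem_subgroupOf] at ht
      refine ⟨⟨(ψ : MulAut K) t, hNinv.apply_mem ψ.2 t.2⟩, ?_, ?_⟩
      · rw [SetLike.mem_coe, Subgroup.mem_subgroupOf]
        exact hT.apply_mem ψ.2 ht
      · apply Subtype.ext
        show act E ⟨(ψ : MulAut K) t, _⟩ = (d : MulAut E) * act E t * (d : MulAut E)⁻¹
        rw [hd, hrule]
    intro s
    constructor
    · exact key φ c hφ.symm s
    · intro hs
      have h1 := key φ⁻¹ c⁻¹ (by rw [map_inv]; show (c : MulAut E)⁻¹ = _; rw [← hφ]) _ hs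
      have h2 : c⁻¹ * (c * s * c⁻¹) * c⁻¹⁻¹ = s := by group
      rwa [h2] at h1
  have hCs : Group.IsSolvable (C.subgroupOf A) :=
    Group.isSolvable_of_isSolvable_injective (Subgroup.inclusion_injective hCS)
  have hCs' : Group.IsSolvable C := by
    refine Group.isSolvable_of_surjective (f := (Subgroup.subgroupOfEquivOfLe hCA).toMonoidHom) ?_
    exact (Subgroup.subgroupOfEquivOfLe hCA).surjective
  exact tr_of_solvable_range hD hE hCs'

/-- A perfect subgroup `C` normalising `A`, with `|N(A) : A|` having at most two prime divisors, lies in `A`. -/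
theorem le_of_index_two_primes {G : Type*} [Group G] [Finite G] (A C : Subgroup G) (hC : ⁅C, C⁆ = C)
    (hCA : C ≤ Subgroup.normalizer (A : Set G)) {p q a b : ℕ} (hp : p.Prime) (hq : q.Prime)
    (hdvd : A.index ∣ p ^ a * q ^ b) : C ≤ A := by
  set N := Subgroup.normalizer (A : Set G) with hN
  have hAN : A ≤ N := Subgroup.le_normalizer
  have hn : (A.subgroupOf N).Normal := Subgroup.normal_in_normalizer
  have hs : Group.IsSolvable (N ⧸ A.subgroupOf N) := by
    have h1 : Nat.card (N ⧸ A.subgroupOf N) ∣ p ^ a * q ^ b :=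
      (Subgroup.relIndex_dvd_index_of_le hAN).trans hdvd
    obtain ⟨x, y, h2, h3, h4⟩ := (Nat.dvd_mul).1 h1
    obtain ⟨i, -, rfl⟩ := (Nat.dvd_prime_pow hp).1 h2
    obtain ⟨j, -, rfl⟩ := (Nat.dvd_prime_pow hq).1 h3
    exact Cfsg.Agent.S0144.result p q i j hp hq h4.symm
  intro c hc
  have h5 := hom_eq_one hC ((QuotientGroup.mk' (A.subgroupOf N)).comp (Subgroup.inclusion hCA)) ⟨c, hc⟩
  have h6 : (⟨c, hCA hc⟩ : N) ∈ A.subgroupOf N := (QuotientGroup.eq_one_iff _).1 h5
  exact h6

/-- Normaliser-quotient lemma, numerical form: `|Aut E| / |N_K(E) : C_K(E)|` has at most two prime divisors. -/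
theorem tr_of_card_mulAut [Finite K] {D : Subgroup (MulAut K)} (hD : ⁅D, D⁆ = D) (T : Sylow 2 K)
    {E : Subgroup K} (hT : Inv D (T : Subgroup K)) (hE : Inv D E)
    (hTE : (T : Subgroup K) ≤ Subgroup.normalizer (E : Set K)) {p q a b : ℕ} (hp : p.Prime) (hq : q.Prime)
    (hdvd : (act E).range.index ∣ p ^ a * q ^ b) : Tr D E :=
  tr_of_normalizer hD T hT hE hTE fun C hC hCN => le_of_index_two_primes _ C hC hCN hp hq hdvd

end Cfsg.Agent.Schreier.Tools3
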