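import Mathlib
import Cfsg.Agent.Lib.ElemAbGL
import Cfsg.Agent.Schreier.Basic
import Cfsg.Agent.Schreier.Tools
import Cfsg.Agent.Schreier.Tools2
import Cfsg.Agent.Schreier.Tools3
import Cfsg.Agent.Schreier.Crit

/-!
# Simple groups with small Sylow 2-subgroups have the Schreier property
-/

set_option autoImplicit false

namespace Cfsg.Agent.Schreier.SmallSylow

open Cfsg.Agent.Schreier.Basic Cfsg.Agent.Schreier.Tools Cfsg.Agent.Schreier.Tools2 Cfsg.Agent.Schreier.Tools3
open Cfsg.Agent.Schreier.Crit

variable {K : Type*} [Group K]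

theorem card_mul_relIndex {G : Type*} [Group G] {A B : Subgroup G} (h : B ≤ A) :
    Nat.card B * B.relIndex A = Nat.card A := by
  have h1 := (B.subgroupOf A).card_mul_index
  rwa [Nat.card_congr (Subgroup.subgroupOfEquivOfLe h).toEquiv] at h1

/-- A perfect group acts trivially on an invariant subgroup of order at most 4. -/
theorem tr_of_card_le_four {D : Subgroup (MulAut K)} (hD : ⁅D, D⁆ = D) {A : Subgroup K} [Finite A]
    (hA : Inv D A) (h : Nat.card A ≤ 4) : Tr D A := by
  rw [← trMod_bot]
  apply trMod_of_relIndex_le_four hD hA (inv_bot D)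
  · rw [Subgroup.relIndex_bot_left]; exact Nat.card_pos.ne'
  · rw [Subgroup.relIndex_bot_left]; exact h

/-- An invariant subgroup `B` of order at most 4 and index at most 4 in `A`. -/
theorem tr_of_card_index {D : Subgroup (MulAut K)} (hD : ⁅D, D⁆ = D) {A B : Subgroup K} [Finite K]
    (hA : Inv D A) (hB : Inv D B) (hBc : Nat.card B ≤ 4) (hi : B.relIndex A ≤ 4) : Tr D A := by
  have hBtr : Tr D B := tr_of_card_le_four hD hB hBc
  have hs : Group.IsSolvable B := by
    have h2 : Nat.card B = 0 ∨ Nat.card B = 1 ∨ Nat.card B = 2 ∨ Nat.card B = 3 ∨ Nat.card B = 4 := by omega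
    have h0 : Nat.card B ≠ 0 := Nat.card_pos.ne'
    have key : ∃ a b : ℕ, Nat.card B = 2 ^ a * 3 ^ b := by
      rcases h2 with h | h | h | h | h
      · exact absurd h h0
      · exact ⟨0, 0, by rw [h]; rfl⟩
      · exact ⟨1, 0, by rw [h]; rfl⟩
      · exact ⟨0, 1, by rw [h]; rfl⟩
      · exact ⟨2, 0, by rw [h]; rfl⟩
    obtain ⟨a, b, hab⟩ := key
    exact Cfsg.Agent.S0144.result 2 3 a b Nat.prime_two Nat.prime_three hab
  exact tr_of_trMod hD hs hBtr
    (trMod_of_relIndex_le_four hD hA hB (Subgroup.index_ne_zero_of_finite (H := B.subgroupOf A)) hi)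

/-- In a non-abelian simple group with abelian Sylow `p`-subgroup `T` no nontrivial element of `T` is central in
`N(T)`. -/
theorem eq_one_of_central_normalizer [Finite K] [IsSimpleGroup K] (hK : ¬ IsMulCommutative K) {p : ℕ}
    [hp : Fact p.Prime] (T : Sylow p K) (hab : ∀ a ∈ T, ∀ b ∈ T, a * b = b * a) {t : K} (ht : t ∈ T)
    (hc : ∀ n ∈ Subgroup.normalizer ((T : Subgroup K) : Set K), n * t = t * n) : t = 1 := by
  have hcomm : IsMulCommutative (T : Subgroup K) := ⟨⟨fun a b => Subtype.ext (hab a a.2 b b.2)⟩⟩
  let _ : CommGroup (T : Subgroup K) := { (inferInstance : Group (T : Subgroup K)) with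
    mul_comm := fun a b => Subtype.ext (hab a a.2 b b.2) }
  have hfi : (T : Subgroup K).FiniteIndex := inferInstance
  let ϕ : K →* (T : Subgroup K) := MonoidHom.transfer (MonoidHom.id (T : Subgroup K))
  have hker : ϕ.ker = ⊤ := by
    rcases (inferInstance : ϕ.ker.Normal).eq_bot_or_eq_top with h | h
    · exfalso
      apply hK
      refine ⟨⟨fun a b => ?_⟩⟩
      have hinj : Function.Injective ϕ := (MonoidHom.ker_eq_bot_iff ϕ).1 h
      apply hinj
      rw [map_mul, map_mul, mul_comm]
    · exact h
  have key : ∀ (k : ℕ) (g₀ : K), g₀⁻¹ * t ^ k * g₀ ∈ (T : Subgroup K) → g₀⁻¹ * t ^ k * g₀ = t ^ k := by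
    intro k g₀ hk
    obtain ⟨n, hn, h1⟩ := Sylow.conj_eq_normalizer_conj_of_mem T (t ^ k) g₀ (pow_mem ht k) hk
    rw [h1]
    have h2 : n * t ^ k = t ^ k * n := (show Commute n t from hc n hn).pow_right k
    rw [mul_assoc, ← h2]
    group
  have h1 := MonoidHom.transfer_eq_pow (MonoidHom.id (T : Subgroup K)) t key
  have h2 : ϕ t = 1 := by
    rw [← MonoidHom.mem_ker, hker]; exact Subgroup.mem_top t
  have h3 : t ^ (T : Subgroup K).index = 1 := by
    have h4 : (⟨t ^ (T : Subgroup K).index, MonoidHom.transfer_eq_pow_aux t key⟩ : (T : Subgroup K)) = 1 := by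
      rw [← h2]; exact h1.symm
    exact congrArg Subtype.val h4
  -- `t` has `p`-power order
  obtain ⟨m, hm⟩ := T.2 ⟨t, ht⟩
  have h5 : t ^ p ^ m = 1 := congrArg Subtype.val hm
  have h6 := Nat.dvd_gcd (orderOf_dvd_of_pow_eq_one h3) (orderOf_dvd_of_pow_eq_one h5)
  have h7 : Nat.Coprime (T : Subgroup K).index (p ^ m) :=
    Nat.Coprime.pow_right m ((Nat.Prime.coprime_iff_not_dvd hp.out).2 T.not_dvd_index).symm
  rw [Nat.Coprime.gcd_eq_one h7, Nat.dvd_one, orderOf_eq_one_iff] at h6
  exact h6

/-- The automorphism group of an elementary abelian group of order 8 has order 168. -/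
theorem card_mulAut_eight {V : Type*} [CommGroup V] (hpow : ∀ x : V, x ^ 2 = 1) (hc : Nat.card V = 8) :
    Nat.card (MulAut V) = 168 := by
  have : Fact (Nat.Prime 2) := ⟨Nat.prime_two⟩
  obtain ⟨e⟩ := Cfsg.Agent.Lib.ElemAbGL.mulAut_equiv_GL (V := V) 2 3 hpow (by rw [hc]; rfl)
  rw [Nat.card_congr e.toEquiv, Matrix.card_GL_field]
  simp [Fin.prod_univ_succ]

/-- A simple group whose Sylow 2-subgroups have order 4. -/
theorem sch_of_card_four [Finite K] [IsSimpleGroup K] (hK : ¬ IsMulCommutative K) (T : Sylow 2 K)
    (h : Nat.card T ≤ 4) : Sch K :=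
  sch_of_sylow hK T fun _ hD hT => tr_of_card_le_four hD hT h

/-- The subgroup generated by the squares of an invariant subgroup is invariant. -/
theorem inv_squares {D : Subgroup (MulAut K)} {A : Subgroup K} (hA : Inv D A) :
    Inv D (Subgroup.closure {x : K | ∃ a ∈ A, x = a * a}) := by
  apply Inv.closure
  rintro φ hφ _ ⟨a, ha, rfl⟩
  exact ⟨φ a, hA.apply_mem hφ ha, map_mul φ a a⟩

/-- **Sylow 2-subgroups of order 8.** -/
theorem sch_of_card_eight [Finite K] [IsSimpleGroup K] (hK : ¬ IsMulCommutative K) (T : Sylow 2 K)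
    (h8 : Nat.card T = 8) : Sch K := by
  refine sch_of_sylow hK T fun D hD hT => ?_
  have h8' : Nat.card (T : Subgroup K) = 8 := h8
  by_cases hab : ∀ a ∈ T, ∀ b ∈ T, a * b = b * a
  · by_cases hexp : ∀ a ∈ T, a * a = 1
    · -- elementary abelian
      let _ : CommGroup (T : Subgroup K) := { (inferInstance : Group (T : Subgroup K)) with
        mul_comm := fun a b => Subtype.ext (hab a a.2 b b.2) }
      have hc168 : Nat.card (MulAut (T : Subgroup K)) = 168 :=
        card_mulAut_eight (V := (T : Subgroup K))
          (fun x => by rw [pow_two]; exact Subtype.ext (hexp x x.2)) h8'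
      set A := (act (T : Subgroup K)).range with hA
      -- `|A|` is odd
      have hAodd : Odd (Nat.card A) := by
        have h1 : (T : Subgroup K).subgroupOf (Subgroup.normalizer ((T : Subgroup K) : Set K)) ≤
            (act (T : Subgroup K)).ker := by
          intro n hn
          rw [MonoidHom.mem_ker]
          apply MulEquiv.ext
          intro e
          apply Subtype.ext
          have hnT : (n : K) ∈ (T : Subgroup K) := Subgroup.mem_subgroupOf.1 hn
          rw [act_apply, MulAut.one_apply, hab n hnT e e.2]
          group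
        have h2 : Nat.card A = (act (T : Subgroup K)).ker.index := by
          rw [Subgroup.index_ker]
        rw [h2]
        have h3 : (act (T : Subgroup K)).ker.index ∣
            ((T : Subgroup K).subgroupOf (Subgroup.normalizer ((T : Subgroup K) : Set K))).index :=
          Subgroup.index_dvd_of_le h1
        have h4 : Odd ((T : Subgroup K).subgroupOf (Subgroup.normalizer ((T : Subgroup K) : Set K))).index := by
          have h5 : (T : Subgroup K).relIndex (Subgroup.normalizer ((T : Subgroup K) : Set K)) ∣
              (T : Subgroup K).index := Subgroup.relIndex_dvd_index_of_le Subgroup.le_normalizer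
          have h6 : Odd (T : Subgroup K).index := by
            rw [← Nat.not_even_iff_odd, even_iff_two_dvd]
            exact T.not_dvd_index
          exact Odd.of_dvd_nat h6 h5
        exact Odd.of_dvd_nat h4 h3
      have hAdvd : Nat.card A ∣ 168 := hc168 ▸ A.card_subgroup_dvd_card
      -- `7 ∣ |A|`
      have h7 : 7 ∣ Nat.card A := by
        by_contra h7
        -- then `|A|` is 1 or 3
        have h3 : Nat.card A ∣ 3 := by
          have h1 : Nat.card A ∣ 168 := hAdvd
          have h2 : (Nat.card A).Coprime 56 := by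
            rw [show (56 : ℕ) = 2 ^ 3 * 7 by norm_num]
            exact Nat.Coprime.mul_right (Nat.Coprime.pow_right 3 (Nat.coprime_two_right.mpr hAodd))
              ((Nat.Prime.coprime_iff_not_dvd (by norm_num)).2 h7).symm
          rw [show (168 : ℕ) = 56 * 3 by norm_num] at h1
          exact h2.dvd_of_dvd_mul_left h1
        have hp3 : IsPGroup 3 A := by
          rcases (Nat.dvd_prime Nat.prime_three).1 h3 with h | h
          · exact IsPGroup.of_card (n := 0) (by rw [h]; rfl)
          · exact IsPGroup.of_card (n := 1) (by rw [h]; rfl)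
        have : Fact (Nat.Prime 3) := ⟨Nat.prime_three⟩
        have hmod := hp3.card_modEq_card_fixedPoints (T : Subgroup K)
        rw [h8'] at hmod
        -- a nontrivial fixed point
        have h1 : Nat.card (MulAction.fixedPoints A (T : Subgroup K)) ≠ 1 := by
          intro h
          rw [h] at hmod
          revert hmod
          decide
        have hone : (1 : (T : Subgroup K)) ∈ MulAction.fixedPoints A (T : Subgroup K) := by
          intro a
          exact map_one (a : MulAut (T : Subgroup K))
        obtain ⟨x, hx, hx1⟩ : ∃ x ∈ MulAction.fixedPoints A (T : Subgroup K), x ≠ 1 := by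
          by_contra hcon
          push Not at hcon
          apply h1
          rw [Nat.card_eq_one_iff_unique]
          refine ⟨⟨fun a b => Subtype.ext ((hcon a a.2).trans (hcon b b.2).symm)⟩, ⟨⟨1, hone⟩⟩⟩
        apply hx1
        apply Subtype.ext
        apply eq_one_of_central_normalizer hK T hab x.2
        intro n hn
        have h2 := hx ⟨act (T : Subgroup K) ⟨n, hn⟩, ⟨n, hn⟩, rfl⟩
        have h3 : n * (x : K) * n⁻¹ = x := congrArg Subtype.val h2
        rw [mul_inv_eq_iff_eq_mul] at h3
        exact h3
      -- index of `A`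
      have hidx : A.index ∣ 2 ^ 3 * 3 ^ 1 := by
        have h1 := A.card_mul_index
        rw [hc168] at h1
        obtain ⟨k, hk⟩ := h7
        rw [hk, show (168 : ℕ) = 7 * 24 by norm_num, mul_assoc] at h1
        have h2 := Nat.eq_of_mul_eq_mul_left (by norm_num : 0 < 7) h1
        exact ⟨k, by rw [show (2 : ℕ) ^ 3 * 3 ^ 1 = 24 by norm_num, ← h2, mul_comm]⟩
      exact tr_of_card_mulAut hD T hT hT Subgroup.le_normalizer Nat.prime_two Nat.prime_three hidx
    · -- abelian, not elementary: squares
      push Not at hexp
      obtain ⟨a, ha, ha2⟩ := hexp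
      set B : Subgroup K := Subgroup.closure {x : K | ∃ a ∈ (T : Subgroup K), x = a * a} with hB
      have hBinv : Inv D B := inv_squares hT
      have hBT : B ≤ (T : Subgroup K) := by
        rw [hB, Subgroup.closure_le]
        rintro _ ⟨b, hb, rfl⟩
        exact mul_mem hb hb
      have hdvd : Nat.card B ∣ 8 := h8' ▸ Subgroup.card_dvd_of_le hBT
      have h1 : Nat.card B ≠ 1 := by
        intro h
        rw [Subgroup.card_eq_one] at h
        apply ha2
        have : a * a ∈ B := Subgroup.subset_closure ⟨a, ha, rfl⟩
        rwa [h, Subgroup.mem_bot] at this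
      -- squaring is not injective, so `B ≠ T`
      have h2 : Nat.card B ≠ 8 := by
        intro h
        have hBeq : B = (T : Subgroup K) := Subgroup.eq_of_le_of_card_ge hBT (by rw [h, h8'])
        let _ : CommGroup (T : Subgroup K) := { (inferInstance : Group (T : Subgroup K)) with
          mul_comm := fun a b => Subtype.ext (hab a a.2 b b.2) }
        let f : (T : Subgroup K) →* (T : Subgroup K) := powMonoidHom 2
        have hsurj : Function.Surjective f := by
          have h3 : (f.range).map (T : Subgroup K).subtype = (T : Subgroup K) := by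
            apply le_antisymm (Subgroup.map_subtype_le _)
            conv_lhs => rw [← hBeq]
            rw [hB, Subgroup.closure_le]
            rintro _ ⟨b, hb, rfl⟩
            refine ⟨⟨b * b, mul_mem hb hb⟩, ⟨⟨b, hb⟩, ?_⟩, rfl⟩
            apply Subtype.ext
            show ((⟨b, hb⟩ : (T : Subgroup K)) ^ 2 : (T : Subgroup K)).1 = b * b
            rw [pow_two]
            rfl
          intro y
          have h4 : (y : K) ∈ (f.range).map (T : Subgroup K).subtype := by rw [h3]; exact y.2
          obtain ⟨z, ⟨w, rfl⟩, hz⟩ := h4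
          exact ⟨w, Subtype.ext hz⟩
        have hinj : Function.Injective f := Finite.injective_iff_surjective.2 hsurj
        -- but there is an involution
        have : Fact (Nat.Prime 2) := ⟨Nat.prime_two⟩
        obtain ⟨u, hu⟩ := exists_prime_orderOf_dvd_card' (G := (T : Subgroup K)) 2
          (by rw [h8']; norm_num)
        have h5 : f u = f 1 := by
          show u ^ 2 = 1 ^ 2
          have h7 := pow_orderOf_eq_one u
          rw [hu] at h7
          rw [one_pow]
          exact h7
        have h6 := hinj h5
        rw [h6, orderOf_one] at hu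
        norm_num at hu
      have h3 : Nat.card B = 2 ∨ Nat.card B = 4 := by
        have h4 : Nat.card B ∈ Nat.divisors 8 := Nat.mem_divisors.2 ⟨hdvd, by norm_num⟩
        have h5 : Nat.divisors 8 = {1, 2, 4, 8} := by decide
        rw [h5] at h4
        simp only [Finset.mem_insert, Finset.mem_singleton] at h4
        tauto
      have h4 : B.relIndex (T : Subgroup K) ≤ 4 := by
        have h5 := card_mul_relIndex hBT
        rw [h8'] at h5
        rcases h3 with h | h <;> rw [h] at h5 <;> omega
      exact tr_of_card_index hD hT hBinv (by rcases h3 with h | h <;> omega) h4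
  · -- non-abelian: the centre
    push Not at hab
    obtain ⟨a, ha, b, hb, hne⟩ := hab
    set B : Subgroup K := (T : Subgroup K) ⊓ Subgroup.centralizer ((T : Subgroup K) : Set K) with hB
    have hBinv : Inv D B := hT.center
    have hBT : B ≤ (T : Subgroup K) := inf_le_left
    have hdvd : Nat.card B ∣ 8 := h8' ▸ Subgroup.card_dvd_of_le hBT
    have h2 : Nat.card B ≠ 8 := by
      intro h
      have hBeq : B = (T : Subgroup K) := Subgroup.eq_of_le_of_card_ge hBT (by rw [h, h8'])
      have h3 : a ∈ B := by rw [hBeq]; exact ha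
      exact hne ((Subgroup.mem_centralizer_iff.1 h3.2 b hb).symm)
    have h1 : Nat.card B ≠ 1 := by
      intro h
      have : Fact (Nat.Prime 2) := ⟨Nat.prime_two⟩
      have hnt : Nontrivial (T : Subgroup K) := ⟨⟨⟨a, ha⟩, ⟨b, hb⟩, fun h => hne (by
        have h' : a = b := congrArg Subtype.val h
        rw [h'])⟩⟩
      have h3 := T.2.center_nontrivial
      obtain ⟨z, hz⟩ := exists_ne (1 : Subgroup.center (T : Subgroup K))
      apply hz
      apply Subtype.ext
      apply Subtype.ext
      have h4 : ((z : (T : Subgroup K)) : K) ∈ B := by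
        refine Subgroup.mem_inf.2 ⟨(z : (T : Subgroup K)).2, ?_⟩
        rw [Subgroup.mem_centralizer_iff]
        intro x hx
        exact congrArg Subtype.val (Subgroup.mem_center_iff.1 z.2 ⟨x, hx⟩)
      rw [Subgroup.card_eq_one] at h
      rw [h, Subgroup.mem_bot] at h4
      exact h4
    have h3 : Nat.card B = 2 ∨ Nat.card B = 4 := by
      have h4 : Nat.card B ∈ Nat.divisors 8 := Nat.mem_divisors.2 ⟨hdvd, by norm_num⟩
      have h5 : Nat.divisors 8 = {1, 2, 4, 8} := by decide
      rw [h5] at h4
      simp only [Finset.mem_insert, Finset.mem_singleton] at h4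
      tauto
    have h4 : B.relIndex (T : Subgroup K) ≤ 4 := by
      have h5 := card_mul_relIndex hBT
      rw [h8'] at h5
      rcases h3 with h | h <;> rw [h] at h5 <;> omega
    exact tr_of_card_index hD hT hBinv (by rcases h3 with h | h <;> omega) h4

end Cfsg.Agent.Schreier.SmallSylow
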