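import Mathlib
import Cfsg.Agent.Schreier.Basic
import Cfsg.Agent.Schreier.Tools

/-!
# Schreier property from an explicit group of automorphisms (classical groups)
-/

set_option autoImplicit false

namespace Cfsg.Agent.Schreier.ClassBase

open Cfsg.Agent.Schreier.Basic Cfsg.Agent.Schreier.Tools

open scoped commutatorElement

/-- A perfect subgroup lies in every subgroup of index at most 4. -/
theorem le_of_index_le_four {A : Type*} [Group A] {C : Subgroup A} (hC : ⁅C, C⁆ = C) (S : Subgroup A)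
    (h0 : S.index ≠ 0) (h4 : S.index ≤ 4) : C ≤ S := by
  have hfin : Finite (A ⧸ S) := Nat.finite_of_card_ne_zero h0
  intro c hc
  have h1 := perm_eq_one hC (α := A ⧸ S) h4 ((MulAction.toPermHom A (A ⧸ S)).comp C.subtype)
    ⟨c, hc⟩ (QuotientGroup.mk 1)
  have h2 : (QuotientGroup.mk (c * 1) : A ⧸ S) = QuotientGroup.mk 1 := h1
  rw [QuotientGroup.eq, mul_one, mul_one] at h2
  exact inv_mem_iff.1 h2

/-- A perfect subgroup of the range of `f` lies in the image of every derived subgroup. -/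
theorem le_map_derivedSeries {A B : Type*} [Group A] [Group B] (f : A →* B) {C : Subgroup B}
    (hC : ⁅C, C⁆ = C) (h : C ≤ f.range) (k : ℕ) : C ≤ (derivedSeries A k).map f := by
  induction k with
  | zero =>
    rw [derivedSeries_zero, ← MonoidHom.range_eq_map]
    exact h
  | succ k ih =>
    rw [derivedSeries_succ, Subgroup.map_commutator, ← hC]
    exact Subgroup.commutator_mono ih ih

/-- **Chain criterion.** -/
theorem sch_of_derived {K A : Type*} [Group K] [Group A] (f : A →* MulAut K)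
    (h0 : f.range.index ≠ 0) (h4 : f.range.index ≤ 4) (k : ℕ)
    (hk : (derivedSeries A k).map f ≤ (MulAut.conj : K →* MulAut K).range) : Sch K :=
  fun _ hC => (le_map_derivedSeries f hC (le_of_index_le_four hC _ h0 h4) k).trans hk

/-- The automorphism group of a finite field is commutative. -/
theorem ringAut_comm {F : Type*} [Field F] [Finite F] (σ τ : F ≃+* F) : σ * τ = τ * σ := by
  obtain ⟨p, hp⟩ := CharP.exists F
  have hprime : Fact p.Prime := ⟨CharP.char_is_prime F p⟩
  let _ : Algebra (ZMod p) F := ZMod.algebra F p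
  have hcyc : IsCyclic (F ≃ₐ[ZMod p] F) := inferInstance
  have key : ∀ σ : F ≃+* F, ∃ s : F ≃ₐ[ZMod p] F, ∀ x, s x = σ x := by
    intro σ
    refine ⟨AlgEquiv.ofRingEquiv (f := σ) ?_, fun x => rfl⟩
    intro x
    have h1 : (σ : F →+* F).comp (algebraMap (ZMod p) F) = algebraMap (ZMod p) F :=
      Subsingleton.elim _ _
    exact RingHom.congr_fun h1 x
  obtain ⟨s, hs⟩ := key σ
  obtain ⟨t, ht⟩ := key τ
  have hc : s * t = t * s := by
    obtain ⟨g, hg⟩ := hcyc
    obtain ⟨a, rfl⟩ := Subgroup.mem_zpowers_iff.1 (hg s)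
    obtain ⟨b, rfl⟩ := Subgroup.mem_zpowers_iff.1 (hg t)
    rw [← zpow_add, ← zpow_add, add_comm]
  ext x
  have h1 : σ (τ x) = s (t x) := by rw [ht, hs]
  have h2 : τ (σ x) = t (s x) := by rw [ht, hs]
  show σ (τ x) = τ (σ x)
  rw [h1, h2]
  exact DFunLike.congr_fun hc x

/-- **Product criterion**: every automorphism is `L (a * f)` with `a` in `N` and `f` in a commuting family of
elements normalising `N`, and commutators of `N` act by inner automorphisms. -/
theorem sch_of_product {K B : Type*} [Group K] [Group B] (L : B →* MulAut K) (N : Subgroup B) (F : Set B)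
    (hF : ∀ f ∈ F, ∀ x ∈ N, f * x * f⁻¹ ∈ N) (hc : ∀ f ∈ F, ∀ g ∈ F, f * g = g * f)
    (hall : ∀ α : MulAut K, ∃ a ∈ N, ∃ f ∈ F, α = L (a * f))
    (hN : ∀ a ∈ N, ∀ b ∈ N, L ⁅a, b⁆ ∈ (MulAut.conj : K →* MulAut K).range) : Sch K := by
  intro C hC
  have h1 : ⁅(⊤ : Subgroup (MulAut K)), (⊤ : Subgroup (MulAut K))⁆ ≤ N.map L := by
    rw [Subgroup.commutator_le]
    intro α _ β _
    obtain ⟨a, ha, f, hf, rfl⟩ := hall α
    obtain ⟨b, hb, g, hg, rfl⟩ := hall β
    rw [← map_commutatorElement]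
    refine ⟨_, ?_, rfl⟩
    have h2 : ⁅a * f, b * g⁆ = a * (f * b * f⁻¹) * (g * a⁻¹ * g⁻¹) * b⁻¹ := by
      have h3 : f * g * f⁻¹ = g := by rw [hc f hf g hg, mul_inv_cancel_right]
      calc ⁅a * f, b * g⁆ = a * (f * b * f⁻¹) * (f * g * f⁻¹) * a⁻¹ * g⁻¹ * b⁻¹ := by
            rw [commutatorElement_def]; group
        _ = _ := by rw [h3]; group
    rw [h2]
    exact N.mul_mem (N.mul_mem (N.mul_mem ha (hF f hf b hb)) (hF g hg _ (N.inv_mem ha))) (N.inv_mem hb)
  have h2 : C ≤ N.map L := by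
    rw [← hC]
    exact (Subgroup.commutator_mono le_top le_top).trans h1
  rw [← hC]
  refine (Subgroup.commutator_mono h2 h2).trans ?_
  rw [← Subgroup.map_commutator, Subgroup.map_le_iff_le_comap, Subgroup.commutator_le]
  intro a ha b hb
  exact hN a ha b hb

end Cfsg.Agent.Schreier.ClassBase
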