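import Mathlib
import Cfsg.Agent.Schreier.ClassBase
import Cfsg.Agent.ClassicalGeometry.AutPSL.Main

/-!
# The Schreier property of `PSL n F`
-/

set_option autoImplicit false

namespace Cfsg.Agent.Schreier.ClassPSL

open Matrix Cfsg.Agent.Schreier.Basic Cfsg.Agent.Schreier.ClassBase

open scoped commutatorElement
open Cfsg.Agent.ClassicalGeometry.AutPSL.Root Cfsg.Agent.ClassicalGeometry.AutPSL.Auto
  Cfsg.Agent.ClassicalGeometry.AutPSL.Main

section general

variable {ι F : Type*} [Fintype ι] [DecidableEq ι] [Field F]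

theorem fld_mul_cj (σ : F ≃+* F) (A : GL ι F) :
    (fld σ * cj A : MulAut (Matrix.SpecialLinearGroup ι F)) =
      cj (Matrix.GeneralLinearGroup.map (σ : F →+* F) A) * fld σ := by
  apply MulEquiv.ext
  intro g
  apply Subtype.ext
  have h1 : ((Matrix.GeneralLinearGroup.map (σ : F →+* F) A)⁻¹ : GL ι F) =
      Matrix.GeneralLinearGroup.map (σ : F →+* F) A⁻¹ := (map_inv _ _).symm
  rw [MulAut.mul_apply, MulAut.mul_apply, coe_cj, h1]
  change ((A : Matrix ι ι F) * g.1 * ((A⁻¹ : GL ι F) : Matrix ι ι F)).map (σ : F →+* F) =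
    (A : Matrix ι ι F).map (σ : F →+* F) * g.1.map (σ : F →+* F) *
      ((A⁻¹ : GL ι F) : Matrix ι ι F).map (σ : F →+* F)
  rw [Matrix.map_mul, Matrix.map_mul]

/-- The contragredient. -/
def ctr (A : GL ι F) : GL ι F :=
  ⟨((A⁻¹ : GL ι F) : Matrix ι ι F)ᵀ, (A : Matrix ι ι F)ᵀ, by
    rw [← transpose_mul, ← Units.val_mul, mul_inv_cancel, Units.val_one, transpose_one], by
    rw [← transpose_mul, ← Units.val_mul, inv_mul_cancel, Units.val_one, transpose_one]⟩

theorem itr_mul_cj (A : GL ι F) :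
    (itr * cj A : MulAut (Matrix.SpecialLinearGroup ι F)) = cj (ctr A) * itr := by
  apply MulEquiv.ext
  intro g
  apply Subtype.ext
  rw [MulAut.mul_apply, MulAut.mul_apply, coe_cj, coe_itr, coe_itr, ← map_inv, coe_cj,
    transpose_mul, transpose_mul, ← mul_assoc]
  rfl

theorem itr_mul_fld (σ : F ≃+* F) :
    (itr * fld σ : MulAut (Matrix.SpecialLinearGroup ι F)) = fld σ * itr := by
  apply MulEquiv.ext
  intro g
  apply Subtype.ext
  ext i j
  rw [MulAut.mul_apply, MulAut.mul_apply, coe_itr, ← map_inv, coe_fld_apply, coe_itr]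
  rfl

theorem fld_comm [Finite F] (σ τ : F ≃+* F) :
    (fld σ * fld τ : MulAut (Matrix.SpecialLinearGroup ι F)) = fld τ * fld σ := by
  rw [← map_mul, ← map_mul, ringAut_comm]

theorem cj_norm_fld (σ : F ≃+* F) {x : MulAut (Matrix.SpecialLinearGroup ι F)}
    (hx : x ∈ (cj : GL ι F →* MulAut (Matrix.SpecialLinearGroup ι F)).range) :
    fld σ * x * (fld σ)⁻¹ ∈ (cj : GL ι F →* MulAut (Matrix.SpecialLinearGroup ι F)).range := by
  obtain ⟨A, rfl⟩ := hx
  exact ⟨_, by rw [fld_mul_cj, mul_inv_cancel_right]⟩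

theorem cj_norm_itr {x : MulAut (Matrix.SpecialLinearGroup ι F)}
    (hx : x ∈ (cj : GL ι F →* MulAut (Matrix.SpecialLinearGroup ι F)).range) :
    itr * x * itr⁻¹ ∈ (cj : GL ι F →* MulAut (Matrix.SpecialLinearGroup ι F)).range := by
  obtain ⟨A, rfl⟩ := hx
  exact ⟨_, by rw [itr_mul_cj, mul_inv_cancel_right]⟩

/-- Commutators of elements of `GL` induce inner automorphisms. -/
theorem lift_commutator (a b : MulAut (Matrix.SpecialLinearGroup ι F))
    (ha : a ∈ (cj : GL ι F →* MulAut (Matrix.SpecialLinearGroup ι F)).range)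
    (hb : b ∈ (cj : GL ι F →* MulAut (Matrix.SpecialLinearGroup ι F)).range) :
    lift ⁅a, b⁆ ∈ (MulAut.conj : Matrix.ProjectiveSpecialLinearGroup ι F →*
      MulAut (Matrix.ProjectiveSpecialLinearGroup ι F)).range := by
  obtain ⟨A, rfl⟩ := ha
  obtain ⟨B, rfl⟩ := hb
  rw [← map_commutatorElement]
  have hdet : ((⁅A, B⁆ : GL ι F) : Matrix ι ι F).det = 1 := by
    have h1 : Matrix.GeneralLinearGroup.det ⁅A, B⁆ = 1 := by
      rw [map_commutatorElement, commutatorElement_eq_one_iff_mul_comm, mul_comm]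
    have h2 := congrArg Units.val h1
    rwa [Matrix.GeneralLinearGroup.val_det_apply, Units.val_one] at h2
  let s : Matrix.SpecialLinearGroup ι F := ⟨_, hdet⟩
  refine ⟨pr s, ?_⟩
  apply MulEquiv.ext
  intro x
  obtain ⟨x, rfl⟩ := pr_surjective x
  rw [lift_pr, MulAut.conj_apply, ← map_inv, ← map_mul, ← map_mul]
  congr 1
  apply Subtype.ext
  rw [coe_cj]
  have hinv : (s⁻¹ : Matrix.SpecialLinearGroup ι F).1 = ((⁅A, B⁆⁻¹ : GL ι F) : Matrix ι ι F) := by
    have h1 : (s * s⁻¹ : Matrix.SpecialLinearGroup ι F).1 = 1 := by rw [mul_inv_cancel]; rfl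
    have h2 : ((⁅A, B⁆ : GL ι F) : Matrix ι ι F) * (s⁻¹ : Matrix.SpecialLinearGroup ι F).1 = 1 := h1
    have h3 : ((⁅A, B⁆⁻¹ : GL ι F) : Matrix ι ι F) * ((⁅A, B⁆ : GL ι F) : Matrix ι ι F) = 1 := by
      rw [← Units.val_mul, inv_mul_cancel, Units.val_one]
    calc (s⁻¹ : Matrix.SpecialLinearGroup ι F).1
        = (((⁅A, B⁆⁻¹ : GL ι F) : Matrix ι ι F) * ((⁅A, B⁆ : GL ι F) : Matrix ι ι F)) *
          (s⁻¹ : Matrix.SpecialLinearGroup ι F).1 := by rw [h3, one_mul]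
      _ = _ := by rw [mul_assoc, h2, mul_one]
  change s.1 * x.1 * (s⁻¹ : Matrix.SpecialLinearGroup ι F).1 = _
  rw [hinv]

end general

variable {F : Type*} [Field F] [Finite F] {n : ℕ}

/-- `PSL n F` has the Schreier property. -/
theorem sch (hn : 2 ≤ n) : Sch (Matrix.ProjectiveSpecialLinearGroup (Fin n) F) := by
  have := Fintype.ofFinite F
  obtain ⟨p, hp⟩ := CharP.exists F
  have hprime : Fact p.Prime := ⟨CharP.char_is_prime F p⟩
  refine sch_of_product lift cj.range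
    {x | ∃ σ : F ≃+* F, x = fld σ ∨ x = fld σ * itr} ?_ ?_ ?_ ?_
  · rintro f ⟨σ, rfl | rfl⟩ x hx
    · exact cj_norm_fld σ hx
    · have h1 : fld σ * itr * x * (fld σ * itr)⁻¹ = fld σ * (itr * x * itr⁻¹) * (fld σ)⁻¹ := by
        group
      rw [h1]
      exact cj_norm_fld σ (cj_norm_itr hx)
  · have hff := fun σ τ : F ≃+* F => fld_comm (ι := Fin n) σ τ
    have hif := fun σ : F ≃+* F => itr_mul_fld (ι := Fin n) σ
    rintro f ⟨σ, rfl | rfl⟩ g ⟨τ, rfl | rfl⟩
    · exact hff σ τ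
    · rw [← mul_assoc, hff, mul_assoc, mul_assoc, hif]
    · rw [mul_assoc, hif, ← mul_assoc, hff, mul_assoc]
    · rw [mul_assoc, ← mul_assoc itr, hif, mul_assoc, ← mul_assoc, hff, mul_assoc (fld τ) itr,
        ← mul_assoc itr, hif]
      simp only [mul_assoc]
  · intro α
    rcases Nat.lt_or_ge n 3 with h | h
    · obtain rfl : n = 2 := by omega
      obtain ⟨A, σ, hA⟩ := surj_two p α
      exact ⟨_, ⟨A, rfl⟩, _, ⟨σ, Or.inl rfl⟩, hA⟩
    · rcases surj_three p h α with ⟨A, σ, hA⟩ | ⟨A, σ, hA⟩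
      · exact ⟨_, ⟨A, rfl⟩, _, ⟨σ, Or.inl rfl⟩, hA⟩
      · exact ⟨_, ⟨A, rfl⟩, _, ⟨σ, Or.inr rfl⟩, by rw [hA, mul_assoc]⟩
  · exact fun a ha b hb => lift_commutator a b ha hb

end Cfsg.Agent.Schreier.ClassPSL
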