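import Mathlib
import Cfsg.Agent.Schreier.ClassBase
import Cfsg.Agent.AutOrth.Final

/-!
# The Schreier property of the simple orthogonal groups
-/

set_option autoImplicit false

namespace Cfsg.Agent.Schreier.ClassPOmega

open Cfsg.Agent.Schreier.Basic Cfsg.Agent.Schreier.ClassBase
open QuadraticMap Cfsg.Agent.LieClassical.OrthCore Cfsg.Agent.LieClassical.OrthTrans
  Cfsg.Agent.LieClassical.OrthSimple Cfsg.Agent.LieClassical.OrthForms
  Cfsg.Agent.ClassicalGeometry.OrthSemi Cfsg.Agent.ClassicalGeometry.OrthSemiForms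

open scoped commutatorElement

section general

variable {F V : Type*} [Field F] [AddCommGroup V] [Module F V] {Q : QuadraticForm F V}

theorem IsSS.comm [Finite F] {g h : Equiv.Perm V} {φ ψ : F ≃+* F} {l k : F} (hg : IsSS Q φ l g)
    (hh : IsSS Q ψ k h) :
    IsSS Q (RingEquiv.refl F) (l * φ k * ψ l⁻¹ * k⁻¹) (g * h * g⁻¹ * h⁻¹) := by
  have h1 := ((hg.mul hh).mul hg.inv).mul hh.inv
  have hc : ∀ x, φ (ψ x) = ψ (φ x) := fun x => DFunLike.congr_fun (ringAut_comm φ ψ) x
  have h2 : ψ.symm.trans (φ.symm.trans (ψ.trans φ)) = RingEquiv.refl F := by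
    ext x
    change φ (ψ (φ.symm (ψ.symm x))) = x
    rw [hc, RingEquiv.apply_symm_apply, RingEquiv.apply_symm_apply]
  rw [h2] at h1
  have h3 : l * φ k * (ψ.trans φ) (φ.symm l⁻¹) * (φ.symm.trans (ψ.trans φ)) (ψ.symm k⁻¹) =
      l * φ k * ψ l⁻¹ * k⁻¹ := by
    change l * φ k * φ (ψ (φ.symm l⁻¹)) * φ (ψ (φ.symm (ψ.symm k⁻¹))) = l * φ k * ψ l⁻¹ * k⁻¹
    rw [hc, hc, RingEquiv.apply_symm_apply, RingEquiv.apply_symm_apply, RingEquiv.apply_symm_apply]
  rwa [h3] at h1

/-- Similitudes. -/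
def sim (Q : QuadraticForm F V) : Subgroup (Gam Q) where
  carrier := {g | ∃ l : F, IsSS Q (RingEquiv.refl F) l g.1}
  mul_mem' := by
    rintro g h ⟨l, hg⟩ ⟨k, hh⟩
    exact ⟨l * k, hg.mul hh⟩
  one_mem' := ⟨1, one_ne_zero, fun _ _ => rfl, fun _ _ => rfl, fun _ => by
    rw [one_mul]; rfl⟩
  inv_mem' := by
    rintro g ⟨l, hg⟩
    exact ⟨l⁻¹, hg.inv⟩

/-- Isometries. -/
def isom (Q : QuadraticForm F V) : Subgroup (Gam Q) where
  carrier := {g | IsSS Q (RingEquiv.refl F) 1 g.1}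
  mul_mem' := by
    intro g h hg hh
    have := hg.mul hh
    change IsSS Q (RingEquiv.refl F) (1 * 1) (g.1 * h.1) at this
    rwa [mul_one] at this
  one_mem' := ⟨one_ne_zero, fun _ _ => rfl, fun _ _ => rfl, fun _ => by
    rw [one_mul]; rfl⟩
  inv_mem' := by
    intro g hg
    have := hg.inv
    change IsSS Q (RingEquiv.refl F) (1⁻¹) (g.1)⁻¹ at this
    rwa [inv_one] at this

theorem derived_one [Finite F] : derivedSeries (Gam Q) 1 ≤ sim Q := by
  rw [derivedSeries_succ, Subgroup.commutator_le]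
  rintro ⟨g, φ, l, hg⟩ _ ⟨h, ψ, k, hh⟩ _
  exact ⟨l * φ k * ψ l⁻¹ * k⁻¹, IsSS.comm hg hh⟩

theorem derived_two [Finite F] : derivedSeries (Gam Q) 2 ≤ isom Q := by
  rw [derivedSeries_succ]
  refine (Subgroup.commutator_mono derived_one derived_one).trans ?_
  rw [Subgroup.commutator_le]
  rintro ⟨g, hg0⟩ ⟨l, hg⟩ ⟨h, hh0⟩ ⟨k, hh⟩
  have h1 := IsSS.comm hg hh
  have hl := hg.ne
  have hk := hh.ne
  have h2 : l * (RingEquiv.refl F) k * (RingEquiv.refl F) l⁻¹ * k⁻¹ = 1 := by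
    change l * k * l⁻¹ * k⁻¹ = 1
    field_simp
  rw [h2] at h1
  exact h1

/-- An isometry as a linear map. -/
theorem exists_lin {g : Gam Q} (hg : g ∈ isom Q) : ∃ n : V ≃ₗ[F] V, n ∈ O Q ∧ ∀ v, g.1 v = n v := by
  have hg' : IsSS Q (RingEquiv.refl F) 1 g.1 := hg
  refine ⟨
    { toFun := g.1
      invFun := g.1.symm
      map_add' := hg'.add
      map_smul' := fun t v => hg'.smul t v
      left_inv := g.1.left_inv
      right_inv := g.1.right_inv }, ?_, fun v => rfl⟩
  intro v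
  change Q (g.1 v) = Q v
  rw [hg'.form, one_mul]
  rfl

theorem Psi_E {M : Gam Q} {h : V ≃ₗ[F] V} (hh : h ∈ E Q) (hM : ∀ v, M.1 v = h v) :
    Psi Q M ∈ (MulAut.conj : ↥(E Q) ⧸ Subgroup.center ↥(E Q) →* _).range := by
  refine ⟨QuotientGroup.mk ⟨h, hh⟩, ?_⟩
  apply MulEquiv.ext
  intro x
  obtain ⟨k, rfl⟩ := QuotientGroup.mk_surjective x
  rw [Psi_mk, MulAut.conj_apply, ← QuotientGroup.mk_inv, ← QuotientGroup.mk_mul, ← QuotientGroup.mk_mul]
  congr 1
  apply Subtype.ext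
  rw [coe_conjE]
  apply LinearEquiv.ext
  intro v
  obtain ⟨w, rfl⟩ := M.1.surjective v
  rw [conjLin_apply', hM, hM]
  change h (k.1 (h.symm (h w))) = h (k.1 w)
  rw [LinearEquiv.symm_apply_apply]

theorem derived_three [Finite F] [FiniteDimensional F V] (hG : Good Q) :
    (derivedSeries (Gam Q) 3).map (Psi Q) ≤
      (MulAut.conj : ↥(E Q) ⧸ Subgroup.center ↥(E Q) →* _).range := by
  rw [Subgroup.map_le_iff_le_comap, derivedSeries_succ]
  refine (Subgroup.commutator_mono derived_two derived_two).trans ?_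
  rw [Subgroup.commutator_le]
  intro g hg h hh
  obtain ⟨m, hm, hgm⟩ := exists_lin hg
  obtain ⟨n, hn, hhn⟩ := exists_lin hh
  refine Psi_E (h := ⁅m, n⁆) (hG.commutator_le_E (Subgroup.commutator_mem_commutator hm hn)) ?_
  intro v
  have hgi : ∀ v, g.1⁻¹ v = m.symm v := by
    intro v
    apply g.1.injective
    rw [apply_inv, hgm, LinearEquiv.apply_symm_apply]
  have hhi : ∀ v, h.1⁻¹ v = n.symm v := by
    intro v
    apply h.1.injective
    rw [apply_inv, hhn, LinearEquiv.apply_symm_apply]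
  change g.1 (h.1 (g.1⁻¹ (h.1⁻¹ v))) = m (n (m.symm (n.symm v)))
  rw [hgm, hhn, hgi, hhi]

theorem sch_of_index [Finite F] [FiniteDimensional F V] (hG : Good Q) (h0 : (Psi Q).range.index ≠ 0)
    (h4 : (Psi Q).range.index ≤ 4) : Sch (↥(E Q) ⧸ Subgroup.center ↥(E Q)) :=
  sch_of_derived (Psi Q) h0 h4 3 (derived_three hG)

theorem sch_of_surjective [Finite F] [FiniteDimensional F V] (hG : Good Q)
    (hs : Function.Surjective (Psi Q)) : Sch (↥(E Q) ⧸ Subgroup.center ↥(E Q)) := by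
  apply sch_of_index hG <;> rw [MonoidHom.range_eq_top.2 hs, Subgroup.index_top] <;> norm_num

end general

variable {F : Type*} [Field F] [Finite F]

/-- `POmega` of an odd-dimensional form has the Schreier property. -/
theorem sch_odd {m : ℕ} (hm : 3 ≤ m) (h2 : (2 : F) ≠ 0) :
    Sch (Cfsg.POmega F (Cfsg.quadFormOdd m F)) := by
  have := Fintype.ofFinite F
  have hG := good_odd (F := F) (m := m) (by omega) h2
  have h1 := sch_of_surjective hG (Cfsg.Agent.AutOrth.Final.surjective_odd hm h2)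
  have h3 := Sch.of_equiv (pomegaEquiv hG).symm h1
  rwa [coe_oddForm] at h3

/-- `POmega` of a form of plus type has the Schreier property. -/
theorem sch_plus {m : ℕ} (hm : 4 ≤ m) : Sch (Cfsg.POmega F (Cfsg.quadFormPlus m F)) := by
  have := Fintype.ofFinite F
  have hG := good_plus (F := F) (m := m) (by omega)
  have h1 : Sch (↥(E (plusForm m F)) ⧸ Subgroup.center ↥(E (plusForm m F))) := by
    by_cases h : m = 4
    · subst h
      apply sch_of_index hG <;> rw [Cfsg.Agent.AutOrth.Final.index_plus_four] <;> norm_num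
    · exact sch_of_surjective hG (Cfsg.Agent.AutOrth.Final.surjective_plus (by omega))
  have h3 := Sch.of_equiv (pomegaEquiv hG).symm h1
  rwa [coe_plusForm] at h3

/-- `POmega` of a form of minus type has the Schreier property. -/
theorem sch_minus {m : ℕ} (hm : 4 ≤ m) (a b : F)
    (hab : ∀ z₁ z₂ : F, z₁ ^ 2 + a * z₁ * z₂ + b * z₂ ^ 2 = 0 → z₁ = 0 ∧ z₂ = 0) :
    Sch (Cfsg.POmega F (Cfsg.quadFormMinus (m - 1) F a b)) := by
  have := Fintype.ofFinite F
  have hG := good_minus (F := F) (m := m - 1) (by omega) a b hab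
  have h1 := sch_of_surjective hG (Cfsg.Agent.AutOrth.Final.surjective_minus (by omega) hab)
  have h3 := Sch.of_equiv (pomegaEquiv hG).symm h1
  rwa [coe_minusForm] at h3

end Cfsg.Agent.Schreier.ClassPOmega
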