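import Mathlib
import Cfsg.Agent.Schreier.Crit
import Cfsg.Agent.Schreier.Tools2
import Cfsg.Agent.Lib.FrattiniPGroup

/-!
# The Schreier property of simple groups with the Sylow 2-subgroup `UT₅(2)`

`Rel x`: ten involutions `x 0, ..., x 9` satisfying the commutator relations of the root elements
`12, 23, 34, 45, 13, 24, 35, 14, 25, 15` of the group of upper unitriangular `5 × 5` matrices over
the field with two elements, `x 9 ≠ 1`.

* `Rel.card_ge`, `Rel.isPGroup`: the group generated by them is a 2-group of order at least 1024;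
* `Rel.tr`: a perfect group of automorphisms normalising it centralises it (flag
  `T > C_T([T,T,T]) > [T,T]`);
* `sch_of_utfive`.
-/

set_option autoImplicit false

namespace Cfsg.Agent.Schreier.UTFive

open Cfsg.Agent.Schreier.Basic Cfsg.Agent.Schreier.Tools Cfsg.Agent.Schreier.Tools2

/-- The commutator table: `12, 23, 34, 45, 13, 24, 35, 14, 25, 15`. -/
def cm : Fin 10 → Fin 10 → Option (Fin 10)
  | 0, 1 => some 4 | 1, 0 => some 4
  | 1, 2 => some 5 | 2, 1 => some 5
  | 2, 3 => some 6 | 3, 2 => some 6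
  | 0, 5 => some 7 | 5, 0 => some 7
  | 4, 2 => some 7 | 2, 4 => some 7
  | 1, 6 => some 8 | 6, 1 => some 8
  | 5, 3 => some 8 | 3, 5 => some 8
  | 0, 8 => some 9 | 8, 0 => some 9
  | 4, 6 => some 9 | 6, 4 => some 9
  | 7, 3 => some 9 | 3, 7 => some 9
  | _, _ => none

/-- The relations of `UT₅(2)`. -/
structure Rel {K : Type*} [Group K] (x : Fin 10 → K) : Prop where
  sq : ∀ i, x i * x i = 1
  comm : ∀ i j, cm i j = none → x i * x j = x j * x i
  rel : ∀ i j k, cm i j = some k → x i * x j = x k * (x j * x i)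
  ne : x 9 ≠ 1

section General

variable {K : Type*} [Group K]

theorem mem_normalizer_of {A : Subgroup K} {g : K} (h : ∀ a ∈ A, g * a * g⁻¹ ∈ A)
    (h' : ∀ a ∈ A, g⁻¹ * a * g ∈ A) : g ∈ Subgroup.normalizer (A : Set K) := by
  rw [Subgroup.mem_normalizer_iff]
  intro a
  refine ⟨fun ha => h a ha, fun ha => ?_⟩
  have := h' _ ha
  have e : g⁻¹ * (g * a * g⁻¹) * g = a := by group
  rwa [e] at this

/-- The extension of a subgroup by a normalising element of square in it. -/
def ext2 (A : Subgroup K) (x : K) (hn : x ∈ Subgroup.normalizer (A : Set K)) (hx : x * x ∈ A) :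
    Subgroup K where
  carrier := {g | g ∈ A ∨ g * x ∈ A}
  one_mem' := Or.inl (one_mem A)
  mul_mem' := by
    rintro g h hg hh
    have hc : ∀ a ∈ A, x * a * x⁻¹ ∈ A := fun a ha => (Subgroup.mem_normalizer_iff.1 hn a).1 ha
    have hc' : ∀ a ∈ A, x⁻¹ * a * x ∈ A := fun a ha => by
      refine (Subgroup.mem_normalizer_iff.1 hn _).2 ?_
      have e : x * (x⁻¹ * a * x) * x⁻¹ = a := by group
      rw [e]; exact ha
    rcases hg with hg | hg <;> rcases hh with hh | hh
    · exact Or.inl (mul_mem hg hh)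
    · refine Or.inr ?_
      have e : g * h * x = g * (h * x) := by group
      rw [e]; exact mul_mem hg hh
    · refine Or.inr ?_
      have e : g * h * x = (g * x) * (x⁻¹ * h * x) := by group
      rw [e]; exact mul_mem hg (hc' h hh)
    · refine Or.inl ?_
      have e : g * h = (g * x) * (x⁻¹ * (h * x) * x) * (x * x)⁻¹ := by group
      rw [e]; exact mul_mem (mul_mem hg (hc' _ hh)) (inv_mem hx)
  inv_mem' := by
    rintro g hg
    have hc' : ∀ a ∈ A, x⁻¹ * a * x ∈ A := fun a ha => by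
      refine (Subgroup.mem_normalizer_iff.1 hn _).2 ?_
      have e : x * (x⁻¹ * a * x) * x⁻¹ = a := by group
      rw [e]; exact ha
    rcases hg with hg | hg
    · exact Or.inl (inv_mem hg)
    · refine Or.inr ?_
      have e : g⁻¹ * x = x * (g * x)⁻¹ * x⁻¹ * (x * x) := by group
      rw [e]
      exact mul_mem ((Subgroup.mem_normalizer_iff.1 hn _).1 (inv_mem hg)) hx

theorem mem_ext2 {A : Subgroup K} {x : K} {hn : x ∈ Subgroup.normalizer (A : Set K)}
    {hx : x * x ∈ A} {g : K} : g ∈ ext2 A x hn hx ↔ g ∈ A ∨ g * x ∈ A := Iff.rfl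

theorem le_ext2 {A : Subgroup K} {x : K} (hn : x ∈ Subgroup.normalizer (A : Set K))
    (hx : x * x ∈ A) : A ≤ ext2 A x hn hx := fun _ h => Or.inl h

theorem self_mem_ext2 {A : Subgroup K} {x : K} (hn : x ∈ Subgroup.normalizer (A : Set K))
    (hx : x * x ∈ A) : x ∈ ext2 A x hn hx := Or.inr hx

theorem isPGroup_ext2 {A : Subgroup K} {x : K} (hn : x ∈ Subgroup.normalizer (A : Set K))
    (hx : x * x ∈ A) (hA : IsPGroup 2 A) : IsPGroup 2 (ext2 A x hn hx) := by
  rintro ⟨g, hg⟩
  have h2 : g * g ∈ A := by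
    rcases hg with hg | hg
    · exact mul_mem hg hg
    · have e : g * g = (g * x) * (x⁻¹ * (g * x) * x) * (x * x)⁻¹ := by group
      rw [e]
      refine mul_mem (mul_mem hg ?_) (inv_mem hx)
      refine (Subgroup.mem_normalizer_iff.1 hn _).2 ?_
      have e : x * (x⁻¹ * (g * x) * x) * x⁻¹ = g * x := by group
      rw [e]; exact hg
  obtain ⟨k, hk⟩ := hA ⟨g * g, h2⟩
  refine ⟨k + 1, Subtype.ext ?_⟩
  have := congrArg Subtype.val hk
  rw [Subgroup.coe_pow, Subgroup.coe_one] at this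
  show g ^ 2 ^ (k + 1) = 1
  rw [pow_succ, mul_comm, pow_mul, sq]
  exact this

theorem relIndex_ext2_le [Finite K] {A : Subgroup K} {x : K}
    (hn : x ∈ Subgroup.normalizer (A : Set K)) (hx : x * x ∈ A) :
    A.relIndex (ext2 A x hn hx) ≤ 2 := by
  rcases Classical.em (x ∈ A) with h | h
  · have : ext2 A x hn hx ≤ A := by
      rintro g (hg | hg)
      · exact hg
      · have := mul_mem hg (inv_mem h)
        rwa [mul_inv_cancel_right] at this
    rw [Subgroup.relIndex_eq_one.2 this]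
    norm_num
  · have : A.relIndex (ext2 A x hn hx) = 2 := by
      rw [Subgroup.relIndex, Subgroup.index_eq_two_iff]
      refine ⟨⟨x, Or.inr hx⟩, ?_⟩
      rintro ⟨g, hg⟩
      rw [Subgroup.mem_subgroupOf, Subgroup.mem_subgroupOf]
      show Xor' (g * x ∈ A) (g ∈ A)
      rcases hg with hg | hg
      · refine Or.inr ⟨hg, fun h' => h ?_⟩
        have := mul_mem (inv_mem hg) h'
        rwa [inv_mul_cancel_left] at this
      · refine Or.inl ⟨hg, fun h' => h ?_⟩
        have := mul_mem (inv_mem h') hg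
        rwa [inv_mul_cancel_left] at this
    rw [this]

theorem two_mul_card_le [Finite K] {A B : Subgroup K} (h : A ≤ B) {x : K} (hx : x ∈ B)
    (hx' : x ∉ A) : 2 * Nat.card A ≤ Nat.card B := by
  obtain ⟨k, hk⟩ := Subgroup.card_dvd_of_le h
  have h1 : k ≠ 0 := by
    rintro rfl
    have : 0 < Nat.card B := Nat.card_pos
    omega
  have h2 : k ≠ 1 := by
    rintro rfl
    rw [mul_one] at hk
    exact hx' ((Subgroup.eq_of_le_of_card_ge h hk.le) ▸ hx)
  have h3 : 2 ≤ k := by omega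
  rw [hk, mul_comm]
  exact Nat.mul_le_mul_left _ h3

/-- Commutators of closures. -/
theorem comm_mem {N : Subgroup K} {X Y : Set K} (hX : ∀ a ∈ X, a ∈ Subgroup.normalizer (N : Set K))
    (hY : ∀ b ∈ Y, b ∈ Subgroup.normalizer (N : Set K))
    (h : ∀ a ∈ X, ∀ b ∈ Y, a * b * a⁻¹ * b⁻¹ ∈ N) :
    ∀ a ∈ Subgroup.closure X, ∀ b ∈ Subgroup.closure Y, a * b * a⁻¹ * b⁻¹ ∈ N := by
  have hXc : ∀ a ∈ Subgroup.closure X, a ∈ Subgroup.normalizer (N : Set K) := by
    intro a ha
    exact ((Subgroup.closure_le _).2 fun y hy => hX y hy) ha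
  have hYc : ∀ a ∈ Subgroup.closure Y, a ∈ Subgroup.normalizer (N : Set K) := by
    intro a ha
    exact ((Subgroup.closure_le _).2 fun y hy => hY y hy) ha
  have hcj : ∀ {g : K}, g ∈ Subgroup.normalizer (N : Set K) → ∀ n ∈ N, g * n * g⁻¹ ∈ N :=
    fun hg n hn => (Subgroup.mem_normalizer_iff.1 hg n).1 hn
  have h1 : ∀ a ∈ Subgroup.closure X, ∀ b ∈ Y, a * b * a⁻¹ * b⁻¹ ∈ N := by
    intro a ha b hb
    refine Subgroup.closure_induction (p := fun a _ => a * b * a⁻¹ * b⁻¹ ∈ N) ?_ ?_ ?_ ?_ ha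
    · exact fun a ha => h a ha b hb
    · simp [one_mem]
    · intro a a' ha _ h2 h3
      have e : (a * a') * b * (a * a')⁻¹ * b⁻¹ =
          (a * (a' * b * a'⁻¹ * b⁻¹) * a⁻¹) * (a * b * a⁻¹ * b⁻¹) := by group
      rw [e]
      exact mul_mem (hcj (hXc a ha) _ h3) h2
    · intro a ha h2
      have e : a⁻¹ * b * a⁻¹⁻¹ * b⁻¹ = a⁻¹ * (a * b * a⁻¹ * b⁻¹)⁻¹ * a⁻¹⁻¹ := by group
      rw [e]
      exact hcj (inv_mem (hXc a ha)) _ (inv_mem h2)
  intro a ha b hb
  refine Subgroup.closure_induction (p := fun b _ => a * b * a⁻¹ * b⁻¹ ∈ N) ?_ ?_ ?_ ?_ hb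
  · exact fun b hb => h1 a ha b hb
  · simp [one_mem]
  · intro b b' hb _ h2 h3
    have e : a * (b * b') * a⁻¹ * (b * b')⁻¹ =
        (a * b * a⁻¹ * b⁻¹) * (b * (a * b' * a⁻¹ * b'⁻¹) * b⁻¹) := by group
    rw [e]
    exact mul_mem h2 (hcj (hYc b hb) _ h3)
  · intro b hb h2
    have e : a * b⁻¹ * a⁻¹ * b⁻¹⁻¹ = b⁻¹ * (a * b * a⁻¹ * b⁻¹)⁻¹ * b⁻¹⁻¹ := by group
    rw [e]
    exact hcj (inv_mem (hYc b hb)) _ (inv_mem h2)

end General

section Gen

variable {K : Type*} [Group K] {x : Fin 10 → K}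

/-- The subgroup generated by the root elements in `S`. -/
def Sb (x : Fin 10 → K) (S : Finset (Fin 10)) : Subgroup K := Subgroup.closure (x '' S)

theorem mem_Sb {S : Finset (Fin 10)} {i : Fin 10} (h : i ∈ S) : x i ∈ Sb x S :=
  Subgroup.subset_closure ⟨i, h, rfl⟩

theorem Sb_le {S : Finset (Fin 10)} {B : Subgroup K} (h : ∀ i ∈ S, x i ∈ B) : Sb x S ≤ B := by
  refine (Subgroup.closure_le _).2 ?_
  rintro _ ⟨i, hi, rfl⟩
  exact h i hi

theorem Sb_mono {S S' : Finset (Fin 10)} (h : S ⊆ S') : Sb x S ≤ Sb x S' :=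
  Sb_le fun _ hi => mem_Sb (h hi)

namespace Rel

variable (h : Rel x)

include h

theorem inv_eq (i : Fin 10) : (x i)⁻¹ = x i := inv_eq_of_mul_eq_one_left (h.sq i)

theorem conj_eq (i j : Fin 10) : x i * x j * (x i)⁻¹ = match cm i j with
    | none => x j
    | some k => x k * x j := by
  cases hc : cm i j with
  | none => simp only []; rw [h.comm i j hc, mul_inv_cancel_right]
  | some k => simp only []; rw [h.rel i j k hc]; group

theorem comm_eq (i j : Fin 10) : x i * x j * (x i)⁻¹ * (x j)⁻¹ = match cm i j with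
    | none => 1
    | some k => x k := by
  rw [h.conj_eq]
  cases hc : cm i j with
  | none => simp only []; rw [mul_inv_cancel]
  | some k => simp only []; rw [mul_inv_cancel_right]

/-- `x i` normalises `Sb x S` (decidable condition). -/
theorem nrm (i : Fin 10) (S : Finset (Fin 10)) (hS : ∀ s ∈ S, ∀ k, cm i s = some k → k ∈ S) :
    x i ∈ Subgroup.normalizer (Sb x S : Set K) := by
  have key : ∀ a ∈ Sb x S, x i * a * (x i)⁻¹ ∈ Sb x S := by
    intro a ha
    have h1 : Sb x S ≤ (Sb x S).comap (MulAut.conj (x i)).toMonoidHom := by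
      refine Sb_le fun s hs => ?_
      show x i * x s * (x i)⁻¹ ∈ Sb x S
      rw [h.conj_eq]
      cases hc : cm i s with
      | none => exact mem_Sb hs
      | some k => exact mul_mem (mem_Sb (hS s hs k hc)) (mem_Sb hs)
    exact h1 ha
  refine mem_normalizer_of key ?_
  intro a ha
  have := key a ha
  rw [h.inv_eq] at this ⊢
  exact this

theorem nrm_Sb (S S' : Finset (Fin 10)) (hS : ∀ i ∈ S', ∀ s ∈ S, ∀ k, cm i s = some k → k ∈ S) :
    Sb x S' ≤ Subgroup.normalizer (Sb x S : Set K) :=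
  Sb_le fun i hi => h.nrm i S (hS i hi)

theorem sq_mem (i : Fin 10) (A : Subgroup K) : x i * x i ∈ A := by
  rw [h.sq]; exact one_mem A

/-- `x i` centralises `Sb x S`. -/
theorem cen (i : Fin 10) (S : Finset (Fin 10)) (hS : ∀ s ∈ S, cm i s = none) :
    Sb x S ≤ Subgroup.centralizer ({x i} : Set K) := by
  refine Sb_le fun s hs => ?_
  rw [Subgroup.mem_centralizer_singleton_iff]
  exact (h.comm i s (hS s hs)).symm

theorem insert_eq (i : Fin 10) (S : Finset (Fin 10))
    (hS : ∀ s ∈ S, ∀ k, cm i s = some k → k ∈ S) :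
    Sb x (insert i S) = ext2 (Sb x S) (x i) (h.nrm i S hS) (h.sq_mem i _) := by
  apply le_antisymm
  · refine Sb_le fun j hj => ?_
    rcases Finset.mem_insert.1 hj with rfl | hj
    · exact self_mem_ext2 _ _
    · exact le_ext2 _ _ (mem_Sb hj)
  · rintro g (hg | hg)
    · exact Sb_mono (Finset.subset_insert i S) hg
    · have h1 : x i ∈ Sb x (insert i S) := mem_Sb (Finset.mem_insert_self i S)
      have h2 := mul_mem (Sb_mono (x := x) (Finset.subset_insert i S) hg) (inv_mem h1)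
      rwa [mul_inv_cancel_right] at h2

theorem pgroup_insert (i : Fin 10) (S : Finset (Fin 10))
    (hS : ∀ s ∈ S, ∀ k, cm i s = some k → k ∈ S) (hp : IsPGroup 2 (Sb x S)) :
    IsPGroup 2 (Sb x (insert i S)) := by
  rw [h.insert_eq i S hS]
  exact isPGroup_ext2 _ _ hp

theorem relIndex_insert [Finite K] (i : Fin 10) (S : Finset (Fin 10))
    (hS : ∀ s ∈ S, ∀ k, cm i s = some k → k ∈ S) :
    (Sb x S).relIndex (Sb x (insert i S)) ≤ 2 := by
  rw [h.insert_eq i S hS]
  exact relIndex_ext2_le _ _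

theorem isPGroup : IsPGroup 2 (Sb x Finset.univ) := by
  have h0 : IsPGroup 2 (Sb x ∅) := by
    have : Sb x ∅ = ⊥ := by
      rw [eq_bot_iff]; exact Sb_le fun i hi => absurd hi (Finset.notMem_empty i)
    rw [this]; exact IsPGroup.of_bot
  have h1 := h.pgroup_insert 9 _ (by decide) h0
  have h2 := h.pgroup_insert 8 _ (by decide) h1
  have h3 := h.pgroup_insert 7 _ (by decide) h2
  have h4 := h.pgroup_insert 6 _ (by decide) h3
  have h5 := h.pgroup_insert 5 _ (by decide) h4
  have h6 := h.pgroup_insert 4 _ (by decide) h5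
  have h7 := h.pgroup_insert 3 _ (by decide) h6
  have h8 := h.pgroup_insert 2 _ (by decide) h7
  have h9 := h.pgroup_insert 1 _ (by decide) h8
  have h10 := h.pgroup_insert 0 _ (by decide) h9
  have e : (insert 0 (insert 1 (insert 2 (insert 3 (insert 4 (insert 5 (insert 6 (insert 7
    (insert 8 (insert 9 (∅ : Finset (Fin 10)))))))))))) = Finset.univ := by decide
  rw [e] at h10
  exact h10

/-- Two root elements with a nontrivial commutator do not commute. -/
theorem not_comm (i j k : Fin 10) (hc : cm i j = some k) (hk : x k ≠ 1) : x i * x j ≠ x j * x i := by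
  intro h'
  apply hk
  have := h.rel i j k hc
  rw [h'] at this
  exact (mul_eq_right.1 this.symm)

theorem ne14 : x 7 ≠ 1 := by
  intro h'
  have := h.rel 7 3 9 (by decide)
  rw [h', one_mul, mul_one] at this
  exact h.ne (mul_eq_right.1 this.symm)

theorem ne25 : x 8 ≠ 1 := by
  intro h'
  have := h.rel 0 8 9 (by decide)
  rw [h', one_mul, mul_one] at this
  exact h.ne (mul_eq_right.1 this.symm)

theorem notMem_of_cen (i j k : Fin 10) (S : Finset (Fin 10)) (hS : ∀ s ∈ S, cm i s = none)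
    (hc : cm i j = some k) (hk : x k ≠ 1) : x j ∉ Sb x S := by
  intro hj
  have := h.cen i S hS hj
  rw [Subgroup.mem_centralizer_singleton_iff] at this
  exact h.not_comm i j k hc hk this.symm

theorem notMem_of_nrm (j e c : Fin 10) (E S : Finset (Fin 10))
    (hES : ∀ i ∈ S, ∀ s ∈ E, ∀ k, cm i s = some k → k ∈ E) (he : e ∈ E)
    (hc : cm j e = some c) (hcE : x c ∉ Sb x E) : x j ∉ Sb x S := by
  intro hj
  have h1 := h.nrm_Sb E S hES hj
  have h2 := (Subgroup.mem_normalizer_iff.1 h1 _).1 (mem_Sb (x := x) he)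
  rw [h.conj_eq, hc] at h2
  apply hcE
  have := mul_mem h2 (inv_mem (mem_Sb (x := x) he))
  rwa [mul_inv_cancel_right] at this

theorem card_insert [Finite K] (i : Fin 10) (S : Finset (Fin 10)) (hi : x i ∉ Sb x S) {n : ℕ}
    (hn : n ≤ Nat.card (Sb x S)) : 2 * n ≤ Nat.card (Sb x (insert i S)) :=
  (Nat.mul_le_mul_left 2 hn).trans (two_mul_card_le (Sb_mono (Finset.subset_insert i S))
    (mem_Sb (Finset.mem_insert_self i S)) hi)

theorem card_ge [Finite K] : 1024 ≤ Nat.card (Sb x Finset.univ) := by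
  have h0 : 1 ≤ Nat.card (Sb x ∅) := Nat.card_pos
  have b : Sb x ∅ = ⊥ := by
    rw [eq_bot_iff]; exact Sb_le fun i hi => absurd hi (Finset.notMem_empty i)
  -- 15
  have h1 := h.card_insert 9 _ (by rw [b, Subgroup.mem_bot]; exact h.ne) h0
  -- 14 : `C(45)`
  have h2 := h.card_insert 7 _ (h.notMem_of_cen 3 7 9 {9} (by decide) (by decide) h.ne) h1
  -- 25 : `C(12)`
  have h3 := h.card_insert 8 _ (h.notMem_of_cen 0 8 9 {7, 9} (by decide) (by decide) h.ne) h2
  -- 13 : `C(34)`
  have h4 := h.card_insert 4 _ (h.notMem_of_cen 2 4 7 {8, 7, 9} (by decide) (by decide) h.ne14) h3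
  -- 35 : `C(23)`
  have h5 := h.card_insert 6 _
    (h.notMem_of_cen 1 6 8 {4, 8, 7, 9} (by decide) (by decide) h.ne25) h4
  -- 24 : `N(<12, 15>)`
  have n14 : x 7 ∉ Sb x {0, 9} := by
    intro h7
    -- elements of `<12, 15>`: `1, 12, 15, 12 15`; `14` does not commute with `45`
    have e1 := h.insert_eq 0 {9} (by decide)
    rw [show ({0, 9} : Finset (Fin 10)) = insert 0 {9} from rfl, e1] at h7
    have e2 : ∀ g ∈ Sb x {9}, g = 1 ∨ g = x 9 := by
      intro g hg
      have : Sb x {9} = Subgroup.zpowers (x 9) := by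
        unfold Sb
        rw [Finset.coe_singleton, Set.image_singleton, Subgroup.zpowers_eq_closure]
      rw [this] at hg
      obtain ⟨k, rfl⟩ := Subgroup.mem_zpowers_iff.1 hg
      rcases Int.even_or_odd k with ⟨l, rfl⟩ | ⟨l, rfl⟩
      · left
        rw [← two_mul, zpow_mul, zpow_ofNat, pow_two, h.sq, one_zpow]
      · right
        rw [zpow_add, zpow_mul, zpow_ofNat, pow_two, h.sq, one_zpow, one_mul, zpow_one]
    have c39 := h.comm 3 9 (by decide)
    have nc := h.not_comm 3 7 9 (by decide) h.ne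
    rcases h7 with h7 | h7
    · rcases e2 _ h7 with h8 | h8
      · exact h.ne14 h8
      · exact nc (by rw [h8]; exact c39)
    · -- `14 * 12 = 1` or `15`: then `25` commutes with `12`
      have c87 := h.comm 8 7 (by decide)
      have c89 := h.comm 8 9 (by decide)
      have nc' := h.not_comm 8 0 9 (by decide) h.ne
      apply nc'
      have h9 : x 8 * (x 7 * x 0) = (x 7 * x 0) * x 8 := by
        rcases e2 _ h7 with h8 | h8
        · rw [h8, mul_one, one_mul]
        · rw [h8]; exact c89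
      rw [← mul_assoc, c87, mul_assoc, mul_assoc] at h9
      exact mul_left_cancel h9
  have h6 := h.card_insert 5 _ (h.notMem_of_nrm 5 0 7 {0, 9} {6, 4, 8, 7, 9} (by decide) (by decide)
    (by decide) n14) h5
  -- 34 : `N(<45, 25, 15>)`
  have n35 : x 6 ∉ Sb x {3, 8, 9} :=
    h.notMem_of_cen 1 6 8 {3, 8, 9} (by decide) (by decide) h.ne25
  have h7 := h.card_insert 2 _ (h.notMem_of_nrm 2 3 6 {3, 8, 9} {5, 6, 4, 8, 7, 9} (by decide)
    (by decide) (by decide) n35) h6
  -- 23 : `N(<12, 14, 15>)`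
  have n13 : x 4 ∉ Sb x {0, 7, 9} :=
    h.notMem_of_cen 2 4 7 {0, 7, 9} (by decide) (by decide) h.ne14
  have h8 := h.card_insert 1 _ (h.notMem_of_nrm 1 0 4 {0, 7, 9} {2, 5, 6, 4, 8, 7, 9} (by decide)
    (by decide) (by decide) n13) h7
  -- 12 : `C(25)`
  have h9 := h.card_insert 0 _ (h.notMem_of_cen 8 0 9 {1, 2, 5, 6, 4, 8, 7, 9} (by decide)
    (by decide) h.ne) h8
  -- 45 : `C(14)`
  have h10 := h.card_insert 3 _ (h.notMem_of_cen 7 3 9 {0, 1, 2, 5, 6, 4, 8, 7, 9} (by decide)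
    (by decide) h.ne) h9
  have e : (insert 3 ({0, 1, 2, 5, 6, 4, 8, 7, 9} : Finset (Fin 10))) = Finset.univ := by decide
  have h10' : 1024 ≤ Nat.card (Sb x (insert 3 ({0, 1, 2, 5, 6, 4, 8, 7, 9} : Finset (Fin 10)))) :=
    h10
  rw [e] at h10'
  exact h10'

/-- `[T, T] ≤ <13, 24, 35, ...>`. -/
theorem commutator_le : ⁅Sb x Finset.univ, Sb x Finset.univ⁆ ≤ Sb x {4, 5, 6, 7, 8, 9} := by
  rw [Subgroup.commutator_le]
  intro a ha b hb
  rw [commutatorElement_def]
  refine comm_mem (X := x '' (Finset.univ : Finset (Fin 10)))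
    (Y := x '' (Finset.univ : Finset (Fin 10))) ?_ ?_ ?_ a ha b hb
  · rintro _ ⟨i, _, rfl⟩
    revert i
    intro i _
    exact h.nrm i _ (by revert i; decide)
  · rintro _ ⟨i, _, rfl⟩
    exact h.nrm i _ (by revert i; decide)
  · rintro _ ⟨i, _, rfl⟩ _ ⟨j, _, rfl⟩
    rw [h.comm_eq]
    cases hc : cm i j with
    | none => exact one_mem _
    | some k => exact mem_Sb (by revert i j k; decide)

/-- `[T, T, T] ≤ <14, 25, 15>`. -/
theorem commutator_le' :
    ⁅⁅Sb x Finset.univ, Sb x Finset.univ⁆, Sb x Finset.univ⁆ ≤ Sb x {7, 8, 9} := by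
  refine (Subgroup.commutator_mono h.commutator_le le_rfl).trans ?_
  rw [Subgroup.commutator_le]
  intro a ha b hb
  rw [commutatorElement_def]
  refine comm_mem (X := x '' ({4, 5, 6, 7, 8, 9} : Finset (Fin 10)))
    (Y := x '' (Finset.univ : Finset (Fin 10))) ?_ ?_ ?_ a ha b hb
  · rintro _ ⟨i, _, rfl⟩
    exact h.nrm i _ (by revert i; decide)
  · rintro _ ⟨i, _, rfl⟩
    exact h.nrm i _ (by revert i; decide)
  · rintro _ ⟨i, hi, rfl⟩ _ ⟨j, _, rfl⟩
    rw [h.comm_eq]
    cases hc : cm i j with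
    | none => exact one_mem _
    | some k => exact mem_Sb (by revert i j k; decide)

theorem mem_comm (i j k : Fin 10) (A B : Subgroup K) (hc : cm i j = some k) (hi : x i ∈ A)
    (hj : x j ∈ B) : x k ∈ ⁅A, B⁆ := by
  have := Subgroup.commutator_mem_commutator hi hj
  rw [commutatorElement_def, h.comm_eq, hc] at this
  exact this

/-- `<13, 24, 35, ...> ≤ [T, T]`. -/
theorem le_commutator : Sb x {4, 5, 6, 7, 8, 9} ≤ ⁅Sb x Finset.univ, Sb x Finset.univ⁆ := by
  have hu : ∀ i, x i ∈ Sb x Finset.univ := fun i => mem_Sb (Finset.mem_univ i)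
  refine Sb_le fun i hi => ?_
  fin_cases hi
  · exact h.mem_comm 0 1 4 _ _ (by decide) (hu _) (hu _)
  · exact h.mem_comm 1 2 5 _ _ (by decide) (hu _) (hu _)
  · exact h.mem_comm 2 3 6 _ _ (by decide) (hu _) (hu _)
  · exact h.mem_comm 0 5 7 _ _ (by decide) (hu _) (hu _)
  · exact h.mem_comm 1 6 8 _ _ (by decide) (hu _) (hu _)
  · exact h.mem_comm 0 8 9 _ _ (by decide) (hu _) (hu _)

/-- **A perfect group of automorphisms normalising `T` centralises it.** -/
theorem tr [Finite K] {D : Subgroup (MulAut K)} (hD : ⁅D, D⁆ = D)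
    (hT : Inv D (Sb x Finset.univ)) : Tr D (Sb x Finset.univ) := by
  set T := Sb x Finset.univ with hTdef
  set M' := Sb x {1, 2, 4, 5, 6, 7, 8, 9} with hM'
  set B' := Sb x {4, 5, 6, 7, 8, 9} with hB'
  set M1 := T ⊓ Subgroup.centralizer ((⁅⁅T, T⁆, T⁆ : Subgroup K) : Set K) with hM1
  have hu : ∀ i, x i ∈ T := fun i => mem_Sb (Finset.mem_univ i)
  have hM'T : M' ≤ T := Sb_mono (Finset.subset_univ _)
  have hp : IsPGroup 2 T := h.isPGroup
  have hTn : Group.IsNilpotent T := hp.isNilpotent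
  -- `M' ≤ M1`
  have h1 : M' ≤ M1 := by
    refine le_inf hM'T ?_
    have h2 : M' ≤ Subgroup.centralizer (Sb x {7, 8, 9} : Set K) := by
      rw [Subgroup.le_centralizer_iff]
      refine Sb_le fun j hj => ?_
      rw [Subgroup.mem_centralizer_iff]
      intro m hm
      have : M' ≤ Subgroup.centralizer ({x j} : Set K) :=
        h.cen j _ (by revert j; decide)
      exact (Subgroup.mem_centralizer_singleton_iff.1 (this hm))
    exact h2.trans (Subgroup.centralizer_le (h.commutator_le'))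
  -- `M1 ≤ M'`
  have c7 : x 7 ∈ ⁅⁅T, T⁆, T⁆ :=
    h.mem_comm 4 2 7 _ _ (by decide) (h.mem_comm 0 1 4 _ _ (by decide) (hu _) (hu _)) (hu _)
  have c8 : x 8 ∈ ⁅⁅T, T⁆, T⁆ :=
    h.mem_comm 6 1 8 _ _ (by decide) (h.mem_comm 2 3 6 _ _ (by decide) (hu _) (hu _)) (hu _)
  have e9 := h.insert_eq 0 {1, 2, 4, 5, 6, 7, 8, 9} (by decide)
  have e10 := h.insert_eq 3 (insert 0 {1, 2, 4, 5, 6, 7, 8, 9}) (by decide)
  have eT : T = Sb x (insert 3 (insert 0 {1, 2, 4, 5, 6, 7, 8, 9})) := by
    rw [hTdef]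
    exact congrArg (Sb x) (by decide)
  have hc7 : M' ≤ Subgroup.centralizer ({x 7} : Set K) := h.cen 7 _ (by decide)
  have hc8 : M' ≤ Subgroup.centralizer ({x 8} : Set K) := h.cen 8 _ (by decide)
  have h2 : M1 ≤ M' := by
    rintro g ⟨hg, hgc⟩
    have g7 : g ∈ Subgroup.centralizer ({x 7} : Set K) :=
      Subgroup.mem_centralizer_singleton_iff.2 ((Subgroup.mem_centralizer_iff.1 hgc _ c7).symm)
    have g8 : g ∈ Subgroup.centralizer ({x 8} : Set K) :=
      Subgroup.mem_centralizer_singleton_iff.2 ((Subgroup.mem_centralizer_iff.1 hgc _ c8).symm)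
    have n07 : x 0 ∈ Subgroup.centralizer ({x 7} : Set K) :=
      Subgroup.mem_centralizer_singleton_iff.2 (h.comm 0 7 (by decide))
    have n38 : x 3 ∈ Subgroup.centralizer ({x 8} : Set K) :=
      Subgroup.mem_centralizer_singleton_iff.2 (h.comm 3 8 (by decide))
    have n08 : x 0 ∉ Subgroup.centralizer ({x 8} : Set K) := fun h' =>
      h.not_comm 0 8 9 (by decide) h.ne (Subgroup.mem_centralizer_singleton_iff.1 h')
    have n37 : x 3 ∉ Subgroup.centralizer ({x 7} : Set K) := fun h' =>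
      h.not_comm 3 7 9 (by decide) h.ne (Subgroup.mem_centralizer_singleton_iff.1 h')
    rw [SetLike.mem_coe, eT, e10] at hg
    have h9 : Sb x (insert 0 {1, 2, 4, 5, 6, 7, 8, 9}) ≤ Subgroup.centralizer ({x 7} : Set K) :=
      h.cen 7 _ (by decide)
    rcases hg with hg | hg
    · rw [e9] at hg
      rcases hg with hg | hg
      · exact hg
      · exfalso
        apply n08
        have := mul_mem (inv_mem g8) (hc8 hg)
        rwa [inv_mul_cancel_left] at this
    · exfalso
      apply n37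
      have := mul_mem (inv_mem g7) (h9 hg)
      rwa [inv_mul_cancel_left] at this
  have h3 : M1 = M' := le_antisymm h2 h1
  -- indices
  have i1 : M'.relIndex T ≤ 4 := by
    have a1 := h.relIndex_insert 0 {1, 2, 4, 5, 6, 7, 8, 9} (by decide)
    have a2 := h.relIndex_insert 3 (insert 0 {1, 2, 4, 5, 6, 7, 8, 9}) (by decide)
    rw [← eT] at a2
    have a3 := Subgroup.relIndex_mul_relIndex M' (Sb x (insert 0 {1, 2, 4, 5, 6, 7, 8, 9})) T
      (Sb_mono (Finset.subset_insert _ _)) (by rw [eT]; exact Sb_mono (Finset.subset_insert _ _))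
    rw [← a3]
    calc _ ≤ 2 * 2 := Nat.mul_le_mul a1 a2
      _ = 4 := rfl
  have eM : M' = Sb x (insert 1 (insert 2 {4, 5, 6, 7, 8, 9})) := rfl
  have i2 : B'.relIndex M' ≤ 4 := by
    have a1 := h.relIndex_insert 2 {4, 5, 6, 7, 8, 9} (by decide)
    have a2 := h.relIndex_insert 1 (insert 2 {4, 5, 6, 7, 8, 9}) (by decide)
    have a3 := Subgroup.relIndex_mul_relIndex B' (Sb x (insert 2 {4, 5, 6, 7, 8, 9})) M'
      (Sb_mono (Finset.subset_insert _ _)) (Sb_mono (Finset.subset_insert _ _))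
    rw [← a3]
    calc _ ≤ 2 * 2 := Nat.mul_le_mul a1 a2
      _ = 4 := rfl
  have hB : ⁅T, T⁆ = B' := le_antisymm h.commutator_le h.le_commutator
  have hI1 : Inv D M1 := hT.inf ((hT.commutator hT).commutator hT).centralizer
  have hI2 : Inv D ⁅T, T⁆ := hT.commutator hT
  have t1 : TrMod D T M1 := trMod_of_relIndex_le_four hD hT hI1
    (Nat.card_pos (α := T ⧸ M1.subgroupOf T)).ne' (by rw [h3]; exact i1)
  have t2 : TrMod D M1 ⁅T, T⁆ := trMod_of_relIndex_le_four hD hI1 hI2
    (Nat.card_pos (α := M1 ⧸ (⁅T, T⁆ : Subgroup K).subgroupOf M1)).ne' (by rw [h3, hB]; exact i2)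
  have hpM : IsPGroup 2 M1 := hp.to_le inf_le_left
  have hMn : Group.IsNilpotent M1 := hpM.isNilpotent
  have t3 : TrMod D T ⁅T, T⁆ := TrMod.trans hD (by
    intro a ha c hc
    have hn : Sb x Finset.univ ≤ Subgroup.normalizer (Sb x {4, 5, 6, 7, 8, 9} : Set K) :=
      h.nrm_Sb _ _ (by decide)
    rw [hB] at hc ⊢
    exact (Subgroup.mem_normalizer_iff.1 (hn ha) c).1 hc) inf_le_left inferInstance t1 t2
  refine tr_of_frattini hD hp hT ?_ t3
  have : ⁅T, T⁆ = (commutator T).map T.subtype := by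
    rw [commutator_def, Subgroup.map_commutator, ← MonoidHom.range_eq_map, Subgroup.range_subtype]
  rw [this]
  exact Subgroup.map_mono (Cfsg.Agent.Lib.FrattiniPGroup.commutator_le_frattini hp)

/-- The Sylow 2-subgroup. -/
theorem exists_sylow [Finite K] {m : ℕ} (hm : Odd m) (hcard : Nat.card K = 2 ^ 10 * m) :
    ∃ T : Sylow 2 K, (T : Subgroup K) = Sb x Finset.univ := by
  have : Fact (Nat.Prime 2) := ⟨Nat.prime_two⟩
  obtain ⟨k, hk⟩ := IsPGroup.iff_card.1 h.isPGroup
  have h1 : 2 ^ k ∣ 2 ^ 10 * m := by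
    rw [← hk, ← hcard]; exact Subgroup.card_subgroup_dvd_card _
  have h2 : k ≤ 10 := by
    have hco : Nat.Coprime (2 ^ k) m := Nat.Coprime.pow_left _ (Nat.coprime_two_left.2 hm)
    exact (Nat.pow_dvd_pow_iff_le_right (by norm_num)).1 (hco.dvd_of_dvd_mul_right h1)
  have h3 : 10 ≤ k := by
    have := h.card_ge
    rw [hk] at this
    exact (Nat.pow_le_pow_iff_right (by norm_num)).1 (show 2 ^ 10 ≤ 2 ^ k by simpa using this)
  have h4 : k = 10 := le_antisymm h2 h3
  subst h4
  refine ⟨Sylow.ofCard (Sb x Finset.univ) ?_, rfl⟩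
  rw [hk, hcard]
  congr 1
  have hm0 : m ≠ 0 := by rintro rfl; exact absurd hm (by decide)
  rw [Nat.factorization_mul (by norm_num) hm0, Nat.Prime.factorization_pow Nat.prime_two]
  have : m.factorization 2 = 0 := Nat.factorization_eq_zero_of_not_dvd (by
    rw [← even_iff_two_dvd, Nat.not_even_iff_odd]; exact hm)
  simp [this]

end Rel

end Gen

/-- **The Schreier property for simple groups with Sylow 2-subgroup `UT₅(2)`.** -/
theorem sch_of_utfive {K : Type*} [Group K] [Finite K] [IsSimpleGroup K]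
    (hK : ¬ IsMulCommutative K) {m : ℕ} (hm : Odd m) (hcard : Nat.card K = 2 ^ 10 * m)
    {x : Fin 10 → K} (h : Rel x) : Sch K := by
  obtain ⟨T, hT⟩ := h.exists_sylow hm hcard
  refine Crit.sch_of_sylow hK T fun D hD hI => ?_
  rw [hT] at hI ⊢
  exact h.tr hD hI

end Cfsg.Agent.Schreier.UTFive
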