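import Mathlib
import Cfsg.Agent.S1695
import Cfsg.Agent.SporadicB.HePerm.Final
import Cfsg.Agent.Schreier.UTFive
import Cfsg.Agent.Schreier.HeData

/-! # The Schreier property of the Held group -/

set_option autoImplicit false

namespace Cfsg.Agent.Schreier.He

open Cfsg.Spor Cfsg.Spor.He Cfsg.Agent.SporadicB.HePerm Cfsg.Agent.Schreier.UTFive

/-- the word `12` -/
def w0 : List Gen := [.d,.e,.g,.d,.c,.d,.e,.g,.d,.f,.d,.e,.g,.d,.c,.d,.e,.g,.d]
/-- the word `23` -/
def w1 : List Gen := [.c,.b,.d,.e,.f,.d,.c,.d,.e,.f,.d,.b,.c]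
/-- the word `34` -/
def w2 : List Gen := [.c,.b,.d,.e,.g,.d,.c,.d,.e,.g,.d,.b,.c]
/-- the word `45` -/
def w3 : List Gen := [.b,.d,.e,.f,.d,.c,.d,.e,.f,.d,.g,.d,.e,.f,.d,.c,.d,.e,.f,.d,.b]

/-- the commutator word -/
def cw (a b : List Gen) : List Gen := a ++ (b ++ (a.reverse ++ b.reverse))

/-- the words of the ten root elements -/
def w : Fin 10 → List Gen
  | 0 => w0 | 1 => w1 | 2 => w2 | 3 => w3
  | 4 => cw w0 w1 | 5 => cw w1 w2 | 6 => cw w2 w3
  | 7 => cw w0 (cw w1 w2) | 8 => cw w1 (cw w2 w3) | 9 => cw w0 (cw w1 (cw w2 w3))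

/-- the tables of the ten root elements -/
def tb : Fin 10 → ℕ
  | 0 => HeData.t0 | 1 => HeData.t1 | 2 => HeData.t2 | 3 => HeData.t3 | 4 => HeData.t4
  | 5 => HeData.t5 | 6 => HeData.t6 | 7 => HeData.t7 | 8 => HeData.t8 | 9 => HeData.t9

/-- the table of `i` is the permutation of the word -/
def chkW (i : Fin 10) : Bool := allBelow 2058 fun p => Nat.beq (look (tb i) p) (act (w i) p)

theorem chkW0 : chkW 0 = true := by decide +kernel
theorem chkW1 : chkW 1 = true := by decide +kernel
theorem chkW2 : chkW 2 = true := by decide +kernel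
theorem chkW3 : chkW 3 = true := by decide +kernel
theorem chkW4 : chkW 4 = true := by decide +kernel
theorem chkW5 : chkW 5 = true := by decide +kernel
theorem chkW6 : chkW 6 = true := by decide +kernel
theorem chkW7 : chkW 7 = true := by decide +kernel
theorem chkW8 : chkW 8 = true := by decide +kernel
theorem chkW9 : chkW 9 = true := by decide +kernel

theorem chkW_all (i : Fin 10) : chkW i = true := by
  fin_cases i
  · exact chkW0
  · exact chkW1
  · exact chkW2
  · exact chkW3
  · exact chkW4
  · exact chkW5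
  · exact chkW6
  · exact chkW7
  · exact chkW8
  · exact chkW9

theorem tab_eq (i : Fin 10) (p : Fin 2058) :
    (((w i).map pm).prod p : Fin 2058) = look (tb i) p := by
  rw [prod_apply]
  exact (Nat.eq_of_beq_eq_true (of_allBelow (chkW_all i) p p.2)).symm

/-- the relations on tables -/
def chkR (i j : Fin 10) : Bool :=
  match cm i j with
  | none => allBelow 2058 fun p =>
      Nat.beq (look (tb i) (look (tb j) p)) (look (tb j) (look (tb i) p))
  | some k => allBelow 2058 fun p =>
      Nat.beq (look (tb i) (look (tb j) p)) (look (tb k) (look (tb j) (look (tb i) p)))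

/-- the squares -/
def chkS (i : Fin 10) : Bool := allBelow 2058 fun p => Nat.beq (look (tb i) (look (tb i) p)) p

/-- the list of all indices -/
def idx : List (Fin 10) := [0, 1, 2, 3, 4, 5, 6, 7, 8, 9]

theorem mem_idx (i : Fin 10) : i ∈ idx := by revert i; decide

theorem chkS_all : idx.all chkS = true := by decide +kernel

theorem chkR_all : idx.all (fun i => idx.all fun j => chkR i j) = true := by decide +kernel

theorem chkS_one (i : Fin 10) : chkS i = true := List.all_eq_true.1 chkS_all i (mem_idx i)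

theorem chkR_one (i j : Fin 10) : chkR i j = true :=
  List.all_eq_true.1 (List.all_eq_true.1 chkR_all i (mem_idx i)) j (mem_idx j)

/-- the permutations -/
def q (i : Fin 10) : Equiv.Perm (Fin 2058) := ((w i).map pm).prod

theorem q_apply (i : Fin 10) (p : Fin 2058) : ((q i p : Fin 2058) : ℕ) = look (tb i) p := tab_eq i p

theorem rel_q : Rel q := by
  refine ⟨fun i => ?_, fun i j hc => ?_, fun i j k hc => ?_, fun h => ?_⟩
  · apply Equiv.ext; intro p; apply Fin.ext
    rw [Equiv.Perm.mul_apply, q_apply, q_apply, Equiv.Perm.one_apply]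
    exact Nat.eq_of_beq_eq_true (of_allBelow (chkS_one i) p p.2)
  · apply Equiv.ext; intro p; apply Fin.ext
    rw [Equiv.Perm.mul_apply, Equiv.Perm.mul_apply, q_apply, q_apply, q_apply, q_apply]
    have h := chkR_one i j
    unfold chkR at h
    rw [hc] at h
    exact Nat.eq_of_beq_eq_true (of_allBelow h p p.2)
  · apply Equiv.ext; intro p; apply Fin.ext
    rw [Equiv.Perm.mul_apply, Equiv.Perm.mul_apply, Equiv.Perm.mul_apply, q_apply, q_apply,
      q_apply, q_apply, q_apply]
    have h := chkR_one i j
    unfold chkR at h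
    rw [hc] at h
    exact Nat.eq_of_beq_eq_true (of_allBelow h p p.2)
  · have h1 := q_apply 9 3
    rw [h, Equiv.Perm.one_apply] at h1
    exact absurd h1 (by decide +kernel)

/-- the ten root elements in the presented Held group -/
def x (i : Fin 10) : Cfsg.Spor.He :=
  ((w i).map fun z => PresentedGroup.mk (coxRelators edges ∪ {r | r ∈ extra}) (FreeGroup.of z)).prod

theorem phi_x (i : Fin 10) : phi (x i) = q i := by
  unfold x q
  rw [map_list_prod, List.map_map]
  congr 1

theorem injective : Function.Injective phi := by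
  have h := Cfsg.Agent.S1695.result
  have : Finite Cfsg.Spor.He := Nat.finite_of_card_ne_zero (by rw [h.2]; norm_num)
  exact (injective_of_card_le h.2.le).1

theorem rel_x : Rel x := by
  have hr := rel_q
  refine ⟨fun i => injective ?_, fun i j hc => injective ?_, fun i j k hc => injective ?_,
    fun h => hr.ne ?_⟩
  · rw [map_mul, phi_x, map_one]; exact hr.sq i
  · rw [map_mul, map_mul, phi_x, phi_x]; exact hr.comm i j hc
  · rw [map_mul, map_mul, map_mul, phi_x, phi_x, phi_x]; exact hr.rel i j k hc
  · rw [← phi_x, h, map_one]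

/-- **The Schreier property of the Held group.** -/
theorem sch : Cfsg.Agent.Schreier.Basic.Sch Cfsg.Spor.He := by
  have h := Cfsg.Agent.S1695.result
  have : Finite Cfsg.Spor.He := Nat.finite_of_card_ne_zero (by rw [h.2]; norm_num)
  have hs : IsSimpleGroup Cfsg.Spor.He := h.1
  refine sch_of_utfive ?_ (m := 3935925) (by decide) (by rw [h.2]; norm_num) rel_x
  intro hc
  have h2 := rel_x.rel 0 1 4 (by decide)
  rw [hc.is_comm.comm (x 0) (x 1)] at h2
  have h3 : x 4 = 1 := mul_eq_right.1 h2.symm
  have h4 := rel_x.rel 4 6 9 (by decide)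
  rw [h3, one_mul, mul_one] at h4
  exact rel_x.ne (mul_eq_right.1 h4.symm)

/-- The form with `IsoHe`. -/
theorem sch_of_iso {G : Type*} [Group G] (h : Cfsg.Spor.IsoHe G) : Cfsg.Agent.Schreier.Basic.Sch G := by
  obtain ⟨e⟩ := h
  exact sch.of_equiv e.symm

end Cfsg.Agent.Schreier.He
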