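import Mathlib
import Cfsg.Agent.Schreier.Basic
import Cfsg.Agent.J4Type.Aut22

/-!
# The Schreier property of `M22` (R20, helper756)

Every automorphism of `M22` is induced by an element of the stabiliser `D22` of a duad in `M24`, which contains `M22`
with index 2.
-/

set_option autoImplicit false

namespace Cfsg.Agent.Schreier.MTwentyTwo

open Cfsg.Agent.Schreier.Basic Cfsg.Agent.J4Type.Aut22

/-- If every automorphism of a normal subgroup `N` of `G` is induced by an element of `G` and `G ⧸ N` is solvable,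
then `N` has the Schreier property. -/
theorem sch_of_conj {G : Type*} [Group G] (N : Subgroup G) [N.Normal] (hs : Group.IsSolvable (G ⧸ N))
    (h : ∀ α : MulAut N, ∃ g : G, ∀ n : N, ((α n : N) : G) = g * n * g⁻¹) : Sch N := by
  refine sch_of_normal (MulAut.conjNormal : G →* MulAut N) ?_ N hs ?_
  · intro C _ α _
    obtain ⟨g, hg⟩ := h α
    refine ⟨g, ?_⟩
    apply MulEquiv.ext
    intro n
    apply Subtype.ext
    rw [MulAut.conjNormal_apply, hg]
  · rintro _ ⟨n, hn, rfl⟩
    refine ⟨⟨n, hn⟩, ?_⟩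
    apply MulEquiv.ext
    intro x
    apply Subtype.ext
    show n * (x : G) * n⁻¹ = _
    exact (MulAut.conjNormal_apply n x).symm

theorem relIndex_eq : (Cfsg.Spor.M22.subgroupOf D22).index = 2 := by
  have h1 : Nat.card (Cfsg.Spor.M22.subgroupOf D22) = 443520 := by
    rw [Nat.card_congr (Subgroup.subgroupOfEquivOfLe M22_le_D22).toEquiv]
    exact Cfsg.Agent.SporadicA.MathieuRecog.card_M22
  have h2 := Subgroup.card_mul_index (Cfsg.Spor.M22.subgroupOf D22)
  rw [h1, card_D22] at h2
  omega

/-- **`M22` has the Schreier property.** -/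
theorem sch : Sch Cfsg.Spor.M22 := by
  have hn : (Cfsg.Spor.M22.subgroupOf D22).Normal := Subgroup.normal_of_index_eq_two relIndex_eq
  refine Sch.of_equiv (Subgroup.subgroupOfEquivOfLe M22_le_D22) ?_
  apply sch_of_conj
  · have h1 : Nat.card (D22 ⧸ Cfsg.Spor.M22.subgroupOf D22) = 2 := relIndex_eq
    have h2 : IsCyclic (D22 ⧸ Cfsg.Spor.M22.subgroupOf D22) :=
      have : Fact (Nat.Prime 2) := ⟨Nat.prime_two⟩
      isCyclic_of_prime_card h1
    exact Group.isSolvable_of_comm fun a b => (IsCyclic.isMulCommutative (α := D22 ⧸ Cfsg.Spor.M22.subgroupOf D22)).is_comm.comm a b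
  · intro α
    obtain ⟨g, hg, h⟩ := exists_conj
      (((Subgroup.subgroupOfEquivOfLe M22_le_D22).symm.trans α).trans (Subgroup.subgroupOfEquivOfLe M22_le_D22))
    refine ⟨⟨g, hg⟩, fun n => ?_⟩
    apply Subtype.ext
    have := h (Subgroup.subgroupOfEquivOfLe M22_le_D22 n)
    simpa using this

end Cfsg.Agent.Schreier.MTwentyTwo
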