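import Mathlib
import Cfsg.Agent.Schreier.Basic
import Cfsg.Agent.Schreier.Tools
import Cfsg.Agent.Schreier.SylowCrit

/-!
# The Schreier property from a subgroup with the Schreier property (R20, helper756)
-/

set_option autoImplicit false

namespace Cfsg.Agent.Schreier.SubCrit

open Cfsg.Agent.Schreier.Basic Cfsg.Agent.Schreier.Tools Cfsg.Agent.Schreier.SylowCrit

variable {K : Type*} [Group K]

/-- The derived series of a finite group becomes stationary. -/
theorem exists_derivedSeries_stationary (A : Type*) [Group A] [Finite A] :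
    ∃ n, derivedSeries A (n + 1) = derivedSeries A n := by
  have hanti : Antitone (derivedSeries A) := derivedSeries_antitone A
  by_contra hcon
  push Not at hcon
  have hlt : ∀ n, derivedSeries A (n + 1) < derivedSeries A n := fun n =>
    lt_of_le_of_ne (hanti (Nat.le_succ n)) (hcon n)
  have hsa : StrictAnti (derivedSeries A) := strictAnti_nat_of_succ_lt hlt
  exact not_injective_infinite_finite _ hsa.injective

/-- If all perfect subgroups of the finite group `N` are in the kernel of `f`, then the image of `N` is solvable. -/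
theorem isSolvable_map_of_perfect {A B : Type*} [Group A] [Group B] [Finite A] (N : Subgroup A) (f : A →* B)
    (h : ∀ D : Subgroup A, D ≤ N → ⁅D, D⁆ = D → D ≤ f.ker) : Group.IsSolvable (N.map f) := by
  obtain ⟨n, hn⟩ := exists_derivedSeries_stationary N
  have hD : ⁅(derivedSeries N n).map N.subtype, (derivedSeries N n).map N.subtype⁆ =
      (derivedSeries N n).map N.subtype := by
    rw [← Subgroup.map_commutator, ← derivedSeries_succ, hn]
  have h1 := h _ (Subgroup.map_subtype_le _) hD
  refine ⟨n, ?_⟩
  rw [← map_derivedSeries_eq (f := f.subgroupMap N) (f.subgroupMap_surjective N) n, Subgroup.map_eq_bot_iff]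
  intro x hx
  have h2 : (x : A) ∈ f.ker := h1 ⟨x, hx, rfl⟩
  rw [MonoidHom.mem_ker] at h2 ⊢
  exact Subtype.ext h2

/-- **Frattini form of the Schreier property.**  `H` is stable under automorphisms up to conjugation and every
perfect group of automorphisms normalising `H` is inner. -/
theorem sch_of_stable_inner [Finite K] (H : Subgroup K)
    (hst : ∀ C : Subgroup (MulAut K), ⁅C, C⁆ = C → ∀ φ ∈ C, ∃ k : K,
      H.map φ.toMonoidHom = H.map (MulAut.conj k).toMonoidHom)
    (h : ∀ D : Subgroup (MulAut K), ⁅D, D⁆ = D → Inv D H → D ≤ (MulAut.conj : K →* MulAut K).range) : Sch K := by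
  intro C hC
  have hI := conj_range_normal K
  set I : Subgroup (MulAut K) := (MulAut.conj : K →* MulAut K).range with hIdef
  have hCN : C ≤ I ⊔ stab H := by
    intro c hc
    obtain ⟨k, hk⟩ := hst C hC c hc
    set c₁ : MulAut K := (MulAut.conj k)⁻¹ * c with hc₁
    have h1 : H.map c₁.toMonoidHom = H := by
      have h2 : H.map c₁.toMonoidHom = (H.map c.toMonoidHom).map ((MulAut.conj k)⁻¹).toMonoidHom := by
        rw [Subgroup.map_map]; rfl
      rw [h2, hk, Subgroup.map_map]
      have : ((MulAut.conj k)⁻¹).toMonoidHom.comp (MulAut.conj k).toMonoidHom = MonoidHom.id K := by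
        ext x
        exact MulAut.inv_apply_self _ (MulAut.conj k) x
      rw [this, Subgroup.map_id]
    have h2 : c = MulAut.conj k * c₁ := by rw [hc₁]; group
    rw [h2]
    exact mul_mem (Subgroup.mem_sup_left ⟨k, rfl⟩) (Subgroup.mem_sup_right h1)
  have h1 : C.map (QuotientGroup.mk' I) ≤ (stab H).map (QuotientGroup.mk' I) := by
    have h2 : C.map (QuotientGroup.mk' I) ≤ (I ⊔ stab H).map (QuotientGroup.mk' I) := Subgroup.map_mono hCN
    rw [Subgroup.map_sup] at h2
    have h3 : I.map (QuotientGroup.mk' I) = ⊥ := by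
      rw [Subgroup.map_eq_bot_iff, QuotientGroup.ker_mk']
    rwa [h3, bot_sup_eq] at h2
  have hsolN : Group.IsSolvable ((stab H).map (QuotientGroup.mk' I)) := by
    apply isSolvable_map_of_perfect
    intro D hDN hD
    rw [QuotientGroup.ker_mk']
    exact h D hD fun φ hφ => hDN hφ
  have hsolC : Group.IsSolvable (C.map (QuotientGroup.mk' I)) :=
    Group.isSolvable_of_isSolvable_injective (Subgroup.inclusion_injective h1)
  have := le_ker_of_perfect (QuotientGroup.mk' I) hC hsolC
  rwa [QuotientGroup.ker_mk'] at this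

/-- **Subgroup criterion.**  `H` has the Schreier property, is stable under automorphisms up to conjugation, and the
automorphisms fixing every element of `H` are inner; then `K` has the Schreier property. -/
theorem sch_of_subgroup [Finite K] (H : Subgroup K)
    (hst : ∀ φ : MulAut K, ∃ k : K, H.map φ.toMonoidHom = H.map (MulAut.conj k).toMonoidHom)
    (hH : Sch H)
    (hrig : ∀ φ : MulAut K, (∀ h ∈ H, φ h = h) → φ ∈ (MulAut.conj : K →* MulAut K).range) : Sch K := by
  refine sch_of_stable_inner H (fun _ _ φ _ => hst φ) ?_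
  intro D hD hDH φ hφ
  have hp := map_perfect hDH.res (top_perfect hD)
  have h1 := hH _ hp
  have h2 : hDH.res ⟨φ, hφ⟩ ∈ (⊤ : Subgroup D).map hDH.res := ⟨_, Subgroup.mem_top _, rfl⟩
  obtain ⟨k, hk⟩ := h1 h2
  have h3 : ∀ x ∈ H, φ x = (k : K) * x * (k : K)⁻¹ := by
    intro x hx
    have h4 := congrArg (fun ψ : MulAut H => ((ψ ⟨x, hx⟩ : H) : K)) hk
    exact h4.symm
  have h4 : (MulAut.conj (k : K))⁻¹ * φ ∈ (MulAut.conj : K →* MulAut K).range := by
    apply hrig
    intro x hx
    rw [MulAut.mul_apply, h3 x hx, ← MulAut.conj_apply]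
    exact MulAut.inv_apply_self _ (MulAut.conj (k : K)) x
  have h5 : φ = MulAut.conj (k : K) * ((MulAut.conj (k : K))⁻¹ * φ) := by group
  rw [h5]
  exact mul_mem ⟨_, rfl⟩ h4

end Cfsg.Agent.Schreier.SubCrit
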