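import Mathlib
import Cfsg.Agent.Schreier.SubCrit
import Cfsg.Agent.Schreier.MTwentyTwo

/-!
# The Schreier property of `M23` (R20, helper756)

Every automorphism of `M23` permutes the 23 point stabilisers, isomorphic to `M22`.
-/

set_option autoImplicit false
open scoped Pointwise
open Cfsg MulAction

namespace Cfsg.Agent.Schreier.MTwentyThree

open Cfsg.Agent.Schreier.Basic Cfsg.Agent.Schreier.Tools
open Cfsg.Agent.J4Type.InvFix
open Cfsg.Agent.SporadicStructure.M24IndexAbs Cfsg.Agent.SporadicStructure.M24IndexMain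
open Cfsg.Agent.SporadicStructure.M23Index253 (exists_map)
open Cfsg.Agent.SporadicA.MathieuRecog (mem_M22_iff mem_M23_iff card_M22 card_M23 M22_le)

/-- A subgroup of `M24` of order 443520 fixing a point fixes another one. -/
theorem exists_fixed (H : Subgroup M24) (hH : Nat.card H = 443520) {p : GolayPt}
    (hp : ∀ h ∈ H, h • p = p) : ∃ x, x ≠ p ∧ ∀ h ∈ H, h • x = x := by
  classical
  obtain ⟨x, hx⟩ := orbit_size card24 fixBound24 H (by rw [hH]; norm_num) (by rw [hH]; norm_num)
    (by rw [hH]; norm_num)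
  -- the orbit does not contain `p`
  have hxo : x ∈ orb H x := mem_orb.2 ⟨1, H.one_mem, one_smul _ _⟩
  have hpo : p ∉ orb H x := by
    intro hpo
    obtain ⟨k, hk, hkp⟩ := mem_orb.1 hpo
    have hxp : x = p := MulAction.injective k (hkp.trans (hp k hk).symm)
    have h1 : orb H x ⊆ {p} := by
      intro y hy
      obtain ⟨l, hl, hly⟩ := mem_orb.1 hy
      rw [Finset.mem_singleton, ← hly, hxp, hp l hl]
    have h2 := Finset.card_le_card h1
    rw [Finset.card_singleton] at h2
    omega
  have h22 : (orb H x).card = 22 := by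
    rcases hx with h | h
    · exact h
    · exfalso
      have h1 : insert p (orb H x) ⊆ Finset.univ := Finset.subset_univ _
      have h2 := Finset.card_le_card h1
      rw [Finset.card_insert_of_notMem hpo, h, Finset.card_univ, card24] at h2
      omega
  -- the other point
  have hc : ((insert p (orb H x))ᶜ).card = 1 := by
    rw [Finset.card_compl, Finset.card_insert_of_notMem hpo, h22, card24]
  obtain ⟨y, hy⟩ := Finset.card_eq_one.1 hc
  have hym : ∀ z : GolayPt, z ≠ p → z ∉ orb H x → z = y := by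
    intro z hz1 hz2
    have : z ∈ (insert p (orb H x))ᶜ := by
      rw [Finset.mem_compl, Finset.mem_insert, not_or]
      exact ⟨hz1, hz2⟩
    rwa [hy, Finset.mem_singleton] at this
  have hy1 : y ∈ (insert p (orb H x))ᶜ := by rw [hy]; exact Finset.mem_singleton_self y
  rw [Finset.mem_compl, Finset.mem_insert, not_or] at hy1
  refine ⟨y, hy1.1, fun h hh => hym _ ?_ ?_⟩
  · intro h1
    exact hy1.1 (MulAction.injective h (h1.trans (hp h hh).symm))
  · intro h1
    apply hy1.2
    have := smul_mem_orb (H.inv_mem hh) h1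
    rwa [inv_smul_smul] at this

theorem exists_two {x x' y y' : GolayPt} (hx : x ≠ none) (hx' : x' ≠ none) (hxx : x ≠ x')
    (hy : y ≠ none) (hy' : y' ≠ none) (hyy : y ≠ y') :
    ∃ m : Cfsg.Spor.M23, (m : Equiv.Perm GolayPt) x = y ∧ (m : Equiv.Perm GolayPt) x' = y' := by
  have inj : ∀ a b : GolayPt, a ≠ none → b ≠ none → a ≠ b →
      Function.Injective (![none, a, b] : Fin 3 → GolayPt) := by
    intro a b ha hb hab i j hij
    fin_cases i <;> fin_cases j <;> simp at hij ⊢
    all_goals first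
      | exact hab hij
      | exact hab hij.symm
      | exact ha hij
      | exact ha hij.symm
      | exact hb hij
      | exact hb hij.symm
  obtain ⟨g, hg⟩ := exists_map S0366.result (n := 3) (by norm_num) ![none, x, x']
    ![none, y, y'] (inj x x' hx hx' hxx) (inj y y' hy hy' hyy)
  refine ⟨⟨g, ?_⟩, hg 1, hg 2⟩
  rw [mem_M23_iff]
  exact ⟨g.2, hg 0⟩

theorem card_pts : ({none}ᶜ : Finset GolayPt).card = 23 := by
  rw [Finset.card_compl, card24]
  simp

theorem exists_out (s : Finset GolayPt) (hs : s.card < 23) : ∃ y, y ≠ none ∧ y ∉ s := by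
  by_contra hcon
  push Not at hcon
  have h1 : ({none}ᶜ : Finset GolayPt) ⊆ s := by
    intro y hy
    rw [Finset.mem_compl, Finset.mem_singleton] at hy
    exact hcon y hy
  have h2 := Finset.card_le_card h1
  rw [card_pts] at h2
  omega

theorem exists_one {x y : GolayPt} (hx : x ≠ none) (hy : y ≠ none) :
    ∃ m : Cfsg.Spor.M23, (m : Equiv.Perm GolayPt) x = y := by
  obtain ⟨x', hx', hxx'⟩ := exists_out {x} (by simp)
  obtain ⟨y', hy', hyy'⟩ := exists_out {y} (by simp)
  rw [Finset.mem_singleton] at hxx' hyy'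
  obtain ⟨m, hm, -⟩ := exists_two hx hx' (Ne.symm hxx') hy hy' (Ne.symm hyy')
  exact ⟨m, hm⟩

theorem apply_none (m : Cfsg.Spor.M23) : (m : Equiv.Perm GolayPt) none = none :=
  ((mem_M23_iff _).1 m.2).2

theorem apply_ne (m : Cfsg.Spor.M23) {x : GolayPt} (hx : x ≠ none) : (m : Equiv.Perm GolayPt) x ≠ none := by
  intro h
  exact hx ((m : Equiv.Perm GolayPt).injective (h.trans (apply_none m).symm))

/-- The stabiliser of `x` in `M23`. -/
def St (x : GolayPt) : Subgroup Cfsg.Spor.M23 := stabilizer Cfsg.Spor.M23 x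

theorem mem_St {x : GolayPt} {m : Cfsg.Spor.M23} : m ∈ St x ↔ (m : Equiv.Perm GolayPt) x = x := Iff.rfl

theorem card_St {x : GolayPt} (hx : x ≠ none) : Nat.card (St x) = 443520 := by
  have h1 := (stabilizer Cfsg.Spor.M23 x).card_mul_index
  rw [index_stabilizer, card_M23] at h1
  have h2 : orbit Cfsg.Spor.M23 x = (({none}ᶜ : Finset GolayPt) : Set GolayPt) := by
    ext y
    rw [Finset.mem_coe, Finset.mem_compl, Finset.mem_singleton]
    constructor
    · rintro ⟨m, rfl⟩
      exact apply_ne m hx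
    · intro hy
      obtain ⟨m, hm⟩ := exists_one hx hy
      exact ⟨m, hm⟩
  rw [h2, Set.ncard_coe_finset, card_pts] at h1
  unfold St
  omega

/-- a point fixed by the stabiliser of `x` is `x` -/
theorem eq_of_fixed {x y : GolayPt} (hx : x ≠ none) (hy : y ≠ none)
    (h : ∀ m : Cfsg.Spor.M23, m ∈ St x → (m : Equiv.Perm GolayPt) y = y) : y = x := by
  by_contra hne
  obtain ⟨z, hz, hzxy⟩ := exists_out {x, y} (lt_of_le_of_lt Finset.card_le_two (by norm_num))
  rw [Finset.mem_insert, Finset.mem_singleton, not_or] at hzxy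
  obtain ⟨m, h1, h2⟩ := exists_two hx hy (Ne.symm hne) hx hz (Ne.symm hzxy.1)
  exact hzxy.2 (h2.symm.trans (h m h1))

theorem M23_le_M24 : Cfsg.Spor.M23 ≤ M24 := fun g hg => ((mem_M23_iff g).1 hg).1

/-- Automorphisms permute the point stabilisers. -/
theorem exists_image (φ : MulAut Cfsg.Spor.M23) {x : GolayPt} (hx : x ≠ none) :
    ∃ y, y ≠ none ∧ (St x).map φ.toMonoidHom = St y := by
  have hc : Nat.card ((St x).map φ.toMonoidHom) = 443520 := by
    rw [Subgroup.card_map_of_injective φ.injective, card_St hx]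
  obtain ⟨y, hy0, hy⟩ := exists_fixed (((St x).map φ.toMonoidHom).map (Subgroup.inclusion M23_le_M24))
    (by rw [Subgroup.card_map_of_injective (Subgroup.inclusion_injective M23_le_M24), hc]) (p := none)
    (by
      rintro _ ⟨m, -, rfl⟩
      exact apply_none m)
  refine ⟨y, hy0, ?_⟩
  apply Subgroup.eq_of_le_of_card_ge
  · intro m hm
    exact hy _ ⟨m, hm, rfl⟩
  · rw [hc, card_St hy0]

theorem perm_inv_apply_self (g : Equiv.Perm GolayPt) (x : GolayPt) : g⁻¹ (g x) = x := g.symm_apply_apply x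

theorem map_conj_St (m : Cfsg.Spor.M23) (x : GolayPt) :
    (St x).map (MulAut.conj m).toMonoidHom = St ((m : Equiv.Perm GolayPt) x) := by
  ext n
  constructor
  · rintro ⟨s, hs, rfl⟩
    rw [mem_St]
    show ((m : Equiv.Perm GolayPt) * s * (m : Equiv.Perm GolayPt)⁻¹) ((m : Equiv.Perm GolayPt) x) = _
    rw [Equiv.Perm.mul_apply, Equiv.Perm.mul_apply, perm_inv_apply_self, mem_St.1 hs]
  · intro hn
    refine ⟨m⁻¹ * n * m, ?_, ?_⟩
    · rw [SetLike.mem_coe, mem_St]
      show ((m : Equiv.Perm GolayPt)⁻¹ * n * (m : Equiv.Perm GolayPt)) x = _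
      rw [Equiv.Perm.mul_apply, Equiv.Perm.mul_apply, mem_St.1 hn, perm_inv_apply_self]
    · show (MulAut.conj m) (m⁻¹ * n * m) = n
      rw [MulAut.conj_apply]; group

theorem St_zero : Cfsg.Spor.M22.subgroupOf Cfsg.Spor.M23 = St (some 0) := by
  ext m
  rw [Subgroup.mem_subgroupOf, mem_St, mem_M22_iff]
  constructor
  · exact fun h => h.2.2
  · exact fun h => ⟨M23_le_M24 m.2, apply_none m, h⟩

/-- An automorphism fixing the elements of a point stabiliser is trivial. -/
theorem eq_one_of_fix (φ : MulAut Cfsg.Spor.M23) (h : ∀ m ∈ St (some 0), φ m = m) : φ = 1 := by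
  have h0 : (some 0 : GolayPt) ≠ none := by simp
  have himg0 : (St (some 0)).map φ.toMonoidHom = St (some 0) := by
    ext m
    constructor
    · rintro ⟨s, hs, rfl⟩
      have h1 : φ s = s := h s hs
      show φ s ∈ _
      rw [h1]; exact hs
    · intro hm
      exact ⟨m, hm, h m hm⟩
  have himg : ∀ y : GolayPt, y ≠ none → (St y).map φ.toMonoidHom = St y := by
    intro y hy
    obtain ⟨z, hz, hyz⟩ := exists_image φ hy
    suffices hzy : z = y by rw [hyz, hzy]
    by_cases hy1 : y = some 0
    · subst hy1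
      rw [himg0] at hyz
      apply eq_of_fixed h0 hz
      intro m hm
      rw [hyz] at hm
      exact hm
    · have hz1 : z ≠ some 0 := by
        intro hz1
        subst hz1
        apply hy1
        have h1 : St y = St (some 0) := by
          apply Subgroup.map_injective (f := φ.toMonoidHom) φ.injective
          rw [hyz]; exact himg0.symm
        apply eq_of_fixed h0 hy
        intro m hm
        rw [← h1] at hm
        exact hm
      apply Cfsg.Agent.J4Type.Aut22.eq_of_fixed ⟨hy, hy1⟩ ⟨hz, hz1⟩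
      intro m hm
      have hm1 := (mem_M22_iff _).1 m.2
      let m' : Cfsg.Spor.M23 := ⟨m, M22_le m.2⟩
      have h1 : φ m' = m' := h m' hm1.2.2
      have h2 : φ m' ∈ (St y).map φ.toMonoidHom := ⟨m', hm, rfl⟩
      rw [hyz, h1] at h2
      exact h2
  apply MulEquiv.ext
  intro m
  apply Subtype.ext
  apply Equiv.ext
  intro y
  show (φ m : Equiv.Perm GolayPt) y = (m : Equiv.Perm GolayPt) y
  by_cases hy : y = none
  · subst hy
    rw [apply_none, apply_none]
  · apply eq_of_fixed (apply_ne m hy) (apply_ne (φ m) hy)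
    intro n hn
    -- `n = φ n'` with `n'` fixing `m y`
    rw [← himg _ (apply_ne m hy)] at hn
    obtain ⟨n', hn', rfl⟩ := hn
    rw [← map_conj_St] at hn'
    obtain ⟨s, hs, rfl⟩ := hn'
    have h1 : φ s ∈ (St y).map φ.toMonoidHom := ⟨s, hs, rfl⟩
    rw [himg y hy] at h1
    have h2 : φ ((MulAut.conj m) s) = φ m * φ s * (φ m)⁻¹ := by
      rw [MulAut.conj_apply, map_mul, map_mul, map_inv]
    show (φ ((MulAut.conj m) s) : Equiv.Perm GolayPt) _ = _
    rw [h2]
    show ((φ m : Equiv.Perm GolayPt) * (φ s : Equiv.Perm GolayPt) * (φ m : Equiv.Perm GolayPt)⁻¹)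
      ((φ m : Equiv.Perm GolayPt) y) = _
    rw [Equiv.Perm.mul_apply, Equiv.Perm.mul_apply, perm_inv_apply_self, mem_St.1 h1]

/-- **`M23` has the Schreier property.** -/
theorem sch : Sch Cfsg.Spor.M23 := by
  have h0 : (some 0 : GolayPt) ≠ none := by simp
  refine SubCrit.sch_of_subgroup (St (some 0)) ?_ ?_ ?_
  · intro φ
    obtain ⟨y, hy, h1⟩ := exists_image φ h0
    obtain ⟨m, hm⟩ := exists_one h0 hy
    refine ⟨m, ?_⟩
    rw [h1, map_conj_St, hm]
  · rw [← St_zero]
    exact Sch.of_equiv (Subgroup.subgroupOfEquivOfLe M22_le).symm MTwentyTwo.sch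
  · intro φ hφ
    rw [eq_one_of_fix φ hφ]
    exact one_mem _

end Cfsg.Agent.Schreier.MTwentyThree
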