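import Mathlib
import Cfsg.Prelude.Def_LieExceptional
import Cfsg.Agent.S0309
import Cfsg.Agent.S0310
import Cfsg.Agent.S0311
import Cfsg.Agent.S0316
import Cfsg.Agent.Schreier.Basic
import Cfsg.Agent.Schreier.Tools
import Cfsg.Agent.Schreier.SylowCrit

/-!
# The Schreier property of groups with a (B, N)-pair
-/

set_option autoImplicit false

namespace Cfsg.Agent.Schreier.BNSch

open Cfsg.Agent.Schreier.Basic Cfsg.Agent.Schreier.Tools Cfsg.Agent.Schreier.SylowCrit

variable {K : Type*} [Group K]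

/-! ### The largest perfect subgroup -/

/-- The largest perfect subgroup of `N`. -/
def resid {A : Type*} [Group A] (N : Subgroup A) : Subgroup A := sSup {D : Subgroup A | D ≤ N ∧ ⁅D, D⁆ = D}

theorem resid_le {A : Type*} [Group A] (N : Subgroup A) : resid N ≤ N := sSup_le fun _ hD => hD.1

theorem le_resid {A : Type*} [Group A] {N D : Subgroup A} (h1 : D ≤ N) (h2 : ⁅D, D⁆ = D) : D ≤ resid N :=
  le_sSup ⟨h1, h2⟩

theorem resid_perfect {A : Type*} [Group A] (N : Subgroup A) : ⁅resid N, resid N⁆ = resid N := by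
  apply le_antisymm
  · rw [Subgroup.commutator_le]
    intro a ha b hb
    rw [commutatorElement_def]
    exact mul_mem (mul_mem (mul_mem ha hb) (inv_mem ha)) (inv_mem hb)
  · refine sSup_le fun D hD => ?_
    have h1 : D ≤ resid N := le_resid hD.1 hD.2
    calc D = ⁅D, D⁆ := hD.2.symm
      _ ≤ _ := Subgroup.commutator_mono h1 h1

theorem isSolvable_of_resid_eq_bot {A : Type*} [Group A] [Finite A] {N : Subgroup A} (h : resid N = ⊥) :
    Group.IsSolvable N :=
  isSolvable_of_perfect_eq_bot N fun D h1 h2 => by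
    rw [← le_bot_iff, ← h]
    exact le_resid h1 h2

/-- If `a⁻¹ D a ≤ N` for the largest perfect subgroup `D` of `N` then `a` normalises `D`. -/
theorem mem_normalizer_resid {A : Type*} [Group A] [Finite A] {N : Subgroup A} {a : A}
    (h : ∀ d ∈ resid N, a⁻¹ * d * a ∈ N) : a ∈ Subgroup.normalizer (resid N : Set A) := by
  have h1 : (resid N).map (MulAut.conj a⁻¹).toMonoidHom ≤ N := by
    rintro _ ⟨d, hd, rfl⟩
    have := h d hd
    simpa [MulAut.conj_apply] using this
  have h2 : (resid N).map (MulAut.conj a⁻¹).toMonoidHom ≤ resid N :=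
    le_resid h1 (map_perfect _ (resid_perfect N))
  have h3 : (resid N).map (MulAut.conj a⁻¹).toMonoidHom = resid N :=
    Subgroup.eq_of_le_of_card_ge h2
      (le_of_eq (Nat.card_congr ((resid N).equivMapOfInjective (MulAut.conj a⁻¹).toMonoidHom
        (MulAut.conj a⁻¹).injective).toEquiv))
  have h4 : a⁻¹ ∈ Subgroup.normalizer (resid N : Set A) := by
    rw [Subgroup.mem_normalizer_iff]
    intro d
    constructor
    · intro hd
      rw [← h3]
      exact ⟨d, hd, rfl⟩
    · intro hd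
      rw [← h3] at hd
      obtain ⟨x, hx, hxd⟩ := hd
      have : x = d := (MulAut.conj a⁻¹).injective hxd
      rwa [← this]
  simpa using inv_mem h4

/-! ### The global step -/

theorem mem_stab_iff {A : Subgroup K} {φ : MulAut K} [Finite K] : φ ∈ stab A ↔ ∀ a ∈ A, φ a ∈ A := by
  constructor
  · intro h a ha
    rw [← mem_stab.1 h]
    exact ⟨a, ha, rfl⟩
  · intro h
    rw [mem_stab]
    have h1 : A.map φ.toMonoidHom ≤ A := by
      rintro _ ⟨a, ha, rfl⟩
      exact h a ha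
    exact Subgroup.eq_of_le_of_card_ge h1
      (le_of_eq (Nat.card_congr (A.equivMapOfInjective φ.toMonoidHom φ.injective).toEquiv))

theorem isSolvable_stab [Finite K] (U B : Subgroup K)
    (hB : Subgroup.normalizer (U : Set K) = B) (hcore : B.normalCore = ⊥)
    (S : Set K) (hgen : B ⊔ Subgroup.closure S = ⊤)
    (h : ∀ D : Subgroup (MulAut K), ⁅D, D⁆ = D → Inv D U → Inv D B →
      ∀ φ ∈ D, ∀ s ∈ S, s⁻¹ * φ s ∈ B) : Group.IsSolvable (stab U) := by
  apply isSolvable_of_resid_eq_bot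
  set D : Subgroup (MulAut K) := resid (stab U) with hD
  have hDp : ⁅D, D⁆ = D := resid_perfect _
  have hDU : Inv D U := fun φ hφ => resid_le _ hφ
  have hDB : Inv D B := by
    have := hDU.normalizer
    rwa [hB] at this
  have hUB : ∀ b ∈ B, ∀ u ∈ U, b * u * b⁻¹ ∈ U := by
    intro b hb u hu
    rw [← hB] at hb
    exact (Subgroup.mem_normalizer_iff.1 hb u).1 hu
  have hfin : Finite (MulAut K) := inferInstance
  -- `conj K` normalises `D`
  have h1 : B ⊔ Subgroup.closure S ≤ (Subgroup.normalizer (D : Set (MulAut K))).comap (MulAut.conj : K →* MulAut K) := by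
    refine sup_le ?_ ((Subgroup.closure_le _).2 ?_)
    · intro b hb
      rw [Subgroup.mem_comap]
      apply mem_normalizer_resid
      intro d hd
      rw [mem_stab_iff]
      intro u hu
      have h2 : ((MulAut.conj b)⁻¹ * d * MulAut.conj b) u = b⁻¹ * d (b * u * b⁻¹) * b := by
        rw [← map_inv, MulAut.mul_apply, MulAut.mul_apply, MulAut.conj_apply, MulAut.conj_apply]
        group
      rw [h2]
      have h3 := hUB b⁻¹ (inv_mem hb) _ (hDU.apply_mem hd (hUB b hb u hu))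
      simpa using h3
    · intro s hs
      rw [SetLike.mem_coe, Subgroup.mem_comap]
      apply mem_normalizer_resid
      intro d hd
      rw [mem_stab_iff]
      intro u hu
      have h2 : ((MulAut.conj s)⁻¹ * d * MulAut.conj s) u =
          (s⁻¹ * d s) * d u * (s⁻¹ * d s)⁻¹ := by
        rw [← map_inv, MulAut.mul_apply, MulAut.mul_apply, MulAut.conj_apply, MulAut.conj_apply, map_mul, map_mul,
          map_inv]
        group
      rw [h2]
      exact hUB _ (h D hDp hDU hDB d hd s hs) _ (hDU.apply_mem hd hu)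
  have h2 : ∀ k : K, MulAut.conj k ∈ Subgroup.normalizer (D : Set (MulAut K)) := by
    intro k
    have : k ∈ B ⊔ Subgroup.closure S := by rw [hgen]; trivial
    exact h1 this
  -- `X = {x | conj x ∈ D}`
  have hX : (D.comap (MulAut.conj : K →* MulAut K)) = ⊥ := by
    have hn : (D.comap (MulAut.conj : K →* MulAut K)).Normal := by
      constructor
      intro x hx k
      rw [Subgroup.mem_comap] at hx ⊢
      rw [map_mul, map_mul, map_inv]
      exact (Subgroup.mem_normalizer_iff.1 (h2 k) _).1 hx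
    have hle : D.comap (MulAut.conj : K →* MulAut K) ≤ B := by
      intro x hx
      rw [Subgroup.mem_comap] at hx
      rw [← hB, Subgroup.mem_normalizer_iff]
      intro u
      have := hDU.apply_mem_iff hx (a := u)
      rw [MulAut.conj_apply] at this
      exact this.symm
    have := (Subgroup.normal_le_normalCore (H := B)).2 hle
    rwa [hcore, le_bot_iff] at this
  rw [eq_bot_iff]
  intro φ hφ
  rw [Subgroup.mem_bot]
  apply MulEquiv.ext
  intro k
  have h3 : MulAut.conj (φ k * k⁻¹) ∈ D := by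
    have h4 : MulAut.conj (φ k * k⁻¹) = φ * (MulAut.conj k * φ⁻¹ * (MulAut.conj k)⁻¹) := by
      apply MulEquiv.ext
      intro x
      rw [← map_inv MulAut.conj k]
      simp only [MulAut.mul_apply, MulAut.conj_apply, map_mul, map_inv, MulAut.apply_inv_self]
    rw [h4]
    exact mul_mem hφ ((Subgroup.mem_normalizer_iff.1 (h2 k) _).1 (inv_mem hφ))
  have h5 : φ k * k⁻¹ ∈ D.comap (MulAut.conj : K →* MulAut K) := h3
  rw [hX, Subgroup.mem_bot, mul_inv_eq_one] at h5
  exact h5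

theorem sch_of_isSolvable_stab [Finite K] {p : ℕ} [Fact p.Prime] (U : Sylow p K)
    (h : Group.IsSolvable (stab (U : Subgroup K))) : Sch K := by
  intro C hC
  have hI := conj_range_normal K
  set I : Subgroup (MulAut K) := (MulAut.conj : K →* MulAut K).range with hIdef
  set N : Subgroup (MulAut K) := stab (U : Subgroup K) with hNdef
  have hCN : C ≤ I ⊔ N := by
    intro c hc
    obtain ⟨k, hk⟩ := MulAction.exists_smul_eq K U (c • U)
    have h1 : (MulAut.conj k)⁻¹ * c ∈ N := by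
      rw [mem_stab_iff]
      intro u hu
      have h2 : c u ∈ ((c • U : Sylow p K) : Subgroup K) := by
        rw [Sylow.pointwise_smul_def]
        exact Subgroup.smul_mem_pointwise_smul u c _ hu
      rw [← hk, Sylow.smul_def, Sylow.pointwise_smul_def, Subgroup.mem_pointwise_smul_iff_inv_smul_mem] at h2
      exact h2
    have h3 : c = MulAut.conj k * ((MulAut.conj k)⁻¹ * c) := by group
    rw [h3]
    exact mul_mem (Subgroup.mem_sup_left ⟨k, rfl⟩) (Subgroup.mem_sup_right h1)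
  have h1 : C.map (QuotientGroup.mk' I) ≤ N.map (QuotientGroup.mk' I) := by
    have h2 : C.map (QuotientGroup.mk' I) ≤ (I ⊔ N).map (QuotientGroup.mk' I) := Subgroup.map_mono hCN
    rw [Subgroup.map_sup] at h2
    have h3 : I.map (QuotientGroup.mk' I) = ⊥ := by
      rw [Subgroup.map_eq_bot_iff, QuotientGroup.ker_mk']
    rwa [h3, bot_sup_eq] at h2
  have hsolN : Group.IsSolvable (N.map (QuotientGroup.mk' I)) :=
    Group.isSolvable_of_surjective (f := (QuotientGroup.mk' I).subgroupMap N)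
      ((QuotientGroup.mk' I).subgroupMap_surjective N)
  have hsolC : Group.IsSolvable (C.map (QuotientGroup.mk' I)) :=
    Group.isSolvable_of_isSolvable_injective (Subgroup.inclusion_injective h1)
  have := le_ker_of_perfect (QuotientGroup.mk' I) hC hsolC
  rwa [QuotientGroup.ker_mk'] at this

/-- **Global step**: if every perfect group of automorphisms normalising the Sylow subgroup `U` fixes the cosets
`s B`, `B = N(U)`, for `s` in a set generating `K` together with `B`, then `K` has the Schreier property. -/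
theorem sch_of_coset_fix [Finite K] {p : ℕ} [Fact p.Prime] (U : Sylow p K) (B : Subgroup K)
    (hB : Subgroup.normalizer ((U : Subgroup K) : Set K) = B) (hcore : B.normalCore = ⊥)
    (S : Set K) (hgen : B ⊔ Subgroup.closure S = ⊤)
    (h : ∀ D : Subgroup (MulAut K), ⁅D, D⁆ = D → Inv D (U : Subgroup K) → Inv D B →
      ∀ φ ∈ D, ∀ s ∈ S, s⁻¹ * φ s ∈ B) : Sch K :=
  sch_of_isSolvable_stab U (isSolvable_stab (U : Subgroup K) B hB hcore S hgen h)

/-! ### The local step -/

/-- The data at the node `s` of a (B, N)-pair. -/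
structure Node (P : Cfsg.BNPair K) (U : Subgroup K) (s : K) (V : Subgroup K) : Prop where
  le : V ≤ U
  ne : ∃ u ∈ U, u ∉ V
  conj_B : ∀ b ∈ P.B, ∀ v ∈ V, b * v * b⁻¹ ∈ V
  conj_s : ∀ v ∈ V, s⁻¹ * v * s ∈ V
  stab : ∀ u ∈ U, s⁻¹ * u * s ∈ P.B → u ∈ V

theorem not_mem_B (P : Cfsg.BNPair K) {s : K} (hs : s ∈ P.S) : s ∉ P.B := by
  intro h
  apply P.conj_ne s hs
  ext x
  constructor
  · rintro ⟨b, hb, rfl⟩
    exact mul_mem (mul_mem h hb) h
  · intro hx
    refine ⟨s⁻¹ * x * s⁻¹, mul_mem (mul_mem (inv_mem h) hx) (inv_mem h), ?_⟩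
    group

theorem mem_parabolic_singleton (P : Cfsg.BNPair K) {s : K} (hs : s ∈ P.S) {g : K} (hg : g ∈ P.parabolic {s}) :
    g ∈ P.B ∨ ∃ b ∈ P.B, ∃ b' ∈ P.B, g = b * s * b' := by
  rw [Cfsg.Agent.S0310.result P (Set.singleton_subset_iff.2 hs)] at hg
  obtain ⟨n, hn, hg⟩ := hg
  rw [DoubleCoset.mem_doubleCoset] at hg
  obtain ⟨x, hx, y, hy, rfl⟩ := hg
  rw [Subgroup.mem_closure_singleton] at hn
  obtain ⟨k, rfl⟩ := hn
  have hsq : ∀ m : ℤ, (s * s) ^ m ∈ P.B := fun m => zpow_mem (P.sq_mem s hs) m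
  rcases Int.even_or_odd' k with ⟨m, rfl | rfl⟩
  · left
    have : s ^ (2 * m) = (s * s) ^ m := by
      rw [zpow_mul, zpow_ofNat, pow_two]
    rw [this]
    exact mul_mem (mul_mem hx (hsq m)) hy
  · right
    refine ⟨x * (s * s) ^ m, mul_mem hx (hsq m), y, hy, ?_⟩
    have : s ^ (2 * m + 1) = (s * s) ^ m * s := by
      rw [zpow_add, zpow_mul, zpow_ofNat, pow_two, zpow_one]
    rw [this]
    group

theorem B_le_parabolic (P : Cfsg.BNPair K) (J : Set K) : P.B ≤ P.parabolic J := le_sup_left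

theorem mem_parabolic_self (P : Cfsg.BNPair K) (s : K) : s ∈ P.parabolic {s} :=
  (le_sup_right : Subgroup.closure {s} ≤ P.parabolic {s}) (Subgroup.subset_closure rfl)

/-- `B s B = U s B`. -/
theorem exists_of_mem_parabolic (P : Cfsg.BNPair K) {U : Subgroup K} (hUB : U ≤ P.B)
    (hUN : ∀ b ∈ P.B, ∃ u ∈ U, u⁻¹ * b ∈ P.N) {s : K} (hs : s ∈ P.S) {g : K} (hg : g ∈ P.parabolic {s})
    (hgB : g ∉ P.B) : ∃ u ∈ U, ∃ b ∈ P.B, g = u * s * b := by
  rcases mem_parabolic_singleton P hs hg with h | ⟨b, hb, b', hb', rfl⟩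
  · exact absurd h hgB
  · obtain ⟨u, hu, hun⟩ := hUN b hb
    have h1 : u⁻¹ * b ∈ P.B ⊓ P.N := Subgroup.mem_inf.2 ⟨mul_mem (inv_mem (hUB hu)) hb, hun⟩
    have h2 := P.conj_mem s⁻¹ (P.N.inv_mem (P.subset hs)) _ h1
    refine ⟨u, hu, s⁻¹ * (u⁻¹ * b) * s⁻¹⁻¹ * b', mul_mem h2 hb', ?_⟩
    group

/-- The subgroup `V` is normalised by the minimal parabolic. -/
theorem Node.conj_mem [Finite K] {P : Cfsg.BNPair K} {U V : Subgroup K} {s : K} (hN : Node P U s V) {g : K}
    (hg : g ∈ P.parabolic {s}) {v : K} (hv : v ∈ V) : g⁻¹ * v * g ∈ V := by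
  have h1 : P.parabolic {s} ≤ Subgroup.normalizer (V : Set K) := by
    refine sup_le ?_ ((Subgroup.closure_le _).2 ?_)
    · intro b hb
      rw [Subgroup.mem_normalizer_iff]
      intro v
      refine ⟨fun hv => hN.conj_B b hb v hv, fun hv => ?_⟩
      have := hN.conj_B b⁻¹ (inv_mem hb) _ hv
      have h2 : b⁻¹ * (b * v * b⁻¹) * b⁻¹⁻¹ = v := by group
      rwa [h2] at this
    · intro x hx
      rw [Set.mem_singleton_iff] at hx
      subst hx
      -- finiteness
      have h3 : V.map (MulAut.conj x⁻¹).toMonoidHom ≤ V := by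
        rintro _ ⟨v, hv, rfl⟩
        have := hN.conj_s v hv
        simpa [MulAut.conj_apply] using this
      have h4 : V.map (MulAut.conj x⁻¹).toMonoidHom = V :=
        Subgroup.eq_of_le_of_card_ge h3
          (le_of_eq (Nat.card_congr (V.equivMapOfInjective (MulAut.conj x⁻¹).toMonoidHom
            (MulAut.conj x⁻¹).injective).toEquiv))
      have h5 : x⁻¹ ∈ Subgroup.normalizer (V : Set K) := by
        rw [Subgroup.mem_normalizer_iff]
        intro d
        constructor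
        · intro hd
          rw [← h4]
          exact ⟨d, hd, rfl⟩
        · intro hd
          rw [← h4] at hd
          obtain ⟨y, hy, hyd⟩ := hd
          have : y = d := (MulAut.conj x⁻¹).injective hyd
          rwa [← this]
      rw [SetLike.mem_coe]
      simpa using inv_mem h5
  have h2 := (Subgroup.mem_normalizer_iff.1 (inv_mem (h1 hg)) v).1 hv
  simpa using h2

/-- `V` is invariant. -/
theorem Node.inv [Finite K] {P : Cfsg.BNPair K} {U V : Subgroup K} {s : K} (hN : Node P U s V) (hUB : U ≤ P.B)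
    {D : Subgroup (MulAut K)} (hU : Inv D U) (hB : Inv D P.B) (hP : Inv D (P.parabolic {s})) : Inv D V := by
  refine inv_iff.2 fun φ hφ v hv => ?_
  apply hN.stab _ (hU.apply_mem hφ (hN.le hv))
  have h1 : φ⁻¹ s ∈ P.parabolic {s} := hP.apply_mem (inv_mem hφ) (mem_parabolic_self P s)
  have h2 := hB.apply_mem hφ (hUB (hN.le (hN.conj_mem h1 hv)))
  rw [map_mul, map_mul, map_inv, MulAut.apply_inv_self] at h2
  exact h2

/-- **Local step**: the perfect group `D` fixes the coset `s B`. -/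
theorem Node.coset_fix [Finite K] {P : Cfsg.BNPair K} {U V : Subgroup K} {s : K} (hN : Node P U s V)
    (hs : s ∈ P.S) (hUB : U ≤ P.B) (hUs : Group.IsSolvable U)
    (hUN : ∀ b ∈ P.B, ∃ u ∈ U, u⁻¹ * b ∈ P.N) {D : Subgroup (MulAut K)} (hD : ⁅D, D⁆ = D)
    (hB : Inv D P.B) (hP : Inv D (P.parabolic {s}))
    (hT : TrMod D U V) {φ : MulAut K} (hφ : φ ∈ D) : s⁻¹ * φ s ∈ P.B := by
  classical
  have hex : ∀ ψ : D, ∃ u ∈ U, ∃ b ∈ P.B, (ψ : MulAut K) s = u * s * b := by
    intro ψ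
    apply exists_of_mem_parabolic P hUB hUN hs (hP.apply_mem ψ.2 (mem_parabolic_self P s))
    rw [hB.apply_mem_iff ψ.2]
    exact not_mem_B P hs
  choose u hu b hb hub using hex
  have hVn : (V.subgroupOf U).Normal := by
    constructor
    intro v hv x
    rw [Subgroup.mem_subgroupOf] at hv ⊢
    exact hN.conj_B _ (hUB x.2) _ hv
  -- uniqueness of `u ψ` modulo `V`
  have huniq : ∀ x ∈ U, ∀ y ∈ U, ∀ c ∈ P.B, ∀ d ∈ P.B, x * s * c = y * s * d → x⁻¹ * y ∈ V := by
    intro x hx y hy c hc d hd h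
    apply hN.stab _ (mul_mem (inv_mem hx) hy)
    have : s⁻¹ * (x⁻¹ * y) * s = c * d⁻¹ := by
      have h1 : y = x * s * c * d⁻¹ * s⁻¹ := by
        rw [h]; group
      rw [h1]; group
    rw [this]
    exact mul_mem hc (inv_mem hd)
  let f : D →* U ⧸ V.subgroupOf U :=
    MonoidHom.mk' (fun ψ => (QuotientGroup.mk (⟨(u ψ)⁻¹, inv_mem (hu ψ)⟩ : U) : U ⧸ V.subgroupOf U)) (by
      intro ψ χ
      rw [← QuotientGroup.mk_mul, QuotientGroup.eq, Subgroup.mem_subgroupOf]
      show ((u (ψ * χ))⁻¹)⁻¹ * ((u ψ)⁻¹ * (u χ)⁻¹) ∈ V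
      have h1 : ((ψ * χ : D) : MulAut K) s = (ψ : MulAut K) (u χ) * u ψ * s * (b ψ * (ψ : MulAut K) (b χ)) := by
        show (ψ : MulAut K) ((χ : MulAut K) s) = _
        rw [hub χ, map_mul, map_mul, hub ψ]
        group
      have h2 : (u (ψ * χ))⁻¹ * ((ψ : MulAut K) (u χ) * u ψ) ∈ V := by
        apply huniq _ (hu _) _ (mul_mem _ (hu ψ)) _ (hb (ψ * χ)) _ (mul_mem (hb ψ) (hB.apply_mem ψ.2 (hb χ)))
        · rw [← hub, h1]
        · have := mul_mem (hu χ) (hN.le (hT ψ ψ.2 (u χ) (hu χ)))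
          simpa using this
      -- `φ (u χ) = u χ * v`
      have h3 : (u χ)⁻¹ * (ψ : MulAut K) (u χ) ∈ V := hT ψ ψ.2 (u χ) (hu χ)
      set v := (u χ)⁻¹ * (ψ : MulAut K) (u χ) with hv
      have h4 : (ψ : MulAut K) (u χ) = u χ * v := by rw [hv]; group
      rw [h4] at h2
      -- `w = (u (ψχ))⁻¹ u χ v u ψ ∈ V`; want `u (ψχ) (u ψ)⁻¹ (u χ)⁻¹ ∈ V`
      set w := (u (ψ * χ))⁻¹ * (u χ * v * u ψ) with hw
      have h5 : ((u (ψ * χ))⁻¹)⁻¹ * ((u ψ)⁻¹ * (u χ)⁻¹) = (u χ * v * (u χ)⁻¹) * ((u χ * u ψ) * w⁻¹ * (u χ * u ψ)⁻¹) := by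
        rw [hw]; group
      rw [h5]
      refine mul_mem (hN.conj_B _ (hUB (hu χ)) _ h3) (hN.conj_B _ (mul_mem (hUB (hu χ)) (hUB (hu ψ))) _ (inv_mem h2)))
  have hsol : Group.IsSolvable (U ⧸ V.subgroupOf U) := by
    have := hUs
    infer_instance
  have h1 := hom_eq_one hD f ⟨φ, hφ⟩
  have h2 : (u ⟨φ, hφ⟩)⁻¹ ∈ V := by
    have h3 : (QuotientGroup.mk (⟨(u ⟨φ, hφ⟩)⁻¹, inv_mem (hu ⟨φ, hφ⟩)⟩ : U) : U ⧸ V.subgroupOf U) = 1 := h1
    rw [QuotientGroup.eq_one_iff, Subgroup.mem_subgroupOf] at h3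
    exact h3
  have h3 : φ s = u ⟨φ, hφ⟩ * s * b ⟨φ, hφ⟩ := hub ⟨φ, hφ⟩
  rw [h3]
  have h4 : s⁻¹ * (u ⟨φ, hφ⟩ * s * b ⟨φ, hφ⟩) = (s⁻¹ * u ⟨φ, hφ⟩ * s) * b ⟨φ, hφ⟩ := by group
  rw [h4]
  exact mul_mem (hUB (hN.le (hN.conj_s _ (by simpa using inv_mem h2)))) (hb _)

theorem parabolic_empty (P : Cfsg.BNPair K) : P.parabolic ∅ = P.B := by
  unfold Cfsg.BNPair.parabolic
  rw [Subgroup.closure_empty, sup_bot_eq]

theorem parabolic_mono (P : Cfsg.BNPair K) {I J : Set K} (h : I ⊆ J) : P.parabolic I ≤ P.parabolic J :=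
  sup_le_sup le_rfl (Subgroup.closure_mono h)

theorem sup_closure_eq_top (P : Cfsg.BNPair K) : P.B ⊔ Subgroup.closure P.S = ⊤ := by
  rw [eq_top_iff, ← P.sup_eq_top, ← P.closure_sup]
  exact sup_le le_sup_left (sup_le le_sup_right (inf_le_left.trans le_sup_left))

/-- `B` is the normaliser of `U`. -/
theorem normalizer_eq (P : Cfsg.BNPair K) (U : Subgroup K) (hUB : U ≤ P.B)
    (hBU : ∀ b ∈ P.B, ∀ u ∈ U, b * u * b⁻¹ ∈ U)
    (h : ∀ s ∈ P.S, ∃ u ∈ U, s⁻¹ * u * s ∉ P.B) : Subgroup.normalizer (U : Set K) = P.B := by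
  have h1 : P.B ≤ Subgroup.normalizer (U : Set K) := by
    intro b hb
    rw [Subgroup.mem_normalizer_iff]
    intro u
    refine ⟨fun hu => hBU b hb u hu, fun hu => ?_⟩
    have := hBU b⁻¹ (inv_mem hb) _ hu
    have h2 : b⁻¹ * (b * u * b⁻¹) * b⁻¹⁻¹ = u := by group
    rwa [h2] at this
  obtain ⟨J, hJ, hJe⟩ := Cfsg.Agent.S0311.result P _ h1
  rcases J.eq_empty_or_nonempty with hJ0 | ⟨s, hs⟩
  · rw [hJe, hJ0, parabolic_empty]
  · exfalso
    obtain ⟨u, hu, hus⟩ := h s (hJ hs)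
    have h2 : s ∈ Subgroup.normalizer (U : Set K) := by
      rw [hJe]
      exact (le_sup_right : Subgroup.closure J ≤ P.parabolic J) (Subgroup.subset_closure hs)
    have h3 := (Subgroup.mem_normalizer_iff.1 (inv_mem h2) u).1 hu
    rw [inv_inv] at h3
    exact hus (hUB h3)

/-- **The Schreier property for groups with a (B, N)-pair.** -/
theorem sch_of_bn [Finite K] (P : Cfsg.BNPair K) {p : ℕ} [Fact p.Prime] (U : Sylow p K)
    (hcore : P.B.normalCore = ⊥)
    (hUB : (U : Subgroup K) ≤ P.B) (hBU : ∀ b ∈ P.B, ∀ u ∈ (U : Subgroup K), b * u * b⁻¹ ∈ (U : Subgroup K))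
    (hUN : ∀ b ∈ P.B, ∃ u ∈ (U : Subgroup K), u⁻¹ * b ∈ P.N)
    (hperm : ∀ D : Subgroup (MulAut K), ⁅D, D⁆ = D → Inv D P.B → ∀ s ∈ P.S, Inv D (P.parabolic {s}))
    (hloc : ∀ s ∈ P.S, ∃ V : Subgroup K, Node P (U : Subgroup K) s V ∧
      ∀ D : Subgroup (MulAut K), ⁅D, D⁆ = D → Inv D (U : Subgroup K) → Inv D P.B → Inv D (P.parabolic {s}) →
        Inv D V → TrMod D (U : Subgroup K) V) : Sch K := by
  have hUs : Group.IsSolvable (U : Subgroup K) := by
    have : Group.IsNilpotent (U : Subgroup K) := U.2.isNilpotent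
    infer_instance
  have hB : Subgroup.normalizer ((U : Subgroup K) : Set K) = P.B := by
    refine normalizer_eq P _ hUB hBU fun s hs => ?_
    obtain ⟨V, hV, -⟩ := hloc s hs
    obtain ⟨u, hu, huV⟩ := hV.ne
    exact ⟨u, hu, fun h => huV (hV.stab u hu h)⟩
  refine sch_of_coset_fix U P.B hB hcore P.S (sup_closure_eq_top P) fun D hD hDU hDB φ hφ s hs => ?_
  obtain ⟨V, hV, hT⟩ := hloc s hs
  have hP := hperm D hD hDB s hs
  exact hV.coset_fix hs hUB hUs hUN hD hDB hP (hT D hD hDU hDB hP (hV.inv hUB hDU hDB hP)) hφ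

/-! ### Perfect groups of automorphisms fix the minimal parabolic subgroups -/

theorem parabolic_le_iff (P : Cfsg.BNPair K) {I J : Set K} (hI : I ⊆ P.S) (hJ : J ⊆ P.S) :
    P.parabolic I ≤ P.parabolic J ↔ I ⊆ J := by
  obtain ⟨e, he⟩ := Cfsg.Agent.S0316.result P
  have h1 : ∀ I : Set K, I ⊆ P.S → Subtype.val '' (Subtype.val ⁻¹' I : Set P.S) = I := fun I hI => by
    rw [Subtype.image_preimage_coe, Set.inter_eq_right.2 hI]
  constructor
  · intro h
    have h2 : e (Subtype.val ⁻¹' I : Set P.S) ≤ e (Subtype.val ⁻¹' J : Set P.S) := by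
      rw [← Subtype.coe_le_coe, he, he, h1 I hI, h1 J hJ]
      exact h
    rw [e.le_iff_le] at h2
    intro x hx
    exact @h2 ⟨x, hI hx⟩ hx
  · exact parabolic_mono P

theorem B_lt_parabolic (P : Cfsg.BNPair K) {s : K} (hs : s ∈ P.S) : P.B < P.parabolic {s} :=
  lt_of_le_of_ne (B_le_parabolic P _) fun h => not_mem_B P hs (by rw [h]; exact mem_parabolic_self P s)

/-- The subgroups `P_s` are the minimal proper overgroups of `B`. -/
theorem exists_eq_parabolic_iff (P : Cfsg.BNPair K) (M : Subgroup K) :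
    (∃ s ∈ P.S, M = P.parabolic {s}) ↔ P.B < M ∧ ∀ M', P.B < M' → M' ≤ M → M' = M := by
  constructor
  · rintro ⟨s, hs, rfl⟩
    refine ⟨B_lt_parabolic P hs, fun M' h1 h2 => ?_⟩
    obtain ⟨J, hJ, rfl⟩ := Cfsg.Agent.S0311.result P M' h1.le
    rw [parabolic_le_iff P hJ (Set.singleton_subset_iff.2 hs)] at h2
    rcases Set.subset_singleton_iff_eq.1 h2 with h | h
    · rw [h, parabolic_empty] at h1
      exact absurd h1 (lt_irrefl _)
    · rw [h]
  · rintro ⟨h1, h2⟩
    obtain ⟨J, hJ, rfl⟩ := Cfsg.Agent.S0311.result P M h1.le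
    rcases J.eq_empty_or_nonempty with h | ⟨s, hs⟩
    · rw [h, parabolic_empty] at h1
      exact absurd h1 (lt_irrefl _)
    · exact ⟨s, hJ hs, (h2 _ (B_lt_parabolic P (hJ hs)) (parabolic_mono P (Set.singleton_subset_iff.2 hs))).symm⟩

/-- An automorphism preserving `B` permutes the minimal parabolic subgroups. -/
theorem exists_map_eq (P : Cfsg.BNPair K) (φ : MulAut K) (hφ : P.B.map φ.toMonoidHom = P.B) {s : K} (hs : s ∈ P.S) :
    ∃ t ∈ P.S, (P.parabolic {s}).map φ.toMonoidHom = P.parabolic {t} := by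
  rw [exists_eq_parabolic_iff]
  obtain ⟨h1, h2⟩ := (exists_eq_parabolic_iff P _).1 ⟨s, hs, rfl⟩
  constructor
  · have := (Subgroup.map_lt_map_iff_of_injective (f := φ.toMonoidHom) φ.injective).2 h1
    rwa [hφ] at this
  · intro M' hM' hM''
    have h3 : M'.comap φ.toMonoidHom = P.parabolic {s} := by
      apply h2
      · refine lt_of_le_of_ne ?_ ?_
        · rw [← Subgroup.map_le_iff_le_comap, hφ]
          exact hM'.le
        · intro h
          apply hM'.ne
          rw [← hφ, h]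
          exact Subgroup.map_comap_eq_self_of_surjective φ.surjective M'
      · intro x hx
        obtain ⟨y, hy, hxy⟩ := hM'' hx
        have : y = x := φ.injective hxy
        rwa [← this]
    rw [← h3]
    exact (Subgroup.map_comap_eq_self_of_surjective φ.surjective M').symm

theorem perm_of_card_le_four [Finite K] (P : Cfsg.BNPair K) (h4 : Nat.card P.S ≤ 4) :
    ∀ D : Subgroup (MulAut K), ⁅D, D⁆ = D → Inv D P.B → ∀ s ∈ P.S, Inv D (P.parabolic {s}) := by
  intro D hD hB s hs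
  refine inv_of_family hD ((fun t => P.parabolic {t}) '' P.S) (Set.toFinite _) ?_ ?_ ⟨s, hs, rfl⟩
  · exact (Set.ncard_image_le (Set.toFinite _)).trans h4
  · rintro φ hφ _ ⟨t, ht, rfl⟩
    obtain ⟨t', ht', h⟩ := exists_map_eq P φ (hB φ hφ) ht
    exact ⟨t', ht', h.symm⟩

end Cfsg.Agent.Schreier.BNSch
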