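import Mathlib
import Cfsg.Prelude.Def_Classification2
import Cfsg.Agent.ChevalleyStructure.D4Twisted
import Cfsg.Agent.Schreier.Basic
import Cfsg.Agent.Schreier.Tools
import Cfsg.Agent.Schreier.BNUse

/-!
# The Schreier property of the groups ³D₄(q)
-/

set_option autoImplicit false

namespace Cfsg.Agent.Schreier.ThreeD4

open Cfsg.Lie
open Cfsg.Agent.Schreier.Basic Cfsg.Agent.Schreier.Tools Cfsg.Agent.Schreier.BNSch Cfsg.Agent.Schreier.BNUse
open Cfsg.Agent.ChevalleyStructure.D4Fixed (sig coe_sig fix mem_fix twisted_le_fix twisted_induction)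
open Cfsg.Agent.ChevalleyStructure.D4Cols (xU coe_xU wU)
open Cfsg.Agent.ChevalleyStructure
open Cfsg.Agent.ChevalleyStructure.D4Comm
open Cfsg.Agent.ChevalleyStructure.D4CommTab
open Cfsg.Agent.ChevalleyStructure.D4Pos
open Cfsg.Agent.ChevalleyStructure.D4NCheck
open Cfsg.Agent.ChevalleyStructure.D4NConj (nR nR_def nG nG_conj nG_def hR hR_def nR_eq nR_inv xG_inv torG torG_conj
  torG_mul torG_one chi chi_def chi_ne_zero dv_def hR_eq_torG)
open Cfsg.Agent.ChevalleyStructure.SparseHDiag (cartanRS)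
open Cfsg.Agent.ChevalleyStructure.TwistedU
open Cfsg.Agent.ChevalleyStructure.D4U
open Cfsg.Agent.ChevalleyStructure.D4RGD
open Cfsg.Agent.ChevalleyStructure.D4Twisted
open scoped commutatorElement

section General
variable {K : Type*} [Field K]

/-- `x_r` normalises the span of `l` -/
def normB (r : ℕ) (l : List ℕ) : Bool :=
  decide (12 ≤ r) && decide (r < 24) && l.all (fun s => decide (12 ≤ s) && decide (s < 24) &&
      decide (s ≠ r) &&
      match cm r s with
      | none => true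
      | some kc => l.contains kc.1)

theorem conj_mem_RS {r : ℕ} {l : List ℕ} (h : normB r l = true) (t : K) {g : GL chevD4.Idx K} (hg : g ∈ RS K l) :
    xG r t * g * (xG r t)⁻¹ ∈ RS K l := by
  rw [normB, Bool.and_eq_true, Bool.and_eq_true, List.all_eq_true] at h
  obtain ⟨⟨h1, h2⟩, h3⟩ := h
  refine conj_mem (x := (xG : ℕ → K → GL chevD4.Idx K)) (fun s hs t u => ?_) t hg
  have h5 := h3 s hs
  rw [Bool.and_eq_true, Bool.and_eq_true, Bool.and_eq_true] at h5
  obtain ⟨⟨⟨h6, h7⟩, h8⟩, h9⟩ := h5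
  rw [xG_comm (of_decide_eq_true h1) (of_decide_eq_true h2) (of_decide_eq_true h6) (of_decide_eq_true h7)
    (of_decide_eq_true h8)]
  unfold cval
  rcases hc : cm r s with _ | kc
  · exact Subgroup.one_mem _
  · rw [hc] at h9
    have h10 : kc.1 ∈ l := by simpa using h9
    exact mem_rspan (xG : ℕ → K → GL chevD4.Idx K) (S := {k | k ∈ l}) h10 _

/-- the diagonal subgroup normalises every span of root groups -/
theorem diag_conj_RS {l : List ℕ} (hl : (l.all fun s => decide (s < 24)) = true) {h : GL chevD4.Idx K}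
    (hh : h ∈ chevD4.diagonalSubgroup K) {g : GL chevD4.Idx K} (hg : g ∈ RS K l) : h * g * h⁻¹ ∈ RS K l := by
  have key : RS K l ≤ (RS K l).comap (MulAut.conj h).toMonoidHom := by
    refine rspan_le xG fun s hs t => ?_
    have hs' : s < 24 := by
      have := List.all_eq_true.1 hl s hs
      exact of_decide_eq_true this
    show h * xG s t * h⁻¹ ∈ RS K l
    obtain ⟨c, rfl⟩ := diagonal_le_torus K hh
    rw [torG_conj c hs']
    exact mem_rspan xG (S := {k | k ∈ l}) hs _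
  exact key hg

theorem pow_card_sub_one [Finite K] {h : GL chevD4.Idx K} (hh : h ∈ chevD4.diagonalSubgroup K) :
    h ^ (Nat.card K - 1) = 1 := by
  obtain ⟨c, rfl⟩ := diagonal_le_torus K hh
  have h1 : ∀ n : ℕ, (torG c : GL chevD4.Idx K) ^ n = torG (c ^ n) := by
    intro n
    induction n with
    | zero => rw [pow_zero, pow_zero, torG_one]
    | succ n ih => rw [pow_succ, ih, torG_mul, pow_succ]
  have h2 : c ^ (Nat.card K - 1) = 1 := by
    funext i
    rw [Pi.pow_apply, Pi.one_apply]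
    have h3 : Nat.card Kˣ = Nat.card K - 1 := Nat.card_units K
    rw [← h3]
    exact pow_card_eq_one'
  rw [h1, h2, torG_one]

end General

section Twisted
variable {K : Type*} [Field K] {q : ℕ} {φ : K →+* K}

theorem xa_eq_zero {t : K} (h : (na K)⁻¹ * xG 14 t * na K ∈ chevD4.borelSubgroup K) : t = 0 := by
  obtain ⟨u, hu⟩ := na_inv_conj (K := K) (s := 14) (by norm_num) t
  rw [inv_inv] at hu
  rw [hu] at h
  by_contra ht
  have hu0 : u = 0 := by
    by_contra hu0
    exact xG_not_mem_borel (r := rfl' 1 14) (by decide +kernel) hu0 h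
  rw [hu0, xG_zero] at hu
  have h2 : (xG 14 t : GL chevD4.Idx K) = 1 := by
    have h3 : xG 14 t = na K * ((na K)⁻¹ * xG 14 t * na K) * (na K)⁻¹ := by group
    rw [h3, hu, mul_one, mul_inv_cancel]
  rw [xG_eq_one_iff (by norm_num)] at h2
  exact ht h2

theorem X_inj {t u : K} (h : D4Fixed.X φ t = D4Fixed.X φ u) : t = u := by
  unfold D4Fixed.X at h
  rw [xU_eq, xU_eq, xU_eq, xU_eq, xU_eq, xU_eq] at h
  have h1 : lprod (xG : ℕ → K → GL chevD4.Idx K) [18, 13, 12]
      (fun r => if r = 18 then t else if r = 13 then φ t else φ (φ t)) =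
      lprod (xG : ℕ → K → GL chevD4.Idx K) [18, 13, 12]
      (fun r => if r = 18 then u else if r = 13 then φ u else φ (φ u)) := by
    simp only [lprod_cons, lprod_nil, mul_one, if_true, if_false, show (13 : ℕ) ≠ 18 by norm_num,
      show (12 : ℕ) ≠ 18 by norm_num, show (12 : ℕ) ≠ 13 by norm_num]
    rw [← mul_assoc, ← mul_assoc]
    exact h
  have h2 := lprod_inj [18, 13, 12] (by decide +kernel) h1 18 (by simp)
  simpa using h2

theorem X_zero : D4Fixed.X φ 0 = 1 := by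
  unfold D4Fixed.X
  rw [map_zero, map_zero, xU_eq, xU_eq, xU_eq, xG_zero, xG_zero, xG_zero, mul_one, mul_one]

theorem X_add (t u : K) : D4Fixed.X φ (t + u) = D4Fixed.X φ t * D4Fixed.X φ u := by
  have c1 : Commute (xG 13 (φ t) : GL chevD4.Idx K) (xG 18 u) := xG_commute (by decide +kernel) _ _
  have c2 : Commute (xG 12 (φ (φ t)) : GL chevD4.Idx K) (xG 18 u) := xG_commute (by decide +kernel) _ _
  have c3 : Commute (xG 12 (φ (φ t)) : GL chevD4.Idx K) (xG 13 (φ u)) := xG_commute (by decide +kernel) _ _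
  unfold D4Fixed.X
  rw [map_add, map_add, xU_eq, xU_eq, xU_eq, xU_eq, xU_eq, xU_eq, xU_eq, xU_eq, xU_eq, xG_add, xG_add, xG_add]
  calc xG 18 t * xG 18 u * (xG 13 (φ t) * xG 13 (φ u)) * (xG 12 (φ (φ t)) * xG 12 (φ (φ u)))
      = xG 18 t * (xG 18 u * xG 13 (φ t)) * (xG 13 (φ u) * xG 12 (φ (φ t))) * xG 12 (φ (φ u)) := by
        simp only [mul_assoc]
    _ = xG 18 t * (xG 13 (φ t) * xG 18 u) * (xG 12 (φ (φ t)) * xG 13 (φ u)) * xG 12 (φ (φ u)) := by
        rw [c1.eq, c3.eq]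
    _ = xG 18 t * xG 13 (φ t) * (xG 18 u * xG 12 (φ (φ t))) * xG 13 (φ u) * xG 12 (φ (φ u)) := by
        simp only [mul_assoc]
    _ = xG 18 t * xG 13 (φ t) * (xG 12 (φ (φ t)) * xG 18 u) * xG 13 (φ u) * xG 12 (φ (φ u)) := by
        rw [c2.eq]
    _ = _ := by simp only [mul_assoc]

theorem xb_eq_zero {t : K} (h : (nb K)⁻¹ * D4Fixed.X φ t * nb K ∈ chevD4.borelSubgroup K) : t = 0 := by
  have h1 : (nb K)⁻¹ * D4Fixed.X φ t * nb K ∈ RS K [5, 10, 11] := nb_inv_RS K (by decide +kernel) (X_mem_RS t)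
  by_contra ht
  have h2 : (nb K)⁻¹ * D4Fixed.X φ t * nb K = 1 := by
    by_contra h3
    exact neg_not_mem_borel h1 h3 h
  have h3 : D4Fixed.X φ t = 1 := by
    have h4 : D4Fixed.X φ t = nb K * ((nb K)⁻¹ * D4Fixed.X φ t * nb K) * (nb K)⁻¹ := by group
    rw [h4, h2, mul_one, mul_inv_cancel]
  rw [← X_zero (φ := φ)] at h3
  exact ht (X_inj h3)

/-- the torus acts on the root group of `{p₂}` -/
theorem H_conj_a {h : GL chevD4.Idx K} (hh : h ∈ chevD4.diagonalSubgroup K) (hf : h ∈ fix φ) :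
    ∃ c : K, φ c = c ∧ ∀ t : K, h * xG 14 t * h⁻¹ = xG 14 (c * t) := by
  obtain ⟨c, rfl⟩ := diagonal_le_torus K hh
  refine ⟨chi c 14, ?_, fun t => torG_conj c (by norm_num) t⟩
  have h1 : (torG c : GL chevD4.Idx K) * xG 14 1 * (torG c)⁻¹ ∈ fix φ :=
    conj_fix hf (by rw [mem_fix, sig_14, map_one])
  rw [torG_conj c (by norm_num), mul_one, mem_fix, sig_14] at h1
  have h2 := lprod_inj [14] (by decide +kernel) (t := fun _ => φ (chi c 14)) (t' := fun _ => chi c 14) (by
    rw [lprod_cons, lprod_cons, lprod_nil, lprod_nil, h1]) 14 (by simp)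
  exact h2

/-- the torus acts on the root group of `{p₁, p₃, p₄}` -/
theorem H_conj_b {h : GL chevD4.Idx K} (hh : h ∈ chevD4.diagonalSubgroup K) (hf : h ∈ fix φ)
    (hX : ∀ t : K, D4Fixed.X φ t ∈ fix φ) :
    ∃ c : K, ∀ t : K, h * D4Fixed.X φ t * h⁻¹ = D4Fixed.X φ (c * t) := by
  obtain ⟨c, rfl⟩ := diagonal_le_torus K hh
  have hconj : ∀ t : K, (torG c : GL chevD4.Idx K) * D4Fixed.X φ t * (torG c)⁻¹ =
      xG 18 (chi c 18 * t) * xG 13 (chi c 13 * φ t) * xG 12 (chi c 12 * φ (φ t)) := by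
    intro t
    unfold D4Fixed.X
    rw [xU_eq, xU_eq, xU_eq, ← torG_conj c (by norm_num), ← torG_conj c (by norm_num), ← torG_conj c (by norm_num)]
    group
  have h1 : (torG c : GL chevD4.Idx K) * D4Fixed.X φ 1 * (torG c)⁻¹ ∈ fix φ := conj_fix hf (hX 1)
  have h2 : (torG c : GL chevD4.Idx K) * D4Fixed.X φ 1 * (torG c)⁻¹ ∈ RS K [18, 13, 12] :=
    diag_conj_RS (by decide) hh (X_mem_RS 1)
  obtain ⟨u, hu⟩ := RS_outer_fix h2 h1
  rw [hconj, map_one, map_one, mul_one, mul_one, mul_one] at hu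
  unfold D4Fixed.X at hu
  rw [xU_eq, xU_eq, xU_eq] at hu
  have h3 : lprod (xG : ℕ → K → GL chevD4.Idx K) [18, 13, 12] (fun r => chi c r) =
      lprod (xG : ℕ → K → GL chevD4.Idx K) [18, 13, 12]
      (fun r => if r = 18 then u else if r = 13 then φ u else φ (φ u)) := by
    simp only [lprod_cons, lprod_nil, mul_one, if_true, if_false, show (13 : ℕ) ≠ 18 by norm_num,
      show (12 : ℕ) ≠ 18 by norm_num, show (12 : ℕ) ≠ 13 by norm_num]
    rw [← mul_assoc, ← mul_assoc]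
    exact hu
  have e := lprod_inj [18, 13, 12] (by decide +kernel) h3
  have e18 : chi c 18 = u := by simpa using e 18 (by simp)
  have e13 : chi c 13 = φ u := by simpa using e 13 (by simp)
  have e12 : chi c 12 = φ (φ u) := by simpa using e 12 (by simp)
  refine ⟨u, fun t => ?_⟩
  rw [hconj, e18, e13, e12, ← map_mul, ← map_mul, ← map_mul]
  unfold D4Fixed.X
  rw [xU_eq, xU_eq, xU_eq]

theorem hR_conj {r s : ℕ} (hr : r < 24) (hs : s < 24) (t : Kˣ) (u : K) :
    hR r (t : K) * xG s u * (hR r (t : K))⁻¹ = xG s ((t : K) ^ cartanRS chevD4 r s * u) := by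
  rw [hR_eq_torG hr, torG_conj _ hs]
  congr 2
  rw [chi_def, dv_def, D4NConj.cartanRS_eq r (List.mem_range.2 hr) s (List.mem_range.2 hs)]
  rw [zpow_add₀ t.ne_zero, zpow_add₀ t.ne_zero, zpow_add₀ t.ne_zero]
  simp only [Units.val_zpow_eq_zpow_val, zpow_mul, D4NConj.crt]
  rfl

theorem sq_a {c : K} (hc : c ≠ 0) : hR 14 c * xG 14 1 * (hR 14 c)⁻¹ = xG 14 (c ^ 2) := by
  have h := hR_conj (r := 14) (s := 14) (by norm_num) (by norm_num) (Units.mk0 c hc) 1
  have h2 : cartanRS chevD4 14 14 = 2 := by decide +kernel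
  rw [h2, mul_one, Units.val_mk0, zpow_ofNat] at h
  exact h

theorem hR_conj_zero {r s : ℕ} (hr : r < 24) (hs : s < 24) (h0 : cartanRS chevD4 r s = 0) {t : K} (ht : t ≠ 0) (u : K) :
    hR r t * xG s u * (hR r t)⁻¹ = xG s u := by
  have h := hR_conj hr hs (Units.mk0 t ht) u
  rw [h0, zpow_zero, one_mul, Units.val_mk0] at h
  exact h

theorem hR_conj_two {r s : ℕ} (hr : r < 24) (hs : s < 24) (h0 : cartanRS chevD4 r s = 2) {t : K} (ht : t ≠ 0) (u : K) :
    hR r t * xG s u * (hR r t)⁻¹ = xG s (t ^ 2 * u) := by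
  have h := hR_conj hr hs (Units.mk0 t ht) u
  rw [h0, zpow_ofNat, Units.val_mk0] at h
  exact h

theorem sq_b {c : K} (hc : c ≠ 0) : hb φ c * D4Fixed.X φ 1 * (hb φ c)⁻¹ = D4Fixed.X φ (c ^ 2) := by
  have h1 : φ c ≠ 0 := (map_ne_zero φ).2 hc
  have h2 : φ (φ c) ≠ 0 := (map_ne_zero φ).2 h1
  have e18 : hb φ c * xG 18 1 * (hb φ c)⁻¹ = xG 18 (c ^ 2) := by
    unfold hb
    have e : hR 18 c * hR 13 (φ c) * hR 12 (φ (φ c)) * xG 18 1 * (hR 18 c * hR 13 (φ c) * hR 12 (φ (φ c)))⁻¹ =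
        hR 18 c * (hR 13 (φ c) * (hR 12 (φ (φ c)) * xG 18 1 * (hR 12 (φ (φ c)))⁻¹) * (hR 13 (φ c))⁻¹) * (hR 18 c)⁻¹ := by
      group
    rw [e, hR_conj_zero (by norm_num) (by norm_num) (by decide +kernel) h2,
      hR_conj_zero (by norm_num) (by norm_num) (by decide +kernel) h1,
      hR_conj_two (by norm_num) (by norm_num) (by decide +kernel) hc, mul_one]
  have e13 : hb φ c * xG 13 1 * (hb φ c)⁻¹ = xG 13 (φ c ^ 2) := by
    unfold hb
    have e : hR 18 c * hR 13 (φ c) * hR 12 (φ (φ c)) * xG 13 1 * (hR 18 c * hR 13 (φ c) * hR 12 (φ (φ c)))⁻¹ =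
        hR 18 c * (hR 13 (φ c) * (hR 12 (φ (φ c)) * xG 13 1 * (hR 12 (φ (φ c)))⁻¹) * (hR 13 (φ c))⁻¹) * (hR 18 c)⁻¹ := by
      group
    rw [e, hR_conj_zero (by norm_num) (by norm_num) (by decide +kernel) h2,
      hR_conj_two (by norm_num) (by norm_num) (by decide +kernel) h1,
      hR_conj_zero (by norm_num) (by norm_num) (by decide +kernel) hc, mul_one]
  have e12 : hb φ c * xG 12 1 * (hb φ c)⁻¹ = xG 12 (φ (φ c) ^ 2) := by
    unfold hb
    have e : hR 18 c * hR 13 (φ c) * hR 12 (φ (φ c)) * xG 12 1 * (hR 18 c * hR 13 (φ c) * hR 12 (φ (φ c)))⁻¹ =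
        hR 18 c * (hR 13 (φ c) * (hR 12 (φ (φ c)) * xG 12 1 * (hR 12 (φ (φ c)))⁻¹) * (hR 13 (φ c))⁻¹) * (hR 18 c)⁻¹ := by
      group
    rw [e, hR_conj_two (by norm_num) (by norm_num) (by decide +kernel) h2,
      hR_conj_zero (by norm_num) (by norm_num) (by decide +kernel) h1,
      hR_conj_zero (by norm_num) (by norm_num) (by decide +kernel) hc, mul_one]
  unfold D4Fixed.X
  rw [xU_eq, xU_eq, xU_eq, xU_eq, xU_eq, xU_eq, map_one, map_one, map_pow, map_pow, ← e18, ← e13, ← e12]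
  group

theorem tail_le_U : RS K ordA.tail ≤ chevD4.posUnipotent K := RS_le_U (by decide +kernel)
theorem drop_le_U : RS K (ordB.drop 3) ≤ chevD4.posUnipotent K := RS_le_U (by decide +kernel)

theorem sch_aux [Finite K] (hφ : ∀ x, φ x = x ^ q) (hle : twistedD4 K q ≤ fix φ) {p : ℕ} [Fact p.Prime]
    (hUp : IsPGroup p ((chevD4.posUnipotent K).subgroupOf (twistedD4 K q))) (hcop : ¬ p ∣ Nat.card K - 1)
    (hfin : Finite (twistedD4 K q)) (hsimple : IsSimpleGroup (twistedD4 K q)) : Sch (twistedD4 K q) := by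
  obtain ⟨P, hPB, hPN, hPS⟩ := exists_bnPair_aux hφ hle
  let U : Subgroup ↥(twistedD4 K q) := (chevD4.posUnipotent K).subgroupOf (twistedD4 K q)
  let H : Subgroup ↥(twistedD4 K q) := (chevD4.diagonalSubgroup K).subgroupOf (twistedD4 K q)
  have memB : ∀ g : ↥(twistedD4 K q), g ∈ P.B ↔ (g : GL chevD4.Idx K) ∈ chevD4.borelSubgroup K := by
    intro g
    rw [hPB, Subgroup.mem_subgroupOf, Subgroup.mem_inf]
    exact ⟨fun h => h.1, fun h => ⟨h, g.2⟩⟩
  have memN : ∀ g : ↥(twistedD4 K q), g ∈ P.N ↔ (g : GL chevD4.Idx K) ∈ chevD4.monomialSubgroup K := by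
    intro g
    rw [hPN, Subgroup.mem_subgroupOf, Subgroup.mem_inf]
    exact ⟨fun h => h.1, fun h => ⟨h, g.2⟩⟩
  have hBUH : ∀ b ∈ P.B, ∃ u ∈ U, ∃ h ∈ H, b = u * h := by
    intro b hb
    obtain ⟨u, hu, huG, h, hh, hhG, e⟩ := ((tdata hφ hle).mem_B_iff (b : GL chevD4.Idx K) b.2).1 ((memB b).1 hb)
    exact ⟨⟨u, huG⟩, hu, ⟨h, hhG⟩, hh, Subtype.ext e⟩
  have hUB : U ≤ P.B := fun u hu => (memB u).2 (Subgroup.mem_sup_left hu)
  have hHB : H ≤ P.B := fun h hh => (memB h).2 (Subgroup.mem_sup_right hh)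
  have hHU : ∀ h ∈ H, ∀ u ∈ U, h * u * h⁻¹ ∈ U := fun h hh u hu => (tdata hφ hle).conj_H_U h hh u hu
  have hBU : ∀ b ∈ P.B, ∀ u ∈ U, b * u * b⁻¹ ∈ U := by
    intro b hb u hu
    obtain ⟨v, hv, h, hh, rfl⟩ := hBUH b hb
    have e : v * h * u * (v * h)⁻¹ = v * (h * u * h⁻¹) * v⁻¹ := by group
    rw [e]
    exact mul_mem (mul_mem hv (hHU h hh u hu)) (inv_mem hv)
  have hfix : ∀ g : ↥(twistedD4 K q), (g : GL chevD4.Idx K) ∈ fix φ := fun g => hle g.2
  have hXfix : ∀ t : K, D4Fixed.X φ t ∈ fix φ := fun t => hle (D4Fixed.X_mem hφ t)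
  refine sch_of_bn' P U hUp (core_eq_bot P (by rw [hPS]; exact ⟨_, Or.inl rfl⟩)) hUB hBU ?_ (Nat.card K - 1) hcop ?_
    (perm_of_card_le_four P ?_) ?_
  · intro b hb
    obtain ⟨u, hu, h, hh, rfl⟩ := hBUH b hb
    refine ⟨u, hu, ?_⟩
    rw [inv_mul_cancel_left, memN]
    exact diagonal_le_monomial K hh
  · intro h hh hn
    have h1 : (h : GL chevD4.Idx K) ∈ chevD4.diagonalSubgroup K := by
      rw [← borel_inf_monomial]
      exact ⟨(memB h).1 hh, (memN h).1 hn⟩
    apply Subtype.ext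
    exact pow_card_sub_one h1
  · rw [hPS, Nat.card_coe_set_eq]
    exact (Set.ncard_insert_le _ _).trans (by rw [Set.ncard_singleton]; norm_num)
  · intro s hs
    rw [hPS] at hs
    rcases hs with rfl | hs
    · -- the node `{p₂}`
      let F : Subfield K := RingHom.eqLocusField φ (RingHom.id K)
      have hF : ∀ t : F, φ t = t := fun t => t.2
      refine loc_of_field P U H ((RS K ordA.tail).subgroupOf (twistedD4 K q)) (nA hφ) hBUH hHB
        (F := F) (fun t => ⟨xG 14 (t : K), xG14_mem hφ (hF t)⟩) ?_ ?_ ?_ ?_ ?_ ?_ ?_ ?_ ?_ ?_ ?_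
      · intro t
        exact RS14_le_U (mem_rspan xG (S := {k | k ∈ [14]}) (by simp) _)
      · intro t t'
        apply Subtype.ext
        exact xG_add 14 (t : K) (t' : K)
      · intro v hv
        exact tail_le_U hv
      · intro u hu
        obtain ⟨v, hv, t, ht, e⟩ := decomp_a φ (u := (u : GL chevD4.Idx K)) hu (hfix u)
        have hvG : v ∈ twistedD4 K q := by
          have e2 : v = (u : GL chevD4.Idx K) * (xG 14 t)⁻¹ := by rw [e]; group
          rw [e2]
          exact mul_mem u.2 (inv_mem (xG14_mem hφ ht))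
        exact ⟨⟨v, hvG⟩, hv, ⟨t, ht⟩, Subtype.ext e⟩
      · intro t v hv
        exact conj_mem_RS (r := 14) (l := ordA.tail) (by decide +kernel) (t : K) hv
      · intro h hh v hv
        exact diag_conj_RS (l := ordA.tail) (by decide) hh hv
      · intro v hv
        exact na_inv_RS K (l := ordA.tail) (l' := ordA.tail) (by decide +kernel) hv
      · intro v hv
        exact hUB (tail_le_U hv)
      · intro t ht
        apply Subtype.ext
        exact xa_eq_zero ((memB _).1 ht)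
      · intro h hh
        obtain ⟨c, hc, e⟩ := H_conj_a (φ := φ) hh (hfix h)
        exact ⟨⟨c, hc⟩, fun t => Subtype.ext (e t)⟩
      · intro c hc
        have hc' : (c : K) ≠ 0 := fun h => hc (Subtype.ext h)
        refine ⟨⟨hR 14 (c : K), h14_mem hφ (hF c)⟩, hR_mem (by norm_num) hc', Subtype.ext ?_⟩
        exact sq_a hc'
    · -- the node `{p₁, p₃, p₄}`
      have hs' : s = nB hφ := hs
      subst hs'
      refine loc_of_field P U H ((RS K (ordB.drop 3)).subgroupOf (twistedD4 K q)) (nB hφ) hBUH hHB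
        (F := K) (fun t => ⟨D4Fixed.X φ t, D4Fixed.X_mem hφ t⟩) ?_ ?_ ?_ ?_ ?_ ?_ ?_ ?_ ?_ ?_ ?_
      · intro t
        exact RSouter_le_U (X_mem_RS t)
      · intro t t'
        apply Subtype.ext
        exact X_add t t'
      · intro v hv
        exact drop_le_U hv
      · intro u hu
        obtain ⟨v, hv, t, e⟩ := decomp_b φ (u := (u : GL chevD4.Idx K)) hu (hfix u)
        have hvG : v ∈ twistedD4 K q := by
          have e2 : v = (u : GL chevD4.Idx K) * (D4Fixed.X φ t)⁻¹ := by rw [e]; group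
          rw [e2]
          exact mul_mem u.2 (inv_mem (D4Fixed.X_mem hφ t))
        exact ⟨⟨v, hvG⟩, hv, t, Subtype.ext e⟩
      · intro t v hv
        show D4Fixed.X φ t * (v : GL chevD4.Idx K) * (D4Fixed.X φ t)⁻¹ ∈ RS K (ordB.drop 3)
        have h12 := conj_mem_RS (r := 12) (l := ordB.drop 3) (by decide +kernel) (φ (φ t)) hv
        have h13 := conj_mem_RS (r := 13) (l := ordB.drop 3) (by decide +kernel) (φ t) h12
        have h18 := conj_mem_RS (r := 18) (l := ordB.drop 3) (by decide +kernel) t h13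
        have e : D4Fixed.X φ t * (v : GL chevD4.Idx K) * (D4Fixed.X φ t)⁻¹ =
            xG 18 t * (xG 13 (φ t) * (xG 12 (φ (φ t)) * (v : GL chevD4.Idx K) * (xG 12 (φ (φ t)))⁻¹) *
              (xG 13 (φ t))⁻¹) * (xG 18 t)⁻¹ := by
          unfold D4Fixed.X
          rw [xU_eq, xU_eq, xU_eq]
          group
        rw [e]
        exact h18
      · intro h hh v hv
        exact diag_conj_RS (l := ordB.drop 3) (by decide) hh hv
      · intro v hv
        exact nb_inv_RS K (l := ordB.drop 3) (l' := ordB.drop 3) (by decide +kernel) hv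
      · intro v hv
        exact hUB (drop_le_U hv)
      · intro t ht
        exact xb_eq_zero ((memB _).1 ht)
      · intro h hh
        obtain ⟨c, e⟩ := H_conj_b (φ := φ) hh (hfix h) hXfix
        exact ⟨c, fun t => Subtype.ext (e t)⟩
      · intro c hc
        refine ⟨⟨hb φ c, hb_mem hφ c⟩, hb_mem_diagonal φ hc, Subtype.ext ?_⟩
        exact sq_b hc

end Twisted

/-- **The Schreier property of ³D₄(q).** -/
theorem sch {K : Type*} [Field K] [Fintype K] {q : ℕ} (hq : IsPrimePow q) (hK : Fintype.card K = q ^ 3)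
    (hfin : Finite (twistedD4 K q)) (hsimple : IsSimpleGroup (twistedD4 K q)) : Sch (twistedD4 K q) := by
  obtain ⟨φ, hφ⟩ := D4Fixed.exists_frob hq hK
  have hle := twisted_le_fix hK hφ
  have hcard := card_U1 hq hK
  obtain ⟨p, k, hp, hk, rfl⟩ := (isPrimePow_nat_iff _).1 hq
  have : Fact p.Prime := ⟨hp⟩
  refine sch_aux (p := p) hφ hle ?_ ?_ hfin hsimple
  · apply IsPGroup.of_card (n := k * 12)
    have h1 : Nat.card ((chevD4.posUnipotent K).subgroupOf (twistedD4 K (p ^ k))) =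
        Nat.card ↥(chevD4.posUnipotent K ⊓ twistedD4 K (p ^ k)) := by
      rw [← Subgroup.inf_subgroupOf_right]
      exact Nat.card_congr (Subgroup.subgroupOfEquivOfLe inf_le_right).toEquiv
    rw [h1, hcard, pow_mul]
  · rw [Nat.card_eq_fintype_card, hK, ← pow_mul]
    intro h
    have h2 : p ∣ p ^ (k * 3) := dvd_pow_self p (by positivity)
    have h3 : p ∣ 1 := by
      have h4 : 1 ≤ p ^ (k * 3) := Nat.one_le_pow _ _ hp.pos
      have := (Nat.dvd_sub h2 h)
      rwa [Nat.sub_sub_self h4] at this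
    exact hp.one_lt.ne' (Nat.dvd_one.1 h3)

/-- The Schreier property for all finite simple groups isomorphic to some ³D₄(q). -/
theorem sch_of_iso {G : Type*} [Group G] [Finite G] [IsSimpleGroup G] (h : Iso3D4 G) : Sch G := by
  obtain ⟨K, _, _, q, hq, hK, ⟨e⟩⟩ := h
  have h1 : Finite (twistedD4 K q) := Finite.of_equiv G e.toEquiv
  have h2 : Nontrivial (twistedD4 K q) := e.toEquiv.symm.nontrivial
  have h3 : IsSimpleGroup (twistedD4 K q) :=
    IsSimpleGroup.isSimpleGroup_of_surjective e.toMonoidHom e.surjective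
  exact Sch.of_equiv e.symm (sch hq hK h1 h3)

end Cfsg.Agent.Schreier.ThreeD4
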