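import Mathlib

/-!
# Sylow subgroups from orders
-/

set_option autoImplicit false

namespace Cfsg.Agent.Schreier.BNArith

theorem not_dvd_pow_sub_one {p q a : ℕ} (hp : p.Prime) (hpq : p ∣ q) (hq : 1 < q) (ha : a ≠ 0) :
    ¬ p ∣ q ^ a - 1 := by
  intro h
  have h1 : p ∣ q ^ a := dvd_pow hpq ha
  have h2 : 1 ≤ q ^ a := Nat.one_le_pow _ _ (by omega)
  have h3 : p ∣ 1 := by
    have : q ^ a - (q ^ a - 1) = 1 := by omega
    rw [← this]
    exact Nat.dvd_sub h1 h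
  exact hp.one_lt.ne' (Nat.dvd_one.1 h3)

theorem not_dvd_pow_add_one {p q a : ℕ} (hp : p.Prime) (hpq : p ∣ q) (ha : a ≠ 0) :
    ¬ p ∣ q ^ a + 1 := by
  intro h
  have h1 : p ∣ q ^ a := dvd_pow hpq ha
  exact hp.one_lt.ne' (Nat.dvd_one.1 ((Nat.dvd_add_right h1).1 h))

/-- The subgroup `U ⊓ G` of `G` and its order. -/
theorem card_subgroupOf {Γ : Type*} [Group Γ] (U G : Subgroup Γ) :
    Nat.card (U.subgroupOf G) = Nat.card (U ⊓ G : Subgroup Γ) := by
  rw [← Subgroup.inf_subgroupOf_right]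
  exact Nat.card_congr (Subgroup.subgroupOfEquivOfLe inf_le_right).toEquiv

end Cfsg.Agent.Schreier.BNArith
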