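import Mathlib
import Cfsg.Agent.Schreier.Basic
import Cfsg.Agent.Schreier.Tools

/-!
# Perfect groups of automorphisms and minimal parabolic subgroups

Local part of the generic theorem: a perfect group `D` of automorphisms normalising `B`, a minimal parabolic `P`
over `B`, the unipotent group `U` and a complement `V` fixes all cosets of `B` in `P`.
-/

set_option autoImplicit false

namespace Cfsg.Agent.Schreier.BNLocal

open Cfsg.Agent.Schreier.Basic Cfsg.Agent.Schreier.Tools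

/-- A perfect group normalising a cyclic group `A` of automorphisms that is transitive on the non-identity elements
acts trivially. -/
theorem apply_eq_of_transitive {W : Type*} [Group W] {X : Type*} [Group X] {D : Subgroup X} (hD : ⁅D, D⁆ = D)
    (A : Subgroup (MulAut W)) [hc : IsCyclic A] (f : D →* MulAut W)
    (hn : ∀ d : D, ∀ a ∈ A, f d * a * (f d)⁻¹ ∈ A)
    (htr : ∀ x y : W, x ≠ 1 → y ≠ 1 → ∃ a ∈ A, a x = y) (d : D) (w : W) : f d w = w := by
  have hcomm : ∀ a ∈ A, ∀ b ∈ A, a * b = b * a := by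
    intro a ha b hb
    have := IsCyclic.commGroup (α := A)
    obtain ⟨g, hg⟩ := hc.exists_generator
    obtain ⟨m, hm⟩ := Subgroup.mem_zpowers_iff.1 (hg ⟨a, ha⟩)
    obtain ⟨n, hn⟩ := Subgroup.mem_zpowers_iff.1 (hg ⟨b, hb⟩)
    have h1 : (⟨a, ha⟩ : A) * ⟨b, hb⟩ = ⟨b, hb⟩ * ⟨a, ha⟩ := by
      rw [← hm, ← hn, ← zpow_add, ← zpow_add, add_comm]
    exact congrArg Subtype.val h1
  -- `f d` normalises `A`
  have hnorm : ∀ d : D, f d ∈ Subgroup.normalizer (A : Set (MulAut W)) := by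
    intro d
    rw [Subgroup.mem_normalizer_iff]
    intro a
    refine ⟨fun ha => hn d a ha, fun ha => ?_⟩
    have h1 := hn d⁻¹ _ ha
    rw [map_inv] at h1
    have e : (f d)⁻¹ * (f d * a * (f d)⁻¹) * (f d)⁻¹⁻¹ = a := by group
    rwa [e] at h1
  -- `f d` centralises `A`
  let f' : D →* Subgroup.normalizer (A : Set (MulAut W)) := f.codRestrict _ hnorm
  have hsol : Group.IsSolvable (MulAut A) := by
    have hab : ∀ x y : MulAut A, x * y = y * x := by
      intro x y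
      apply (IsCyclic.mulAutMulEquiv A).injective
      rw [map_mul, map_mul, mul_comm]
    exact Group.isSolvable_of_comm hab
  have hcent : ∀ d : D, ∀ a ∈ A, f d * a = a * f d := by
    intro d a ha
    have h1 := hom_eq_one hD (A.normalizerMonoidHom.comp f') d
    have h2 := congrArg (fun ψ : MulAut A => ((ψ ⟨a, ha⟩ : A) : MulAut W)) h1
    have h3 : f d * a * (f d)⁻¹ = a := h2
    rw [mul_inv_eq_iff_eq_mul] at h3
    exact h3
  by_cases hW : ∀ w : W, w = 1
  · rw [hW (f d w), hW w]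
  push Not at hW
  obtain ⟨w0, hw0⟩ := hW
  -- `f d ∈ A`
  have hmem : ∀ d : D, f d ∈ A := by
    intro d
    have h1 : f d w0 ≠ 1 := fun h => hw0 ((MulEquiv.map_eq_one_iff (f d)).1 h)
    obtain ⟨a, ha, haw⟩ := htr w0 (f d w0) hw0 h1
    have h2 : f d = a := by
      ext w
      by_cases hw : w = 1
      · rw [hw, map_one, map_one]
      · obtain ⟨b, hb, rfl⟩ := htr w0 w hw0 hw
        have h3 : (f d * b) w0 = (b * f d) w0 := by rw [hcent d b hb]
        have h4 : (a * b) w0 = (b * a) w0 := by rw [hcomm a ha b hb]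
        rw [MulAut.mul_apply, MulAut.mul_apply] at h3 h4
        rw [h3, h4, haw]
    rw [h2]; exact ha
  have hsolA : Group.IsSolvable A :=
    Group.isSolvable_of_comm fun x y => Subtype.ext (hcomm x x.2 y y.2)
  have h1 := hom_eq_one hD (f.codRestrict A hmem) d
  have h2 := congrArg (fun ψ : A => (ψ : MulAut W) w) h1
  exact h2


section Quotient

variable {K : Type*} [Group K]

/-- The automorphisms of `K` stabilising `U` and `V`. -/
def st (U V : Subgroup K) : Subgroup (MulAut K) where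
  carrier := {φ | (∀ a, φ a ∈ U ↔ a ∈ U) ∧ (∀ a, φ a ∈ V ↔ a ∈ V)}
  one_mem' := ⟨fun _ => Iff.rfl, fun _ => Iff.rfl⟩
  mul_mem' := fun {φ ψ} hφ hψ => ⟨fun a => (hφ.1 (ψ a)).trans (hψ.1 a), fun a => (hφ.2 (ψ a)).trans (hψ.2 a)⟩
  inv_mem' := fun {φ} hφ => ⟨fun a => by
      have := (hφ.1 (φ⁻¹ a))
      rw [MulAut.apply_inv_self] at this
      exact this.symm, fun a => by
      have := (hφ.2 (φ⁻¹ a))
      rw [MulAut.apply_inv_self] at this
      exact this.symm⟩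

theorem mem_st {U V : Subgroup K} {φ : MulAut K} :
    φ ∈ st U V ↔ (∀ a, φ a ∈ U ↔ a ∈ U) ∧ (∀ a, φ a ∈ V ↔ a ∈ V) := Iff.rfl

theorem le_st {D : Subgroup (MulAut K)} {U V : Subgroup K} (hU : Inv D U) (hV : Inv D V) : D ≤ st U V :=
  fun _ hφ => ⟨fun _ => hU.apply_mem_iff hφ, fun _ => hV.apply_mem_iff hφ⟩

/-- Restriction to `U`. -/
def resU (U V : Subgroup K) : st U V →* MulAut U where
  toFun φ :=
    { toFun := fun a => ⟨(φ : MulAut K) a, (φ.2.1 a).2 a.2⟩
      invFun := fun a => ⟨(φ : MulAut K)⁻¹ a, (((st U V).inv_mem φ.2).1 a).2 a.2⟩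
      left_inv := fun a => Subtype.ext (MulAut.inv_apply_self _ (φ : MulAut K) a)
      right_inv := fun a => Subtype.ext (MulAut.apply_inv_self _ (φ : MulAut K) a)
      map_mul' := fun a b => Subtype.ext (map_mul (φ : MulAut K) _ _) }
  map_one' := by ext a; rfl
  map_mul' φ ψ := by ext a; rfl

theorem resU_apply {U V : Subgroup K} (φ : st U V) (a : U) : ((resU U V φ a : U) : K) = (φ : MulAut K) a := rfl

theorem resU_map {U V : Subgroup K} (φ : st U V) :
    (V.subgroupOf U).map (resU U V φ).toMonoidHom = V.subgroupOf U := by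
  ext x
  constructor
  · rintro ⟨y, hy, rfl⟩
    exact (φ.2.2 y).2 hy
  · intro hx
    refine ⟨(resU U V φ)⁻¹ x, ?_, MulAut.apply_inv_self _ (resU U V φ) x⟩
    have h1 : ((resU U V φ)⁻¹ x : K) = (φ : MulAut K)⁻¹ x := rfl
    show ((resU U V φ)⁻¹ x : K) ∈ V
    rw [h1]
    exact (((st U V).inv_mem φ.2).2 x).2 hx

/-- The action on `U/V`. -/
noncomputable def act (U V : Subgroup K) [(V.subgroupOf U).Normal] : st U V →* MulAut (U ⧸ V.subgroupOf U) where
  toFun φ := QuotientGroup.congr _ _ (resU U V φ) (resU_map φ)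
  map_one' := by
    ext x
    induction x using QuotientGroup.induction_on with
    | H a => rfl
  map_mul' φ ψ := by
    ext x
    induction x using QuotientGroup.induction_on with
    | H a => rfl

theorem act_mk {U V : Subgroup K} [(V.subgroupOf U).Normal] (φ : st U V) (a : U) :
    act U V φ (QuotientGroup.mk a) = QuotientGroup.mk (resU U V φ a) := rfl

end Quotient

section Local

variable {K : Type*} [Group K]

theorem conj_mem_st {B U V : Subgroup K} (hBU : ∀ b ∈ B, ∀ u ∈ U, b * u * b⁻¹ ∈ U)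
    (hBV : ∀ b ∈ B, ∀ v ∈ V, b * v * b⁻¹ ∈ V) {b : K} (hb : b ∈ B) : MulAut.conj b ∈ st U V := by
  have key : ∀ W : Subgroup K, (∀ b ∈ B, ∀ u ∈ W, b * u * b⁻¹ ∈ W) → ∀ a, MulAut.conj b a ∈ W ↔ a ∈ W := by
    intro W hW a
    rw [MulAut.conj_apply]
    refine ⟨fun h => ?_, fun h => hW b hb a h⟩
    have h1 := hW b⁻¹ (inv_mem hb) _ h
    have e : b⁻¹ * (b * a * b⁻¹) * b⁻¹⁻¹ = a := by group
    rwa [e] at h1
  exact ⟨key U hBU, key V hBV⟩

/-- **Claim 1.**  If `B` acts on the quotient `U/V` through a cyclic group transitive on the non-identity elements,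
then a perfect group `D` normalising `B`, `U`, `V` acts trivially on `U/V`. -/
theorem trMod_of_cyclic {D : Subgroup (MulAut K)} (hD : ⁅D, D⁆ = D) {B U V : Subgroup K} (hB : Inv D B)
    (hU : Inv D U) (hV : Inv D V) (hBU : ∀ b ∈ B, ∀ u ∈ U, b * u * b⁻¹ ∈ U)
    (hBV : ∀ b ∈ B, ∀ v ∈ V, b * v * b⁻¹ ∈ V) (hUB : U ≤ B)
    (h0 : K) (h0B : h0 ∈ B)
    (hcyc : ∀ b ∈ B, ∃ k : ℤ, ∀ u ∈ U, (b * u * b⁻¹)⁻¹ * (h0 ^ k * u * (h0 ^ k)⁻¹) ∈ V)
    (htr : ∀ u ∈ U, ∀ v ∈ U, u ∉ V → v ∉ V → ∃ b ∈ B, (b * u * b⁻¹)⁻¹ * v ∈ V) : TrMod D U V := by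
  have hN : (V.subgroupOf U).Normal := by
    constructor
    intro v hv u
    exact hBV u (hUB u.2) v hv
  -- conjugation by elements of `B`
  let cB : B → st U V := fun b => ⟨MulAut.conj (b : K), conj_mem_st hBU hBV b.2⟩
  let a0 : MulAut (U ⧸ V.subgroupOf U) := act U V (cB ⟨h0, h0B⟩)
  let A : Subgroup (MulAut (U ⧸ V.subgroupOf U)) := Subgroup.zpowers a0
  have hzp : ∀ k : ℤ, a0 ^ k = act U V (cB ⟨h0 ^ k, zpow_mem h0B k⟩) := by
    intro k
    have h1 : cB ⟨h0 ^ k, zpow_mem h0B k⟩ = (cB ⟨h0, h0B⟩) ^ k := by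
      apply Subtype.ext
      show MulAut.conj (h0 ^ k) = _
      rw [map_zpow]
      rfl
    rw [h1, map_zpow]
  -- every element of `B` acts as an element of `A`
  have hBA : ∀ b : B, act U V (cB b) ∈ A := by
    intro b
    obtain ⟨k, hk⟩ := hcyc b b.2
    refine Subgroup.mem_zpowers_iff.2 ⟨k, ?_⟩
    rw [hzp]
    ext x
    induction x using QuotientGroup.induction_on with
    | H u =>
      rw [act_mk, act_mk]
      apply Eq.symm
      rw [QuotientGroup.eq]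
      exact hk u u.2
  let f : D →* MulAut (U ⧸ V.subgroupOf U) := (act U V).comp (Subgroup.inclusion (le_st hU hV))
  have hnorm : ∀ d : D, ∀ a ∈ A, f d * a * (f d)⁻¹ ∈ A := by
    intro d a ha
    obtain ⟨k, rfl⟩ := Subgroup.mem_zpowers_iff.1 ha
    rw [hzp]
    have h1 : (d : MulAut K) (h0 ^ k) ∈ B := hB.apply_mem d.2 (zpow_mem h0B k)
    have h2 : f d * act U V (cB ⟨h0 ^ k, zpow_mem h0B k⟩) * (f d)⁻¹ =
        act U V (cB ⟨(d : MulAut K) (h0 ^ k), h1⟩) := by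
      have h3 : (Subgroup.inclusion (le_st hU hV) d) * cB ⟨h0 ^ k, zpow_mem h0B k⟩ *
          (Subgroup.inclusion (le_st hU hV) d)⁻¹ = cB ⟨(d : MulAut K) (h0 ^ k), h1⟩ := by
        apply Subtype.ext
        show (d : MulAut K) * MulAut.conj (h0 ^ k) * (d : MulAut K)⁻¹ = MulAut.conj ((d : MulAut K) (h0 ^ k))
        ext x
        show (d : MulAut K) (h0 ^ k * (d : MulAut K)⁻¹ x * (h0 ^ k)⁻¹) =
          (d : MulAut K) (h0 ^ k) * x * ((d : MulAut K) (h0 ^ k))⁻¹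
        rw [map_mul, map_mul, map_inv, MulAut.apply_inv_self]
      rw [← h3, map_mul, map_mul, map_inv]
      rfl
    rw [h2]
    exact hBA _
  have htr' : ∀ x y : U ⧸ V.subgroupOf U, x ≠ 1 → y ≠ 1 → ∃ a ∈ A, a x = y := by
    intro x y
    induction x using QuotientGroup.induction_on with
    | H u =>
      induction y using QuotientGroup.induction_on with
      | H v =>
        intro hx hy
        rw [Ne, QuotientGroup.eq_one_iff, Subgroup.mem_subgroupOf] at hx hy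
        obtain ⟨b, hb, hbv⟩ := htr u u.2 v v.2 hx hy
        refine ⟨_, hBA ⟨b, hb⟩, ?_⟩
        rw [act_mk, QuotientGroup.eq]
        exact hbv
  intro φ hφ u hu
  have h1 := apply_eq_of_transitive hD A f hnorm htr' ⟨φ, hφ⟩ (QuotientGroup.mk ⟨u, hu⟩)
  have h2 : (QuotientGroup.mk (⟨u, hu⟩ : U) : U ⧸ V.subgroupOf U) =
      QuotientGroup.mk (⟨φ u, hU.apply_mem hφ hu⟩ : U) := h1.symm
  rw [QuotientGroup.eq] at h2
  exact h2

/-- **Claim 2.**  `U` is solvable, `D` acts trivially on `U/V`, `P = B ∪ U n B` and `V` fixes `n B` while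
`u n B = n B` forces `u ∈ V`: then `D` fixes all cosets of `B` in `P`. -/
theorem fixes_cosets {D : Subgroup (MulAut K)} (hD : ⁅D, D⁆ = D) {B P U V : Subgroup K} (hB : Inv D B)
    (hP : Inv D P) (hU : Inv D U) (hUV : TrMod D U V) (hUB : U ≤ B)
    (hBV : ∀ b ∈ B, ∀ v ∈ V, b * v * b⁻¹ ∈ V) (hsolU : Group.IsSolvable U)
    {n : K} (hnP : n ∈ P) (hnB : n ∉ B) (hPB : ∀ g ∈ P, g ∈ B ∨ ∃ u ∈ U, ∃ b ∈ B, g = u * n * b)
    (h1 : ∀ v ∈ V, n⁻¹ * v * n ∈ B) (h2 : ∀ u ∈ U, n⁻¹ * u * n ∈ B → u ∈ V) :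
    ∀ φ ∈ D, ∀ g ∈ P, g⁻¹ * φ g ∈ B := by
  have hN : (V.subgroupOf U).Normal := by
    constructor
    intro v hv u
    exact hBV u (hUB u.2) v hv
  -- the element `u_φ`
  have hex : ∀ φ : D, ∃ u : U, ∃ b ∈ B, (φ : MulAut K) n = u * n * b := by
    intro φ
    rcases hPB _ (hP.apply_mem φ.2 hnP) with h | ⟨u, hu, b, hb, e⟩
    · exact absurd ((hB.apply_mem_iff φ.2).1 h) hnB
    · exact ⟨⟨u, hu⟩, b, hb, e⟩
  choose u hu using hex
  have huniq : ∀ x y : U, ∀ b ∈ B, ∀ c ∈ B, (x : K) * n * b = y * n * c → x⁻¹ * y ∈ V.subgroupOf U := by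
    intro x y b hb c hc h
    apply h2 _ (x⁻¹ * y).2
    have e : n⁻¹ * (x⁻¹ * y : U) * n = b * c⁻¹ := by
      have : (y : K) * n = x * n * b * c⁻¹ := by rw [h]; group
      calc n⁻¹ * ((x⁻¹ * y : U) : K) * n = n⁻¹ * (x : K)⁻¹ * (y * n) := by
            rw [Subgroup.coe_mul, Subgroup.coe_inv]; group
        _ = _ := by rw [this]; group
    rw [e]
    exact mul_mem hb (inv_mem hc)
  let f : D →* (U ⧸ V.subgroupOf U) :=
    MonoidHom.mk' (fun φ => (QuotientGroup.mk (u φ))⁻¹) (by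
      intro φ ψ
      obtain ⟨b1, hb1, e1⟩ := hu φ
      obtain ⟨b2, hb2, e2⟩ := hu ψ
      obtain ⟨b3, hb3, e3⟩ := hu (φ * ψ)
      -- `φ (u_ψ) = u_ψ v`
      have hv := hUV φ φ.2 (u ψ) (u ψ).2
      set v := ((u ψ : U) : K)⁻¹ * (φ : MulAut K) (u ψ) with hvdef
      have hvU : v ∈ U := mul_mem (inv_mem (u ψ).2) (hU.apply_mem φ.2 (u ψ).2)
      have e4 : ((φ * ψ : D) : MulAut K) n = ((u ψ : K) * v * u φ) * n * (b1 * (φ : MulAut K) b2) := by
        have : ((φ * ψ : D) : MulAut K) n = (φ : MulAut K) ((ψ : MulAut K) n) := rfl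
        rw [this, e2, map_mul, map_mul, e1, hvdef]
        group
      have h5 : (u (φ * ψ))⁻¹ * (u ψ * ⟨v, hvU⟩ * u φ) ∈ V.subgroupOf U := by
        refine huniq _ _ b3 hb3 (b1 * (φ : MulAut K) b2) (mul_mem hb1 (hB.apply_mem φ.2 hb2)) ?_
        rw [← e3, e4]
        rfl
      have h6 : (QuotientGroup.mk (u (φ * ψ)) : U ⧸ V.subgroupOf U) =
          QuotientGroup.mk (u ψ) * QuotientGroup.mk ⟨v, hvU⟩ * QuotientGroup.mk (u φ) := by
        rw [← QuotientGroup.mk_mul, ← QuotientGroup.mk_mul, QuotientGroup.eq]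
        exact h5
      have h7 : (QuotientGroup.mk (⟨v, hvU⟩ : U) : U ⧸ V.subgroupOf U) = 1 := by
        rw [QuotientGroup.eq_one_iff]
        exact hv
      rw [h6, h7, mul_one, mul_inv_rev])
  have hsol : Group.IsSolvable (U ⧸ V.subgroupOf U) := by
    have := hsolU
    infer_instance
  have hf : ∀ φ : D, (u φ : K) ∈ V := by
    intro φ
    have h3 := hom_eq_one hD f φ
    have h4 : (QuotientGroup.mk (u φ) : U ⧸ V.subgroupOf U) = 1 := inv_eq_one.1 h3
    rw [QuotientGroup.eq_one_iff] at h4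
    exact h4
  -- `φ n ∈ n B`
  have hn : ∀ φ ∈ D, n⁻¹ * φ n ∈ B := by
    intro φ hφ
    obtain ⟨b, hb, e⟩ := hu ⟨φ, hφ⟩
    have e' : n⁻¹ * φ n = (n⁻¹ * u ⟨φ, hφ⟩ * n) * b := by
      have : φ n = u ⟨φ, hφ⟩ * n * b := e
      rw [this]; group
    rw [e']
    exact mul_mem (h1 _ (hf _)) hb
  intro φ hφ g hg
  rcases hPB g hg with hgB | ⟨x, hx, b, hb, rfl⟩
  · exact mul_mem (inv_mem hgB) (hB.apply_mem hφ hgB)
  · have hv := hUV φ hφ x hx
    have e : (x * n * b)⁻¹ * φ (x * n * b) = b⁻¹ * (n⁻¹ * (x⁻¹ * φ x) * n) * (n⁻¹ * φ n) * φ b := by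
      rw [map_mul, map_mul]; group
    rw [e]
    exact mul_mem (mul_mem (mul_mem (inv_mem hb) (h1 _ hv)) (hn φ hφ)) (hB.apply_mem hφ hb)

end Local

end Cfsg.Agent.Schreier.BNLocal
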