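import Mathlib
import Cfsg.Agent.Schreier.BNLocal

/-!
# The field lemma (transitive torus)

`U = x(E) V` with `x : E → U` additive, `B` acts on `x(E)` modulo `V` by multiplications and every non-zero
multiplication occurs: a perfect group of automorphisms normalising `B`, `U`, `V` acts trivially on `U/V`.
-/

set_option autoImplicit false

namespace Cfsg.Agent.Schreier.BNTorus

open Cfsg.Agent.Schreier.Basic Cfsg.Agent.Schreier.Tools Cfsg.Agent.Schreier.BNLocal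

variable {K : Type*} [Group K] {E : Type*} [Field E]

/-- `b x(t) b⁻¹ ∈ V x(c t)` for all `t`. -/
def Scal (V : Subgroup K) (x : E → K) (b : K) (c : E) : Prop := ∀ t : E, ∃ v ∈ V, b * x t * b⁻¹ = v * x (c * t)

theorem Scal.mul {V : Subgroup K} {x : E → K} {b b' : K} {c c' : E} (h : Scal V x b c) (h' : Scal V x b' c')
    (hb : ∀ v ∈ V, b * v * b⁻¹ ∈ V) : Scal V x (b * b') (c * c') := by
  intro t
  obtain ⟨v', hv', e'⟩ := h' t
  obtain ⟨v, hv, e⟩ := h (c' * t)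
  refine ⟨b * v' * b⁻¹ * v, mul_mem (hb _ hv') hv, ?_⟩
  have e1 : b * b' * x t * (b * b')⁻¹ = b * (b' * x t * b'⁻¹) * b⁻¹ := by group
  have e2 : b * (v' * x (c' * t)) * b⁻¹ = (b * v' * b⁻¹) * (b * x (c' * t) * b⁻¹) := by group
  rw [e1, e', e2, e, mul_assoc c c' t, mul_assoc (b * v' * b⁻¹) v]

theorem Scal.one {V : Subgroup K} {x : E → K} : Scal V x 1 1 := fun t => ⟨1, one_mem _, by simp⟩

theorem Scal.pow {V : Subgroup K} {x : E → K} {b : K} {c : E} (h : Scal V x b c)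
    (hb : ∀ v ∈ V, b * v * b⁻¹ ∈ V) (k : ℕ) : Scal V x (b ^ k) (c ^ k) := by
  induction k with
  | zero => rw [pow_zero, pow_zero]; exact Scal.one
  | succ k ih => rw [pow_succ', pow_succ']; exact h.mul ih hb

/-- **The field lemma.** -/
theorem trMod_of_field [Finite E] {D : Subgroup (MulAut K)} (hD : ⁅D, D⁆ = D) {B U V : Subgroup K} (hB : Inv D B)
    (hU : Inv D U) (hV : Inv D V) (hBU : ∀ b ∈ B, ∀ u ∈ U, b * u * b⁻¹ ∈ U)
    (hBV : ∀ b ∈ B, ∀ v ∈ V, b * v * b⁻¹ ∈ V) (hUB : U ≤ B)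
    (x : E → K) (hxU : ∀ t, x t ∈ U) (hsurj : ∀ u ∈ U, ∃ t, ∃ v ∈ V, u = v * x t)
    (hx0 : x 0 ∈ V)
    (hact : ∀ b ∈ B, ∃ c : E, c ≠ 0 ∧ Scal V x b c) (htor : ∀ c : E, c ≠ 0 → ∃ b ∈ B, Scal V x b c) :
    TrMod D U V := by
  obtain ⟨g, hg⟩ := IsCyclic.exists_generator (α := Eˣ)
  obtain ⟨b0, hb0, hs0⟩ := htor g g.ne_zero
  have hVU : ∀ u ∈ U, ∀ v ∈ V, u⁻¹ * v * u ∈ V := by
    intro u hu v hv
    have := hBV u⁻¹ (inv_mem (hUB hu)) v hv
    rwa [inv_inv] at this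
  -- comparing two elements
  have hcmp : ∀ (b b' : K) (c : E), b ∈ B → b' ∈ B → Scal V x b c → Scal V x b' c → ∀ u ∈ U,
      (b * u * b⁻¹)⁻¹ * (b' * u * b'⁻¹) ∈ V := by
    intro b b' c hb hb' hs hs' u hu
    obtain ⟨t, w, hw, rfl⟩ := hsurj u hu
    obtain ⟨v, hv, e⟩ := hs t
    obtain ⟨v', hv', e'⟩ := hs' t
    have e1 : b * (w * x t) * b⁻¹ = (b * w * b⁻¹) * v * x (c * t) := by
      rw [mul_assoc _ v, ← e]; group
    have e2 : b' * (w * x t) * b'⁻¹ = (b' * w * b'⁻¹) * v' * x (c * t) := by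
      rw [mul_assoc _ v', ← e']; group
    have e3 : (b * (w * x t) * b⁻¹)⁻¹ * (b' * (w * x t) * b'⁻¹) =
        (x (c * t))⁻¹ * (((b * w * b⁻¹) * v)⁻¹ * ((b' * w * b'⁻¹) * v')) * x (c * t) := by
      rw [e1, e2]; group
    rw [e3]
    exact hVU _ (hxU _) _ (mul_mem (inv_mem (mul_mem (hBV _ hb _ hw) hv)) (mul_mem (hBV _ hb' _ hw) hv'))
  refine trMod_of_cyclic hD hB hU hV hBU hBV hUB b0 hb0 ?_ ?_
  · intro b hb
    obtain ⟨c, hc, hs⟩ := hact b hb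
    obtain ⟨k, hk⟩ := (Submonoid.mem_powers_iff _ _).1 (mem_powers_iff_mem_zpowers.2 (hg (Units.mk0 c hc)))
    refine ⟨(k : ℤ), fun u hu => ?_⟩
    have h1 : Scal V x (b0 ^ k) c := by
      have h2 := hs0.pow (hBV b0 hb0) k
      have h3 : (g : E) ^ k = c := by
        rw [← Units.val_pow_eq_pow_val, hk, Units.val_mk0]
      rwa [h3] at h2
    rw [zpow_natCast]
    exact hcmp b (b0 ^ k) c hb (pow_mem hb0 k) hs h1 u hu
  · intro u hu v hv hu' hv'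
    obtain ⟨t, w, hw, rfl⟩ := hsurj u hu
    obtain ⟨s, w', hw', rfl⟩ := hsurj v hv
    have ht : t ≠ 0 := by
      rintro rfl
      exact hu' (mul_mem hw hx0)
    have hs : s ≠ 0 := by
      rintro rfl
      exact hv' (mul_mem hw' hx0)
    obtain ⟨b, hb, hsc⟩ := htor (s * t⁻¹) (mul_ne_zero hs (inv_ne_zero ht))
    refine ⟨b, hb, ?_⟩
    obtain ⟨z, hz, e⟩ := hsc t
    rw [inv_mul_cancel_right₀ ht] at e
    have e1 : b * (w * x t) * b⁻¹ = (b * w * b⁻¹) * z * x s := by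
      rw [mul_assoc _ z, ← e]; group
    have e3 : (b * (w * x t) * b⁻¹)⁻¹ * (w' * x s) = (x s)⁻¹ * (((b * w * b⁻¹) * z)⁻¹ * w') * x s := by
      rw [e1]; group
    rw [e3]
    exact hVU _ (hxU _) _ (mul_mem (inv_mem (mul_mem (hBV _ hb _ hw) hz)) hw')

end Cfsg.Agent.Schreier.BNTorus
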