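import Mathlib
import Cfsg.Agent.ChevalleyStructure.TwistedBN
import Cfsg.Agent.Schreier.BNTorus
import Cfsg.Agent.Schreier.BNSch

/-!
# The Schreier property of a twisted group from its `TwistedData`
-/

set_option autoImplicit false

namespace Cfsg.Agent.Schreier.BNTwisted

open Cfsg.Agent.Schreier.Basic Cfsg.Agent.Schreier.Tools Cfsg.Agent.Schreier.BNTorus
open Cfsg.Agent.ChevalleyStructure.TwistedBN

variable {Γ : Type*} [Group Γ] {ι : Type*}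

/-- The local data at a relative simple root: the root group is `x(E)`, the torus acts by all multiplications. -/
structure Loc (T : TwistedData Γ ι) (i : ι) (E : Type*) [Field E] where
  /-- the complement -/
  V : Subgroup Γ
  /-- the parametrisation of the root group -/
  x : E → Γ
  V_le : V ≤ T.U
  sub : ∀ v ∈ T.V i, v ∈ V
  norm_B : ∀ b ∈ T.U ⊔ T.H, ∀ v ∈ V, b * v * b⁻¹ ∈ V
  norm_n : ∀ v ∈ V, (T.n i)⁻¹ * v * T.n i ∈ V
  x_mem_X : ∀ t, x t ∈ T.X i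
  x_mem_G : ∀ t, x t ∈ T.G
  X_mem_U : ∀ y ∈ T.X i, y ∈ T.U
  x_surj : ∀ y ∈ T.X i, y ∈ T.G → ∃ t, y = x t
  x_comm : ∀ s t, x s * x t = x t * x s
  x_zero : x 0 = 1
  x_one : x 1 ≠ 1
  Y_B : ∀ y ∈ T.Y i, y ∈ T.U ⊔ T.H → y = 1
  act : ∀ h ∈ T.H, h ∈ T.G → ∃ c : E, c ≠ 0 ∧ ∀ t, h * x t * h⁻¹ = x (c * t)
  tor : ∀ c : E, c ≠ 0 → ∃ h ∈ T.H, h ∈ T.G ∧ ∀ t, h * x t * h⁻¹ = x (c * t)

namespace Loc

variable {T : TwistedData Γ ι} {i : ι} {E : Type*} [Field E] (L : Loc T i E)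

include L

theorem x_mem_U (t : E) : L.x t ∈ T.U := L.X_mem_U _ (L.x_mem_X t)

/-- An element of `X_i` whose conjugate by `n_i` is in `B` is trivial. -/
theorem eq_one_of_conj {y : Γ} (hy : y ∈ T.X i) (h : (T.n i)⁻¹ * y * T.n i ∈ T.U ⊔ T.H) : y = 1 := by
  have h1 := L.Y_B _ (T.conj_inv_X i y hy) h
  have e : y = T.n i * ((T.n i)⁻¹ * y * T.n i) * (T.n i)⁻¹ := by group
  rw [e, h1]; group

theorem decomp {u : Γ} (hu : u ∈ T.U) (hG : u ∈ T.G) : ∃ v ∈ L.V, v ∈ T.G ∧ ∃ t, u = v * L.x t := by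
  obtain ⟨v, hv, y, hy, hyG, e⟩ := T.decomp i u hu hG
  obtain ⟨t, rfl⟩ := L.x_surj y hy hyG
  refine ⟨v, L.sub v hv, ?_, t, e⟩
  have : v = u * (L.x t)⁻¹ := by rw [e]; group
  rw [this]
  exact mul_mem hG (inv_mem hyG)

theorem stab {u : Γ} (hu : u ∈ T.U) (hG : u ∈ T.G) (h : (T.n i)⁻¹ * u * T.n i ∈ T.U ⊔ T.H) : u ∈ L.V := by
  obtain ⟨v, hv, _, t, rfl⟩ := L.decomp hu hG
  have h1 : (T.n i)⁻¹ * L.x t * T.n i ∈ T.U ⊔ T.H := by
    have e : (T.n i)⁻¹ * L.x t * T.n i = ((T.n i)⁻¹ * v * T.n i)⁻¹ * ((T.n i)⁻¹ * (v * L.x t) * T.n i) := by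
      group
    rw [e]
    exact mul_mem (inv_mem (Subgroup.mem_sup_left (L.V_le (L.norm_n v hv)))) h
  rw [L.eq_one_of_conj (L.x_mem_X t) h1, mul_one]
  exact hv

theorem one_not_mem : L.x 1 ∉ L.V := by
  intro h
  exact L.x_one (L.eq_one_of_conj (L.x_mem_X 1) (Subgroup.mem_sup_left (L.V_le (L.norm_n _ h))))

/-- The action of `b = u h` on `x(t)` modulo `V`. -/
theorem conj_x {u h : Γ} (hu : u ∈ T.U) (huG : u ∈ T.G) {c : E}
    (hc : ∀ t, h * L.x t * h⁻¹ = L.x (c * t)) (t : E) :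
    ∃ v ∈ L.V, u * h * L.x t * (u * h)⁻¹ = v * L.x (c * t) := by
  obtain ⟨v, hv, _, s, rfl⟩ := L.decomp hu huG
  -- `v x(s) x(ct) x(s)⁻¹ v⁻¹ = v x(ct) v⁻¹ = v (x(ct) v⁻¹ x(ct)⁻¹) x(ct)`
  refine ⟨v * (L.x (c * t) * v⁻¹ * (L.x (c * t))⁻¹),
    mul_mem hv (L.norm_B _ (Subgroup.mem_sup_left (L.x_mem_U _)) _ (inv_mem hv)), ?_⟩
  have e : v * L.x s * h * L.x t * (v * L.x s * h)⁻¹ = v * (L.x s * (h * L.x t * h⁻¹) * (L.x s)⁻¹) * v⁻¹ := by
    group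
  rw [e, hc, L.x_comm s (c * t)]
  group

/-- **Local triviality.** -/
theorem trMod [Finite E] {D : Subgroup (MulAut T.G)} (hD : ⁅D, D⁆ = D)
    (hB : Inv D ((T.U ⊔ T.H).subgroupOf T.G)) (hU : Inv D (T.U.subgroupOf T.G))
    (hV : Inv D (L.V.subgroupOf T.G)) : TrMod D (T.U.subgroupOf T.G) (L.V.subgroupOf T.G) := by
  have hBU : ∀ b ∈ T.U ⊔ T.H, ∀ u ∈ T.U, b * u * b⁻¹ ∈ T.U := by
    have h : T.U ⊔ T.H ≤ Subgroup.normalizer (T.U : Set Γ) := by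
      refine sup_le Subgroup.le_normalizer ?_
      intro h hh
      rw [Subgroup.mem_normalizer_iff]
      intro u
      refine ⟨fun hu => T.conj_H_U h hh u hu, fun hu => ?_⟩
      have := T.conj_H_U h⁻¹ (inv_mem hh) _ hu
      simpa [mul_assoc] using this
    intro b hb u hu
    exact (Subgroup.mem_normalizer_iff.1 (h hb) u).1 hu
  refine trMod_of_field (B := (T.U ⊔ T.H).subgroupOf T.G) (E := E) hD hB hU hV
    (fun b hb u hu => hBU b hb u hu) (fun b hb v hv => L.norm_B b hb v hv)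
    (fun u hu => Subgroup.mem_sup_left (show (u : Γ) ∈ T.U from hu))
    (fun t => ⟨L.x t, L.x_mem_G t⟩) (fun t => L.x_mem_U t) ?_ ?_ ?_ ?_
  · intro u hu
    obtain ⟨v, hv, hvG, t, e⟩ := L.decomp hu u.2
    exact ⟨t, ⟨v, hvG⟩, hv, Subtype.ext e⟩
  · show L.x 0 ∈ L.V
    rw [L.x_zero]; exact one_mem _
  · intro b hb
    obtain ⟨u, hu, huG, h, hh, hhG, e⟩ := (T.mem_B_iff b b.2).1 hb
    obtain ⟨c, hc0, hc⟩ := L.act h hh hhG
    refine ⟨c, hc0, fun t => ?_⟩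
    obtain ⟨v, hv, e1⟩ := L.conj_x hu huG hc t
    rw [← e] at e1
    have hvG : v ∈ T.G := by
      have : v = (b : Γ) * L.x t * (b : Γ)⁻¹ * (L.x (c * t))⁻¹ := by rw [e1]; group
      rw [this]
      exact mul_mem (mul_mem (mul_mem b.2 (L.x_mem_G t)) (inv_mem b.2)) (inv_mem (L.x_mem_G _))
    exact ⟨⟨v, hvG⟩, hv, Subtype.ext e1⟩
  · intro c hc0
    obtain ⟨h, hh, hhG, hc⟩ := L.tor c hc0
    refine ⟨⟨h, hhG⟩, Subgroup.mem_sup_right hh, fun t => ⟨1, one_mem _, ?_⟩⟩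
    rw [one_mul]
    exact Subtype.ext (hc t)

end Loc

/-- **The Schreier property of a twisted group.** -/
theorem sch_of_twisted (T : TwistedData Γ ι) [Finite T.G] [Finite ι] (hι : Nat.card ι ≤ 4)
    {p : ℕ} [Fact p.Prime] (hcore : ((T.U ⊔ T.H).subgroupOf T.G).normalCore = ⊥)
    (hU : IsPGroup p (T.U.subgroupOf T.G)) (hidx : ¬ p ∣ (T.U.subgroupOf T.G).index)
    (hloc : ∀ i, ∃ (E : Type _) (_ : Field E) (_ : Finite E), Nonempty (Loc T i E)) : Sch T.G := by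
  let P : Cfsg.BNPair T.G := T.toRootData.bnPair
  have hPB : P.B = (T.U ⊔ T.H).subgroupOf T.G := T.bnPair_B
  have hPN : P.N = T.N.subgroupOf T.G := T.bnPair_N
  have hPS : P.S = Set.range T.nG := rfl
  let S : Sylow p T.G := hU.toSylow hidx
  have hS : (S : Subgroup T.G) = T.U.subgroupOf T.G := rfl
  have hBU : ∀ b ∈ T.U ⊔ T.H, ∀ u ∈ T.U, b * u * b⁻¹ ∈ T.U := by
    have h : T.U ⊔ T.H ≤ Subgroup.normalizer (T.U : Set Γ) := by
      refine sup_le Subgroup.le_normalizer ?_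
      intro h hh
      rw [Subgroup.mem_normalizer_iff]
      intro u
      refine ⟨fun hu => T.conj_H_U h hh u hu, fun hu => ?_⟩
      have := T.conj_H_U h⁻¹ (inv_mem hh) _ hu
      simpa [mul_assoc] using this
    intro b hb u hu
    exact (Subgroup.mem_normalizer_iff.1 (h hb) u).1 hu
  refine BNSch.sch_of_bn P S ?_ ?_ ?_ ?_ (BNSch.perm_of_card_le_four P ?_) ?_
  · rw [hPB]; exact hcore
  · rw [hPB, hS]
    intro u hu
    exact Subgroup.mem_sup_left (show (u : Γ) ∈ T.U from hu)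
  · rw [hPB, hS]
    intro b hb u hu
    exact hBU b hb u hu
  · rw [hPB, hPN, hS]
    intro b hb
    obtain ⟨u, hu, huG, h, hh, hhG, e⟩ := (T.mem_B_iff b b.2).1 hb
    refine ⟨⟨u, huG⟩, hu, ?_⟩
    show u⁻¹ * (b : Γ) ∈ T.N
    rw [e, inv_mul_cancel_left]
    exact T.H_le_N hh
  · rw [hPS]
    exact (Finite.card_range_le T.nG).trans hι
  · rw [hPS]
    rintro _ ⟨i, rfl⟩
    obtain ⟨E, _, _, ⟨L⟩⟩ := hloc i
    refine ⟨L.V.subgroupOf T.G, ⟨?_, ?_, ?_, ?_, ?_⟩, ?_⟩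
    · intro v hv
      exact L.V_le hv
    · exact ⟨⟨L.x 1, L.x_mem_G 1⟩, L.x_mem_U 1, L.one_not_mem⟩
    · rw [hPB]
      intro b hb v hv
      exact L.norm_B b hb v hv
    · intro v hv
      exact L.norm_n v hv
    · rw [hPB]
      intro u hu h
      exact L.stab hu u.2 h
    · intro D hD h1 h2 _ h4
      rw [hPB] at h2
      exact L.trMod hD h2 h1 h4

end Cfsg.Agent.Schreier.BNTwisted
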