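import Mathlib
import Cfsg.Agent.Schreier.BNTwisted
import Cfsg.Agent.Schreier.BNArith
import Cfsg.Agent.ChevalleyStructure.TwE6BN
import Cfsg.Agent.ChevalleyStructure.BNChev
import Cfsg.Agent.S1066
import Cfsg.Agent.S1086
import Cfsg.Agent.S1105

/-!
# The Schreier property of ²E₆(q)
-/

set_option autoImplicit false

namespace Cfsg.Agent.Schreier.TwESix

open Cfsg.Lie
open Cfsg.Agent.ChevalleyStructure.Elts hiding x_add x_zero x_eq_one_iff
open Cfsg.Agent.ChevalleyStructure.TwE6Basic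
open Cfsg.Agent.ChevalleyStructure.TwE6BN
open Cfsg.Agent.ChevalleyStructure.TwistedBN
open Cfsg.Agent.ChevalleyStructure.BNChev (diagonal_conj)
open Cfsg.Agent.Schreier.BNTwisted

universe u

variable {K : Type u} [Field K]

theorem hG_conj {i s : ℕ} (hi : i < 6) (hs : s < 72) {c : K} (hc : c ≠ 0) (t : K) :
    hG hE6 (chevE6.simple i) c * x s t * (hG hE6 (chevE6.simple i) c)⁻¹ = x s (c ^ (chevE6.cartan i s) * t) := by
  rw [mul_inv_eq_iff_eq_mul]
  exact Units.ext (Cfsg.Agent.S1032.result (F := K) chevE6 hE6 i s hi hs c hc t)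

theorem hG_conj_of {i s : ℕ} (hi : i < 6) (hs : s < 72) {c : K} (hc : c ≠ 0) {r : ℕ} (hr : chevE6.simple i = r)
    {k : ℤ} (hk : chevE6.cartan i s = k) (t : K) :
    hG hE6 r c * x s t * (hG hE6 r c)⁻¹ = x s (c ^ k * t) := by
  subst hr hk
  exact hG_conj hi hs hc t

section Pair

variable {i : Fin 4} {j j' : ℕ} (C : PairOK.{u} i j j')
include C

theorem n_pair (s s' : K) : nG hE6 j s * nG hE6 j' s' =
    (x j s * x j' s') * (x (chevE6.neg j) (-s⁻¹) * x (chevE6.neg j') (-s'⁻¹)) * (x j s * x j' s') := by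
  have c1 : ∀ t u : K, Commute (x j' u) (x j t) := fun t u => C.comm1 t u
  have c2 : ∀ t u : K, Commute (x (chevE6.neg j') u) (x j t) := fun t u => C.comm2 t u
  have c3 : ∀ t u : K, Commute (x j' u) (x (chevE6.neg j) t) := fun t u => C.comm3 t u
  rw [nG_def, nG_def]
  show x j s * (x (chevE6.neg j) (-s⁻¹) * x j s) * (x j' s' * (x (chevE6.neg j') (-s'⁻¹) * x j' s')) = _
  have h1 : x j s * x j' s' = x j' s' * x j s := (c1 _ _).eq.symm
  have h2 : x j s * x (chevE6.neg j') (-s'⁻¹) = x (chevE6.neg j') (-s'⁻¹) * x j s := (c2 _ _).eq.symm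
  have h3 : x (chevE6.neg j) (-s⁻¹) * x j' s' = x j' s' * x (chevE6.neg j) (-s⁻¹) := (c3 _ _).eq.symm
  calc x j s * (x (chevE6.neg j) (-s⁻¹) * x j s) * (x j' s' * (x (chevE6.neg j') (-s'⁻¹) * x j' s'))
      = x j s * x (chevE6.neg j) (-s⁻¹) * (x j s * x j' s') * x (chevE6.neg j') (-s'⁻¹) * x j' s' := by group
    _ = x j s * x (chevE6.neg j) (-s⁻¹) * (x j' s' * x j s) * x (chevE6.neg j') (-s'⁻¹) * x j' s' := by rw [h1]
    _ = x j s * (x (chevE6.neg j) (-s⁻¹) * x j' s') * (x j s * x (chevE6.neg j') (-s'⁻¹)) * x j' s' := by group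
    _ = x j s * (x j' s' * x (chevE6.neg j) (-s⁻¹)) * (x (chevE6.neg j') (-s'⁻¹) * x j s) * x j' s' := by
        rw [h2, h3]
    _ = _ := by group

theorem n_pair_mem {q : ℕ} {φ : K →+* K} (hφ : ∀ t, φ t = t ^ q) (s : K) :
    nG hE6 j s * nG hE6 j' (s ^ q) ∈ twistedE6 K q := by
  rw [n_pair C]
  have h1 := C.pos_mem_G (q := q) s
  have h2 := C.neg_mem_G (q := q) (-s⁻¹)
  have e : (-s⁻¹) ^ q = -(s ^ q)⁻¹ := by rw [← hφ, map_neg, map_inv₀, hφ]
  rw [e] at h2
  exact mul_mem (mul_mem h1 h2) h1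

theorem h_pair_mem {q : ℕ} {φ : K →+* K} (hφ : ∀ t, φ t = t ^ q) (s : K) :
    hG hE6 j s * hG hE6 j' (s ^ q) ∈ twistedE6 K q := by
  have h1 := n_pair_mem C hφ s
  have h2 := n_pair_mem C hφ (-1 : K)
  have e : (-1 : K) ^ q = -1 := by rw [← hφ, map_neg, map_one]
  rw [e] at h2
  have h3 : hG hE6 j s * hG hE6 j' (s ^ q) =
      nG hE6 j s * nG hE6 j' (s ^ q) * (nG hE6 j (-1) * nG hE6 j' (-1)) := by
    rw [hG_def, hG_def]
    have c : nG hE6 j (-1 : K) * nG hE6 j' (s ^ q) = nG hE6 j' (s ^ q) * nG hE6 j (-1) := (C.commN _ _).eq.symm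
    calc nG hE6 j s * nG hE6 j (-1) * (nG hE6 j' (s ^ q) * nG hE6 j' (-1))
        = nG hE6 j s * (nG hE6 j (-1) * nG hE6 j' (s ^ q)) * nG hE6 j' (-1) := by group
      _ = nG hE6 j s * (nG hE6 j' (s ^ q) * nG hE6 j (-1)) * nG hE6 j' (-1) := by rw [c]
      _ = _ := by group
  rw [h3]
  exact mul_mem h1 h2

/-- From the action on `x_j` to the action on the twisted root group. -/
theorem pair_act {q : ℕ} {φ : K →+* K} (hφ : ∀ t, φ t = t ^ q) (hqq : ∀ t : K, (t ^ q) ^ q = t)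
    {h : GL chevE6.Idx K} (hh : h ∈ chevE6.diagonalSubgroup K) (hG : h ∈ twistedE6 K q) {c : K}
    (hc : ∀ t, h * x j t * h⁻¹ = x j (c * t)) (t : K) :
    h * (x j t * x j' (t ^ q)) * h⁻¹ = x j (c * t) * x j' ((c * t) ^ q) := by
  obtain ⟨c', -, hc'⟩ := diagonal_conj hE6 hh (s := j') C.lt'
  have e : h * (x j t * x j' (t ^ q)) * h⁻¹ = x j (c * t) * x j' (c' * t ^ q) := by
    have e1 : h * (x j t * x j' (t ^ q)) * h⁻¹ = (h * x j t * h⁻¹) * (h * x j' (t ^ q) * h⁻¹) := by group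
    rw [e1, hc]
    congr 1
    exact hc' _
  have h1 : h * (x j t * x j' (t ^ q)) * h⁻¹ ∈ twistedE6 K q :=
    mul_mem (mul_mem hG (C.pos_mem_G t)) (inv_mem hG)
  rw [e] at h1 ⊢
  have h2 := C.fix_pos (twisted_le_fix φ hφ hqq h1)
  rw [h2, hφ]

/-- The local data of a pair class. -/
noncomputable def locPair {q : ℕ} {φ : K →+* K} (hφ : ∀ t, φ t = t ^ q) (hqq : ∀ t : K, (t ^ q) ^ q = t)
    (hq0 : q ≠ 0)
    (htor : ∀ c : K, c ≠ 0 → ∃ h ∈ chevE6.diagonalSubgroup K, h ∈ twistedE6 K q ∧ ∀ t, h * x j t * h⁻¹ = x j (c * t)) :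
    Loc (T φ q hφ hqq) i K where
  V := VJ K i
  x := fun t => x j t * x j' (t ^ q)
  V_le := VJ_le_U i
  sub := fun v hv => hv
  norm_B := fun b hb v hv => conj_VJ (B_le_par i hb) hv
  norm_n := fun v hv => by
    have := conj_VJ (inv_mem (n_mem_par (K := K) i)) hv
    rwa [inv_inv] at this
  x_mem_X := fun t => by
    show x j t * x j' (t ^ q) ∈ rs K (posE i)
    exact mul_mem (x_mem_rs (by rw [C.pos]; simp) _) (x_mem_rs (by rw [C.pos]; simp) _)
  x_mem_G := fun t => C.pos_mem_G t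
  X_mem_U := fun y hy => rs_posE_le i hy
  x_surj := fun y hy hyG => by
    obtain ⟨t, s, rfl⟩ := C.mem_pos hy
    refine ⟨t, ?_⟩
    have h1 := C.fix_pos (twisted_le_fix φ hφ hqq hyG)
    rw [h1, hφ]
  x_comm := fun s t => by
    have c1 : ∀ t u : K, x j' u * x j t = x j t * x j' u := fun t u => C.comm1 t u
    have e1 : x j s * x j t = x j t * x j s := by rw [x_add, x_add, add_comm]
    have e2 : x j' (s ^ q) * x j' (t ^ q) = x j' (t ^ q) * x j' (s ^ q) := by rw [x_add, x_add, add_comm]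
    calc x j s * x j' (s ^ q) * (x j t * x j' (t ^ q))
        = x j s * (x j' (s ^ q) * x j t) * x j' (t ^ q) := by group
      _ = x j s * (x j t * x j' (s ^ q)) * x j' (t ^ q) := by rw [c1]
      _ = (x j s * x j t) * (x j' (s ^ q) * x j' (t ^ q)) := by group
      _ = (x j t * x j s) * (x j' (t ^ q) * x j' (s ^ q)) := by rw [e1, e2]
      _ = x j t * (x j s * x j' (t ^ q)) * x j' (s ^ q) := by group
      _ = x j t * (x j' (t ^ q) * x j s) * x j' (s ^ q) := by rw [c1]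
      _ = _ := by group
  x_zero := by
    show x j (0 : K) * x j' (0 ^ q) = 1
    rw [zero_pow hq0, x_zero, x_zero, mul_one]
  x_one := by
    show x j (1 : K) * x j' (1 ^ q) ≠ 1
    intro h
    have h1 : x j (1 : K) * x j' (1 ^ q) = x j 0 * x j' 0 := by rw [h, x_zero, x_zero, mul_one]
    exact one_ne_zero (C.x_pair_inj h1).1
  Y_B := fun y hy h => V_inf_B (rs_negE_le i hy) h
  act := fun h hh hG => by
    obtain ⟨c, hc0, hc⟩ := diagonal_conj hE6 hh (s := j) C.lt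
    exact ⟨c, hc0, fun t => pair_act C hφ hqq hh hG hc t⟩
  tor := fun c hc0 => by
    obtain ⟨h, hh, hG, hc⟩ := htor c hc0
    exact ⟨h, hh, hG, fun t => pair_act C hφ hqq hh hG hc t⟩

end Pair

section Single

variable {i : Fin 4} {j : ℕ} (C : SingleOK.{u} i j)
include C

theorem n_single_mem {q : ℕ} {φ : K →+* K} (hφ : ∀ t, φ t = t ^ q) {s : K} (hs : s ^ q = s) :
    nG hE6 j s ∈ twistedE6 K q := by
  rw [nG_def]
  have h1 := C.pos_mem_G (q := q) hs
  have h2 := C.neg_mem_G (q := q) (t := -s⁻¹) (by rw [← hφ, map_neg, map_inv₀, hφ, hs])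
  exact mul_mem h1 (mul_mem h2 h1)

theorem h_single_mem {q : ℕ} {φ : K →+* K} (hφ : ∀ t, φ t = t ^ q) {s : K} (hs : s ^ q = s) :
    hG hE6 j s ∈ twistedE6 K q := by
  rw [hG_def]
  exact mul_mem (n_single_mem C hφ hs) (n_single_mem C hφ (by rw [← hφ, map_neg, map_one]))

/-- The local data of a single class. -/
noncomputable def locSingle {q : ℕ} {φ : K →+* K} (hφ : ∀ t, φ t = t ^ q) (hqq : ∀ t : K, (t ^ q) ^ q = t)
    (htor : ∀ c : K, c ≠ 0 → φ c = c → ∃ h ∈ chevE6.diagonalSubgroup K, h ∈ twistedE6 K q ∧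
      ∀ t, h * x j t * h⁻¹ = x j (c * t)) :
    Loc (T φ q hφ hqq) i (φ.eqLocusField (RingHom.id K)) where
  V := VJ K i
  x := fun t => x j (t : K)
  V_le := VJ_le_U i
  sub := fun v hv => hv
  norm_B := fun b hb v hv => conj_VJ (B_le_par i hb) hv
  norm_n := fun v hv => by
    have := conj_VJ (inv_mem (n_mem_par (K := K) i)) hv
    rwa [inv_inv] at this
  x_mem_X := fun t => by
    show x j (t : K) ∈ rs K (posE i)
    exact x_mem_rs (by rw [C.pos]; simp) _
  x_mem_G := fun t => by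
    have h : φ (t : K) = t := t.2
    exact C.pos_mem_G (by rw [← hφ]; exact h)
  X_mem_U := fun y hy => rs_posE_le i hy
  x_surj := fun y hy hyG => by
    have hy' : y ∈ rs K (posE i) := hy
    rw [C.pos] at hy'
    obtain ⟨t, rfl⟩ := rs_single hy'
    exact ⟨⟨t, C.fix_pos (twisted_le_fix φ hφ hqq hyG)⟩, rfl⟩
  x_comm := fun s t => by
    show x j (s : K) * x j (t : K) = x j (t : K) * x j (s : K)
    rw [x_add, x_add, add_comm]
  x_zero := x_zero j
  x_one := fun h => one_ne_zero ((x_eq_one_iff C.lt (1 : K)).1 h)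
  Y_B := fun y hy h => V_inf_B (rs_negE_le i hy) h
  act := fun h hh hG => by
    obtain ⟨c, hc0, hc⟩ := diagonal_conj hE6 hh (s := j) C.lt
    have h1 : h * x j (1 : K) * h⁻¹ ∈ twistedE6 K q :=
      mul_mem (mul_mem hG (C.pos_mem_G (one_pow q))) (inv_mem hG)
    rw [hc, mul_one] at h1
    have h2 := C.fix_pos (twisted_le_fix φ hφ hqq h1)
    exact ⟨⟨c, h2⟩, fun h => hc0 (congrArg Subtype.val h), fun t => hc t⟩
  tor := fun c hc0 => by
    obtain ⟨h, hh, hG, hc⟩ := htor c (fun h => hc0 (Subtype.ext h)) c.2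
    exact ⟨h, hh, hG, fun t => hc t⟩

end Single

/-! ### The tori -/

section Tori

variable {q : ℕ} {φ : K →+* K} (hφ : ∀ t, φ t = t ^ q)
include hφ

theorem tor0 (c : K) (hc : c ≠ 0) (hfix : φ c = c) :
    ∃ h ∈ chevE6.diagonalSubgroup K, h ∈ twistedE6 K q ∧ ∀ t, h * x 46 t * h⁻¹ = x 46 (c * t) := by
  refine ⟨hG hE6 39 c⁻¹, hG_mem_diagonal hE6 (by decide) (inv_ne_zero hc),
    h_single_mem single1 hφ (by rw [← hφ, map_inv₀, hfix]), fun t => ?_⟩
  have h := hG_conj_of (K := K) (i := 3) (s := 46) (by norm_num) (by norm_num) (inv_ne_zero hc) (r := 39)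
    (by decide +kernel) (k := -1) (by decide +kernel) t
  rwa [zpow_neg_one, inv_inv] at h

theorem tor1 (c : K) (hc : c ≠ 0) (hfix : φ c = c) :
    ∃ h ∈ chevE6.diagonalSubgroup K, h ∈ twistedE6 K q ∧ ∀ t, h * x 39 t * h⁻¹ = x 39 (c * t) := by
  refine ⟨hG hE6 46 c⁻¹, hG_mem_diagonal hE6 (by decide) (inv_ne_zero hc),
    h_single_mem single0 hφ (by rw [← hφ, map_inv₀, hfix]), fun t => ?_⟩
  have h := hG_conj_of (K := K) (i := 1) (s := 39) (by norm_num) (by norm_num) (inv_ne_zero hc) (r := 46)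
    (by decide +kernel) (k := -1) (by decide +kernel) t
  rwa [zpow_neg_one, inv_inv] at h

theorem tor2 (c : K) (hc : c ≠ 0) :
    ∃ h ∈ chevE6.diagonalSubgroup K, h ∈ twistedE6 K q ∧ ∀ t, h * x 42 t * h⁻¹ = x 42 (c * t) := by
  have hc1 : (c⁻¹) ^ q ≠ 0 := pow_ne_zero _ (inv_ne_zero hc)
  refine ⟨hG hE6 56 c⁻¹ * hG hE6 36 (c⁻¹ ^ q), mul_mem (hG_mem_diagonal hE6 (by decide) (inv_ne_zero hc))
    (hG_mem_diagonal hE6 (by decide) hc1), h_pair_mem pair3 hφ c⁻¹, fun t => ?_⟩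
  have h := hG_conj_of (K := K) (i := 0) (s := 42) (by norm_num) (by norm_num) (inv_ne_zero hc) (r := 56)
    (by decide +kernel) (k := -1) (by decide +kernel) t
  have h' := hG_conj_of (K := K) (i := 5) (s := 42) (by norm_num) (by norm_num) hc1 (r := 36)
    (by decide +kernel) (k := 0) (by decide +kernel) t
  rw [zpow_zero, one_mul] at h'
  rw [zpow_neg_one, inv_inv] at h
  have e : ∀ a b g : GL chevE6.Idx K, a * b * g * (a * b)⁻¹ = a * (b * g * b⁻¹) * a⁻¹ := by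
    intro a b g; group
  rw [e, h', h]

theorem tor3 (c : K) (hc : c ≠ 0) :
    ∃ h ∈ chevE6.diagonalSubgroup K, h ∈ twistedE6 K q ∧ ∀ t, h * x 56 t * h⁻¹ = x 56 (c * t) := by
  have hc1 : (c⁻¹) ^ q ≠ 0 := pow_ne_zero _ (inv_ne_zero hc)
  refine ⟨hG hE6 42 c⁻¹ * hG hE6 37 (c⁻¹ ^ q), mul_mem (hG_mem_diagonal hE6 (by decide) (inv_ne_zero hc))
    (hG_mem_diagonal hE6 (by decide) hc1), h_pair_mem pair2 hφ c⁻¹, fun t => ?_⟩
  have h := hG_conj_of (K := K) (i := 2) (s := 56) (by norm_num) (by norm_num) (inv_ne_zero hc) (r := 42)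
    (by decide +kernel) (k := -1) (by decide +kernel) t
  have h' := hG_conj_of (K := K) (i := 4) (s := 56) (by norm_num) (by norm_num) hc1 (r := 37)
    (by decide +kernel) (k := 0) (by decide +kernel) t
  rw [zpow_zero, one_mul] at h'
  rw [zpow_neg_one, inv_inv] at h
  have e : ∀ a b g : GL chevE6.Idx K, a * b * g * (a * b)⁻¹ = a * (b * g * b⁻¹) * a⁻¹ := by
    intro a b g; group
  rw [e, h', h]

end Tori

/-! ### The Schreier property -/

theorem sch [Fintype K] {q : ℕ} (hq : IsPrimePow q) (hK : Fintype.card K = q ^ 2) :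
    Basic.Sch ↥(twistedE6 K q) := by
  obtain ⟨φ, hφ, hqq⟩ := exists_frob hq hK
  obtain ⟨p, k, hp, hk, hpk⟩ := (isPrimePow_nat_iff _).1 hq
  have : Fact p.Prime := ⟨hp⟩
  have hfin : Finite (T φ q hφ hqq).G := inferInstanceAs (Finite ↥(twistedE6 K q))
  have hq1 : 1 < q := hq.one_lt
  have hq0 : q ≠ 0 := by omega
  have hpq : p ∣ q := hpk ▸ dvd_pow_self p hk.ne'
  have hcU : Nat.card ((chevE6.posUnipotent K).subgroupOf (twistedE6 K q)) = q ^ 36 := by
    rw [BNArith.card_subgroupOf]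
    exact Cfsg.Agent.S1086.result hq hK
  have hcG := Cfsg.Agent.S1066.result hq hK
  refine sch_of_twisted (T φ q hφ hqq) (p := p) (by simp) ?_ ?_ ?_ ?_
  · have h := Cfsg.Agent.S1105.result hq hK
    rw [Subgroup.inf_subgroupOf_right] at h
    exact h
  · apply IsPGroup.of_card (n := k * 36)
    rw [pow_mul, hpk]
    exact hcU
  · have h1 := ((chevE6.posUnipotent K).subgroupOf (twistedE6 K q)).card_mul_index
    rw [← h1, hcU] at hcG
    simp only [mul_assoc] at hcG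
    rw [mul_left_comm] at hcG
    have h2 := Nat.eq_of_mul_eq_mul_left (pow_pos (by omega : 0 < q) 36) hcG
    show ¬ p ∣ ((chevE6.posUnipotent K).subgroupOf (twistedE6 K q)).index
    intro hdvd
    have h3 := dvd_mul_of_dvd_right hdvd (Nat.gcd 3 (q + 1))
    rw [h2, hp.dvd_mul, hp.dvd_mul, hp.dvd_mul, hp.dvd_mul, hp.dvd_mul] at h3
    rcases h3 with h | h | h | h | h | h
    · exact BNArith.not_dvd_pow_sub_one hp hpq hq1 (by norm_num) h
    · exact BNArith.not_dvd_pow_add_one hp hpq (by norm_num) h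
    · exact BNArith.not_dvd_pow_sub_one hp hpq hq1 (by norm_num) h
    · exact BNArith.not_dvd_pow_sub_one hp hpq hq1 (by norm_num) h
    · exact BNArith.not_dvd_pow_add_one hp hpq (by norm_num) h
    · exact BNArith.not_dvd_pow_sub_one hp hpq hq1 (by norm_num) h
  · intro i
    have hi : i = 0 ∨ i = 1 ∨ i = 2 ∨ i = 3 := by fin_cases i <;> simp
    rcases hi with rfl | rfl | rfl | rfl
    · exact ⟨φ.eqLocusField (RingHom.id K), inferInstance, inferInstance,
        ⟨locSingle single0 hφ hqq fun c hc h => tor0 hφ c hc h⟩⟩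
    · exact ⟨φ.eqLocusField (RingHom.id K), inferInstance, inferInstance,
        ⟨locSingle single1 hφ hqq fun c hc h => tor1 hφ c hc h⟩⟩
    · exact ⟨K, inferInstance, inferInstance, ⟨locPair pair2 hφ hqq hq0 fun c hc => tor2 hφ c hc⟩⟩
    · exact ⟨K, inferInstance, inferInstance, ⟨locPair pair3 hφ hqq hq0 fun c hc => tor3 hφ c hc⟩⟩

theorem sch_of_iso2E6 {G : Type*} [Group G] (h : Iso2E6 G) : Basic.Sch G := by
  obtain ⟨K, _, _, q, hq, hK, ⟨e⟩⟩ := h
  exact (sch hq hK).of_equiv e.symm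

end Cfsg.Agent.Schreier.TwESix
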