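import Mathlib
import Cfsg.Agent.J2Sylow.Model
import Cfsg.Agent.Lib.NormalAbelian
import Cfsg.Agent.Schreier.FlagTool

/-!
# The automorphism group of a Sylow 2-subgroup of the Hall–Janko group is solvable
-/

set_option autoImplicit false

namespace Cfsg.Agent.Schreier.TypeJTwo

open Cfsg.Agent.J2Sylow.Model Cfsg.Agent.J2Sylow.Model.F4 Cfsg.Agent.Schreier.FlagTool

theorem isPGroup_T : IsPGroup 2 T := IsPGroup.of_card (n := 7) (by rw [T.card_T]; norm_num)

theorem dec1 : ∀ x : T, x ∈ T.R → ∃ y z : T, y * y * (y * y) ≠ 1 ∧ z * z * (z * z) ≠ 1 ∧ x = y * z := by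
  decide +kernel

theorem dec2 : ∀ y : T, y * y * (y * y) ≠ 1 → y ∉ T.R := by decide +kernel

theorem dec3 : ∀ y z : T, y ∉ T.R → z ∉ T.R → y * z ∈ T.R := by decide +kernel

theorem dec4 : ∀ x : T, x ∈ T.Q → x ∈ T.R → ∃ y : T, x = y * y := by decide +kernel

theorem dec5 : ∀ y : T, y * y ∈ T.Q ∧ y * y ∈ T.R := by decide +kernel

theorem dec6 : ∀ x : T, (∀ y : T, y * x = x * y) → x = 1 ∨ x = T.z := by decide +kernel

theorem card_QR : Nat.card (T.Q ⊓ T.R : Subgroup T) = 16 := by
  have : Nat.card (T.Q ⊓ T.R : Subgroup T) = Nat.card {x : T // x ∈ T.Q ∧ x ∈ T.R} := rfl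
  rw [this, Nat.card_eq_fintype_card, Fintype.card_subtype]
  decide +kernel

instance isSolvable_mulAut_T : Group.IsSolvable (MulAut T) := by
  refine isSolvable_mulAut_of_two_steps isPGroup_T T.R (T.Q ⊓ T.R) ?_ ?_ ?_ ?_ ?_
  · intro φ a ha
    obtain ⟨y, z, hy, hz, rfl⟩ := dec1 a ha
    have h1 : ∀ x : T, x * x * (x * x) ≠ 1 → φ x ∉ T.R := by
      intro x hx
      apply dec2
      intro h
      apply hx
      apply φ.injective
      rw [map_mul, map_mul, h, map_one]
    rw [map_mul]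
    exact dec3 _ _ (h1 y hy) (h1 z hz)
  · intro φ b hb
    obtain ⟨y, rfl⟩ := dec4 b hb.1 hb.2
    rw [map_mul]
    exact dec5 _
  · intro b hb
    obtain ⟨y, rfl⟩ := dec4 b hb.1 hb.2
    have : Fact (Nat.Prime 2) := ⟨Nat.prime_two⟩
    have h := Cfsg.Agent.Lib.FrattiniPGroup.pow_mem_frattini isPGroup_T y
    rwa [pow_two] at h
  · have h1 := T.R.card_mul_index
    rw [T.card_R, T.card_T] at h1
    omega
  · have h1 := Subgroup.relIndex_mul_relIndex ⊥ (T.Q ⊓ T.R) T.R bot_le inf_le_right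
    rw [Subgroup.relIndex_bot_left, Subgroup.relIndex_bot_left, card_QR, T.card_R] at h1
    omega

/-- A homomorphism from the model group not killing the central involution is injective. -/
theorem injective_of_z {G : Type*} [Group G] (f : T →* G) (hz : f T.z ≠ 1) : Function.Injective f := by
  rw [← MonoidHom.ker_eq_bot_iff]
  by_contra hne
  have : Fact (Nat.Prime 2) := ⟨Nat.prime_two⟩
  have hnil : Group.IsNilpotent T := isPGroup_T.isNilpotent
  have h1 := Cfsg.Agent.Lib.NormalAbelian.normal_inf_center_ne_bot f.ker hne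
  apply h1
  rw [eq_bot_iff]
  rintro x ⟨hx1, hx2⟩
  rw [Subgroup.mem_bot]
  rcases dec6 x (Subgroup.mem_center_iff.1 hx2) with h | h
  · exact h
  · rw [h] at hx1
    exact absurd hx1 hz

end Cfsg.Agent.Schreier.TypeJTwo
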