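import Cfsg.Agent.J3Type.Mats
import Cfsg.Agent.S1625
import Cfsg.Agent.J2Sylow.SporSylow
import Cfsg.Agent.Schreier.TypeJTwo

/-!
# The Sylow 2-subgroups of the third Janko group

`exists_equiv`: every Sylow 2-subgroup of `J3` is isomorphic to the model group `J2Sylow.Model.T` of order 128.
Letters of `J3Type.Mats`: `1 = f`, `3 = s`, `8 = y`, `9 = z`, `10 = g`, `11 = u = f ^ s`.
-/

set_option autoImplicit false

namespace Cfsg.Agent.Schreier.JThreeSylow

open Cfsg.Spor Cfsg.Agent.J2Sylow.Model Cfsg.Agent.J2Sylow.Model.F4 Cfsg.Agent.J3.Core Cfsg.Agent.J3Type.Mats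
  Cfsg.Agent.J3.Mono Cfsg.Agent.J3.Elts

def wX : F4 → List ℕ
  | .o => []
  | .e => [1]
  | .w => [10]
  | .u => [1, 10]

def wY : F4 → List ℕ
  | .o => []
  | .e => [11]
  | .w => [3, 1, 10, 3]
  | .u => [3, 10, 3]

def wZ : F4 → List ℕ
  | .o => []
  | .e => [9]
  | .w => [8]
  | .u => [8, 9]

def wT : List ℕ := [3]

/-- equality of words modulo scalars -/
def ck (l1 l2 : List ℕ) : Bool := chk l1 l2 0 || (chk l1 l2 1 || chk l1 l2 2)

section
variable {F : Type*} [Field F] {ω : F} (G : Gens F ω)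

/-- value of a word -/
def gw (l : List ℕ) : J3 F ω := (l.map (p G)).prod

theorem gw_append (l m : List ℕ) : gw G (l ++ m) = gw G l * gw G m := by
  rw [gw, List.map_append, List.prod_append]; rfl

theorem gw_eq (H : Good ω) {l m : List ℕ} (h : ck l m = true) : gw G l = gw G m := by
  unfold ck at h
  rw [Bool.or_eq_true, Bool.or_eq_true] at h
  rcases h with h | h | h
  · exact rel G H l m 0 h
  · exact rel G H l m 1 h
  · exact rel G H l m 2 h

theorem kXX : ∀ a b : F4, ck (wX a ++ wX b) (wX (a + b)) = true := by decide +kernel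
theorem kYY : ∀ a b : F4, ck (wY a ++ wY b) (wY (a + b)) = true := by decide +kernel
theorem kZZ : ∀ a b : F4, ck (wZ a ++ wZ b) (wZ (a + b)) = true := by decide +kernel
theorem kXY : ∀ a b : F4, ck (wX a ++ wY b) (wY b ++ (wX a ++ wZ (a * b))) = true := by decide +kernel
theorem kZX : ∀ a b : F4, ck (wZ a ++ wX b) (wX b ++ wZ a) = true := by decide +kernel
theorem kZY : ∀ a b : F4, ck (wZ a ++ wY b) (wY b ++ wZ a) = true := by decide +kernel
theorem kTX : ∀ a : F4, ck (wT ++ wX a) (wY (fr a) ++ wT) = true := by decide +kernel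
theorem kTY : ∀ a : F4, ck (wT ++ wY a) (wX (fr a) ++ wT) = true := by decide +kernel
theorem kTZ : ∀ a : F4, ck (wT ++ wZ a) (wZ (fr a) ++ wT) = true := by decide +kernel
theorem kTT : ck (wT ++ wT) [] = true := by decide +kernel

theorem rels (H : Good ω) : Cfsg.Agent.J2Sylow.SporSylow.Rel (fun a => gw G (wX a)) (fun a => gw G (wY a))
    (fun a => gw G (wZ a)) (gw G wT) where
  XX a b := by rw [← gw_append]; exact gw_eq G H (kXX a b)
  YY a b := by rw [← gw_append]; exact gw_eq G H (kYY a b)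
  ZZ a b := by rw [← gw_append]; exact gw_eq G H (kZZ a b)
  XY a b := by rw [← gw_append, ← gw_append, ← gw_append]; exact gw_eq G H (kXY a b)
  ZX a b := by rw [← gw_append, ← gw_append]; exact gw_eq G H (kZX a b)
  ZY a b := by rw [← gw_append, ← gw_append]; exact gw_eq G H (kZY a b)
  TX a := by rw [← gw_append, ← gw_append]; exact gw_eq G H (kTX a)
  TY a := by rw [← gw_append, ← gw_append]; exact gw_eq G H (kTY a)
  TZ a := by rw [← gw_append, ← gw_append]; exact gw_eq G H (kTZ a)
  TT := by rw [← gw_append]; exact gw_eq G H kTT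

/-- the involution `z` is not trivial -/
theorem z_ne [Fintype F] (hF : Fintype.card F = 4) (H : Good ω) : p G 9 ≠ 1 := by
  intro hz
  have A := amal G H
  have hx := extra G H
  have hf : p G 1 = 1 := by
    rw [← A.zw, hz, mul_one, A.w2]
  have hh : p G 2 = 1 := by
    have h1 := A.fh
    have h2 := A.h2
    rw [hf, one_mul, h2, one_mul] at h1
    exact h1
  have hc : p G 0 = 1 := by
    have h1 := A.ch
    have h2 := A.c3
    rw [hh, mul_one] at h1
    rw [h1, one_mul] at h2
    exact h2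
  have hd : p G 4 = 1 := by
    rw [← A.cw, hc, mul_one, A.w2]
  have hx' : p G 12 = 1 := by
    rw [A.x_def, hc, hd, one_mul, inv_one]
  have hv : p G 13 = 1 := by
    rw [A.v_def, hh, hx']; simp
  rw [hz, hx', hv] at hx
  have hs2 : p G 3 * p G 3 = 1 := A.s2
  have hw2 : p G 5 * p G 5 = 1 := A.w2
  have hw : p G 5 = 1 := by
    have h1 : p G 3 * p G 5 * p G 3 = 1 := by
      calc p G 3 * p G 5 * p G 3 = (p G 5 * p G 5) * (p G 3 * p G 5 * p G 3) * (p G 5 * p G 5) := by
            rw [hw2]; simp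
        _ = p G 5 * (p G 5 * p G 3 * p G 5 * p G 3 * p G 5) * p G 5 := by group
        _ = 1 := by rw [hx]; simp [hw2]
    calc p G 5 = (p G 3 * p G 3) * p G 5 * (p G 3 * p G 3) := by rw [hs2]; simp
      _ = p G 3 * (p G 3 * p G 5 * p G 3) * p G 3 := by group
      _ = 1 := by rw [h1]; simp [hs2]
  have htop := closure_top G H
  rw [hc, hf, hh, hd, hw] at htop
  have hle : (⊤ : Subgroup (J3 F ω)) ≤ Subgroup.zpowers (p G 3) := by
    rw [← htop, Subgroup.closure_le]
    intro a ha
    simp only [Set.mem_insert_iff, Set.mem_singleton_iff] at ha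
    rcases ha with rfl | rfl | rfl | rfl | rfl | rfl
    all_goals first | exact one_mem _ | exact Subgroup.mem_zpowers _
  have h1 : orderOf (p G 3) ≤ 2 := orderOf_le_of_pow_eq_one (by norm_num) (by rw [pow_two, hs2])
  have h2 : Nat.card (J3 F ω) ≤ 2 := by
    have h3 : Subgroup.zpowers (p G 3) = ⊤ := top_le_iff.1 hle
    rw [← Subgroup.card_top (G := J3 F ω), ← h3, Nat.card_zpowers]
    exact h1
  rw [Cfsg.Agent.J3.Simple.card_J3 hF H] at h2
  norm_num at h2

/-- the model group in `J3` -/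
theorem exists_hom [Fintype F] (hF : Fintype.card F = 4) (H : Good ω) (G : Gens F ω) :
    ∃ f : T →* J3 F ω, Function.Injective f := by
  let f : T →* J3 F ω := Cfsg.Agent.J2Sylow.SporSylow.liftHom (rels G H)
  have h1 : f T.z = p G 9 := by
    show Cfsg.Agent.J2Sylow.SporSylow.liftFun (fun a => gw G (wX a)) (fun a => gw G (wY a))
      (fun a => gw G (wZ a)) (gw G wT) T.z = p G 9
    unfold Cfsg.Agent.J2Sylow.SporSylow.liftFun
    simp [T.z, wX, wY, wZ, gw]
  refine ⟨f, Cfsg.Agent.Schreier.TypeJTwo.injective_of_z f ?_⟩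
  rw [h1]
  exact z_ne G hF H

end

variable {F : Type*} [Field F] [Fintype F] {ω : F}

theorem card_sylow (hF : Fintype.card F = 4) (H : Good ω) (P : Sylow 2 (J3 F ω)) : Nat.card P = 128 := by
  have hc := Cfsg.Agent.J3.Simple.card_J3 hF H
  have : Finite (J3 F ω) := Nat.finite_of_card_ne_zero (by rw [hc]; norm_num)
  rw [P.card_eq_multiplicity, hc]
  have : (50232960 : ℕ) = 2 ^ 7 * 392445 := by norm_num
  rw [this, Nat.factorization_mul (by norm_num) (by norm_num), Finsupp.add_apply,
    Nat.Prime.factorization_pow Nat.prime_two, Finsupp.single_eq_same,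
    Nat.factorization_eq_zero_of_not_dvd (by norm_num)]
  rfl

/-- the Sylow 2-subgroups of `J3` are isomorphic to the model group -/
theorem exists_equiv (hF : Fintype.card F = 4) (H : Good ω) (P : Sylow 2 (J3 F ω)) :
    Nonempty (T ≃* ↥(P : Subgroup (J3 F ω))) := by
  have : Finite (J3 F ω) := Nat.finite_of_card_ne_zero (by
    rw [Cfsg.Agent.J3.Simple.card_J3 hF H]; norm_num)
  obtain ⟨G⟩ := exists_gens hF H
  obtain ⟨f, hf⟩ := exists_hom hF H G
  have hc : Nat.card f.range = 128 := by
    rw [← Nat.card_congr (MonoidHom.ofInjective hf).toEquiv, T.card_T]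
  have h1 : IsPGroup 2 f.range := IsPGroup.of_card (n := 7) (by rw [hc]; norm_num)
  obtain ⟨Q, hQ⟩ := h1.exists_le_sylow
  have h2 : f.range = (Q : Subgroup (J3 F ω)) := by
    apply Subgroup.eq_of_le_of_card_ge hQ
    rw [hc]
    exact (card_sylow hF H Q).le
  exact ⟨((MonoidHom.ofInjective hf).trans (MulEquiv.subgroupCongr h2)).trans (Sylow.equiv Q P)⟩

end Cfsg.Agent.Schreier.JThreeSylow
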