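import Mathlib
import Cfsg.Agent.ClassificationK.GTwoModel
import Cfsg.Agent.Lib.FrattiniPGroup
import Cfsg.Agent.Schreier.FlagTool

/-!
# The automorphism group of a Sylow 2-subgroup of the Mathieu group `M₁₂` is solvable

The Sylow 2-subgroup is `(Z_4 × Z_4) ⋊ (Z_2 × Z_2)`. The elements of order 8 generate a subgroup of index 2, and the
squares form a subgroup of index 4 in it.
-/

set_option autoImplicit false

namespace Cfsg.Agent.Schreier.TypeMTwelve

open Cfsg.Agent.ClassificationK.GTwoModel Cfsg.Agent.Schreier.FlagTool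

instance : Fintype (T (2 * 2)) := Fintype.ofEquiv _ (T.equivProd (2 * 2)).symm

instance : DecidableEq (T (2 * 2)) := fun a b =>
  decidable_of_iff (T.equivProd (2 * 2) a = T.equivProd (2 * 2) b) (T.equivProd (2 * 2)).injective.eq_iff

/-- parity of a residue modulo 4 -/
def od (x : ZMod (2 * 2)) : Bool := x == 1 || x == 3

theorem od_add : ∀ x y : ZMod (2 * 2), od (x + y) = xor (od x) (od y) := by decide +kernel

theorem od_neg : ∀ x : ZMod (2 * 2), od (-x) = od x := by decide +kernel

/-- the subgroup generated by the elements of order 8 -/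
def A : Subgroup (T (2 * 2)) where
  carrier := {x | xor (od x.i) (od x.j) = x.d}
  one_mem' := by decide +kernel
  mul_mem' := by
    have h : ∀ x y : T (2 * 2), xor (od x.i) (od x.j) = x.d → xor (od y.i) (od y.j) = y.d →
        xor (od (x * y).i) (od (x * y).j) = (x * y).d := by decide +kernel
    exact fun {x y} hx hy => h x y hx hy
  inv_mem' := by
    have h : ∀ x : T (2 * 2), xor (od x.i) (od x.j) = x.d →
        xor (od (x⁻¹).i) (od (x⁻¹).j) = (x⁻¹).d := by decide +kernel
    exact fun {x} hx => h x hx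

/-- the subgroup generated by the squares -/
def B : Subgroup (T (2 * 2)) where
  carrier := {x | xor (od x.i) (od x.j) = false ∧ x.d = false ∧ x.e = false}
  one_mem' := by decide +kernel
  mul_mem' := by
    have h : ∀ x y : T (2 * 2), (xor (od x.i) (od x.j) = false ∧ x.d = false ∧ x.e = false) →
        (xor (od y.i) (od y.j) = false ∧ y.d = false ∧ y.e = false) →
        (xor (od (x * y).i) (od (x * y).j) = false ∧ (x * y).d = false ∧ (x * y).e = false) := by decide +kernel
    exact fun {x y} hx hy => h x y hx hy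
  inv_mem' := by
    have h : ∀ x : T (2 * 2), (xor (od x.i) (od x.j) = false ∧ x.d = false ∧ x.e = false) →
        (xor (od (x⁻¹).i) (od (x⁻¹).j) = false ∧ (x⁻¹).d = false ∧ (x⁻¹).e = false) := by decide +kernel
    exact fun {x} hx => h x hx

instance : DecidablePred (· ∈ A) := fun x => inferInstanceAs (Decidable (xor (od x.i) (od x.j) = x.d))

instance : DecidablePred (· ∈ B) := fun x =>
  inferInstanceAs (Decidable (xor (od x.i) (od x.j) = false ∧ x.d = false ∧ x.e = false))

theorem dec1 : ∀ x : T (2 * 2), x ∈ A → x * x * (x * x) ≠ 1 ∨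
    ∃ y z : T (2 * 2), y * y * (y * y) ≠ 1 ∧ z * z * (z * z) ≠ 1 ∧ x = y * z := by
  decide +kernel

theorem dec2 : ∀ y : T (2 * 2), y * y * (y * y) ≠ 1 → y ∈ A := by decide +kernel

theorem dec4 : ∀ x : T (2 * 2), x ∈ B → ∃ y z : T (2 * 2), x = (y * y) * (z * z) := by decide +kernel

theorem dec5 : ∀ y : T (2 * 2), y * y ∈ B := by decide +kernel

theorem dec6 : ∀ x : T (2 * 2), x ∈ B → x ∈ A := by decide +kernel

theorem card_A : Nat.card A = 32 := by
  have : Nat.card A = Nat.card {x : T (2 * 2) // x ∈ A} := rfl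
  rw [this, Nat.card_eq_fintype_card, Fintype.card_subtype]
  decide +kernel

theorem card_B : Nat.card B = 8 := by
  have : Nat.card B = Nat.card {x : T (2 * 2) // x ∈ B} := rfl
  rw [this, Nat.card_eq_fintype_card, Fintype.card_subtype]
  decide +kernel

theorem card_T : Nat.card (T (2 * 2)) = 64 := by rw [T.card_T]; norm_num

theorem isPGroup_T : IsPGroup 2 (T (2 * 2)) := IsPGroup.of_card (n := 6) (by rw [card_T]; norm_num)

instance isSolvable_mulAut_T : Group.IsSolvable (MulAut (T (2 * 2))) := by
  refine isSolvable_mulAut_of_two_steps isPGroup_T A B ?_ ?_ ?_ ?_ ?_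
  · intro φ a ha
    have h1 : ∀ x : T (2 * 2), x * x * (x * x) ≠ 1 → φ x ∈ A := by
      intro x hx
      apply dec2
      intro h
      apply hx
      apply φ.injective
      rw [map_mul, map_mul, h, map_one]
    rcases dec1 a ha with h | ⟨y, z, hy, hz, rfl⟩
    · exact h1 a h
    · rw [map_mul]
      exact mul_mem (h1 y hy) (h1 z hz)
  · intro φ b hb
    obtain ⟨y, z, rfl⟩ := dec4 b hb
    rw [map_mul, map_mul, map_mul]
    exact mul_mem (dec5 _) (dec5 _)
  · intro b hb
    obtain ⟨y, z, rfl⟩ := dec4 b hb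
    have : Fact (Nat.Prime 2) := ⟨Nat.prime_two⟩
    have h := Cfsg.Agent.Lib.FrattiniPGroup.pow_mem_frattini isPGroup_T y
    have h' := Cfsg.Agent.Lib.FrattiniPGroup.pow_mem_frattini isPGroup_T z
    rw [pow_two] at h h'
    exact mul_mem h h'
  · have h1 := A.card_mul_index
    rw [card_A, card_T] at h1
    omega
  · have h1 := Subgroup.relIndex_mul_relIndex ⊥ B A bot_le dec6
    rw [Subgroup.relIndex_bot_left, Subgroup.relIndex_bot_left, card_B, card_A] at h1
    omega

end Cfsg.Agent.Schreier.TypeMTwelve
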