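import Mathlib
import Cfsg.Agent.S0383
import Cfsg.Agent.MTwelveType.SylowModel
import Cfsg.Agent.Schreier.Crit
import Cfsg.Agent.Schreier.TypeMTwelve
import Cfsg.Agent.SporadicA.M11Comp

/-!
# The Schreier property of the Mathieu group `M₁₂`
-/

set_option autoImplicit false

open scoped Pointwise

namespace Cfsg.Agent.Schreier.MTwelve

open Cfsg Cfsg.Agent.Schreier.Basic

theorem squareDodecad_mem : Cfsg.Spor.squareDodecad ∈ Cfsg.dodecads := by
  have h : Cfsg.Spor.squareDodecad = Cfsg.Agent.SporadicA.M11Comp.sqD := by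
    ext x
    rw [Cfsg.Agent.SporadicA.M11Comp.mem_sqD]
    revert x
    decide +kernel
  rw [h]
  exact Cfsg.Agent.SporadicA.M11Comp.sqD_mem_dodecads

/-- The two descriptions of `M₁₂`. -/
def equiv : ↥(MulAction.stabilizer Cfsg.M24 Cfsg.Spor.squareDodecad) ≃* Cfsg.Spor.M12 where
  toFun g := ⟨((g : Cfsg.M24) : Equiv.Perm GolayPt), (g : Cfsg.M24).2, g.2⟩
  invFun g := ⟨⟨(g : Equiv.Perm GolayPt), g.2.1⟩, g.2.2⟩
  left_inv _ := rfl
  right_inv _ := rfl
  map_mul' _ _ := rfl

theorem isSimpleGroup : IsSimpleGroup Cfsg.Spor.M12 :=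
  have := Cfsg.Agent.S0383.result _ squareDodecad_mem
  equiv.isSimpleGroup_congr.1 this

theorem not_isMulCommutative : ¬ IsMulCommutative Cfsg.Spor.M12 := by
  intro hcomm
  have hs := isSimpleGroup
  let _ : CommGroup Cfsg.Spor.M12 :=
    { (inferInstance : Group Cfsg.Spor.M12) with mul_comm := hcomm.is_comm.comm }
  have hfin : Finite Cfsg.Spor.M12 :=
    Nat.finite_of_card_ne_zero (by rw [Cfsg.Agent.MTwelveType.SylowModel.card_M12]; norm_num)
  have h1 := IsSimpleGroup.prime_card (α := Cfsg.Spor.M12)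
  rw [Cfsg.Agent.MTwelveType.SylowModel.card_M12] at h1
  norm_num at h1

/-- **The Schreier property of `M₁₂`.** -/
theorem sch : Sch Cfsg.Spor.M12 := by
  have hfin : Finite Cfsg.Spor.M12 :=
    Nat.finite_of_card_ne_zero (by rw [Cfsg.Agent.MTwelveType.SylowModel.card_M12]; norm_num)
  have hs := isSimpleGroup
  obtain ⟨S⟩ : Nonempty (Sylow 2 Cfsg.Spor.M12) := inferInstance
  obtain ⟨e⟩ := Cfsg.Agent.MTwelveType.SylowModel.exists_equiv S
  have : Group.IsSolvable (MulAut (S : Subgroup Cfsg.Spor.M12)) :=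
    Group.isSolvable_of_surjective (f := (MulAut.congr e).toMonoidHom) (MulAut.congr e).surjective
  exact Crit.sch_of_solvable_mulAut_sylow not_isMulCommutative S

end Cfsg.Agent.Schreier.MTwelve
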