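import Cfsg.Agent.Schreier.CoThreeGens
import Cfsg.Agent.SporadicA.ConwayShift
import Cfsg.Agent.S0391

/-!
The three elements `gx gy gd` of `G3`: relations, generation, centralisers of `gx` and `gy`.
-/

set_option autoImplicit false

namespace Cfsg.Agent.Schreier.CoThreeCent

open Cfsg Cfsg.Agent.LeechMat.Elements Cfsg.Agent.LeechMat.Code Cfsg.Agent.LeechMat.Core
  Cfsg.Agent.SporadicStructure.PermChain Cfsg.Agent.McLType.Chain
  Cfsg.Agent.LeechPack.Core Cfsg.Agent.LeechPack.X552 Cfsg.Agent.Schreier.CoThreeGens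

/-- Inner product 16. -/
def adj (i j : ℕ) : Bool := dotc (look 120 tabX i) (look 120 tabX j) == 16

/-- The points `q` such that `529` and `y^k q`, `k = 1..5`, have inner product 16 with `q`. -/
def inM (q : ℕ) : Bool :=
  adj q 529 && adj q (look 10 tab_y q) && adj q (look 10 tab_y (look 10 tab_y q)) &&
    adj q (look 10 tab_y (look 10 tab_y (look 10 tab_y q))) &&
    adj q (look 10 tab_y (look 10 tab_y (look 10 tab_y (look 10 tab_y q)))) &&
    adj q (look 10 tab_y (look 10 tab_y (look 10 tab_y (look 10 tab_y (look 10 tab_y q)))))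

def maskM : ℕ := 0xfffffc201a000004202400000000001000000000020000000000002000000000000000a0002000000000114000008040008000840000810004800000021a00120002000000

theorem maskM_eq : allBelow (fun q => Nat.testBit maskM q == inM q) 552 = true := by decide +kernel

/-- The number of points `z < n` of the mask with inner product 16 with `q`. -/
def cnt (q : ℕ) : ℕ → ℕ
  | 0 => 0
  | n + 1 => (bif Nat.testBit maskM n && adj q n then 1 else 0) + cnt q n

theorem cnt25 : cnt 25 552 = 22 := by decide +kernel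

def inO (q : ℕ) : Bool := (List.range 11).any fun k => Nat.beq (evalWord 10 L0 (List.replicate k 1) 25) q

theorem deg_spec : allBelow (fun q => !(Nat.testBit maskM q) || !(Nat.beq (cnt q 552) 22) || inO q) 552 = true := by
  decide +kernel

/-! ### the elements -/

theorem exists_gy : ∃ g : G3, ψ g = py :=
  exists_gen_of (by norm_num) rfl (by norm_num) check_y (by decide +kernel)
      (W := W_y) (s := sW_y) (by decide +kernel) (by decide +kernel) sends_y _ fun i => rfl

theorem exists_gd : ∃ g : G3, ψ g = pd :=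
  exists_gen_of (by norm_num) rfl (by norm_num) check_d (by decide +kernel)
      (W := W_d) (s := sW_d) (by decide +kernel) (by decide +kernel) sends_d _ fun i => rfl

theorem u0_eq : u0 = SporadicA.ConwayShift.u 5 (Or.inr rfl) := by
  apply Subtype.ext
  funext p
  have : ∀ p, vec cu0 p = SporadicA.ConwayShift.uFun 5 p := by decide +kernel
  exact this p

/-- The shift. -/
def gx : G3 := ⟨SporadicA.ConwayShift.shift, by
  change SporadicA.ConwayShift.shift • u0 = u0
  rw [u0_eq]
  exact SporadicA.ConwayShift.shift_u 5 (Or.inr rfl)⟩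

/-- The coordinates of the shifted vector. -/
theorem shift_coord : allBelow (fun i => allBelow (fun k =>
    Nat.beq (dig (look 120 tabX (look 10 tab_x i)) (if k = 23 then 23 else (k + 1) % 23)) (dig (look 120 tabX i) k)) 24)
    552 = true := by decide +kernel

theorem pos_tau (q : GolayPt) : pos (SporadicA.Co0Basic.tau q) = if pos q = 23 then 23 else (pos q + 1) % 23 := by
  revert q
  decide +kernel

theorem ψ_gx : ψ gx = px := by
  refine ψ_eq_of _ _ fun i => ?_
  apply Subtype.ext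
  funext p
  change (X i : GolayPt → ℤ) ((SporadicA.Co0Basic.tau⁻¹ : Equiv.Perm GolayPt) p) = vec (look 120 tabX (look 10 tab_x i)) p
  obtain ⟨q, rfl⟩ := SporadicA.Co0Basic.tau.surjective p
  have e : (SporadicA.Co0Basic.tau⁻¹ : Equiv.Perm GolayPt) (SporadicA.Co0Basic.tau q) = q :=
    SporadicA.Co0Basic.tau.symm_apply_apply q
  rw [e, coe_X, vec_apply, vec_apply, pos_tau]
  have h1 := allBelow_spec _ _ shift_coord i i.2
  have h2 := Nat.eq_of_beq_eq_true (allBelow_spec _ _ h1 (pos q) (pos_lt q))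
  unfold sdig
  rw [h2]

noncomputable def gy : G3 := exists_gy.choose
noncomputable def gd : G3 := exists_gd.choose
theorem ψ_gy : ψ gy = py := exists_gy.choose_spec
theorem ψ_gd : ψ gd = pd := exists_gd.choose_spec

theorem px_val (i : Fin 552) : (px i : ℕ) = look 10 tab_x i := rfl
theorem py_val (i : Fin 552) : (py i : ℕ) = look 10 tab_y i := rfl
theorem pd_val (i : Fin 552) : (pd i : ℕ) = look 10 tab_d i := rfl

theorem check_rel : allBelow (fun i => Nat.beq (look 10 tab_y (look 10 tab_x i))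
    (look 10 tab_x (look 10 tab_x (look 10 tab_y i)))) 552 = true := by decide +kernel
theorem check_dy : allBelow (fun i => Nat.beq (look 10 tab_d (look 10 tab_y i))
    (look 10 tab_y (look 10 tab_d i))) 552 = true := by decide +kernel
theorem check_dd : allBelow (fun i => Nat.beq (look 10 tab_d (look 10 tab_d i)) i) 552 = true := by decide +kernel
theorem check_yy : allBelow (fun i => Nat.beq (evalWord 10 L0 [1,1,1,1,1,1,1,1,1,1,1] i) i) 552 = true := by
  decide +kernel
theorem check_fix : allBelow (fun i => !(Nat.beq (look 10 tab_y i) i) || Nat.beq i 529 || Nat.beq i 22) 552 = true := by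
  decide +kernel

theorem gy_mul_gx : gy * gx = gx * gx * gy := by
  apply ψ_injective
  rw [map_mul, map_mul, map_mul, ψ_gx, ψ_gy]
  exact Equiv.ext fun i => Fin.ext (Nat.eq_of_beq_eq_true (allBelow_spec _ _ check_rel i i.2))

theorem gd_mul_gy : gd * gy = gy * gd := by
  apply ψ_injective
  rw [map_mul, map_mul, ψ_gd, ψ_gy]
  exact Equiv.ext fun i => Fin.ext (Nat.eq_of_beq_eq_true (allBelow_spec _ _ check_dy i i.2))

theorem gd_mul_gd : gd * gd = 1 := by
  apply ψ_injective
  rw [map_mul, ψ_gd, map_one]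
  exact Equiv.ext fun i => Fin.ext (Nat.eq_of_beq_eq_true (allBelow_spec _ _ check_dd i i.2))

theorem gy_pow : gy ^ 11 = 1 := by
  apply ψ_injective
  rw [map_pow, ψ_gy, map_one]
  exact Equiv.ext fun i => Fin.ext (Nat.eq_of_beq_eq_true (allBelow_spec _ _ check_yy i i.2))

theorem gd_ne_one : gd ≠ 1 := by
  intro h
  have h1 := congrArg ψ h
  rw [ψ_gd, map_one] at h1
  have h2 := congrArg (fun σ : Equiv.Perm (Fin 552) => ((σ 529 : Fin 552) : ℕ)) h1
  change look 10 tab_d 529 = 529 at h2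
  revert h2
  decide +kernel

theorem orderOf_gx : orderOf gx = 23 := by
  rw [← Subgroup.orderOf_coe]
  exact SporadicA.ConwayShift.orderOf_shift

/-- `gx` is self-centralising. -/
theorem mem_zpowers_gx {g : G3} (h : Commute g gx) : g ∈ Subgroup.zpowers gx := by
  have h1 : Commute (g : Co0) SporadicA.ConwayShift.shift := congrArg Subtype.val h.eq
  obtain ⟨n, hn⟩ := SporadicA.ConwayShift.mem_zpowers_shift S0391.result 5 (Or.inr rfl) g.1 h1 (by
    have h2 : (g : Co0) • u0 = u0 := g.2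
    rw [u0_eq] at h2
    exact h2)
  rw [Subgroup.mem_zpowers_iff]
  refine ⟨n, Subtype.ext ?_⟩
  rw [zpow_natCast, hn]
  rfl

/-! ### generation and the base -/

section chain

variable {m w : ℕ}

/-- The stabiliser of a point. -/
def stb (b : Fin m) : Subgroup (Equiv.Perm (Fin m)) := MulAction.stabilizer (Equiv.Perm (Fin m)) b

theorem mem_stb {b : Fin m} {g : Equiv.Perm (Fin m)} : g ∈ stb b ↔ g b = b := Iff.rfl

theorem inK_mono {K K' : Subgroup (Equiv.Perm (Fin m))} (hK : K ≤ K') {t : ℕ} (h : InK w K t) : InK w K' t := by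
  obtain ⟨τ, hτ, h⟩ := h
  exact ⟨τ, hK hτ, h⟩

theorem stabStep (S : Subgroup (Equiv.Perm (Fin m))) (L : List ℕ) (b : Fin m) (d mask n : ℕ)
    (hL : ∀ t ∈ L, InK w S t) (hmask : Nat.beq (grow w m L d (Nat.shiftLeft 1 b)) mask = true)
    (hn : ((Finset.range m).filter fun y => Nat.testBit mask y = true).card = n) :
    n * Nat.card (S ⊓ stb b : Subgroup (Equiv.Perm (Fin m))) ≤ Nat.card S :=
  card_step_mask (w := w) S b (S ⊓ stb b) inf_le_left (fun _ hg => mem_stb.1 (Subgroup.mem_inf.1 hg).2) L hL d mask n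
    hmask hn

theorem inStab {S : Subgroup (Equiv.Perm (Fin m))} (L' : List ℕ) (b : Fin m)
    (hL : ∀ t ∈ L', InK w S t) (hfix : L'.all (fun t => Nat.beq (look w t b) b) = true) :
    ∀ t ∈ L', InK w (S ⊓ stb b) t := by
  intro t ht
  obtain ⟨τ, hτ, h⟩ := hL t ht
  rw [List.all_eq_true] at hfix
  exact ⟨τ, ⟨hτ, Fin.ext ((h b).trans (Nat.eq_of_beq_eq_true (hfix t ht)))⟩, h⟩

end chain

/-- The stabiliser in `K0` of the base. -/
def S1 : Subgroup (Equiv.Perm (Fin 552)) := K0 ⊓ stb 529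
def S2 : Subgroup (Equiv.Perm (Fin 552)) := S1 ⊓ stb 25
def S3 : Subgroup (Equiv.Perm (Fin 552)) := S2 ⊓ stb 112
def S4 : Subgroup (Equiv.Perm (Fin 552)) := S3 ⊓ stb 44
def S5 : Subgroup (Equiv.Perm (Fin 552)) := S4 ⊓ stb 57
def S6 : Subgroup (Equiv.Perm (Fin 552)) := S5 ⊓ stb 208

theorem inS1 : ∀ t ∈ L1, InK 10 S1 t := inStab (w := 10) L1 (529 : Fin 552) in1 (by decide +kernel)
theorem inS2 : ∀ t ∈ L2, InK 10 S2 t := inStab (w := 10) L2 (25 : Fin 552) (fun t ht => inK_mono (lev_le inS1) (in2 t ht)) (by decide +kernel)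
theorem inS3 : ∀ t ∈ L3, InK 10 S3 t := inStab (w := 10) L3 (112 : Fin 552) (fun t ht => inK_mono (lev_le inS2) (in3 t ht)) (by decide +kernel)
theorem inS4 : ∀ t ∈ L4, InK 10 S4 t := inStab (w := 10) L4 (44 : Fin 552) (fun t ht => inK_mono (lev_le inS3) (in4 t ht)) (by decide +kernel)
theorem inS5 : ∀ t ∈ L5, InK 10 S5 t := inStab (w := 10) L5 (57 : Fin 552) (fun t ht => inK_mono (lev_le inS4) (in5 t ht)) (by decide +kernel)

theorem card_K0_ge : 495766656000 * Nat.card S6 ≤ Nat.card K0 := by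
  have h0 : 552 * Nat.card S1 ≤ Nat.card K0 := stabStep (w := 10) K0 L0 529 _ mask0 552 in0 orb0 card0
  have h1 : 275 * Nat.card S2 ≤ Nat.card S1 := stabStep (w := 10) S1 L1 25 _ mask1 275 inS1 orb1 card1
  have h2 : 162 * Nat.card S3 ≤ Nat.card S2 := stabStep (w := 10) S2 L2 112 _ mask2 162 inS2 orb2 card2
  have h3 : 105 * Nat.card S4 ≤ Nat.card S3 := stabStep (w := 10) S3 L3 44 _ mask3 105 inS3 orb3 card3
  have h4 : 64 * Nat.card S5 ≤ Nat.card S4 := stabStep (w := 10) S4 L4 57 _ mask4 64 inS4 orb4 card4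
  have h5 : 3 * Nat.card S6 ≤ Nat.card S5 := stabStep (w := 10) S5 L5 208 _ mask5 3 inS5 orb5 card5
  omega

theorem K0_le : K0 ≤ ψ.range := by
  rw [K0, Subgroup.closure_le]
  rintro τ (rfl | rfl | rfl)
  · exact ⟨gx, ψ_gx⟩
  · exact ⟨gy, ψ_gy⟩
  · exact ⟨gd, ψ_gd⟩

theorem card_range : Nat.card ψ.range = 495766656000 := by
  rw [← card_G3]
  exact (Nat.card_congr (MonoidHom.ofInjective ψ_injective).toEquiv).symm

theorem card_S6 : Nat.card S6 = 1 := by
  have h1 := card_K0_ge
  have h2 : Nat.card K0 ≤ Nat.card ψ.range := Nat.card_le_card_of_injective _ (Subgroup.inclusion_injective K0_le)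
  rw [card_range] at h2
  have h3 : 0 < Nat.card S6 := Nat.card_pos
  omega

theorem K0_eq : K0 = ψ.range := by
  apply Subgroup.eq_of_le_of_card_ge K0_le
  rw [card_range]
  have := card_K0_ge
  rw [card_S6] at this
  omega

/-- The three elements generate the group. -/
theorem closure_eq_top : Subgroup.closure {gx, gy, gd} = (⊤ : Subgroup G3) := by
  apply Subgroup.map_injective ψ_injective
  rw [MonoidHom.map_closure, ← MonoidHom.range_eq_map, ← K0_eq, Set.image_insert_eq, Set.image_insert_eq,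
    Set.image_singleton, ψ_gx, ψ_gy, ψ_gd]
  rfl

theorem eq_one_of_base {g : G3} (h0 : ψ g 529 = 529) (h1 : ψ g 25 = 25) (h2 : ψ g 112 = 112) (h3 : ψ g 44 = 44)
    (h4 : ψ g 57 = 57) (h5 : ψ g 208 = 208) : g = 1 := by
  have hm : ψ g ∈ S6 := by
    have h00 : ψ g ∈ K0 := by
      rw [K0_eq]
      exact ⟨g, rfl⟩
    exact Subgroup.mem_inf.2 ⟨Subgroup.mem_inf.2 ⟨Subgroup.mem_inf.2 ⟨Subgroup.mem_inf.2 ⟨Subgroup.mem_inf.2
      ⟨Subgroup.mem_inf.2 ⟨h00, h0⟩, h1⟩, h2⟩, h3⟩, h4⟩, h5⟩
  rw [Subgroup.card_eq_one.1 card_S6, Subgroup.mem_bot] at hm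
  apply ψ_injective
  rw [hm, map_one]

/-! ### the centraliser of `gy` -/

theorem adj_eq (i j : Fin 552) : adj i j = decide (dotInt (X i : GolayPt → ℤ) (X j : GolayPt → ℤ) = 16) := by
  rw [coe_X, coe_X, ← dotc_eq]
  unfold adj
  rw [Bool.eq_iff_iff, beq_iff_eq, decide_eq_true_eq]

theorem adj_ψ (g : G3) (i j : Fin 552) : adj (ψ g i) (ψ g j) = adj i j := by
  rw [adj_eq, adj_eq, X_ψ, X_ψ]
  have := SporadicA.Co0Basic.map_dot (g : Co0) (X i) (X j)
  congr 2

section cent

variable {g : G3} (hg : Commute g gy) (h0 : ψ g 529 = 529)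

include hg in
theorem comm_y (i : Fin 552) : ψ g (py i) = py (ψ g i) := by
  have h1 := congrArg ψ hg.eq
  rw [map_mul, map_mul, ψ_gy] at h1
  exact congrArg (fun σ : Equiv.Perm (Fin 552) => σ i) h1

include hg h0 in
theorem inM_ψ (i : Fin 552) : inM (ψ g i) = inM i := by
  have e : ∀ j : Fin 552, look 10 tab_y (ψ g j) = (ψ g (py j) : ℕ) := fun j => by rw [comm_y hg j]; rfl
  have e0 : (529 : ℕ) = (ψ g 529 : Fin 552) := by rw [h0]; rfl
  unfold inM
  rw [e, e, e, e, e, adj_ψ, adj_ψ, adj_ψ, adj_ψ, adj_ψ]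
  have h1 : adj (ψ g i) 529 = adj i 529 := by
    have := adj_ψ g i 529
    rw [h0] at this
    exact this
  rw [h1]
  rfl

theorem testBit_eq (i : Fin 552) : Nat.testBit maskM i = inM i := by
  have := allBelow_spec _ _ maskM_eq i i.2
  rwa [beq_iff_eq] at this

theorem cnt_eq (q n : ℕ) :
    cnt q n = ((Finset.range n).filter fun z => Nat.testBit maskM z = true ∧ adj q z = true).card := by
  induction n with
  | zero => rfl
  | succ n ih =>
    rw [Finset.range_add_one, Finset.filter_insert, cnt, ih]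
    by_cases h : Nat.testBit maskM n = true ∧ adj q n = true
    · rw [if_pos h, h.1, h.2, Finset.card_insert_of_notMem (by simp), add_comm]
      rfl
    · rw [if_neg h]
      have : (Nat.testBit maskM n && adj q n) = false := by
        rw [← Bool.not_eq_true, Bool.and_eq_true]
        exact h
      rw [this]
      simp

theorem cnt_eq' (q : ℕ) :
    cnt q 552 = ((Finset.univ : Finset (Fin 552)).filter
      fun z : Fin 552 => inM (z : ℕ) = true ∧ adj q (z : ℕ) = true).card := by
  rw [cnt_eq]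
  symm
  apply Finset.card_bij (fun (z : Fin 552) _ => (z : ℕ))
  · intro z hz
    rw [Finset.mem_filter] at hz ⊢
    rw [testBit_eq]
    exact ⟨Finset.mem_range.2 z.2, hz.2⟩
  · intro a _ b _ h
    exact Fin.ext h
  · intro z hz
    rw [Finset.mem_filter, Finset.mem_range] at hz
    refine ⟨⟨z, hz.1⟩, ?_, rfl⟩
    rw [Finset.mem_filter]
    have := testBit_eq ⟨z, hz.1⟩
    exact ⟨Finset.mem_univ _, this ▸ hz.2.1, hz.2.2⟩

include hg h0 in
theorem cnt_ψ (i : Fin 552) : cnt (ψ g i) 552 = cnt i 552 := by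
  rw [cnt_eq', cnt_eq']
  symm
  apply Finset.card_bij (fun (z : Fin 552) _ => ψ g z)
  · intro z hz
    rw [Finset.mem_filter] at hz ⊢
    rw [inM_ψ hg h0, adj_ψ]
    exact ⟨Finset.mem_univ _, hz.2⟩
  · intro a _ b _ h
    exact (ψ g).injective h
  · intro z hz
    obtain ⟨a, rfl⟩ := (ψ g).surjective z
    rw [Finset.mem_filter, inM_ψ hg h0, adj_ψ] at hz
    exact ⟨a, Finset.mem_filter.2 ⟨Finset.mem_univ _, hz.2⟩, rfl⟩

theorem ψ_gy_pow (k : ℕ) (i : Fin 552) : (ψ (gy ^ k) i : ℕ) = evalWord 10 L0 (List.replicate k 1) i := by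
  induction k with
  | zero => rw [pow_zero, map_one]; rfl
  | succ k ih =>
    rw [pow_succ', map_mul, Equiv.Perm.mul_apply, ψ_gy, py_val, ih]
    rfl

include hg h0 in
theorem eq_pow : ∃ k : ℕ, g = gy ^ k := by
  have h1 : inM (ψ g 25) = true := by
    rw [inM_ψ hg h0, ← testBit_eq]
    decide +kernel
  have h2 : cnt (ψ g 25) 552 = 22 := (cnt_ψ hg h0 25).trans cnt25
  have h3 := allBelow_spec _ _ deg_spec (ψ g 25) (ψ g 25).2
  rw [testBit_eq, h1, h2] at h3
  have h4 : inO (ψ g 25) = true := h3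
  unfold inO at h4
  rw [List.any_eq_true] at h4
  obtain ⟨k, -, hk⟩ := h4
  have hk' := Nat.eq_of_beq_eq_true hk
  have h5 : ψ (gy ^ k) 25 = ψ g 25 := Fin.ext ((ψ_gy_pow k 25).trans hk')
  refine ⟨k, ?_⟩
  set g' : G3 := (gy ^ k)⁻¹ * g with hg'
  have hc : Commute g' gy := ((Commute.refl gy).pow_left k).inv_left.mul_left hg
  have hy0 : ψ gy 529 = 529 := by
    rw [ψ_gy]
    exact Fin.ext (by decide +kernel : look 10 tab_y 529 = 529)
  have hyk : ψ (gy ^ k) 529 = 529 := by
    have : ∀ n : ℕ, ((ψ gy) ^ n) 529 = (529 : Fin 552) := by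
      intro n
      induction n with
      | zero => rfl
      | succ n ih => rw [pow_succ', Equiv.Perm.mul_apply, ih, hy0]
    rw [map_pow]
    exact this _
  have e0 : ψ g' 529 = 529 := by
    rw [hg', map_mul, Equiv.Perm.mul_apply, h0, map_inv, Equiv.Perm.inv_eq_iff_eq, hyk]
  have e1 : ψ g' 25 = 25 := by
    rw [hg', map_mul, Equiv.Perm.mul_apply, map_inv, Equiv.Perm.inv_eq_iff_eq, h5]
  have hs : ∀ {a b : Fin 552}, py a = b → ψ g' a = a → ψ g' b = b := by
    intro a b hab ha
    rw [← hab, comm_y hc, ha]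
  have e2 : ψ g' 112 = 112 := hs (a := 25) (b := 112) (Fin.ext (by decide +kernel : look 10 tab_y 25 = 112)) e1
  have e3 : ψ g' 44 = 44 := hs (a := 112) (b := 44) (Fin.ext (by decide +kernel : look 10 tab_y 112 = 44)) e2
  have e4 : ψ g' 57 = 57 := hs (a := 44) (b := 57) (Fin.ext (by decide +kernel : look 10 tab_y 44 = 57)) e3
  have e5 : ψ g' 208 = 208 := hs (a := 57) (b := 208) (Fin.ext (by decide +kernel : look 10 tab_y 57 = 208)) e4
  have h6 : g' = 1 := eq_one_of_base e0 e1 e2 e3 e4 e5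
  rw [hg', inv_mul_eq_one] at h6
  exact h6.symm

end cent

/-- The centraliser of `gy`. -/
theorem cent_gy {g : G3} (hg : Commute g gy) : ∃ k : ℕ, g = gy ^ k ∨ g = gy ^ k * gd := by
  have h529 : py 529 = 529 := Fin.ext (by decide +kernel : look 10 tab_y 529 = 529)
  have h1 : py (ψ g 529) = ψ g 529 := by rw [← comm_y hg, h529]
  have h2 := allBelow_spec _ _ check_fix (ψ g 529) (ψ g 529).2
  have h3 : Nat.beq (look 10 tab_y (ψ g 529)) (ψ g 529) = true := by
    have h4 : look 10 tab_y (ψ g 529) = (ψ g 529 : ℕ) := congrArg Fin.val h1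
    rw [h4]
    exact Nat.beq_refl _
  rw [h3] at h2
  simp only [Bool.not_true, Bool.false_or, Bool.or_eq_true] at h2
  rcases h2 with h2 | h2
  · obtain ⟨k, hk⟩ := eq_pow hg (Fin.ext (Nat.eq_of_beq_eq_true h2))
    exact ⟨k, Or.inl hk⟩
  · have h4 : ψ g 529 = 22 := Fin.ext (Nat.eq_of_beq_eq_true h2)
    have h5 : ψ (gd * g) 529 = 529 := by
      rw [map_mul, Equiv.Perm.mul_apply, h4, ψ_gd]
      exact Fin.ext (by decide +kernel : look 10 tab_d 22 = 529)
    have h6 : Commute (gd * g) gy := Commute.mul_left gd_mul_gy hg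
    obtain ⟨k, hk⟩ := eq_pow h6 h5
    refine ⟨k, Or.inr ?_⟩
    have h7 : Commute (gy ^ k) gd := ((show Commute gd gy from gd_mul_gy).symm).pow_left k
    rw [h7.eq, ← hk, ← mul_assoc, gd_mul_gd, one_mul]

end Cfsg.Agent.Schreier.CoThreeCent
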