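import Cfsg.Agent.J4Type.DuadM24
import Cfsg.Agent.J4Type.ClosingCocode
import Cfsg.Agent.J4Type.HexMax

/-!
# Elementary abelian subgroups of `M24` acting quadratically on the even cocode (R20, helper552)

`A` = even Golay cocode (order `2^11`), `actE` = action of `M24`.  If `B ≠ 1` is an elementary abelian
subgroup of `M24` and `A0 ≤ A` is centralised by `B` and contains `[A, B]`, then
`|A0| * |B| < 2^11` (`small`).
-/

set_option autoImplicit false

namespace Cfsg.Agent.Schreier.CocodeSmall

open Cfsg Cfsg.Agent.J4Type.DuadStab Cfsg.Agent.J4Type.ClosingCocode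

variable {A : Type*} [CommGroup A] {e : GolayPt → A}

/-- `e` presents the even cocode and its elements generate `A`. -/
structure Pres (e : GolayPt → A) : Prop where
  he : IsCocode e
  hgen : ∀ a : A, ∃ S : Finset GolayPt, Even S.card ∧ a = ∏ i ∈ S, e i

theorem even_map (g : Equiv.Perm GolayPt) {S : Finset GolayPt} (hS : Even S.card) :
    Even (S.map g.toEmbedding).card := by rwa [Finset.card_map]

theorem prod_one_map (he : IsCocode e) {g : Equiv.Perm GolayPt} (hg : g ∈ M24)
    {S : Finset GolayPt} (hS : Even S.card) (h : ∏ i ∈ S, e i = 1) : ∏ i ∈ S, e (g i) = 1 := by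
  have h1 := (he.ker S hS).1 h
  have h2 := (SporadicA.GolayPerm.mem_M24_iff g).1 hg S h1
  rw [SporadicA.GolayPerm.smul_finset_eq_map] at h2
  have h3 := (he.ker _ (even_map g hS)).2 h2
  rw [Finset.prod_map] at h3
  exact h3

theorem even_symmDiff {S T : Finset GolayPt} (hS : Even S.card) (hT : Even T.card) :
    Even (symmDiff S T).card := by
  rw [Nat.even_iff, card_symmDiff_parity]
  rw [Nat.even_iff] at hS hT
  omega

theorem prod_congr_map (he : IsCocode e) {g : Equiv.Perm GolayPt} (hg : g ∈ M24)
    {S T : Finset GolayPt} (hS : Even S.card) (hT : Even T.card)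
    (h : ∏ i ∈ S, e i = ∏ i ∈ T, e i) : ∏ i ∈ S, e (g i) = ∏ i ∈ T, e (g i) := by
  have hsq : ∀ T : Finset GolayPt, (∏ i ∈ T, e i) * ∏ i ∈ T, e i = 1 := fun T => by
    rw [← Finset.prod_mul_distrib]; exact Finset.prod_eq_one fun i _ => he.sq i
  have hsq' : ∀ T : Finset GolayPt, (∏ i ∈ T, e (g i)) * ∏ i ∈ T, e (g i) = 1 := fun T => by
    rw [← Finset.prod_mul_distrib]; exact Finset.prod_eq_one fun i _ => he.sq _
  have h1 : ∏ i ∈ symmDiff S T, e i = 1 := by
    rw [prod_symmDiff he.sq, h, hsq]
  have h2 := prod_one_map he hg (even_symmDiff hS hT) h1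
  have h3 : ∏ i ∈ symmDiff S T, e (g i) = (∏ i ∈ S, e (g i)) * ∏ i ∈ T, e (g i) :=
    prod_symmDiff (e := fun i => e (g i)) (fun i => he.sq _) S T
  rw [h3] at h2
  have h4 := hsq' T
  calc ∏ i ∈ S, e (g i) = (∏ i ∈ S, e (g i)) * ((∏ i ∈ T, e (g i)) * ∏ i ∈ T, e (g i)) := by
        rw [h4, mul_one]
    _ = ∏ i ∈ T, e (g i) := by rw [← mul_assoc, h2, one_mul]

/-- The action of `M24` on the even cocode. -/
noncomputable def actE (P : Pres e) (g : M24) : A →* A :=
  MonoidHom.mk' (fun a => ∏ i ∈ Classical.choose (P.hgen a), e ((g : Equiv.Perm GolayPt) i)) (by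
    intro a b
    have ha := Classical.choose_spec (P.hgen a)
    have hb := Classical.choose_spec (P.hgen b)
    have hab := Classical.choose_spec (P.hgen (a * b))
    set Sa := Classical.choose (P.hgen a)
    set Sb := Classical.choose (P.hgen b)
    set Sab := Classical.choose (P.hgen (a * b))
    have h1 : ∏ i ∈ Sab, e i = ∏ i ∈ symmDiff Sa Sb, e i := by
      rw [prod_symmDiff P.he.sq, ← ha.2, ← hb.2, ← hab.2]
    have h2 := prod_congr_map P.he g.2 hab.1 (even_symmDiff ha.1 hb.1) h1
    rw [h2]
    exact prod_symmDiff (e := fun i => e ((g : Equiv.Perm GolayPt) i)) (fun i => P.he.sq _) Sa Sb)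

theorem actE_prod (P : Pres e) (g : M24) {S : Finset GolayPt} (hS : Even S.card) :
    actE P g (∏ i ∈ S, e i) = ∏ i ∈ S, e ((g : Equiv.Perm GolayPt) i) := by
  have h := Classical.choose_spec (P.hgen (∏ i ∈ S, e i))
  exact prod_congr_map P.he g.2 h.1 hS h.2.symm

theorem actE_pair (P : Pres e) (g : M24) {i j : GolayPt} (hij : i ≠ j) :
    actE P g (e i * e j) = e ((g : Equiv.Perm GolayPt) i) * e ((g : Equiv.Perm GolayPt) j) := by
  have h := actE_prod P g (S := {i, j}) (by rw [Finset.card_pair hij]; decide)
  rwa [Finset.prod_pair hij, Finset.prod_pair hij] at h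

theorem actE_pair' (P : Pres e) (g : M24) (i j : GolayPt) :
    actE P g (e i * e j) = e ((g : Equiv.Perm GolayPt) i) * e ((g : Equiv.Perm GolayPt) j) := by
  by_cases h : i = j
  · subst h
    rw [P.he.sq, P.he.sq, map_one]
  · exact actE_pair P g h

/-- extensionality: endomorphisms agreeing on duads are equal -/
theorem hom_ext (P : Pres e) {f g : A →* A} (h : ∀ i j : GolayPt, i ≠ j → f (e i * e j) = g (e i * e j)) :
    f = g := by
  classical
  have key : ∀ n : ℕ, ∀ S : Finset GolayPt, S.card = 2 * n → f (∏ i ∈ S, e i) = g (∏ i ∈ S, e i) := by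
    intro n
    induction n with
    | zero =>
      intro S hS
      have : S = ∅ := Finset.card_eq_zero.1 (by omega)
      subst this
      rw [Finset.prod_empty, map_one, map_one]
    | succ n ih =>
      intro S hS
      obtain ⟨i, hi⟩ : S.Nonempty := Finset.card_pos.1 (by omega)
      have h1 : (S.erase i).card = 2 * n + 1 := by
        rw [Finset.card_erase_of_mem hi]; omega
      obtain ⟨j, hj⟩ : (S.erase i).Nonempty := Finset.card_pos.1 (by omega)
      have h2 : ((S.erase i).erase j).card = 2 * n := by
        rw [Finset.card_erase_of_mem hj]; omega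
      have hij : i ≠ j := (Finset.ne_of_mem_erase hj).symm
      rw [← Finset.mul_prod_erase S _ hi, ← Finset.mul_prod_erase (S.erase i) _ hj, ← mul_assoc,
        map_mul, map_mul g, h i j hij, ih _ h2]
  ext a
  obtain ⟨S, ⟨n, hn⟩, rfl⟩ := P.hgen a
  exact key n S (by omega)

theorem actE_mul (P : Pres e) (g h : M24) (a : A) : actE P (g * h) a = actE P g (actE P h a) := by
  have : actE P (g * h) = (actE P g).comp (actE P h) := by
    apply hom_ext P
    intro i j _
    rw [MonoidHom.comp_apply, actE_pair', actE_pair', actE_pair']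
    rfl
  rw [this, MonoidHom.comp_apply]

theorem actE_one (P : Pres e) (a : A) : actE P 1 a = a := by
  have : actE P 1 = MonoidHom.id A := by
    apply hom_ext P
    intro i j _
    rw [actE_pair']
    rfl
  rw [this, MonoidHom.id_apply]

theorem actE_inj (P : Pres e) {g h : M24} (H : ∀ a, actE P g a = actE P h a) : g = h := by
  apply Subtype.ext
  apply P.he.perm_unique
  intro i j
  have := H (e i * e j)
  rwa [actE_pair', actE_pair'] at this

theorem sq (P : Pres e) (a : A) : a * a = 1 := by
  obtain ⟨S, -, rfl⟩ := P.hgen a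
  rw [← Finset.prod_mul_distrib]
  exact Finset.prod_eq_one fun i _ => P.he.sq i

/-- `e i * e j = e k * e l` for duads means equality of the pairs -/
theorem pair_eq (P : Pres e) {i j k l : GolayPt} (hij : i ≠ j) (hkl : k ≠ l)
    (h : e i * e j = e k * e l) : (i = k ∧ j = l) ∨ (i = l ∧ j = k) := by
  classical
  have h1 : ∏ a ∈ symmDiff ({i, j} : Finset GolayPt) {k, l}, e a = 1 := by
    rw [prod_symmDiff P.he.sq, Finset.prod_pair hij, Finset.prod_pair hkl, h, sq P]
  have hc1 := Finset.card_pair hij
  have hc2 := Finset.card_pair hkl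
  have h2 := P.he.eq_empty _ (by rw [Nat.even_iff, card_symmDiff_parity, hc1, hc2]) (by
      have h3 := Finset.card_le_card (Finset.symmDiff_subset_union
        (s := ({i, j} : Finset GolayPt)) (t := {k, l}))
      have h4 := Finset.card_union_le ({i, j} : Finset GolayPt) {k, l}
      omega) h1
  have h3 : ({i, j} : Finset GolayPt) = {k, l} := symmDiff_eq_bot.1 h2
  have hi : i ∈ ({k, l} : Finset GolayPt) := by rw [← h3]; exact Finset.mem_insert_self _ _
  have hj : j ∈ ({k, l} : Finset GolayPt) := by
    rw [← h3]; exact Finset.mem_insert_of_mem (Finset.mem_singleton_self _)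
  rw [Finset.mem_insert, Finset.mem_singleton] at hi hj
  rcases hi with rfl | rfl <;> rcases hj with h | h
  · exact absurd h.symm hij
  · exact Or.inl ⟨rfl, h⟩
  · exact Or.inr ⟨rfl, h⟩
  · exact absurd h.symm hij

theorem pair_ne_one (P : Pres e) {i j : GolayPt} (hij : i ≠ j) : e i * e j ≠ 1 :=
  IsDuad.ne_one P.he ⟨i, j, hij, rfl⟩

/-! ### The bound for one involution -/

/-- the commutator map of an element -/
noncomputable def kap (P : Pres e) (c : M24) : A →* A :=
  MonoidHom.mk' (fun a => actE P c a * a) (by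
    intro a b
    rw [map_mul]
    exact mul_mul_mul_comm _ _ _ _)

theorem kap_apply (P : Pres e) (c : M24) (a : A) : kap P c a = actE P c a * a := rfl

theorem mem_ker_kap (P : Pres e) (c : M24) (a : A) : a ∈ (kap P c).ker ↔ actE P c a = a := by
  rw [MonoidHom.mem_ker, kap_apply]
  constructor
  · intro h
    have h1 := sq P a
    calc actE P c a = actE P c a * (a * a) := by rw [h1, mul_one]
      _ = a := by rw [← mul_assoc, h, one_mul]
  · intro h
    rw [h, sq P]

/-- the values of `kap` on the duads through `q` -/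
theorem kap_pair (P : Pres e) (c : M24) (p q : GolayPt) :
    kap P c (e p * e q) = (e p * e ((c : Equiv.Perm GolayPt) p)) *
      (e q * e ((c : Equiv.Perm GolayPt) q)) := by
  rw [kap_apply, actE_pair']
  calc e ((c : Equiv.Perm GolayPt) p) * e ((c : Equiv.Perm GolayPt) q) * (e p * e q) =
      (e ((c : Equiv.Perm GolayPt) p) * e p) * (e ((c : Equiv.Perm GolayPt) q) * e q) :=
        mul_mul_mul_comm _ _ _ _
    _ = _ := by rw [mul_comm (e ((c : Equiv.Perm GolayPt) p)), mul_comm (e ((c : Equiv.Perm GolayPt) q))]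

/-- An involution centralises at most `2^7` elements. -/
theorem card_le_of_fixed [Finite A] (P : Pres e) (hA : Nat.card A = 2 ^ 11) {c : M24}
    (hc : c * c = 1) (hc1 : c ≠ 1) (A0 : Subgroup A) (h0 : ∀ a ∈ A0, actE P c a = a) :
    Nat.card A0 ≤ 2 ^ 7 := by
  classical
  set u : Equiv.Perm GolayPt := (c : Equiv.Perm GolayPt) with hu
  have huu : ∀ p, u (u p) = p := by
    intro p
    have : u * u = 1 := congrArg Subtype.val hc
    rw [← Equiv.Perm.mul_apply, this]; rfl
  have hu1 : u ≠ 1 := fun h => hc1 (Subtype.ext h)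
  -- fibres of `p ↦ e p * e (u p)`
  have hfib : ∀ p p' : GolayPt, u p ≠ p → e p * e (u p) = e p' * e (u p') → p' = p ∨ p' = u p := by
    intro p p' hp h
    have hp' : u p' ≠ p' := by
      intro h'
      rw [h', P.he.sq] at h
      exact pair_ne_one P (Ne.symm hp) h
    rcases pair_eq P (Ne.symm hp) (Ne.symm hp') h with ⟨h1, -⟩ | ⟨h1, h2⟩
    · exact Or.inl h1.symm
    · exact Or.inr h2.symm
  have hrange : 8 < Nat.card (kap P c).range := by
    by_cases hfix : ∃ q, u q = q
    · obtain ⟨q, hq⟩ := hfix
      have h8 := Cfsg.Agent.J4Type.FusionM22.card_fix c.2 (congrArg Subtype.val hc) hu1 hq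
      -- moved points
      let M : Finset GolayPt := Finset.univ.filter fun p => ¬ u p = p
      have hM : M.card = 16 := by
        have h1 := Finset.card_filter_add_card_filter_not (s := (Finset.univ : Finset GolayPt))
          (fun p => u p = p)
        rw [Finset.card_univ, Cfsg.Agent.J4Type.HexMax.card24] at h1
        have h8' : (Finset.univ.filter fun p : GolayPt => u p = p).card = 8 := h8
        show (Finset.univ.filter fun p => ¬ u p = p).card = 16
        omega
      let I : Finset A := M.image fun p => e p * e (u p)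
      have hI : M.card ≤ 2 * I.card := by
        apply Finset.card_le_mul_card_image
        intro b hb
        obtain ⟨p, hp, rfl⟩ := Finset.mem_image.1 hb
        have hp' : u p ≠ p := (Finset.mem_filter.1 hp).2
        have hsub : (M.filter fun p' => e p' * e (u p') = e p * e (u p)) ⊆ {p, u p} := by
          intro p' hp''
          have h3 := (Finset.mem_filter.1 hp'').2
          rw [Finset.mem_insert, Finset.mem_singleton]
          exact hfib p p' hp' h3.symm
        exact (Finset.card_le_card hsub).trans Finset.card_le_two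
      have h1I : (1 : A) ∉ I := by
        intro h
        obtain ⟨p, hp, h1⟩ := Finset.mem_image.1 h
        exact pair_ne_one P (Ne.symm (Finset.mem_filter.1 hp).2) h1
      have hsub : ((insert 1 I : Finset A) : Set A) ⊆ ((kap P c).range : Set A) := by
        intro a ha
        rw [Finset.coe_insert, Set.mem_insert_iff] at ha
        rcases ha with rfl | ha
        · exact one_mem _
        · obtain ⟨p, hp, rfl⟩ := Finset.mem_image.1 (Finset.mem_coe.1 ha)
          refine ⟨e p * e q, ?_⟩
          rw [kap_pair, ← hu, hq, P.he.sq, mul_one]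
      have h2 := Set.ncard_le_ncard hsub (Set.toFinite _)
      rw [Set.ncard_coe_finset, Finset.card_insert_of_notMem h1I] at h2
      have h3 : ((kap P c).range : Set A).ncard = Nat.card (kap P c).range := rfl
      omega
    · push Not at hfix
      let I : Finset A := (Finset.univ : Finset GolayPt).image fun p => e p * e (u p)
      have hI : (Finset.univ : Finset GolayPt).card ≤ 2 * I.card := by
        apply Finset.card_le_mul_card_image
        intro b hb
        obtain ⟨p, hp, rfl⟩ := Finset.mem_image.1 hb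
        have hsub : ((Finset.univ : Finset GolayPt).filter
            fun p' => e p' * e (u p') = e p * e (u p)) ⊆ {p, u p} := by
          intro p' hp''
          have h3 := (Finset.mem_filter.1 hp'').2
          rw [Finset.mem_insert, Finset.mem_singleton]
          exact hfib p p' (hfix p) h3.symm
        exact (Finset.card_le_card hsub).trans Finset.card_le_two
      rw [Finset.card_univ, Cfsg.Agent.J4Type.HexMax.card24] at hI
      let q : GolayPt := none
      let J : Finset A := I.image fun x => x * (e q * e (u q))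
      have hJ : J.card = I.card := Finset.card_image_of_injective _ (mul_left_injective _)
      have hsub : (J : Set A) ⊆ ((kap P c).range : Set A) := by
        intro a ha
        obtain ⟨x, hx, rfl⟩ := Finset.mem_image.1 (Finset.mem_coe.1 ha)
        obtain ⟨p, hp, rfl⟩ := Finset.mem_image.1 hx
        exact ⟨e p * e q, kap_pair P c p q⟩
      have h2 := Set.ncard_le_ncard hsub (Set.toFinite _)
      rw [Set.ncard_coe_finset, hJ] at h2
      have h3 : ((kap P c).range : Set A).ncard = Nat.card (kap P c).range := rfl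
      omega
  -- `|ker| * |range| = 2^11`
  have hmul : Nat.card (kap P c).ker * Nat.card (kap P c).range = 2 ^ 11 := by
    rw [← hA, ← Subgroup.index_ker, Subgroup.card_mul_index]
  have hker : Nat.card (kap P c).ker ≤ 2 ^ 7 := by
    obtain ⟨k, hk, hk'⟩ := (Nat.dvd_prime_pow Nat.prime_two).1 (Dvd.intro_left _ hmul)
    rw [hk'] at hmul hrange
    have h4 : 4 ≤ k := by
      by_contra h
      have : k = 0 ∨ k = 1 ∨ k = 2 ∨ k = 3 := by omega
      rcases this with rfl | rfl | rfl | rfl <;> norm_num at hrange
    have h5 : (2 : ℕ) ^ 11 = 2 ^ (11 - k) * 2 ^ k := by rw [← pow_add]; congr 1; omega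
    rw [h5] at hmul
    have h6 := Nat.eq_of_mul_eq_mul_right (by positivity) hmul
    rw [h6]
    exact Nat.pow_le_pow_right (by norm_num) (by omega)
  refine le_trans (Subgroup.card_le_of_le ?_) hker
  intro a ha
  exact (mem_ker_kap P c a).2 (h0 a ha)

/-- the kernel of `kap` -/
theorem card_ker_kap_le [Finite A] (P : Pres e) (hA : Nat.card A = 2 ^ 11) {c : M24}
    (hc : c * c = 1) (hc1 : c ≠ 1) : Nat.card (kap P c).ker ≤ 2 ^ 7 :=
  card_le_of_fixed P hA hc hc1 _ fun a ha => (mem_ker_kap P c a).1 ha

/-! ### Elementary abelian subgroups preserving the 2-cycles of an involution -/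

theorem exists_not_mem {n : ℕ} (M T : Finset GolayPt) (hM : n < M.card) (hT : T.card ≤ n) :
    ∃ x ∈ M, x ∉ T := Finset.exists_mem_notMem_of_card_lt_card (by omega)

/-- An elementary abelian subgroup preserving the 2-cycles of an involution `c ∈ B` with fixed points has
order at most 16. -/
theorem card_le_sixteen (B : Subgroup M24) (hB : ∀ b ∈ B, b * b = 1) {c : M24} (hcB : c ∈ B)
    (hc1 : c ≠ 1) {q : GolayPt} (hq : (c : Equiv.Perm GolayPt) q = q)
    (hpres : ∀ b ∈ B, ∀ p, (c : Equiv.Perm GolayPt) p ≠ p →
      (b : Equiv.Perm GolayPt) p = p ∨ (b : Equiv.Perm GolayPt) p = (c : Equiv.Perm GolayPt) p) :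
    Nat.card B ≤ 16 := by
  classical
  have hc := hB c hcB
  set u : Equiv.Perm GolayPt := (c : Equiv.Perm GolayPt) with hu
  have huu : ∀ p, u (u p) = p := by
    intro p
    have : u * u = 1 := congrArg Subtype.val hc
    rw [← Equiv.Perm.mul_apply, this]; rfl
  have hu1 : u ≠ 1 := fun h => hc1 (Subtype.ext h)
  have h8 := Cfsg.Agent.J4Type.FusionM22.card_fix c.2 (congrArg Subtype.val hc) hu1 hq
  let M : Finset GolayPt := Finset.univ.filter fun p => ¬ u p = p
  have hM : M.card = 16 := by
    have h1 := Finset.card_filter_add_card_filter_not (s := (Finset.univ : Finset GolayPt))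
      (fun p => u p = p)
    rw [Finset.card_univ, Cfsg.Agent.J4Type.HexMax.card24] at h1
    have h8' : (Finset.univ.filter fun p : GolayPt => u p = p).card = 8 := h8
    show (Finset.univ.filter fun p => ¬ u p = p).card = 16
    omega
  have hMu : ∀ p, p ∈ M ↔ u p ≠ p := fun p => by
    show p ∈ Finset.univ.filter (fun p => ¬ u p = p) ↔ _
    rw [Finset.mem_filter]
    exact ⟨fun h => h.2, fun h => ⟨Finset.mem_univ _, h⟩⟩
  obtain ⟨p₁, h1M, -⟩ := exists_not_mem (n := 0) M ∅ (by omega) (by simp)
  obtain ⟨p₂, h2M, h2⟩ := exists_not_mem (n := 2) M {p₁, u p₁} (by omega) Finset.card_le_two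
  obtain ⟨p₃, h3M, h3⟩ := exists_not_mem (n := 4) M {p₁, u p₁, p₂, u p₂} (by omega)
    Finset.card_le_four
  rw [hMu] at h1M h2M h3M
  simp only [Finset.mem_insert, Finset.mem_singleton, not_or] at h2 h3
  have h5 : ({p₁, u p₁, p₂, u p₂, p₃} : Finset GolayPt).card = 5 := by
    have e1 : p₁ ∉ ({u p₁, p₂, u p₂, p₃} : Finset GolayPt) := by
      simp only [Finset.mem_insert, Finset.mem_singleton, not_or]
      refine ⟨Ne.symm h1M, Ne.symm h2.1, fun h => h2.2 ?_, Ne.symm h3.1⟩
      rw [h, huu]
    have e2 : u p₁ ∉ ({p₂, u p₂, p₃} : Finset GolayPt) := by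
      simp only [Finset.mem_insert, Finset.mem_singleton, not_or]
      exact ⟨Ne.symm h2.2, fun h => h2.1 (u.injective h).symm, Ne.symm h3.2.1⟩
    have e3 : p₂ ∉ ({u p₂, p₃} : Finset GolayPt) := by
      simp only [Finset.mem_insert, Finset.mem_singleton, not_or]
      exact ⟨Ne.symm h2M, Ne.symm h3.2.2.1⟩
    have e4 : u p₂ ≠ p₃ := Ne.symm h3.2.2.2
    rw [Finset.card_insert_of_notMem e1, Finset.card_insert_of_notMem e2,
      Finset.card_insert_of_notMem e3, Finset.card_pair e4]
  obtain ⟨O', ⟨hO', hsub⟩, huniq⟩ := Cfsg.Agent.S0363.result.2 _ h5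
  obtain ⟨p₄, h4M, h4⟩ := exists_not_mem (n := 8) M O' (by omega)
    (le_of_eq (Cfsg.Agent.S0363.result.1 O' hO'))
  rw [hMu] at h4M
  -- the elements of `B` commute with `c`
  have hcomm : ∀ b ∈ B, ∀ p, (b : Equiv.Perm GolayPt) (u p) = u ((b : Equiv.Perm GolayPt) p) := by
    intro b hb p
    have h1 : b * c = c * b := by
      have h2 := hB _ (B.mul_mem hb hcB)
      have h3 := hB b hb
      calc b * c = (b * c)⁻¹ := eq_inv_of_mul_eq_one_left h2
        _ = c⁻¹ * b⁻¹ := mul_inv_rev _ _
        _ = c * b := by rw [inv_eq_of_mul_eq_one_left hc, inv_eq_of_mul_eq_one_left h3]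
    have h2 := congrArg (fun g : M24 => (g : Equiv.Perm GolayPt) p) h1
    exact h2
  let pp : Fin 4 → GolayPt := ![p₁, p₂, p₃, p₄]
  have hppM : ∀ i, u (pp i) ≠ pp i := by
    intro i
    fin_cases i
    · exact h1M
    · exact h2M
    · exact h3M
    · exact h4M
  let F : B → (Fin 4 → Bool) := fun b i => decide ((b : M24) • pp i = pp i)
  have hF : Function.Injective F := by
    intro b b' hbb
    have hsame : ∀ i, ((b : M24) : Equiv.Perm GolayPt) (pp i) =
        ((b' : M24) : Equiv.Perm GolayPt) (pp i) := by
      intro i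
      have h1 : (((b : M24) : Equiv.Perm GolayPt) (pp i) = pp i) ↔
          (((b' : M24) : Equiv.Perm GolayPt) (pp i) = pp i) := by
        have := congrFun hbb i
        exact decide_eq_decide.1 this
      rcases hpres b b.2 (pp i) (hppM i) with h2 | h2 <;>
        rcases hpres b' b'.2 (pp i) (hppM i) with h3 | h3
      · rw [h2, h3]
      · exact absurd ((h1.1 h2).symm.trans h3).symm (hppM i)
      · exact absurd ((h1.2 h3).symm.trans h2).symm (hppM i)
      · rw [h2, h3]
    by_contra hne
    -- `d = b⁻¹ b'`
    have hd : (b : M24)⁻¹ * (b' : M24) ∈ B := B.mul_mem (B.inv_mem b.2) b'.2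
    have hd1 : (b : M24)⁻¹ * (b' : M24) ≠ 1 := by
      intro h
      exact hne (Subtype.ext (inv_mul_eq_one.1 h))
    have hfix : ∀ i, (((b : M24)⁻¹ * (b' : M24) : M24) : Equiv.Perm GolayPt) (pp i) = pp i := by
      intro i
      show ((b : M24) : Equiv.Perm GolayPt)⁻¹ (((b' : M24) : Equiv.Perm GolayPt) (pp i)) = pp i
      rw [← hsame i]
      exact ((b : M24) : Equiv.Perm GolayPt).symm_apply_apply _
    have hfix' : ∀ i, (((b : M24)⁻¹ * (b' : M24) : M24) : Equiv.Perm GolayPt) (u (pp i)) =
        u (pp i) := by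
      intro i
      rw [hcomm _ hd, hfix]
    obtain ⟨O, hO, hOf⟩ := Cfsg.Agent.J4Type.DuadM24.fix_octad
      ((b : M24)⁻¹ * (b' : M24)).2 (congrArg Subtype.val (hB _ hd))
      (fun h => hd1 (Subtype.ext h)) (hfix 0)
    have hOO : O = O' := by
      apply huniq
      refine ⟨hO, ?_⟩
      intro x hx
      rw [← hOf]
      simp only [Finset.mem_insert, Finset.mem_singleton] at hx
      rcases hx with rfl | rfl | rfl | rfl | rfl
      · exact hfix 0
      · exact hfix' 0
      · exact hfix 1
      · exact hfix' 1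
      · exact hfix 2
    apply h4
    rw [← hOO, ← hOf]
    exact hfix 3
  have h := Nat.card_le_card_of_injective F hF
  have h16 : Nat.card (Fin 4 → Bool) = 16 := by
    rw [Nat.card_eq_fintype_card]
    decide +kernel
  rwa [h16] at h

/-- **Main estimate.** -/
theorem small [Finite A] (P : Pres e) (hA : Nat.card A = 2 ^ 11) (B : Subgroup M24)
    (hB : ∀ b ∈ B, b * b = 1) (hne : B ≠ ⊥) (A0 : Subgroup A)
    (h1 : ∀ b ∈ B, ∀ a ∈ A0, actE P b a = a) (h2 : ∀ b ∈ B, ∀ a : A, actE P b a * a ∈ A0) :
    Nat.card A0 * Nat.card B < 2 ^ 11 := by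
  classical
  by_contra hge
  rw [not_lt] at hge
  have hA0 : Nat.card A0 ≤ 2 ^ 7 := by
    obtain ⟨c, hc1⟩ := Subgroup.ne_bot_iff_exists_ne_one.1 hne
    exact card_le_of_fixed P hA (hB c c.2) (fun h => hc1 (Subtype.ext h)) A0 (h1 c c.2)
  have hB16 : 16 ≤ Nat.card B := by
    by_contra h
    have h3 : Nat.card A0 * Nat.card B ≤ 2 ^ 7 * 15 := Nat.mul_le_mul hA0 (by omega)
    omega
  by_cases hI : ∃ c ∈ B, c ≠ 1 ∧ ∃ q : GolayPt, (c : Equiv.Perm GolayPt) q = q
  · obtain ⟨c, hcB, hc1, q, hq⟩ := hI
    have hc := hB c hcB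
    set u : Equiv.Perm GolayPt := (c : Equiv.Perm GolayPt) with hu
    have huu : ∀ p, u (u p) = p := by
      intro p
      have : u * u = 1 := congrArg Subtype.val hc
      rw [← Equiv.Perm.mul_apply, this]; rfl
    have hu1 : u ≠ 1 := fun h => hc1 (Subtype.ext h)
    have h8 : (Finset.univ.filter fun p : GolayPt => u p = p).card = 8 :=
      Cfsg.Agent.J4Type.FusionM22.card_fix c.2 (congrArg Subtype.val hc) hu1 hq
    have hpres : ∀ b ∈ B, ∀ p, u p ≠ p →
        (b : Equiv.Perm GolayPt) p = p ∨ (b : Equiv.Perm GolayPt) p = u p := by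
      intro b hb p hp
      have h3 : e p * e (u p) ∈ A0 := by
        have h4 := h2 c hcB (e p * e q)
        have h5 := kap_pair P c p q
        rw [kap_apply] at h5
        rw [h5, ← hu, hq, P.he.sq, mul_one] at h4
        exact h4
      have h4 := h1 b hb _ h3
      rw [actE_pair P b (Ne.symm hp)] at h4
      rcases pair_eq P ((b : Equiv.Perm GolayPt).injective.ne (Ne.symm hp)) (Ne.symm hp) h4 with
        ⟨h5, -⟩ | ⟨h5, -⟩
      · exact Or.inl h5
      · exact Or.inr h5
    have hB16' := card_le_sixteen B hB hcB hc1 hq hpres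
    have hA0' : 2 ^ 7 ≤ Nat.card A0 := by
      by_contra h
      have h3 : Nat.card A0 * Nat.card B ≤ (2 ^ 7 - 1) * 16 := Nat.mul_le_mul (by omega) hB16'
      omega
    have hker : A0 = (kap P c).ker := by
      apply Subgroup.eq_of_le_of_card_ge
      · intro a ha
        exact (mem_ker_kap P c a).2 (h1 c hcB a ha)
      · exact (card_ker_kap_le P hA hc hc1).trans hA0'
    -- elements of `B` fix the fixed points of `c`
    have hfix : ∀ b ∈ B, ∀ x, u x = x → (b : Equiv.Perm GolayPt) x = x := by
      intro b hb x hx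
      have hpair : ∀ y, u y = y → x ≠ y →
          (b : Equiv.Perm GolayPt) x = x ∨ (b : Equiv.Perm GolayPt) x = y := by
        intro y hy hxy
        have h3 : e x * e y ∈ A0 := by
          rw [hker, mem_ker_kap, actE_pair P c hxy, ← hu, hx, hy]
        have h4 := h1 b hb _ h3
        rw [actE_pair P b hxy] at h4
        rcases pair_eq P ((b : Equiv.Perm GolayPt).injective.ne hxy) hxy h4 with
          ⟨h5, -⟩ | ⟨h5, -⟩
        · exact Or.inl h5
        · exact Or.inr h5
      obtain ⟨y, hy, hyx⟩ := exists_not_mem (n := 1)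
        (Finset.univ.filter fun p : GolayPt => u p = p) {x} (by omega) (by simp)
      obtain ⟨y', hy', hyx'⟩ := exists_not_mem (n := 2)
        (Finset.univ.filter fun p : GolayPt => u p = p) {x, y} (by omega) Finset.card_le_two
      simp only [Finset.mem_insert, Finset.mem_singleton, not_or] at hyx hyx'
      rcases hpair y (Finset.mem_filter.1 hy).2 (Ne.symm hyx) with h | h
      · exact h
      · rcases hpair y' (Finset.mem_filter.1 hy').2 (Ne.symm hyx'.1) with h' | h'
        · exact h'
        · exact absurd (h.symm.trans h').symm hyx'.2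
    -- a moved point
    obtain ⟨p, hp⟩ : ∃ p, u p ≠ p := by
      by_contra hno
      push Not at hno
      exact hu1 (Equiv.ext hno)
    have hone : ∀ d ∈ B, (d : Equiv.Perm GolayPt) p = p → d = 1 := by
      intro d hd hdp
      by_contra hd1
      obtain ⟨O, hO, hOf⟩ := Cfsg.Agent.J4Type.DuadM24.fix_octad d.2
        (congrArg Subtype.val (hB _ hd)) (fun h => hd1 (Subtype.ext h)) hdp
      have hsub : insert p (Finset.univ.filter fun p : GolayPt => u p = p) ⊆ O := by
        intro x hx
        rw [Finset.mem_insert] at hx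
        rw [← hOf]
        rcases hx with rfl | hx
        · exact hdp
        · exact hfix d hd x (Finset.mem_filter.1 hx).2
      have h3 := Finset.card_le_card hsub
      have h4 : p ∉ Finset.univ.filter fun p : GolayPt => u p = p :=
        fun h => hp (Finset.mem_filter.1 h).2
      rw [Finset.card_insert_of_notMem h4, h8, Cfsg.Agent.S0363.result.1 O hO] at h3
      omega
    have hB2 : Nat.card B ≤ 2 := by
      have hinj : Function.Injective (fun b : B => decide ((b : M24) = 1)) := by
        intro b b' hbb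
        have hbb' : ((b : M24) = 1) ↔ ((b' : M24) = 1) := decide_eq_decide.1 hbb
        have key : ∀ b : B, (b : M24) ≠ 1 → (b : M24) = c := by
          intro b hb1
          rcases hpres b b.2 p hp with h | h
          · exact absurd (hone b b.2 h) hb1
          · have h3 := hone (c * b) (B.mul_mem hcB b.2) (by
              show u (((b : M24) : Equiv.Perm GolayPt) p) = p
              rw [h, huu])
            calc (b : M24) = c * c * b := by rw [hc, one_mul]
              _ = c * (c * b) := mul_assoc _ _ _
              _ = c := by rw [h3, mul_one]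
        by_cases hb1 : (b : M24) = 1
        · exact Subtype.ext (hb1.trans (hbb'.1 hb1).symm)
        · exact Subtype.ext ((key b hb1).trans (key b' (fun h => hb1 (hbb'.2 h))).symm)
      have h3 := Nat.card_le_card_of_injective _ hinj
      rwa [Nat.card_eq_fintype_card (α := Bool), Fintype.card_bool] at h3
    omega
  · push Not at hI
    -- `B` acts semiregularly
    have hfree : ∀ p : GolayPt, Function.Injective (fun b : B => (b : M24) • p) := by
      intro p b b' hbb
      by_contra hne'
      have h3 : (b : M24)⁻¹ * (b' : M24) ≠ 1 := fun h => hne' (Subtype.ext (inv_mul_eq_one.1 h))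
      apply hI _ (B.mul_mem (B.inv_mem b.2) b'.2) h3 p
      show ((b : M24)⁻¹ * (b' : M24)) • p = p
      rw [mul_smul, inv_smul_eq_iff]
      exact hbb.symm
    have hfinB : Finite B := inferInstance
    have hpg : IsPGroup 2 B := by
      intro b
      refine ⟨1, ?_⟩
      rw [pow_one, pow_two]
      exact Subtype.ext (hB b b.2)
    have : Fact (Nat.Prime 2) := ⟨Nat.prime_two⟩
    obtain ⟨n, hn⟩ := IsPGroup.iff_card.1 hpg
    have h24 : Nat.card GolayPt = 24 := by
      rw [Nat.card_eq_fintype_card, Cfsg.Agent.J4Type.HexMax.card24]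
    have hle := Nat.card_le_card_of_injective _ (hfree none)
    rw [h24] at hle
    have hn4 : Nat.card B = 16 := by
      rw [hn] at hle hB16 ⊢
      have h4 : n = 4 := by
        have h5 : n < 5 := by
          by_contra h
          have : 2 ^ 5 ≤ 2 ^ n := Nat.pow_le_pow_right (by norm_num) (by omega)
          omega
        have h6 : 4 ≤ n := by
          by_contra h
          have : 2 ^ n ≤ 2 ^ 3 := Nat.pow_le_pow_right (by norm_num) (by omega)
          omega
        omega
      rw [h4]; norm_num
    have : Fintype B := Fintype.ofFinite B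
    let I : GolayPt → Finset GolayPt := fun p => Finset.univ.image fun b : B => (b : M24) • p
    have hIc : ∀ p, (I p).card = 16 := by
      intro p
      rw [Finset.card_image_of_injective _ (hfree p), Finset.card_univ,
        ← Nat.card_eq_fintype_card, hn4]
    obtain ⟨q, -, hq⟩ := exists_not_mem (n := 16) (Finset.univ : Finset GolayPt) (I none)
      (by rw [Finset.card_univ, Cfsg.Agent.J4Type.HexMax.card24]; omega) (le_of_eq (hIc none))
    have hdisj : Disjoint (I none) (I q) := by
      rw [Finset.disjoint_left]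
      intro x hx hx'
      obtain ⟨b, -, hb⟩ := Finset.mem_image.1 hx
      obtain ⟨b', -, hb'⟩ := Finset.mem_image.1 hx'
      apply hq
      refine Finset.mem_image.2 ⟨b'⁻¹ * b, Finset.mem_univ _, ?_⟩
      show ((b' : M24)⁻¹ * (b : M24)) • (none : GolayPt) = q
      rw [mul_smul, inv_smul_eq_iff]
      exact hb.trans hb'.symm
    have h3 := Finset.card_le_univ (I none ∪ I q)
    rw [Finset.card_union_of_disjoint hdisj, hIc, hIc, Cfsg.Agent.J4Type.HexMax.card24] at h3
    omega

end Cfsg.Agent.Schreier.CocodeSmall
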