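import Mathlib
import Cfsg.Agent.S0014
import Cfsg.Agent.Schreier.Basic
import Cfsg.Agent.Schreier.Tools
import Cfsg.Agent.Schreier.Tools2

/-!
# 2-groups with three generators

A 2-group with a generating set of at most three elements and a proper characteristic subgroup not contained in the
Frattini subgroup has a solvable automorphism group.
-/

set_option autoImplicit false

namespace Cfsg.Agent.Schreier.ThreeGenSyl

open Cfsg.Agent.Schreier.Basic Cfsg.Agent.Schreier.Tools Cfsg.Agent.Schreier.Tools2

/-- The Frattini subgroup of a 2-group generated by at most three elements has index at most 8. -/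
theorem index_frattini_le {T : Type*} [Group T] [Finite T] (hT : IsPGroup 2 T) (S : Finset T)
    (hS : Subgroup.closure (S : Set T) = ⊤) (hc : S.card ≤ 3) : (frattini T).index ≤ 8 := by
  have : Fact (Nat.Prime 2) := ⟨Nat.prime_two⟩
  obtain ⟨n, hn⟩ := hT.index (frattini T)
  have h1 := (Cfsg.Agent.S0014.result 2 n hT hn).2 S hS
  rw [hn]
  calc 2 ^ n ≤ 2 ^ 3 := Nat.pow_le_pow_right (by norm_num) (h1.trans hc)
    _ = 8 := by norm_num

/-- A perfect group of automorphisms normalising a 2-group with three generators and a proper invariant subgroup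
not inside the Frattini subgroup is trivial. -/
theorem isSolvable_mulAut {T : Type*} [Group T] [Finite T] (hT : IsPGroup 2 T) (S : Finset T)
    (hS : Subgroup.closure (S : Set T) = ⊤) (hc : S.card ≤ 3) (A : Subgroup T) (hAc : A.Characteristic)
    (hA : A ≠ ⊤) (hA' : ¬ A ≤ frattini T) : Group.IsSolvable (MulAut T) := by
  have : Fact (Nat.Prime 2) := ⟨Nat.prime_two⟩
  have hfin : Finite (MulAut T) := inferInstance
  have hTsol : Group.IsSolvable T := by
    have := hT.isNilpotent
    infer_instance
  have h8 := index_frattini_le hT S hS hc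
  set Φ : Subgroup T := frattini T with hΦ
  set B : Subgroup T := A ⊔ Φ with hB
  have hBtop : B ≠ ⊤ := fun h => hA (frattini_nongenerating h)
  have hΦB : Φ ≤ B := le_sup_right
  have hΦneB : Φ ≠ B := fun h => hA' (by rw [h]; exact le_sup_left)
  -- indices
  have hmul : Φ.relIndex B * B.index = Φ.index := Subgroup.relIndex_mul_index hΦB
  have h1 : B.index ≠ 1 := fun h => hBtop (Subgroup.index_eq_one.1 h)
  have h2 : Φ.relIndex B ≠ 1 := fun h => hΦneB (le_antisymm hΦB (Subgroup.relIndex_eq_one.1 h))
  have h3 : B.index ≠ 0 := Subgroup.index_ne_zero_of_finite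
  have h4 : Φ.relIndex B ≠ 0 := by
    intro h0
    rw [h0, zero_mul] at hmul
    exact (Subgroup.index_ne_zero_of_finite (H := Φ)) hmul.symm
  have h5 : Φ.relIndex B ≤ 4 := by
    by_contra hcon
    have h6 : 2 ≤ B.index := by omega
    have h7 : 5 * 2 ≤ Φ.relIndex B * B.index := Nat.mul_le_mul (by omega) h6
    omega
  have h6 : B.index ≤ 4 := by
    by_contra hcon
    have h6 : 2 ≤ Φ.relIndex B := by omega
    have h7 : 2 * 5 ≤ Φ.relIndex B * B.index := Nat.mul_le_mul h6 (by omega)
    omega
  -- every perfect group of automorphisms is trivial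
  have key : ∀ D : Subgroup (MulAut T), ⁅D, D⁆ = D → D = ⊥ := by
    intro D hD
    have hinv : ∀ X : Subgroup T, X.Characteristic → Inv D X := by
      intro X hX φ _
      exact Subgroup.characteristic_iff_map_eq.1 hX φ
    have hDA : Inv D A := hinv A hAc
    have hDΦ : Inv D Φ := hinv Φ inferInstance
    have hDB : Inv D B := hDA.sup hDΦ
    have e1 : TrMod D ⊤ B := trMod_of_relIndex_le_four hD (inv_top D) hDB
      (by rw [Subgroup.relIndex_top_right]; exact h3) (by rw [Subgroup.relIndex_top_right]; exact h6)
    have e2 : TrMod D B Φ := trMod_of_relIndex_le_four hD hDB hDΦ h4 h5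
    have e3 : TrMod D ⊤ Φ := TrMod.trans hD
      (fun a _ c hcΦ => (inferInstance : (frattini T).Normal).conj_mem c hcΦ a) le_top inferInstance e1 e2
    -- the Frattini lemma for `T`
    have e4 : IsPGroup 2 D := isPGroup_of_trivial_mod_frattini hT D (fun φ hφ t => by
      have h := e3 φ hφ t⁻¹ (Subgroup.mem_top _)
      rw [inv_inv, map_inv] at h
      have h' := inv_mem h
      rw [mul_inv_rev, inv_inv] at h'
      exact h')
    have e5 : Group.IsSolvable D := by
      have := e4.isNilpotent
      infer_instance
    exact eq_bot_of_perfect_of_solvable hD e5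
  have h7 := isSolvable_of_perfect_eq_bot (⊤ : Subgroup (MulAut T)) (fun D _ hD => key D hD)
  exact Group.isSolvable_of_surjective (f := (Subgroup.topEquiv (G := MulAut T)).toMonoidHom)
    (Subgroup.topEquiv (G := MulAut T)).surjective

end Cfsg.Agent.Schreier.ThreeGenSyl
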