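import Mathlib
import Cfsg.Prelude.Def_Spor_Mathieu
import Cfsg.Agent.Golay.Orbit
import Cfsg.Agent.Lib.FrattiniPGroup
import Cfsg.Agent.Schreier.ThreeGenSyl

/-!
# A Sylow 2-subgroup of `M22`

An explicit subgroup of order 128 of `Spor.M22` with solvable automorphism group.
-/

set_option autoImplicit false

namespace Cfsg.Agent.Schreier.SylMTwentyTwo

open Cfsg Cfsg.Agent.Golay.Orbit

/-- Composition of tables. -/
def mulL (x y : List ℕ) : List ℕ := y.map (fun i => x.getD i 24)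

/-- The table of the identity. -/
def idL : List ℕ := List.range 24

/-- The tables of the three generators. -/
def gl : List (List ℕ) :=
  [[0, 2, 1, 14, 8, 17, 21, 6, 22, 9, 20, 16, 4, 11, 5, 15, 18, 3, 13, 7, 10, 19, 12, 23],
   [0, 2, 1, 5, 15, 3, 22, 13, 7, 8, 12, 21, 6, 9, 14, 11, 20, 17, 19, 16, 18, 4, 10, 23],
   [0, 2, 1, 14, 15, 17, 13, 22, 6, 11, 18, 19, 7, 9, 5, 8, 20, 3, 21, 4, 12, 16, 10, 23]]

/-- The table of a word. -/
def ev : List ℕ → List ℕ
  | [] => idL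
  | k :: w => mulL (gl.getD k []) (ev w)

/-- 128 words. -/
def wds : List (List ℕ) :=
  [[], [0], [1], [2], [0, 0], [1, 0], [2, 0], [0, 1],
   [1, 1], [2, 1], [0, 2], [1, 2], [2, 2], [0, 0, 0], [1, 0, 0], [2, 0, 0],
   [0, 1, 0], [1, 1, 0], [2, 1, 0], [0, 2, 0], [1, 2, 0], [2, 2, 0], [0, 0, 1], [1, 0, 1],
   [2, 0, 1], [0, 1, 1], [1, 1, 1], [2, 1, 1], [1, 2, 1], [2, 2, 1], [0, 0, 2], [1, 0, 2],
   [2, 0, 2], [0, 1, 2], [1, 1, 2], [2, 1, 2], [0, 2, 2], [1, 2, 2], [2, 2, 2], [1, 0, 0, 0],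
   [2, 0, 0, 0], [0, 1, 0, 0], [1, 1, 0, 0], [2, 1, 0, 0], [0, 2, 0, 0], [1, 2, 0, 0], [2, 2, 0, 0], [0, 0, 1, 0],
   [1, 0, 1, 0], [2, 0, 1, 0], [0, 1, 1, 0], [1, 1, 1, 0], [2, 1, 1, 0], [1, 2, 1, 0], [2, 2, 1, 0], [0, 0, 2, 0],
   [1, 0, 2, 0], [2, 0, 2, 0], [0, 1, 2, 0], [1, 1, 2, 0], [2, 1, 2, 0], [1, 2, 2, 0], [2, 2, 2, 0], [0, 0, 0, 1],
   [2, 0, 0, 1], [0, 2, 0, 1], [1, 2, 0, 1], [2, 2, 0, 1], [0, 0, 1, 1], [2, 0, 1, 1], [0, 1, 1, 1], [2, 1, 1, 1],
   [1, 2, 1, 1], [2, 2, 1, 1], [0, 1, 2, 1], [0, 2, 2, 1], [2, 2, 2, 1], [0, 0, 0, 2], [1, 0, 0, 2], [2, 0, 0, 2],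
   [1, 1, 0, 2], [2, 1, 0, 2], [1, 2, 0, 2], [0, 0, 1, 2], [2, 0, 1, 2], [0, 1, 1, 2], [1, 1, 1, 2], [2, 1, 1, 2],
   [0, 0, 2, 2], [1, 1, 2, 2], [0, 2, 2, 2], [1, 2, 2, 2], [2, 2, 2, 2], [0, 1, 0, 0, 0], [2, 1, 0, 0, 0], [0, 2, 0, 0, 0],
   [1, 2, 0, 0, 0], [2, 2, 0, 0, 0], [0, 0, 1, 0, 0], [1, 0, 1, 0, 0], [2, 0, 1, 0, 0], [0, 1, 1, 0, 0], [0, 0, 2, 0, 0], [1, 0, 2, 0, 0],
   [2, 0, 2, 0, 0], [0, 1, 2, 0, 0], [0, 0, 0, 1, 0], [2, 0, 0, 1, 0], [1, 2, 0, 1, 0], [2, 2, 0, 1, 0], [0, 0, 1, 1, 0], [2, 0, 1, 1, 0],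
   [0, 1, 1, 1, 0], [2, 1, 1, 1, 0], [0, 1, 2, 1, 0], [0, 2, 2, 1, 0], [2, 2, 2, 1, 0], [0, 0, 0, 2, 0], [2, 0, 0, 2, 0], [1, 2, 0, 2, 0],
   [0, 0, 1, 2, 0], [2, 0, 1, 2, 0], [0, 1, 1, 2, 0], [1, 1, 1, 2, 0], [2, 1, 1, 2, 0], [0, 2, 2, 2, 0], [1, 2, 2, 2, 0], [2, 2, 2, 2, 0]]

/-- The tables of the elements. -/
def els : List (List ℕ) := wds.map ev

/-- The table `l` describes the permutation `g`. -/
structure Rp (g : Equiv.Perm GolayPt) (l : List ℕ) : Prop where
  len : l.length = 24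
  eq : ∀ p, l.getD (idx p) 24 = idx (g p)

theorem rp_one : Rp 1 idL := by
  refine ⟨rfl, fun p => ?_⟩
  have h := idx_lt p
  rw [Equiv.Perm.one_apply, idL, List.getD_eq_getElem _ _ (by rw [List.length_range]; exact h), List.getElem_range]

theorem Rp.mul {g h : Equiv.Perm GolayPt} {x y : List ℕ} (hx : Rp g x) (hy : Rp h y) : Rp (g * h) (mulL x y) := by
  refine ⟨by rw [mulL, List.length_map, hy.len], fun p => ?_⟩
  have h1 : idx p < y.length := by rw [hy.len]; exact idx_lt p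
  have h2 := hy.eq p
  rw [List.getD_eq_getElem _ _ h1] at h2
  rw [mulL, List.getD_eq_getElem _ _ (by rw [List.length_map]; exact h1), List.getElem_map, h2, hx.eq,
    Equiv.Perm.mul_apply]

theorem Rp.inj {g h : Equiv.Perm GolayPt} {x : List ℕ} (hx : Rp g x) (hy : Rp h x) : g = h := by
  apply Equiv.ext
  intro p
  apply idx_injective
  rw [← hx.eq, hy.eq]

theorem Rp.unique {g : Equiv.Perm GolayPt} {x y : List ℕ} (hx : Rp g x) (hy : Rp g y) : x = y := by
  apply List.ext_getElem (by rw [hx.len, hy.len])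
  intro i h1 h2
  have h3 : i < 24 := by rw [← hx.len]; exact h1
  have h4 := hx.eq (pt i)
  have h5 := hy.eq (pt i)
  rw [idx_pt i h3] at h4 h5
  rw [List.getD_eq_getElem _ _ h1] at h4
  rw [List.getD_eq_getElem _ _ h2] at h5
  rw [h4, h5]

theorem rp_of_rep {g : Equiv.Perm GolayPt} {l : List ℕ} (h : Rep g (l.map (fun i => 2 ^ i))) : Rp g l := by
  have hlen : l.length = 24 := by rw [← h.len, List.length_map]
  refine ⟨hlen, fun p => ?_⟩
  have h1 := h.eq p
  have h2 : idx p < l.length := by rw [hlen]; exact idx_lt p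
  rw [List.getD_eq_getElem _ _ (by rw [List.length_map]; exact h2), List.getElem_map] at h1
  rw [List.getD_eq_getElem _ _ h2]
  exact Nat.pow_right_injective (le_refl 2) h1

theorem gens_ok : (gl.all (fun l => okTab (l.map (fun i => 2 ^ i)) && m24Tab (l.map (fun i => 2 ^ i)) &&
    Nat.beq (l.getD 23 24) 23 && Nat.beq (l.getD 0 24) 0)) = true := by decide +kernel

theorem exists_gen (k : ℕ) (hk : k < 3) : ∃ g : Equiv.Perm GolayPt, Rp g (gl.getD k []) ∧ g ∈ Spor.M22 := by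
  have h0 := gens_ok
  rw [List.all_eq_true] at h0
  have hk' : k < gl.length := hk
  have h1 := h0 (gl.getD k []) (by rw [List.getD_eq_getElem _ _ hk']; exact List.getElem_mem hk')
  simp only [Bool.and_eq_true] at h1
  obtain ⟨⟨⟨h2, h3⟩, h4⟩, h5⟩ := h1
  obtain ⟨g, hg⟩ := exists_rep _ h2
  have hr := rp_of_rep hg
  refine ⟨g, hr, ⟨⟨hg.mem_M24 h3, ?_⟩, ?_⟩⟩
  · apply idx_injective
    rw [Equiv.Perm.smul_def, ← hr.eq]
    exact Nat.eq_of_beq_eq_true h4
  · apply idx_injective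
    rw [Equiv.Perm.smul_def, ← hr.eq]
    exact Nat.eq_of_beq_eq_true h5

/-- The generators. -/
noncomputable def gen (k : Fin 3) : Equiv.Perm GolayPt := (exists_gen k k.2).choose

theorem rp_gen (k : Fin 3) : Rp (gen k) (gl.getD k []) := (exists_gen k k.2).choose_spec.1

theorem gen_mem (k : Fin 3) : gen k ∈ Spor.M22 := (exists_gen k k.2).choose_spec.2

/-- The subgroup of order 128. -/
noncomputable def T : Subgroup (Equiv.Perm GolayPt) := Subgroup.closure (Set.range gen)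

theorem T_le : T ≤ Spor.M22 := by
  rw [T, Subgroup.closure_le]
  rintro _ ⟨k, rfl⟩
  exact gen_mem k

theorem wds_ok : (wds.all (fun w => w.all (fun k => Nat.blt k 3))) = true := by decide +kernel

theorem exists_ev (w : List ℕ) (hw : ∀ k ∈ w, k < 3) : ∃ g ∈ T, Rp g (ev w) := by
  induction w with
  | nil => exact ⟨1, one_mem _, rp_one⟩
  | cons k w ih =>
    obtain ⟨g, hg, hr⟩ := ih (fun j hj => hw j (List.mem_cons_of_mem _ hj))
    have hk : k < 3 := hw k List.mem_cons_self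
    refine ⟨gen ⟨k, hk⟩ * g, mul_mem (Subgroup.subset_closure ⟨⟨k, hk⟩, rfl⟩) hg, (rp_gen ⟨k, hk⟩).mul hr⟩

theorem exists_els {l : List ℕ} (hl : l ∈ els) : ∃ g ∈ T, Rp g l := by
  obtain ⟨w, hw, rfl⟩ := List.mem_map.1 hl
  have h := wds_ok
  rw [List.all_eq_true] at h
  have h1 := h w hw
  rw [List.all_eq_true] at h1
  exact exists_ev w (fun k hk => by
    have := h1 k hk
    exact Nat.le_of_ble_eq_true this)

/-- Membership test. -/
def memL (l : List ℕ) (L : List (List ℕ)) : Bool := L.any (fun x => x == l)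

theorem mem_of_memL {l : List ℕ} {L : List (List ℕ)} (h : memL l L = true) : l ∈ L := by
  rw [memL, List.any_eq_true] at h
  obtain ⟨x, hx, h1⟩ := h
  rw [beq_iff_eq] at h1
  rwa [← h1]

theorem closed_ok : (gl.all (fun g => els.all (fun x => memL (mulL g x) els))) = true := by decide +kernel

theorem one_ok : memL idL els = true := by decide +kernel

theorem nodup_ok : els.Nodup := by decide +kernel

theorem exists_mem_els {g : Equiv.Perm GolayPt} (hg : g ∈ T) : ∃ l ∈ els, Rp g l := by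
  have h1 : g ∈ (Subgroup.closure (Set.range gen)).toSubmonoid := hg
  rw [Subgroup.closure_toSubmonoid_of_finite] at h1
  refine Submonoid.closure_induction_left (motive := fun g _ => ∃ l ∈ els, Rp g l) ?_ ?_ h1
  · exact ⟨idL, mem_of_memL one_ok, rp_one⟩
  · rintro _ ⟨k, rfl⟩ y _ ⟨l, hl, hr⟩
    refine ⟨mulL (gl.getD k []) l, ?_, (rp_gen k).mul hr⟩
    have h2 := closed_ok
    rw [List.all_eq_true] at h2
    have hk' : (k : ℕ) < gl.length := k.2
    have h3 := h2 (gl.getD k []) (by rw [List.getD_eq_getElem _ _ hk']; exact List.getElem_mem hk')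
    rw [List.all_eq_true] at h3
    exact mem_of_memL (h3 l hl)

theorem card_T : Nat.card T = 128 := by
  classical
  -- the bijection with the list
  let f : T → {l // l ∈ els} := fun g => ⟨(exists_mem_els g.2).choose, (exists_mem_els g.2).choose_spec.1⟩
  have hf : ∀ g : T, Rp (g : Equiv.Perm GolayPt) (f g : List ℕ) := fun g => (exists_mem_els g.2).choose_spec.2
  have hb : Function.Bijective f := by
    constructor
    · intro g h hgh
      apply Subtype.ext
      have h1 := hf g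
      rw [hgh] at h1
      exact h1.inj (hf h)
    · rintro ⟨l, hl⟩
      obtain ⟨g, hg, hr⟩ := exists_els hl
      exact ⟨⟨g, hg⟩, Subtype.ext ((hf ⟨g, hg⟩).unique hr)⟩
  rw [Nat.card_congr (Equiv.ofBijective f hb)]
  have h1 : Nat.card {l // l ∈ els} = els.toFinset.card := by
    rw [Nat.card_congr (Equiv.subtypeEquivRight (fun l => (List.mem_toFinset (l := els) (a := l)).symm)),
      Nat.card_eq_fintype_card, Fintype.card_coe]
  rw [h1, List.toFinset_card_of_nodup nodup_ok]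
  rfl


/-- The table of the 4-cycle `(3 14 5 17)`. -/
def cL : List ℕ := [0, 1, 2, 14, 4, 17, 6, 7, 8, 9, 10, 11, 12, 13, 5, 15, 16, 3, 18, 19, 20, 21, 22, 23]

theorem cL_ok : okTab (cL.map (fun i => 2 ^ i)) = true := by decide +kernel

/-- The 4-cycle. -/
noncomputable def cyc : Equiv.Perm GolayPt := (exists_rep _ cL_ok).choose

theorem rp_cyc : Rp cyc cL := rp_of_rep (exists_rep _ cL_ok).choose_spec

/-- The fourth power. -/
def pow4 (l : List ℕ) : List ℕ := mulL (mulL l l) (mulL l l)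

theorem rp_pow4 {g : Equiv.Perm GolayPt} {l : List ℕ} (h : Rp g l) : Rp (g ^ 4) (pow4 l) := by
  have h1 : g ^ 4 = (g * g) * (g * g) := by
    rw [show (4 : ℕ) = 2 * 2 from rfl, pow_mul, pow_two, pow_two]
  rw [h1]
  exact (h.mul h).mul (h.mul h)

theorem chk_ok : (els.all (fun l => (Nat.beq (l.getD 1 24) 1 && Nat.beq (l.getD 2 24) 2 ||
    Nat.beq (l.getD 1 24) 2 && Nat.beq (l.getD 2 24) 1) &&
    (pow4 l == idL || mulL cL l == mulL l cL))) = true := by decide +kernel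

theorem idx_pt' (i : ℕ) (h : i < 24) (g : Equiv.Perm GolayPt) {l : List ℕ} (hr : Rp g l) (j : ℕ) (hj : j < 24)
    (hl : l.getD i 24 = j) : g (pt i) = pt j := by
  have h1 := hr.eq (pt i)
  rw [idx_pt i h, hl] at h1
  apply idx_injective
  rw [← h1, idx_pt j hj]

theorem fix_or_swap {g : Equiv.Perm GolayPt} (hg : g ∈ T) :
    (g (pt 1) = pt 1 ∧ g (pt 2) = pt 2) ∨ (g (pt 1) = pt 2 ∧ g (pt 2) = pt 1) := by
  obtain ⟨l, hl, hr⟩ := exists_mem_els hg
  have h := chk_ok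
  rw [List.all_eq_true] at h
  have h1 := h l hl
  rw [Bool.and_eq_true, Bool.or_eq_true, Bool.and_eq_true, Bool.and_eq_true] at h1
  rcases h1.1 with h2 | h2
  · left
    exact ⟨idx_pt' 1 (by norm_num) g hr 1 (by norm_num) (Nat.eq_of_beq_eq_true h2.1),
      idx_pt' 2 (by norm_num) g hr 2 (by norm_num) (Nat.eq_of_beq_eq_true h2.2)⟩
  · right
    exact ⟨idx_pt' 1 (by norm_num) g hr 2 (by norm_num) (Nat.eq_of_beq_eq_true h2.1),
      idx_pt' 2 (by norm_num) g hr 1 (by norm_num) (Nat.eq_of_beq_eq_true h2.2)⟩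

theorem commute_cyc {g : Equiv.Perm GolayPt} (hg : g ∈ T) (h4 : g ^ 4 ≠ 1) : cyc * g = g * cyc := by
  obtain ⟨l, hl, hr⟩ := exists_mem_els hg
  have h := chk_ok
  rw [List.all_eq_true] at h
  have h1 := h l hl
  rw [Bool.and_eq_true] at h1
  have h1' := h1.2
  rw [Bool.or_eq_true, beq_iff_eq, beq_iff_eq] at h1'
  rcases h1' with h2 | h2
  · exfalso
    apply h4
    have h3 := rp_pow4 hr
    rw [h2] at h3
    exact h3.inj rp_one
  · have h3 := rp_cyc.mul hr
    rw [h2] at h3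
    exact h3.inj (hr.mul rp_cyc)

theorem gen_two_pow : (gen 2) ^ 4 ≠ 1 := by
  intro h
  have h1 := rp_pow4 (rp_gen 2)
  rw [h] at h1
  have h2 := rp_one.unique h1
  exact absurd h2 (by decide +kernel)

theorem gen_two_move : gen 2 (pt 1) = pt 2 :=
  idx_pt' 1 (by norm_num) (gen 2) (rp_gen 2) 2 (by norm_num) (by decide +kernel)

theorem pt_one_ne_two : pt 1 ≠ pt 2 := by decide

theorem gen_not_commute : ∃ k, cyc * gen k ≠ gen k * cyc := by
  refine ⟨1, fun h => ?_⟩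
  have h1 := rp_cyc.mul (rp_gen 1)
  rw [h] at h1
  have h2 := ((rp_gen 1).mul rp_cyc).unique h1
  exact absurd h2 (by decide +kernel)

/-- The generators as elements of `T`. -/
noncomputable def tgen (k : Fin 3) : T := ⟨gen k, Subgroup.subset_closure ⟨k, rfl⟩⟩

theorem closure_tgen : Subgroup.closure ((Finset.univ.image tgen : Finset T) : Set T) = ⊤ := by
  classical
  apply Subgroup.map_injective T.subtype_injective
  rw [MonoidHom.map_closure, ← MonoidHom.range_eq_map, Subgroup.range_subtype]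
  show Subgroup.closure _ = Subgroup.closure _
  congr 1
  ext g
  constructor
  · rintro ⟨x, hx, rfl⟩
    rw [Finset.mem_coe, Finset.mem_image] at hx
    obtain ⟨k, -, rfl⟩ := hx
    exact ⟨k, rfl⟩
  · rintro ⟨k, rfl⟩
    exact ⟨tgen k, by rw [Finset.mem_coe]; exact Finset.mem_image_of_mem _ (Finset.mem_univ k), rfl⟩

/-- The subgroup generated by the elements of order 8. -/
def A8 (X : Type*) [Group X] : Subgroup X := Subgroup.closure {x | x ^ 4 ≠ 1}

theorem A8_char (X : Type*) [Group X] : (A8 X).Characteristic := by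
  rw [Subgroup.characteristic_iff_map_le]
  intro φ
  rw [A8, MonoidHom.map_closure, Subgroup.closure_le]
  rintro _ ⟨x, hx, rfl⟩
  apply Subgroup.subset_closure
  intro h
  apply hx
  apply φ.injective
  rw [map_pow, map_one]
  exact h

theorem isPGroup_T : IsPGroup 2 T := IsPGroup.of_card (n := 7) (by rw [card_T]; norm_num)

instance finite_T : Finite T := Nat.finite_of_card_ne_zero (by rw [card_T]; norm_num)

/-- The stabiliser of the point 1 in `T`. -/
def M1 : Subgroup T where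
  carrier := {g | (g : Equiv.Perm GolayPt) (pt 1) = pt 1}
  one_mem' := rfl
  mul_mem' := fun {a b} ha hb => by
    show (a : Equiv.Perm GolayPt) ((b : Equiv.Perm GolayPt) (pt 1)) = pt 1
    rw [show (b : Equiv.Perm GolayPt) (pt 1) = pt 1 from hb]
    exact ha
  inv_mem' := fun {a} ha => by
    show ((a : Equiv.Perm GolayPt)⁻¹) (pt 1) = pt 1
    rw [Equiv.Perm.inv_eq_iff_eq]
    exact Eq.symm ha

theorem mem_M1 {g : T} : g ∈ M1 ↔ (g : Equiv.Perm GolayPt) (pt 1) = pt 1 := Iff.rfl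

theorem mul_mem_M1 {a b : T} : a * b ∈ M1 ↔ (a ∈ M1 ↔ b ∈ M1) := by
  have h12 := pt_one_ne_two
  rw [mem_M1, mem_M1, mem_M1]
  show (a : Equiv.Perm GolayPt) ((b : Equiv.Perm GolayPt) (pt 1)) = pt 1 ↔ _
  rcases fix_or_swap a.2 with ⟨ha1, ha2⟩ | ⟨ha1, ha2⟩ <;> rcases fix_or_swap b.2 with ⟨hb1, hb2⟩ | ⟨hb1, hb2⟩ <;>
    simp only [ha1, ha2, hb1] <;> simp [h12.symm]

theorem inv_mem_M1 {a : T} : a⁻¹ ∈ M1 ↔ a ∈ M1 := inv_mem_iff

theorem frattini_le : frattini T ≤ M1 := by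
  have : Fact (Nat.Prime 2) := ⟨Nat.prime_two⟩
  have hn : M1.Normal := ⟨fun n hn g => by
    rw [mul_mem_M1, mul_mem_M1, inv_mem_M1]
    simp [hn]⟩
  apply Cfsg.Agent.Lib.FrattiniPGroup.frattini_le (p := 2)
  · intro x y
    rw [commutatorElement_def, mul_mem_M1, mul_mem_M1, mul_mem_M1, inv_mem_M1, inv_mem_M1]
    tauto
  · intro x
    rw [pow_two, mul_mem_M1]

/-- **The Sylow 2-subgroup of `M22` has a solvable automorphism group.** -/
theorem isSolvable_mulAut : Group.IsSolvable (MulAut T) := by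
  classical
  refine ThreeGenSyl.isSolvable_mulAut isPGroup_T (Finset.univ.image tgen) closure_tgen
    (Finset.card_image_le.trans (by simp)) (A8 T) (A8_char T) ?_ ?_
  · -- `A8 T` centralises the 4-cycle
    intro h
    obtain ⟨k, hk⟩ := gen_not_commute
    apply hk
    have h1 : A8 T ≤ (Subgroup.centralizer {cyc}).comap T.subtype := by
      rw [A8, Subgroup.closure_le]
      intro x hx
      rw [SetLike.mem_coe, Subgroup.mem_comap, Subgroup.mem_centralizer_singleton_iff]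
      have h2 : ((x : Equiv.Perm GolayPt)) ^ 4 ≠ 1 := fun h3 => hx (Subtype.ext h3)
      exact (commute_cyc x.2 h2).symm
    rw [h] at h1
    have h2 := h1 (Subgroup.mem_top (tgen k))
    rw [Subgroup.mem_comap, Subgroup.mem_centralizer_singleton_iff] at h2
    exact h2.symm
  · intro h
    have h1 : tgen 2 ∈ A8 T := Subgroup.subset_closure (fun h2 => gen_two_pow (congrArg Subtype.val h2))
    have h2 := frattini_le (h h1)
    rw [mem_M1] at h2
    exact pt_one_ne_two (h2.symm.trans gen_two_move)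

end Cfsg.Agent.Schreier.SylMTwentyTwo
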