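import Mathlib
import Cfsg.Prelude.Def_Spor_Conway
import Cfsg.Agent.S0404
import Cfsg.Agent.SporadicA.Co0Mono
import Cfsg.Agent.Schreier.Crit
import Cfsg.Agent.Schreier.SylMTwentyTwo

/-!
# The McLaughlin group has the Schreier property
-/

set_option autoImplicit false

namespace Cfsg.Agent.Schreier.McLaughlin

open Cfsg Cfsg.Agent.Schreier.Basic Cfsg.Agent.Schreier.Tools Cfsg.Agent.Schreier.SylMTwentyTwo
  Cfsg.Agent.SporadicA.Co0Mono

theorem T_le_M24 {g : Equiv.Perm GolayPt} (hg : g ∈ T) : g ∈ M24 := (T_le hg).1.1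

theorem fix_none {g : Equiv.Perm GolayPt} (hg : g ∈ T) : g none = none := (T_le hg).1.2

theorem fix_zero {g : Equiv.Perm GolayPt} (hg : g ∈ T) : g (some 0) = some 0 := (T_le hg).2

theorem fix_vec {g : Equiv.Perm GolayPt} (hg : g ∈ T) (p : GolayPt) :
    (g.symm p = none ↔ p = none) ∧ (g.symm p = some 0 ↔ p = some 0) := by
  constructor
  · rw [Equiv.symm_apply_eq, fix_none hg]
  · rw [Equiv.symm_apply_eq, fix_zero hg]

/-- The embedding of `T` into `Co0`. -/
noncomputable def emb : T →* Co0 := permCo0.comp (Subgroup.inclusion (fun _ hg => T_le_M24 hg))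

theorem emb_coe (g : T) (v : leechLattice) (p : GolayPt) :
    ((emb g • v : leechLattice) : GolayPt → ℤ) p = (v : GolayPt → ℤ) ((g : Equiv.Perm GolayPt).symm p) := rfl

theorem emb_U (g : T) : emb g • Spor.leechU = Spor.leechU := by
  apply Subtype.ext
  funext p
  rw [emb_coe]
  show Spor.vecU _ = Spor.vecU _
  simp only [Spor.vecU, (fix_vec g.2 p).1, (fix_vec g.2 p).2]

theorem emb_V (g : T) : emb g • Spor.leechV = Spor.leechV := by
  apply Subtype.ext
  funext p
  rw [emb_coe]
  show Spor.vecV _ = Spor.vecV _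
  simp only [Spor.vecV, (fix_vec g.2 p).1]

/-- The embedding of `T` into `McL`. -/
noncomputable def embM : T →* Spor.McL :=
  (Co0.subtype.comp emb).codRestrict Spor.McL (fun g => ⟨⟨(emb g).2, emb_V g⟩, emb_U g⟩)

/-- the vector `8 e_i`. -/
theorem eight_mem (i : GolayPt) : (fun p => if p = i then (8 : ℤ) else 0) ∈ leechSet := by
  refine Spor.mem_leechSet_of_const_mod_four _ 0 0 (by decide) (fun p => ?_) ?_
  · show (if p = i then (8 : ℤ) else 0) ≡ 0 [ZMOD 4]
    split_ifs
    · decide
    · decide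
  · rw [Finset.sum_ite_eq' Finset.univ i (fun _ => (8 : ℤ)), if_pos (Finset.mem_univ i)]
    decide

theorem embM_injective : Function.Injective embM := by
  rw [injective_iff_map_eq_one]
  intro g hg
  have h0 : emb g = 1 := by
    have h00 : ((embM g : Spor.McL) : Equiv.Perm leechLattice) = 1 := by rw [hg]; rfl
    exact Subtype.ext h00
  apply Subtype.ext
  apply Equiv.ext
  intro i
  show (g : Equiv.Perm GolayPt) i = i
  let v : leechLattice := ⟨_, AddSubgroup.subset_closure (eight_mem i)⟩
  have h1 : emb g • v = v := by rw [h0, one_smul]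
  have h2 : ((emb g • v : leechLattice) : GolayPt → ℤ) ((g : Equiv.Perm GolayPt) i) =
      (v : GolayPt → ℤ) ((g : Equiv.Perm GolayPt) i) := by rw [h1]
  rw [emb_coe, Equiv.symm_apply_apply] at h2
  have h3 : (if i = i then (8 : ℤ) else 0) = if (g : Equiv.Perm GolayPt) i = i then (8 : ℤ) else 0 := h2
  by_contra hne
  rw [if_pos rfl, if_neg hne] at h3
  exact absurd h3 (by norm_num)

theorem norm_U : sqNorm ((Spor.leechU : ↥leechLattice) : GolayPt → ℤ) = 32 := by
  show sqNorm Spor.vecU = 32
  decide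

theorem norm_W : sqNorm ((-(Spor.leechV + Spor.leechU) : ↥leechLattice) : GolayPt → ℤ) = 32 := by
  show sqNorm (-(Spor.vecV + Spor.vecU)) = 32
  decide

theorem dot_UW : dotInt ((Spor.leechU : ↥leechLattice) : GolayPt → ℤ)
    ((-(Spor.leechV + Spor.leechU) : ↥leechLattice) : GolayPt → ℤ) = -8 := by
  show dotInt Spor.vecU (-(Spor.vecV + Spor.vecU)) = -8
  decide

/-- The McLaughlin group as a joint stabiliser. -/
theorem exists_equiv : Nonempty (↥(MulAction.stabilizer Co0 Spor.leechU ⊓
    MulAction.stabilizer Co0 (-(Spor.leechV + Spor.leechU))) ≃* Spor.McL) := by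
  set Q : Subgroup Co0 := MulAction.stabilizer Co0 Spor.leechU ⊓
    MulAction.stabilizer Co0 (-(Spor.leechV + Spor.leechU)) with hQ
  have hmem : ∀ g : Co0, g ∈ Q ↔ (g : Equiv.Perm leechLattice) ∈ Spor.McL := by
    intro g
    constructor
    · rintro ⟨h1, h2⟩
      have h1' : g • Spor.leechU = Spor.leechU := h1
      have h2' : g • (-(Spor.leechV + Spor.leechU)) = -(Spor.leechV + Spor.leechU) := h2
      rw [smul_neg, smul_add, h1'] at h2'
      exact ⟨⟨g.2, add_right_cancel (neg_injective h2')⟩, h1'⟩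
    · rintro ⟨⟨h1, h2⟩, h3⟩
      have h2' : g • Spor.leechV = Spor.leechV := h2
      have h3' : g • Spor.leechU = Spor.leechU := h3
      refine ⟨h3', ?_⟩
      show g • (-(Spor.leechV + Spor.leechU)) = -(Spor.leechV + Spor.leechU)
      rw [smul_neg, smul_add, h2', h3']
  exact ⟨{ toFun := fun g => ⟨((g : Co0) : Equiv.Perm leechLattice), (hmem g).1 g.2⟩
           invFun := fun g => ⟨⟨(g : Equiv.Perm leechLattice), g.2.1.1⟩, (hmem _).2 g.2⟩
           left_inv := fun g => rfl
           right_inv := fun g => rfl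
           map_mul' := fun g h => rfl }⟩

theorem card_mcl : Nat.card Spor.McL = 898128000 := by
  obtain ⟨e⟩ := exists_equiv
  rw [← Nat.card_congr e.toEquiv]
  exact (Cfsg.Agent.S0404.result _ _ norm_U norm_W dot_UW).2

theorem isSimple_mcl : IsSimpleGroup Spor.McL := by
  obtain ⟨e⟩ := exists_equiv
  have := (Cfsg.Agent.S0404.result _ _ norm_U norm_W dot_UW).1
  exact MulEquiv.isSimpleGroup e.symm

/-- A Sylow 2-subgroup of the McLaughlin group. -/
theorem exists_sylow : ∃ P : Sylow 2 Spor.McL, Nonempty (T ≃* (P : Subgroup Spor.McL)) := by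
  have : Fact (Nat.Prime 2) := ⟨Nat.prime_two⟩
  have hc := card_mcl
  have e := MonoidHom.ofInjective embM_injective
  have h1 : Nat.card embM.range = 2 ^ (Nat.card Spor.McL).factorization 2 := by
    rw [← Nat.card_congr e.toEquiv, card_T, hc]
    have h2 : (898128000 : ℕ).factorization 2 = 7 := by
      rw [show (898128000 : ℕ) = 2 ^ 7 * 7016625 by norm_num, Nat.factorization_mul (by norm_num) (by norm_num),
        Nat.Prime.factorization_pow Nat.prime_two, Finsupp.add_apply, Finsupp.single_eq_same,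
        Nat.factorization_eq_zero_of_not_dvd (by norm_num)]
    rw [h2]
    norm_num
  have hfin : Finite Spor.McL := Nat.finite_of_card_ne_zero (by rw [hc]; norm_num)
  exact ⟨Sylow.ofCard embM.range h1, ⟨e⟩⟩

/-- **The McLaughlin group has the Schreier property.** -/
theorem sch : Sch Spor.McL := by
  have : Fact (Nat.Prime 2) := ⟨Nat.prime_two⟩
  have hc := card_mcl
  have hfin : Finite Spor.McL := Nat.finite_of_card_ne_zero (by rw [hc]; norm_num)
  have hs := isSimple_mcl
  obtain ⟨P, ⟨e⟩⟩ := exists_sylow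
  have hsol := isSolvable_mulAut
  have hsol' : Group.IsSolvable (MulAut (P : Subgroup Spor.McL)) :=
    Group.isSolvable_of_surjective (f := (MulAut.congr e).toMonoidHom) (MulAut.congr e).surjective
  refine Cfsg.Agent.Schreier.Crit.sch_of_solvable_mulAut_sylow (K := Spor.McL) ?_ P
  intro hcomm
  have h1 : (Nat.card Spor.McL).Prime := by
    have h2 : IsMulCommutative Spor.McL := hcomm
    have h3 : ∀ a b : Spor.McL, a * b = b * a := fun a b => h2.1.1 a b
    let _ : CommGroup Spor.McL := { (inferInstance : Group Spor.McL) with mul_comm := h3 }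
    exact IsSimpleGroup.prime_card
  rw [hc] at h1
  exact absurd h1 (by norm_num)

/-- Every group isomorphic to the McLaughlin group has the Schreier property. -/
theorem sch_of_iso {G : Type*} [Group G] (h : Spor.IsoMcL G) : Sch G := by
  obtain ⟨e⟩ := h
  exact Sch.of_equiv e.symm sch

end Cfsg.Agent.Schreier.McLaughlin
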