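import Mathlib

/-!
# Central chains from generators

`T = ⟨S⟩`, `N` normalised by `T`, `X ⊆ T` with all commutators of elements of `X` and `S` in `N`: then `⟨X⟩N` is
normalised by `T` and central modulo `N`.
-/

set_option autoImplicit false

namespace Cfsg.Agent.Schreier.CentralChain

variable {K : Type*} [Group K]

/-- `N` is a subgroup of `T` normalised by `T`. -/
def Nrm (T N : Subgroup K) : Prop := N ≤ T ∧ ∀ t ∈ T, ∀ n ∈ N, t * n * t⁻¹ ∈ N

theorem Nrm.bot (T : Subgroup K) : Nrm T ⊥ := ⟨bot_le, fun t _ n hn => by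
  rw [Subgroup.mem_bot] at hn ⊢
  rw [hn]; group⟩

theorem Nrm.le_normalizer {T N : Subgroup K} (h : Nrm T N) : T ≤ Subgroup.normalizer (N : Set K) := by
  intro t ht
  rw [Subgroup.mem_normalizer_iff]
  intro n
  refine ⟨fun hn => h.2 t ht n hn, fun hn => ?_⟩
  have := h.2 t⁻¹ (inv_mem ht) _ hn
  have e : t⁻¹ * (t * n * t⁻¹) * t⁻¹⁻¹ = n := by group
  rwa [e] at this

theorem step {S : Set K} {T : Subgroup K} (hT : T = Subgroup.closure S) {N : Subgroup K} (hN : Nrm T N)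
    (X : Set K) (hXT : X ⊆ T) (hX : ∀ x ∈ X, ∀ s ∈ S, x * s * x⁻¹ * s⁻¹ ∈ N) {M : Subgroup K}
    (hM : M = Subgroup.closure X ⊔ N) :
    Nrm T M ∧ ∀ m ∈ M, ∀ t ∈ T, m * t * m⁻¹ * t⁻¹ ∈ N := by
  have hMT : M ≤ T := by
    rw [hM]
    exact sup_le ((Subgroup.closure_le _).2 hXT) hN.1
  have hMcl : M = Subgroup.closure (X ∪ N) := by
    rw [hM, Subgroup.closure_union, Subgroup.closure_eq]
  -- commutators with elements of `S`
  have h1 : ∀ s ∈ S, ∀ m ∈ M, m * s * m⁻¹ * s⁻¹ ∈ N := by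
    intro s hs m hm
    have hsT : s ∈ T := hT ▸ Subgroup.subset_closure hs
    have hm' : m ∈ Subgroup.closure (X ∪ (N : Set K)) := hMcl ▸ hm
    clear hm
    induction hm' using Subgroup.closure_induction with
    | mem x hx =>
      rcases hx with hx | hx
      · exact hX x hx s hs
      · have := mul_mem hx (hN.2 s hsT x⁻¹ (inv_mem hx))
        simpa [mul_assoc] using this
    | one => simp [one_mem]
    | mul a b ha hb iha ihb =>
      have haT : a ∈ T := hMT (hMcl ▸ ha)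
      have h2 := mul_mem (hN.2 a haT _ ihb) iha
      have e : a * (b * s * b⁻¹ * s⁻¹) * a⁻¹ * (a * s * a⁻¹ * s⁻¹) = a * b * s * (a * b)⁻¹ * s⁻¹ := by group
      rwa [e] at h2
    | inv a ha iha =>
      have haT : a ∈ T := hMT (hMcl ▸ ha)
      have h2 := hN.2 a⁻¹ (inv_mem haT) _ (inv_mem iha)
      have e : a⁻¹ * (a * s * a⁻¹ * s⁻¹)⁻¹ * a⁻¹⁻¹ = a⁻¹ * s * a⁻¹⁻¹ * s⁻¹ := by group
      rwa [e] at h2
  have h2 : ∀ m ∈ M, ∀ t ∈ T, m * t * m⁻¹ * t⁻¹ ∈ N := by
    intro m hm t ht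
    have ht' : t ∈ Subgroup.closure S := hT ▸ ht
    clear ht
    induction ht' using Subgroup.closure_induction with
    | mem x hx => exact h1 x hx m hm
    | one => simp [one_mem]
    | mul a b ha hb iha ihb =>
      have haT : a ∈ T := hT ▸ ha
      have h3 := mul_mem iha (hN.2 a haT _ ihb)
      have e : m * a * m⁻¹ * a⁻¹ * (a * (m * b * m⁻¹ * b⁻¹) * a⁻¹) = m * (a * b) * m⁻¹ * (a * b)⁻¹ := by group
      rwa [e] at h3
    | inv a ha iha =>
      have haT : a ∈ T := hT ▸ ha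
      have h3 := hN.2 a⁻¹ (inv_mem haT) _ (inv_mem iha)
      have e : a⁻¹ * (m * a * m⁻¹ * a⁻¹)⁻¹ * a⁻¹⁻¹ = m * a⁻¹ * m⁻¹ * a⁻¹⁻¹ := by group
      rwa [e] at h3
  refine ⟨⟨hMT, fun t ht m hm => ?_⟩, h2⟩
  have h3 := h2 m hm t ht
  have h4 : N ≤ M := by rw [hM]; exact le_sup_right
  have h5 := mul_mem (inv_mem (h4 h3)) hm
  have e : (m * t * m⁻¹ * t⁻¹)⁻¹ * m = t * m * t⁻¹ := by group
  rwa [e] at h5

/-- `⁅M, T⁆ ≤ N` -/
theorem commutator_le {T N M : Subgroup K} (h : ∀ m ∈ M, ∀ t ∈ T, m * t * m⁻¹ * t⁻¹ ∈ N) : ⁅M, T⁆ ≤ N := by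
  rw [Subgroup.commutator_le]
  intro m hm t ht
  exact h m hm t ht

/-- Extension of 2-groups by abelian 2-groups. -/
theorem isPGroup_step {p : ℕ} {N M : Subgroup K} (hNM : Nrm M N) (hN : IsPGroup p N) (X : Set K)
    (hM : M = Subgroup.closure X ⊔ N) (hX : ∀ x ∈ X, ∃ n, x ^ p ^ n ∈ N)
    (hcomm : ∀ a ∈ M, ∀ b ∈ M, a * b * a⁻¹ * b⁻¹ ∈ N) : IsPGroup p M := by
  have hnorm : (N.subgroupOf M).Normal := by
    constructor
    intro n hn g
    rw [Subgroup.mem_subgroupOf] at hn ⊢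
    exact hNM.2 g g.2 n hn
  have hMcl : M = Subgroup.closure (X ∪ N) := by
    rw [hM, Subgroup.closure_union, Subgroup.closure_eq]
  have key : ∀ m : K, m ∈ M → ∃ n, m ^ p ^ n ∈ N := by
    intro m hm
    have hm' : m ∈ Subgroup.closure (X ∪ (N : Set K)) := hMcl ▸ hm
    clear hm
    induction hm' using Subgroup.closure_induction with
    | mem x hx =>
      rcases hx with hx | hx
      · exact hX x hx
      · exact ⟨0, by simpa using hx⟩
    | one => exact ⟨0, by simp [one_mem]⟩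
    | mul a b ha hb iha ihb =>
      have haM : a ∈ M := hMcl ▸ ha
      have hbM : b ∈ M := hMcl ▸ hb
      obtain ⟨n, hn⟩ := iha
      obtain ⟨k, hk⟩ := ihb
      refine ⟨n + k, ?_⟩
      set a' : M := ⟨a, haM⟩
      set b' : M := ⟨b, hbM⟩
      have hc : Commute (QuotientGroup.mk a' : M ⧸ N.subgroupOf M) (QuotientGroup.mk b') := by
        have h1 : a'⁻¹ * b'⁻¹ * a' * b' ∈ N.subgroupOf M := by
          rw [Subgroup.mem_subgroupOf]
          have := hcomm a⁻¹ (inv_mem haM) b⁻¹ (inv_mem hbM)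
          simpa using this
        show (QuotientGroup.mk (a' * b') : M ⧸ N.subgroupOf M) = QuotientGroup.mk (b' * a')
        rw [eq_comm, QuotientGroup.eq]
        have e : (b' * a')⁻¹ * (a' * b') = a'⁻¹ * b'⁻¹ * a' * b' := by group
        rw [e]; exact h1
      have h2 : (QuotientGroup.mk (a' ^ p ^ (n + k)) : M ⧸ N.subgroupOf M) = 1 := by
        rw [QuotientGroup.eq_one_iff, Subgroup.mem_subgroupOf, pow_add, pow_mul]
        exact pow_mem hn _
      have h3 : (QuotientGroup.mk (b' ^ p ^ (n + k)) : M ⧸ N.subgroupOf M) = 1 := by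
        rw [QuotientGroup.eq_one_iff, Subgroup.mem_subgroupOf, add_comm, pow_add, pow_mul]
        exact pow_mem hk _
      have h4 : (QuotientGroup.mk ((a' * b') ^ p ^ (n + k)) : M ⧸ N.subgroupOf M) = 1 := by
        have h5 := hc.mul_pow (p ^ (n + k))
        have h6 : (QuotientGroup.mk ((a' * b') ^ p ^ (n + k)) : M ⧸ N.subgroupOf M) =
            QuotientGroup.mk (a' ^ p ^ (n + k)) * QuotientGroup.mk (b' ^ p ^ (n + k)) := h5
        rw [h6, h2, h3, one_mul]
      rw [QuotientGroup.eq_one_iff, Subgroup.mem_subgroupOf] at h4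
      exact h4
    | inv a ha iha =>
      obtain ⟨n, hn⟩ := iha
      exact ⟨n, by rw [inv_pow]; exact inv_mem hn⟩
  intro g
  obtain ⟨n, hn⟩ := key g g.2
  obtain ⟨k, hk⟩ := hN ⟨_, hn⟩
  refine ⟨n + k, ?_⟩
  apply Subtype.ext
  have h1 := congrArg (fun x : N => (x : K)) hk
  show (g : K) ^ p ^ (n + k) = 1
  rw [pow_add, pow_mul]
  exact h1

/-- The commutator of two subgroups normalised by `T`, `T`. -/
theorem le_normalizer_commutator {T V : Subgroup K} (hV : T ≤ Subgroup.normalizer (V : Set K)) :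
    T ≤ Subgroup.normalizer ((⁅V, T⁆ : Subgroup K) : Set K) := by
  have key : ∀ t ∈ T, ∀ x ∈ ⁅V, T⁆, t * x * t⁻¹ ∈ ⁅V, T⁆ := by
    intro t ht x hx
    have h1 : V.map (MulAut.conj t).toMonoidHom ≤ V := by
      rintro _ ⟨v, hv, rfl⟩
      exact (Subgroup.mem_normalizer_iff.1 (hV ht) v).1 hv
    have h2 : T.map (MulAut.conj t).toMonoidHom ≤ T := by
      rintro _ ⟨v, hv, rfl⟩
      exact mul_mem (mul_mem ht hv) (inv_mem ht)
    have h3 : (⁅V, T⁆ : Subgroup K).map (MulAut.conj t).toMonoidHom ≤ ⁅V, T⁆ := by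
      rw [Subgroup.map_commutator]
      exact Subgroup.commutator_mono h1 h2
    exact h3 ⟨x, hx, rfl⟩
  intro t ht
  rw [Subgroup.mem_normalizer_iff]
  intro n
  refine ⟨fun hn => key t ht n hn, fun hn => ?_⟩
  have := key t⁻¹ (inv_mem ht) _ hn
  have e : t⁻¹ * (t * n * t⁻¹) * t⁻¹⁻¹ = n := by group
  rwa [e] at this

end Cfsg.Agent.Schreier.CentralChain
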