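import Mathlib
import Cfsg.Agent.S0012
import Cfsg.Agent.Schreier.Basic
import Cfsg.Agent.Schreier.Tools
import Cfsg.Agent.Schreier.Tools2

/-!
# Perfect groups of automorphisms of 2-groups with few generators

`tr_of_four_generators`: `T` is a 2-group generated by `s₁, s₂, s₃, s₄`, `W` is an invariant subgroup normalised by
`T`, centralised by `s₃` and `s₄` but not by the commutator of `s₁` and `s₂`.  Then every perfect group of automorphisms normalising `T`
centralises `T`.
-/

set_option autoImplicit false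

namespace Cfsg.Agent.Schreier.FlagTwo

open Cfsg.Agent.Schreier.Basic Cfsg.Agent.Schreier.Tools

/-- If all squares are in the normal subgroup `M` then commutators are. -/
theorem comm_mem_of_sq {P : Type*} [Group P] (M : Subgroup P) [M.Normal] (hsq : ∀ x : P, x * x ∈ M) (x y : P) :
    x * y * x⁻¹ * y⁻¹ ∈ M := by
  have key : ∀ u : P ⧸ M, u * u = 1 := by
    intro u
    induction u using QuotientGroup.induction_on with
    | H a => exact (QuotientGroup.eq_one_iff (a * a)).2 (hsq a)
  rw [← QuotientGroup.eq_one_iff]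
  have hinv : ∀ u : P ⧸ M, u⁻¹ = u := fun u => inv_eq_of_mul_eq_one_right (key u)
  show (x : P ⧸ M) * y * (x : P ⧸ M)⁻¹ * (y : P ⧸ M)⁻¹ = 1
  rw [hinv, hinv, mul_assoc ((x : P ⧸ M) * y)]
  exact key _

/-- A normal subgroup containing all squares and generating together with `n` elements has index at most `2 ^ n`. -/
theorem index_le_of_gen {P : Type*} [Group P] [Finite P] (L : List P) : ∀ (M : Subgroup P) [M.Normal],
    (∀ x : P, x * x ∈ M) → Subgroup.closure {x | x ∈ L} ⊔ M = ⊤ → M.index ≤ 2 ^ L.length := by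
  induction L with
  | nil =>
    intro M _ _ h
    have : M = ⊤ := by simpa using h
    rw [this, Subgroup.index_top]
    simp
  | cons a L ih =>
    intro M hM hsq h
    set M' : Subgroup P := Subgroup.zpowers a ⊔ M with hM'
    have hMM' : M ≤ M' := le_sup_right
    have hsq' : ∀ x : P, x * x ∈ M' := fun x => hMM' (hsq x)
    have hn : M'.Normal := by
      constructor
      intro m hm g
      have h1 := hMM' (comm_mem_of_sq M hsq g m)
      have h2 := mul_mem h1 hm
      simpa [mul_assoc] using h2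
    have hgen : Subgroup.closure {x | x ∈ L} ⊔ M' = ⊤ := by
      rw [eq_top_iff, ← h]
      refine sup_le ?_ (hMM'.trans le_sup_right)
      rw [Subgroup.closure_le]
      intro x hx
      rcases List.mem_cons.1 hx with rfl | hx
      · exact (le_sup_left.trans le_sup_right : Subgroup.zpowers x ≤ _) (Subgroup.mem_zpowers x)
      · exact Subgroup.mem_sup_left (Subgroup.subset_closure hx)
    have h1 := ih M' hsq' hgen
    have h2 : M.relIndex M' ≤ 2 := by
      have h3 : M = (⊥ : Subgroup (P ⧸ M)).comap (QuotientGroup.mk' M) := by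
        rw [MonoidHom.comap_bot, QuotientGroup.ker_mk']
      have h4 : M.relIndex M' = (⊥ : Subgroup (P ⧸ M)).relIndex (M'.map (QuotientGroup.mk' M)) := by
        conv_lhs => rw [h3]
        rw [Subgroup.relIndex_comap]
      have h5 : M'.map (QuotientGroup.mk' M) = Subgroup.zpowers (QuotientGroup.mk' M a) := by
        have h6 : M.map (QuotientGroup.mk' M) = ⊥ := by
          rw [Subgroup.map_eq_bot_iff, QuotientGroup.ker_mk']
        rw [hM', Subgroup.map_sup, h6, sup_bot_eq, MonoidHom.map_zpowers]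
      rw [h4, h5, Subgroup.relIndex_bot_left, Nat.card_zpowers]
      apply Nat.le_of_dvd (by norm_num)
      apply orderOf_dvd_of_pow_eq_one
      rw [pow_two]
      exact (QuotientGroup.eq_one_iff (a * a)).2 (hsq a)
    rw [← Subgroup.relIndex_mul_index hMM', List.length_cons, pow_succ, mul_comm]
    exact Nat.mul_le_mul h1 h2

variable {K : Type*} [Group K]

/-- **Flag criterion for 2-groups with four generators.** -/
theorem tr_of_four_generators {D : Subgroup (MulAut K)} (hD : ⁅D, D⁆ = D) (T : Subgroup K) [Finite T]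
    (h2 : IsPGroup 2 T) (hT : Inv D T) (W : Subgroup K) (hW : Inv D W)
    (hTW : T ≤ Subgroup.normalizer (W : Set K)) (s₁ s₂ s₃ s₄ : K)
    (hgen : T = Subgroup.closure {s₁, s₂, s₃, s₄})
    (h3 : s₃ ∈ Subgroup.centralizer (W : Set K)) (h4 : s₄ ∈ Subgroup.centralizer (W : Set K))
    (h12 : s₁ * s₂ * s₁⁻¹ * s₂⁻¹ ∉ Subgroup.centralizer (W : Set K)) : Tr D T := by
  have m₁ : s₁ ∈ T := hgen ▸ Subgroup.subset_closure (by simp)
  have m₂ : s₂ ∈ T := hgen ▸ Subgroup.subset_closure (by simp)
  have m₃ : s₃ ∈ T := hgen ▸ Subgroup.subset_closure (by simp)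
  have m₄ : s₄ ∈ T := hgen ▸ Subgroup.subset_closure (by simp)
  set C : Subgroup T := (Subgroup.centralizer (W : Set K)).subgroupOf T with hC
  set F : Subgroup T := frattini T with hF
  have hCn : C.Normal := by
    constructor
    intro c hc g
    rw [hC, Subgroup.mem_subgroupOf, Subgroup.mem_centralizer_iff] at hc ⊢
    intro w hw
    have h5 : (g : K)⁻¹ * w * (g : K) ∈ W := by
      have := (Subgroup.mem_normalizer_iff.1 (inv_mem (hTW g.2)) w).1 hw
      simpa using this
    have h6 := hc _ h5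
    show w * ((g : K) * c * (g : K)⁻¹) = (g : K) * c * (g : K)⁻¹ * w
    calc w * ((g : K) * c * (g : K)⁻¹) = (g : K) * ((g : K)⁻¹ * w * (g : K) * c) * (g : K)⁻¹ := by group
      _ = (g : K) * (c * ((g : K)⁻¹ * w * (g : K))) * (g : K)⁻¹ := by rw [h6]
      _ = (g : K) * c * (g : K)⁻¹ * w := by group
  have hFn : F.Normal := inferInstance
  have hsqF : ∀ x : T, x * x ∈ F := fun x => by
    have := (Cfsg.Agent.S0012.result 2 h2).2 x
    rwa [pow_two] at this
  have hMn : (C ⊔ F).Normal := Subgroup.sup_normal C F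
  have hgenT : Subgroup.closure {x | x ∈ ([⟨s₁, m₁⟩, ⟨s₂, m₂⟩, ⟨s₃, m₃⟩, ⟨s₄, m₄⟩] : List T)} = ⊤ := by
    apply Subgroup.map_injective T.subtype_injective
    rw [MonoidHom.map_closure, ← MonoidHom.range_eq_map, Subgroup.range_subtype]
    conv_rhs => rw [hgen]
    congr 1
    ext x
    simp only [List.mem_cons, List.not_mem_nil, or_false, Set.mem_image, Set.mem_ofPred_eq, Set.mem_insert_iff,
      Set.mem_singleton_iff, Subgroup.subtype_apply]
    constructor
    · rintro ⟨y, rfl | rfl | rfl | rfl, rfl⟩ <;> simp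
    · rintro (rfl | rfl | rfl | rfl)
      · exact ⟨⟨_, m₁⟩, by simp⟩
      · exact ⟨⟨_, m₂⟩, by simp⟩
      · exact ⟨⟨_, m₃⟩, by simp⟩
      · exact ⟨⟨_, m₄⟩, by simp⟩
  -- index bounds
  have hi16 : F.index ≤ 16 := by
    have := index_le_of_gen _ F hsqF (by rw [hgenT]; simp)
    simpa using this
  have hi4 : (C ⊔ F).index ≤ 4 := by
    have hle : F ≤ C ⊔ F := le_sup_right
    have := index_le_of_gen [(⟨s₁, m₁⟩ : T), ⟨s₂, m₂⟩] (C ⊔ F) (fun x => hle (hsqF x)) (by
      rw [eq_top_iff, ← hgenT, Subgroup.closure_le]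
      intro x hx
      simp only [List.mem_cons, List.not_mem_nil, or_false, Set.mem_ofPred_eq] at hx
      rcases hx with rfl | rfl | rfl | rfl
      · exact Subgroup.mem_sup_left (Subgroup.subset_closure (by simp))
      · exact Subgroup.mem_sup_left (Subgroup.subset_closure (by simp))
      · exact Subgroup.mem_sup_right (Subgroup.mem_sup_left (Subgroup.mem_subgroupOf.2 h3))
      · exact Subgroup.mem_sup_right (Subgroup.mem_sup_left (Subgroup.mem_subgroupOf.2 h4)))
    simpa using this
  -- the index of `C ⊔ F` is at least 4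
  have hge : 4 ≤ (C ⊔ F).index := by
    by_contra hlt
    push Not at hlt
    -- some `t` generates modulo `C ⊔ F`
    have ht : ∃ t : T, Subgroup.zpowers t ⊔ (C ⊔ F) = ⊤ := by
      by_cases htop : C ⊔ F = ⊤
      · exact ⟨1, by rw [htop]; simp⟩
      · have h5 : ∃ t : T, t ∉ C ⊔ F := by
          by_contra hcon
          push Not at hcon
          exact htop (eq_top_iff.2 fun x _ => hcon x)
        obtain ⟨t, ht⟩ := h5
        refine ⟨t, ?_⟩
        rw [← Subgroup.index_eq_one]
        have h6 : (C ⊔ F).relIndex (Subgroup.zpowers t ⊔ (C ⊔ F)) * (Subgroup.zpowers t ⊔ (C ⊔ F)).index =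
            (C ⊔ F).index := Subgroup.relIndex_mul_index le_sup_right
        have h7 : (C ⊔ F).relIndex (Subgroup.zpowers t ⊔ (C ⊔ F)) ≠ 1 := by
          intro h8
          rw [Subgroup.relIndex_eq_one] at h8
          exact ht (h8 (Subgroup.mem_sup_left (Subgroup.mem_zpowers t)))
        have h8 : (Subgroup.zpowers t ⊔ (C ⊔ F)).index ≠ 0 := Subgroup.index_ne_zero_of_finite
        have h9 : (C ⊔ F).relIndex (Subgroup.zpowers t ⊔ (C ⊔ F)) ≠ 0 := by
          intro h10
          rw [h10, zero_mul] at h6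
          exact Subgroup.index_ne_zero_of_finite h6.symm
        by_contra h10
        have h11 : 2 ≤ (C ⊔ F).relIndex (Subgroup.zpowers t ⊔ (C ⊔ F)) := by omega
        have h12 : 2 ≤ (Subgroup.zpowers t ⊔ (C ⊔ F)).index := by omega
        have := Nat.mul_le_mul h11 h12
        omega
    obtain ⟨t, ht⟩ := ht
    have h5 : Subgroup.zpowers t ⊔ C = ⊤ := by
      apply frattini_nongenerating
      rw [sup_assoc]
      exact ht
    -- `T / C` is cyclic
    apply h12
    have h6 : ∀ x : T, ∃ n : ℤ, (QuotientGroup.mk x : T ⧸ C) = (QuotientGroup.mk t : T ⧸ C) ^ n := by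
      intro x
      have hx : x ∈ Subgroup.zpowers t ⊔ C := by rw [h5]; exact Subgroup.mem_top x
      obtain ⟨y, hy, c, hc, rfl⟩ := Subgroup.mem_sup_of_normal_right.1 hx
      obtain ⟨n, rfl⟩ := Subgroup.mem_zpowers_iff.1 hy
      refine ⟨n, ?_⟩
      rw [QuotientGroup.mk_mul, (QuotientGroup.eq_one_iff c).2 hc, mul_one]
      rfl
    obtain ⟨n₁, hn₁⟩ := h6 ⟨s₁, m₁⟩
    obtain ⟨n₂, hn₂⟩ := h6 ⟨s₂, m₂⟩
    have h7 : (QuotientGroup.mk ((⟨s₁, m₁⟩ : T) * ⟨s₂, m₂⟩ * (⟨s₁, m₁⟩ : T)⁻¹ * (⟨s₂, m₂⟩ : T)⁻¹) : T ⧸ C) = 1 := by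
      show (QuotientGroup.mk (⟨s₁, m₁⟩ : T) : T ⧸ C) * QuotientGroup.mk (⟨s₂, m₂⟩ : T) *
        (QuotientGroup.mk (⟨s₁, m₁⟩ : T))⁻¹ * (QuotientGroup.mk (⟨s₂, m₂⟩ : T))⁻¹ = 1
      rw [hn₁, hn₂]
      group
    rw [QuotientGroup.eq_one_iff] at h7
    exact Subgroup.mem_subgroupOf.1 h7
  have hrel : F.relIndex (C ⊔ F) ≤ 4 := by
    have h5 : F.relIndex (C ⊔ F) * (C ⊔ F).index = F.index := Subgroup.relIndex_mul_index le_sup_right
    by_contra h6
    push Not at h6
    have := Nat.mul_le_mul (Nat.succ_le_of_lt h6) hge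
    omega
  -- transport to `K`
  set B : Subgroup K := F.map T.subtype with hB
  set A : Subgroup K := (C ⊔ F).map T.subtype with hA
  have hBinv : Inv D B := hT.of_characteristic F
  have hAinv : Inv D A := by
    rw [hA, Subgroup.map_sup, hC, Subgroup.subgroupOf_map_subtype]
    exact (hW.centralizer.inf hT).sup hBinv
  have hAT : A.relIndex T = (C ⊔ F).index := by
    have : A.subgroupOf T = C ⊔ F := by
      rw [hA, Subgroup.subgroupOf]
      exact Subgroup.comap_map_eq_self_of_injective T.subtype_injective _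
    rw [Subgroup.relIndex, this]
  have hBA : B.relIndex A = F.relIndex (C ⊔ F) := by
    rw [hB, hA]
    exact Subgroup.relIndex_map_map_of_injective F (C ⊔ F) T.subtype_injective
  have t1 : TrMod D T A := trMod_of_relIndex_le_four hD hT hAinv
    (by rw [hAT]; exact Subgroup.index_ne_zero_of_finite) (by rw [hAT]; exact hi4)
  have hne : F.relIndex (C ⊔ F) ≠ 0 := by
    intro h0
    have h5 : F.relIndex (C ⊔ F) * (C ⊔ F).index = F.index := Subgroup.relIndex_mul_index le_sup_right
    rw [h0, zero_mul] at h5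
    exact Subgroup.index_ne_zero_of_finite h5.symm
  have t2 : TrMod D A B := trMod_of_relIndex_le_four hD hAinv hBinv (by rw [hBA]; exact hne)
    (by rw [hBA]; exact hrel)
  have hAleT : A ≤ T := by
    rw [hA]; exact Subgroup.map_subtype_le _
  have hsolA : Group.IsSolvable A := by
    have h5 : IsPGroup 2 A := h2.to_le hAleT
    have : Finite A := Finite.of_injective _ (Subgroup.inclusion_injective hAleT)
    have : Group.IsNilpotent A := h5.isNilpotent
    infer_instance
  have t3 : TrMod D T B := TrMod.trans hD (by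
    intro a ha c hc
    obtain ⟨c', hc', rfl⟩ := hc
    exact ⟨⟨a, ha⟩ * c' * ⟨a, ha⟩⁻¹, hFn.conj_mem c' hc' ⟨a, ha⟩, rfl⟩) hAleT hsolA t1 t2
  exact Tools2.tr_of_frattini hD h2 hT le_rfl t3

end Cfsg.Agent.Schreier.FlagTwo
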