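import Cfsg.Agent.SporadicRecognition.SuzOrder
import Cfsg.Agent.Schreier.SuzNetT

/-!
# A Sylow 2-subgroup of the presented Suzuki group: generators and relations

`T = ⟨s1, s2, s3, s4⟩` with `s1 = g`, `s2 = dbcfbabfcbd`, `s3 = e`, `s4 = bcdfbcdedcbfdcb`.
-/

set_option autoImplicit false
set_option maxRecDepth 100000

namespace Cfsg.Agent.Schreier.SuzT

open Cfsg.Spor Cfsg.Agent.Lib.PermNet Cfsg.Agent.Lib.PermNetOrbit Cfsg.Agent.SporadicRecognition.SuzPhi
  Cfsg.Agent.SporadicRecognition.SuzOrder Cfsg.Agent.SporadicRecognition.SuzNet Cfsg.Agent.Schreier.SuzNetT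

/-- the network `n` represents the element `g` -/
def Rep (g : Suz) (n : Net) : Prop := φ g = n.perm ∧ n.ok (2 ^ 11) = true

theorem rep_wok {w : List Suz} {u : List Net} (h : List.Forall₂ Rep w u) : WOk (2 ^ 11) u := by
  induction h with
  | nil => exact WOk.nil _
  | cons h1 _ ih => exact WOk.cons h1.2 ih

theorem rep_prod {w : List Suz} {u : List Net} (h : List.Forall₂ Rep w u) : φ w.prod = wperm u := by
  induction h with
  | nil => simp
  | cons h1 _ ih => rw [List.prod_cons, map_mul, ih, h1.1, wperm_cons]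

theorem prod_eq {w w' : List Suz} {u u' : List Net} (h : List.Forall₂ Rep w u) (h' : List.Forall₂ Rep w' u')
    (hc : checkEq 11 u u' = true) : w.prod = w'.prod := by
  apply φ_injective
  rw [rep_prod h, rep_prod h', wperm_eq_of_checkEq (rep_wok h) (rep_wok h') hc]

/-- a network represents a commutator -/
theorem rep_comm {a b : Suz} {na nb n : Net} (ha : Rep a na) (hb : Rep b nb) (hn : n.ok (2 ^ 11) = true)
    (hc : checkEq 11 [na, nb] [n, nb, na] = true) : Rep (a * b * a⁻¹ * b⁻¹) n := by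
  refine ⟨?_, hn⟩
  have h1 := wperm_eq_of_checkEq (WOk.cons ha.2 (WOk.cons hb.2 (WOk.nil _)))
    (WOk.cons hn (WOk.cons hb.2 (WOk.cons ha.2 (WOk.nil _)))) hc
  simp only [wperm_cons, wperm_nil, mul_one] at h1
  rw [map_mul, map_mul, map_mul, map_inv, map_inv, ha.1, hb.1, h1]
  group

noncomputable def s1 : Suz := el [.g]
noncomputable def s2 : Suz := el [.d, .b, .c, .f, .b, .a, .b, .f, .c, .b, .d]
noncomputable def s3 : Suz := el [.e]
noncomputable def s4 : Suz := el [.b, .c, .d, .f, .b, .c, .d, .e, .d, .c, .b, .f, .d, .c, .b]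
noncomputable def x4 : Suz := s1 * s2 * s1⁻¹ * s2⁻¹
noncomputable def x5 : Suz := s2 * s3 * s2⁻¹ * s3⁻¹
noncomputable def x6 : Suz := s2 * s4 * s2⁻¹ * s4⁻¹
noncomputable def x7 : Suz := s1 * s4 * s1⁻¹ * s4⁻¹
noncomputable def x8 : Suz := s3 * s4 * s3⁻¹ * s4⁻¹
noncomputable def x9 : Suz := x4 * s3 * x4⁻¹ * s3⁻¹
noncomputable def x10 : Suz := x8 * s1 * x8⁻¹ * s1⁻¹
noncomputable def x11 : Suz := x10 * s2 * x10⁻¹ * s2⁻¹
noncomputable def x12 : Suz := el [.a]

theorem ok_s2N : s2N.ok (2 ^ 11) = true := by decide +kernel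
theorem ok_s4N : s4N.ok (2 ^ 11) = true := by decide +kernel
theorem ok_x4N : x4N.ok (2 ^ 11) = true := by decide +kernel
theorem ok_x5N : x5N.ok (2 ^ 11) = true := by decide +kernel
theorem ok_x6N : x6N.ok (2 ^ 11) = true := by decide +kernel
theorem ok_x7N : x7N.ok (2 ^ 11) = true := by decide +kernel
theorem ok_x8N : x8N.ok (2 ^ 11) = true := by decide +kernel
theorem ok_x9N : x9N.ok (2 ^ 11) = true := by decide +kernel
theorem ok_x10N : x10N.ok (2 ^ 11) = true := by decide +kernel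
theorem ok_x11N : x11N.ok (2 ^ 11) = true := by decide +kernel

theorem r_s1 : Rep s1 gN := ⟨by rw [s1, φ_el]; simp [wd, net], ok_g⟩
theorem r_s3 : Rep s3 eN := ⟨by rw [s3, φ_el]; simp [wd, net], ok_e⟩
theorem r_x12 : Rep x12 aN := ⟨by rw [x12, φ_el]; simp [wd, net], ok_a⟩
theorem w_s2 : checkEq 11 (wd [.d, .b, .c, .f, .b, .a, .b, .f, .c, .b, .d]) [s2N] = true := by decide +kernel
theorem r_s2 : Rep s2 s2N := ⟨by
  rw [s2, φ_el, wperm_eq_of_checkEq (wd_ok _) (WOk.cons ok_s2N (WOk.nil _)) w_s2]; simp, ok_s2N⟩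
theorem w_s4 : checkEq 11 (wd [.b, .c, .d, .f, .b, .c, .d, .e, .d, .c, .b, .f, .d, .c, .b]) [s4N] = true := by decide +kernel
theorem r_s4 : Rep s4 s4N := ⟨by
  rw [s4, φ_el, wperm_eq_of_checkEq (wd_ok _) (WOk.cons ok_s4N (WOk.nil _)) w_s4]; simp, ok_s4N⟩
theorem r_x4 : Rep x4 x4N := rep_comm r_s1 r_s2 ok_x4N (by decide +kernel)
theorem r_x5 : Rep x5 x5N := rep_comm r_s2 r_s3 ok_x5N (by decide +kernel)
theorem r_x6 : Rep x6 x6N := rep_comm r_s2 r_s4 ok_x6N (by decide +kernel)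
theorem r_x7 : Rep x7 x7N := rep_comm r_s1 r_s4 ok_x7N (by decide +kernel)
theorem r_x8 : Rep x8 x8N := rep_comm r_s3 r_s4 ok_x8N (by decide +kernel)
theorem r_x9 : Rep x9 x9N := rep_comm r_x4 r_s3 ok_x9N (by decide +kernel)
theorem r_x10 : Rep x10 x10N := rep_comm r_x8 r_s1 ok_x10N (by decide +kernel)
theorem r_x11 : Rep x11 x11N := rep_comm r_x10 r_s2 ok_x11N (by decide +kernel)

theorem e_s1_s2 : s1 * s2 = x4 * s2 * s1 := by
  simpa [mul_assoc] using prod_eq (.cons r_s1 (.cons r_s2 .nil)) (.cons r_x4 (.cons r_s2 (.cons r_s1 .nil)))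
    (show checkEq 11 [gN, s2N] [x4N, s2N, gN] = true by decide +kernel)
theorem e_s1_s3 : s1 * s3 = s3 * s1 := by
  simpa [mul_assoc] using prod_eq (.cons r_s1 (.cons r_s3 .nil)) (.cons r_s3 (.cons r_s1 .nil))
    (show checkEq 11 [gN, eN] [eN, gN] = true by decide +kernel)
theorem e_s1_s4 : s1 * s4 = x7 * s4 * s1 := by
  simpa [mul_assoc] using prod_eq (.cons r_s1 (.cons r_s4 .nil)) (.cons r_x7 (.cons r_s4 (.cons r_s1 .nil)))
    (show checkEq 11 [gN, s4N] [x7N, s4N, gN] = true by decide +kernel)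
theorem e_s2_s3 : s2 * s3 = x5 * s3 * s2 := by
  simpa [mul_assoc] using prod_eq (.cons r_s2 (.cons r_s3 .nil)) (.cons r_x5 (.cons r_s3 (.cons r_s2 .nil)))
    (show checkEq 11 [s2N, eN] [x5N, eN, s2N] = true by decide +kernel)
theorem e_s2_s4 : s2 * s4 = x6 * s4 * s2 := by
  simpa [mul_assoc] using prod_eq (.cons r_s2 (.cons r_s4 .nil)) (.cons r_x6 (.cons r_s4 (.cons r_s2 .nil)))
    (show checkEq 11 [s2N, s4N] [x6N, s4N, s2N] = true by decide +kernel)
theorem e_s3_s4 : s3 * s4 = x8 * s4 * s3 := by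
  simpa [mul_assoc] using prod_eq (.cons r_s3 (.cons r_s4 .nil)) (.cons r_x8 (.cons r_s4 (.cons r_s3 .nil)))
    (show checkEq 11 [eN, s4N] [x8N, s4N, eN] = true by decide +kernel)
theorem e_x4_s1 : x4 * s1 = s1 * x4 := by
  simpa [mul_assoc] using prod_eq (.cons r_x4 (.cons r_s1 .nil)) (.cons r_s1 (.cons r_x4 .nil))
    (show checkEq 11 [x4N, gN] [gN, x4N] = true by decide +kernel)
theorem e_x4_s2 : x4 * s2 = s2 * x4 := by
  simpa [mul_assoc] using prod_eq (.cons r_x4 (.cons r_s2 .nil)) (.cons r_s2 (.cons r_x4 .nil))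
    (show checkEq 11 [x4N, s2N] [s2N, x4N] = true by decide +kernel)
theorem e_x4_s3 : x4 * s3 = x9 * s3 * x4 := by
  simpa [mul_assoc] using prod_eq (.cons r_x4 (.cons r_s3 .nil)) (.cons r_x9 (.cons r_s3 (.cons r_x4 .nil)))
    (show checkEq 11 [x4N, eN] [x9N, eN, x4N] = true by decide +kernel)
theorem e_x4_s4 : x4 * s4 = x7 * s4 * x4 := by
  simpa [mul_assoc] using prod_eq (.cons r_x4 (.cons r_s4 .nil)) (.cons r_x7 (.cons r_s4 (.cons r_x4 .nil)))
    (show checkEq 11 [x4N, s4N] [x7N, s4N, x4N] = true by decide +kernel)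
theorem e_x5_s1 : x5 * s1 = x9 * x11 * x12 * s1 * x5 := by
  simpa [mul_assoc] using prod_eq (.cons r_x5 (.cons r_s1 .nil)) (.cons r_x9 (.cons r_x11 (.cons r_x12 (.cons r_s1 (.cons r_x5 .nil)))))
    (show checkEq 11 [x5N, gN] [x9N, x11N, aN, gN, x5N] = true by decide +kernel)
theorem e_x5_s2 : x5 * s2 = x11 * x12 * s2 * x5 := by
  simpa [mul_assoc] using prod_eq (.cons r_x5 (.cons r_s2 .nil)) (.cons r_x11 (.cons r_x12 (.cons r_s2 (.cons r_x5 .nil))))
    (show checkEq 11 [x5N, s2N] [x11N, aN, s2N, x5N] = true by decide +kernel)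
theorem e_x5_s3 : x5 * s3 = x11 * x12 * s3 * x5 := by
  simpa [mul_assoc] using prod_eq (.cons r_x5 (.cons r_s3 .nil)) (.cons r_x11 (.cons r_x12 (.cons r_s3 (.cons r_x5 .nil))))
    (show checkEq 11 [x5N, eN] [x11N, aN, eN, x5N] = true by decide +kernel)
theorem e_x5_s4 : x5 * s4 = x8 * s4 * x5 := by
  simpa [mul_assoc] using prod_eq (.cons r_x5 (.cons r_s4 .nil)) (.cons r_x8 (.cons r_s4 (.cons r_x5 .nil)))
    (show checkEq 11 [x5N, s4N] [x8N, s4N, x5N] = true by decide +kernel)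
theorem e_x6_s1 : x6 * s1 = x7 * s1 * x6 := by
  simpa [mul_assoc] using prod_eq (.cons r_x6 (.cons r_s1 .nil)) (.cons r_x7 (.cons r_s1 (.cons r_x6 .nil)))
    (show checkEq 11 [x6N, gN] [x7N, gN, x6N] = true by decide +kernel)
theorem e_x6_s2 : x6 * s2 = x11 * x12 * s2 * x6 := by
  simpa [mul_assoc] using prod_eq (.cons r_x6 (.cons r_s2 .nil)) (.cons r_x11 (.cons r_x12 (.cons r_s2 (.cons r_x6 .nil))))
    (show checkEq 11 [x6N, s2N] [x11N, aN, s2N, x6N] = true by decide +kernel)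
theorem e_x6_s3 : x6 * s3 = x8 * s3 * x6 := by
  simpa [mul_assoc] using prod_eq (.cons r_x6 (.cons r_s3 .nil)) (.cons r_x8 (.cons r_s3 (.cons r_x6 .nil)))
    (show checkEq 11 [x6N, eN] [x8N, eN, x6N] = true by decide +kernel)
theorem e_x6_s4 : x6 * s4 = x11 * x12 * s4 * x6 := by
  simpa [mul_assoc] using prod_eq (.cons r_x6 (.cons r_s4 .nil)) (.cons r_x11 (.cons r_x12 (.cons r_s4 (.cons r_x6 .nil))))
    (show checkEq 11 [x6N, s4N] [x11N, aN, s4N, x6N] = true by decide +kernel)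
theorem e_x7_s1 : x7 * s1 = x12 * s1 * x7 := by
  simpa [mul_assoc] using prod_eq (.cons r_x7 (.cons r_s1 .nil)) (.cons r_x12 (.cons r_s1 (.cons r_x7 .nil)))
    (show checkEq 11 [x7N, gN] [aN, gN, x7N] = true by decide +kernel)
theorem e_x7_s2 : x7 * s2 = x11 * s2 * x7 := by
  simpa [mul_assoc] using prod_eq (.cons r_x7 (.cons r_s2 .nil)) (.cons r_x11 (.cons r_s2 (.cons r_x7 .nil)))
    (show checkEq 11 [x7N, s2N] [x11N, s2N, x7N] = true by decide +kernel)
theorem e_x7_s3 : x7 * s3 = x10 * s3 * x7 := by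
  simpa [mul_assoc] using prod_eq (.cons r_x7 (.cons r_s3 .nil)) (.cons r_x10 (.cons r_s3 (.cons r_x7 .nil)))
    (show checkEq 11 [x7N, eN] [x10N, eN, x7N] = true by decide +kernel)
theorem e_x7_s4 : x7 * s4 = x12 * s4 * x7 := by
  simpa [mul_assoc] using prod_eq (.cons r_x7 (.cons r_s4 .nil)) (.cons r_x12 (.cons r_s4 (.cons r_x7 .nil)))
    (show checkEq 11 [x7N, s4N] [aN, s4N, x7N] = true by decide +kernel)
theorem e_x8_s1 : x8 * s1 = x10 * s1 * x8 := by
  simpa [mul_assoc] using prod_eq (.cons r_x8 (.cons r_s1 .nil)) (.cons r_x10 (.cons r_s1 (.cons r_x8 .nil)))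
    (show checkEq 11 [x8N, gN] [x10N, gN, x8N] = true by decide +kernel)
theorem e_x8_s2 : x8 * s2 = x11 * x12 * s2 * x8 := by
  simpa [mul_assoc] using prod_eq (.cons r_x8 (.cons r_s2 .nil)) (.cons r_x11 (.cons r_x12 (.cons r_s2 (.cons r_x8 .nil))))
    (show checkEq 11 [x8N, s2N] [x11N, aN, s2N, x8N] = true by decide +kernel)
theorem e_x8_s3 : x8 * s3 = s3 * x8 := by
  simpa [mul_assoc] using prod_eq (.cons r_x8 (.cons r_s3 .nil)) (.cons r_s3 (.cons r_x8 .nil))
    (show checkEq 11 [x8N, eN] [eN, x8N] = true by decide +kernel)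
theorem e_x8_s4 : x8 * s4 = s4 * x8 := by
  simpa [mul_assoc] using prod_eq (.cons r_x8 (.cons r_s4 .nil)) (.cons r_s4 (.cons r_x8 .nil))
    (show checkEq 11 [x8N, s4N] [s4N, x8N] = true by decide +kernel)
theorem e_x9_s1 : x9 * s1 = s1 * x9 := by
  simpa [mul_assoc] using prod_eq (.cons r_x9 (.cons r_s1 .nil)) (.cons r_s1 (.cons r_x9 .nil))
    (show checkEq 11 [x9N, gN] [gN, x9N] = true by decide +kernel)
theorem e_x9_s2 : x9 * s2 = x11 * s2 * x9 := by
  simpa [mul_assoc] using prod_eq (.cons r_x9 (.cons r_s2 .nil)) (.cons r_x11 (.cons r_s2 (.cons r_x9 .nil)))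
    (show checkEq 11 [x9N, s2N] [x11N, s2N, x9N] = true by decide +kernel)
theorem e_x9_s3 : x9 * s3 = x12 * s3 * x9 := by
  simpa [mul_assoc] using prod_eq (.cons r_x9 (.cons r_s3 .nil)) (.cons r_x12 (.cons r_s3 (.cons r_x9 .nil)))
    (show checkEq 11 [x9N, eN] [aN, eN, x9N] = true by decide +kernel)
theorem e_x9_s4 : x9 * s4 = x10 * x11 * x12 * s4 * x9 := by
  simpa [mul_assoc] using prod_eq (.cons r_x9 (.cons r_s4 .nil)) (.cons r_x10 (.cons r_x11 (.cons r_x12 (.cons r_s4 (.cons r_x9 .nil)))))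
    (show checkEq 11 [x9N, s4N] [x10N, x11N, aN, s4N, x9N] = true by decide +kernel)
theorem e_x10_s1 : x10 * s1 = s1 * x10 := by
  simpa [mul_assoc] using prod_eq (.cons r_x10 (.cons r_s1 .nil)) (.cons r_s1 (.cons r_x10 .nil))
    (show checkEq 11 [x10N, gN] [gN, x10N] = true by decide +kernel)
theorem e_x10_s2 : x10 * s2 = x11 * s2 * x10 := by
  simpa [mul_assoc] using prod_eq (.cons r_x10 (.cons r_s2 .nil)) (.cons r_x11 (.cons r_s2 (.cons r_x10 .nil)))
    (show checkEq 11 [x10N, s2N] [x11N, s2N, x10N] = true by decide +kernel)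
theorem e_x10_s3 : x10 * s3 = s3 * x10 := by
  simpa [mul_assoc] using prod_eq (.cons r_x10 (.cons r_s3 .nil)) (.cons r_s3 (.cons r_x10 .nil))
    (show checkEq 11 [x10N, eN] [eN, x10N] = true by decide +kernel)
theorem e_x10_s4 : x10 * s4 = s4 * x10 := by
  simpa [mul_assoc] using prod_eq (.cons r_x10 (.cons r_s4 .nil)) (.cons r_s4 (.cons r_x10 .nil))
    (show checkEq 11 [x10N, s4N] [s4N, x10N] = true by decide +kernel)
theorem e_x11_s1 : x11 * s1 = x12 * s1 * x11 := by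
  simpa [mul_assoc] using prod_eq (.cons r_x11 (.cons r_s1 .nil)) (.cons r_x12 (.cons r_s1 (.cons r_x11 .nil)))
    (show checkEq 11 [x11N, gN] [aN, gN, x11N] = true by decide +kernel)
theorem e_x11_s2 : x11 * s2 = s2 * x11 := by
  simpa [mul_assoc] using prod_eq (.cons r_x11 (.cons r_s2 .nil)) (.cons r_s2 (.cons r_x11 .nil))
    (show checkEq 11 [x11N, s2N] [s2N, x11N] = true by decide +kernel)
theorem e_x11_s3 : x11 * s3 = s3 * x11 := by
  simpa [mul_assoc] using prod_eq (.cons r_x11 (.cons r_s3 .nil)) (.cons r_s3 (.cons r_x11 .nil))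
    (show checkEq 11 [x11N, eN] [eN, x11N] = true by decide +kernel)
theorem e_x11_s4 : x11 * s4 = s4 * x11 := by
  simpa [mul_assoc] using prod_eq (.cons r_x11 (.cons r_s4 .nil)) (.cons r_s4 (.cons r_x11 .nil))
    (show checkEq 11 [x11N, s4N] [s4N, x11N] = true by decide +kernel)
theorem e_x12_s1 : x12 * s1 = s1 * x12 := by
  simpa [mul_assoc] using prod_eq (.cons r_x12 (.cons r_s1 .nil)) (.cons r_s1 (.cons r_x12 .nil))
    (show checkEq 11 [aN, gN] [gN, aN] = true by decide +kernel)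
theorem e_x12_s2 : x12 * s2 = s2 * x12 := by
  simpa [mul_assoc] using prod_eq (.cons r_x12 (.cons r_s2 .nil)) (.cons r_s2 (.cons r_x12 .nil))
    (show checkEq 11 [aN, s2N] [s2N, aN] = true by decide +kernel)
theorem e_x12_s3 : x12 * s3 = s3 * x12 := by
  simpa [mul_assoc] using prod_eq (.cons r_x12 (.cons r_s3 .nil)) (.cons r_s3 (.cons r_x12 .nil))
    (show checkEq 11 [aN, eN] [eN, aN] = true by decide +kernel)
theorem e_x12_s4 : x12 * s4 = s4 * x12 := by
  simpa [mul_assoc] using prod_eq (.cons r_x12 (.cons r_s4 .nil)) (.cons r_s4 (.cons r_x12 .nil))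
    (show checkEq 11 [aN, s4N] [s4N, aN] = true by decide +kernel)
theorem o_s1 : s1 ^ 2 = 1 := by
  have h := prod_eq (.cons r_s1 (.cons r_s1 .nil)) .nil
    (show checkEq 11 [gN, gN] [] = true by decide +kernel)
  simpa [pow_succ, mul_assoc] using h
theorem o_s2 : s2 ^ 2 = 1 := by
  have h := prod_eq (.cons r_s2 (.cons r_s2 .nil)) .nil
    (show checkEq 11 [s2N, s2N] [] = true by decide +kernel)
  simpa [pow_succ, mul_assoc] using h
theorem o_s3 : s3 ^ 2 = 1 := by
  have h := prod_eq (.cons r_s3 (.cons r_s3 .nil)) .nil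
    (show checkEq 11 [eN, eN] [] = true by decide +kernel)
  simpa [pow_succ, mul_assoc] using h
theorem o_s4 : s4 ^ 2 = 1 := by
  have h := prod_eq (.cons r_s4 (.cons r_s4 .nil)) .nil
    (show checkEq 11 [s4N, s4N] [] = true by decide +kernel)
  simpa [pow_succ, mul_assoc] using h
theorem o_x4 : x4 ^ 2 = 1 := by
  have h := prod_eq (.cons r_x4 (.cons r_x4 .nil)) .nil
    (show checkEq 11 [x4N, x4N] [] = true by decide +kernel)
  simpa [pow_succ, mul_assoc] using h
theorem o_x5 : x5 ^ 4 = 1 := by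
  have h := prod_eq (.cons r_x5 (.cons r_x5 (.cons r_x5 (.cons r_x5 .nil)))) .nil
    (show checkEq 11 [x5N, x5N, x5N, x5N] [] = true by decide +kernel)
  simpa [pow_succ, mul_assoc] using h
theorem o_x6 : x6 ^ 4 = 1 := by
  have h := prod_eq (.cons r_x6 (.cons r_x6 (.cons r_x6 (.cons r_x6 .nil)))) .nil
    (show checkEq 11 [x6N, x6N, x6N, x6N] [] = true by decide +kernel)
  simpa [pow_succ, mul_assoc] using h
theorem o_x7 : x7 ^ 4 = 1 := by
  have h := prod_eq (.cons r_x7 (.cons r_x7 (.cons r_x7 (.cons r_x7 .nil)))) .nil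
    (show checkEq 11 [x7N, x7N, x7N, x7N] [] = true by decide +kernel)
  simpa [pow_succ, mul_assoc] using h
theorem o_x8 : x8 ^ 2 = 1 := by
  have h := prod_eq (.cons r_x8 (.cons r_x8 .nil)) .nil
    (show checkEq 11 [x8N, x8N] [] = true by decide +kernel)
  simpa [pow_succ, mul_assoc] using h
theorem o_x9 : x9 ^ 4 = 1 := by
  have h := prod_eq (.cons r_x9 (.cons r_x9 (.cons r_x9 (.cons r_x9 .nil)))) .nil
    (show checkEq 11 [x9N, x9N, x9N, x9N] [] = true by decide +kernel)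
  simpa [pow_succ, mul_assoc] using h
theorem o_x10 : x10 ^ 2 = 1 := by
  have h := prod_eq (.cons r_x10 (.cons r_x10 .nil)) .nil
    (show checkEq 11 [x10N, x10N] [] = true by decide +kernel)
  simpa [pow_succ, mul_assoc] using h
theorem o_x11 : x11 ^ 2 = 1 := by
  have h := prod_eq (.cons r_x11 (.cons r_x11 .nil)) .nil
    (show checkEq 11 [x11N, x11N] [] = true by decide +kernel)
  simpa [pow_succ, mul_assoc] using h
theorem o_x12 : x12 ^ 2 = 1 := by
  have h := prod_eq (.cons r_x12 (.cons r_x12 .nil)) .nil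
    (show checkEq 11 [aN, aN] [] = true by decide +kernel)
  simpa [pow_succ, mul_assoc] using h

/-- two words with different images of the point `p` -/
theorem ne_of_pt {w w' : List Suz} {u u' : List Net} (h : List.Forall₂ Rep w u) (h' : List.Forall₂ Rep w' u') (p : ℕ)
    (hc : Nat.beq (ptWord u p) (ptWord u' p) = false) : w.prod ≠ w'.prod := by
  intro he
  have h1 : wperm u = wperm u' := by rw [← rep_prod h, ← rep_prod h', he]
  rw [ptWord_eq (rep_wok h), ptWord_eq (rep_wok h'), h1, Nat.beq_refl] at hc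
  exact absurd hc (by simp)

theorem c_ne : Nat.beq (ptWord [x4N, x10N] 2) (ptWord [x10N, x4N] 2) = false := by decide +kernel

/-- `x4` and `x10` do not commute -/
theorem ne_x4_x10 : x4 * x10 ≠ x10 * x4 := by
  have h := ne_of_pt (.cons r_x4 (.cons r_x10 .nil)) (.cons r_x10 (.cons r_x4 .nil)) 2 c_ne
  simpa using h

end Cfsg.Agent.Schreier.SuzT
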