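import Cfsg.Agent.Schreier.Basic
import Cfsg.Agent.Schreier.Tools
import Cfsg.Agent.Schreier.Crit
import Cfsg.Agent.Schreier.FlagTwo
import Cfsg.Agent.Schreier.CentralChain
import Cfsg.Agent.Schreier.SuzT

/-!
# The Schreier property of the sporadic Suzuki group

The Sylow 2-subgroup `T` (order `2 ^ 13`) is generated by four involutions `s1, s2, s3, s4`; the fourth term `W` of its
lower central series (order 8) is centralised by `s3`, `s4` but not by the commutator of `s1` and `s2`.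
-/

set_option autoImplicit false
set_option maxRecDepth 100000

namespace Cfsg.Agent.Schreier.Suz

open Cfsg.Spor Cfsg.Agent.Schreier.SuzT Cfsg.Agent.Schreier.CentralChain Cfsg.Agent.Schreier.Basic
  Cfsg.Agent.Schreier.Tools

/-- generators -/
def S : Set Cfsg.Spor.Suz := {s1, s2, s3, s4}

/-- the Sylow 2-subgroup -/
noncomputable def T : Subgroup Cfsg.Spor.Suz := Subgroup.closure S

theorem T_def : T = Subgroup.closure S := rfl

theorem forall_S {P : Cfsg.Spor.Suz → Prop} (h1 : P s1) (h2 : P s2) (h3 : P s3) (h4 : P s4) : ∀ s ∈ S, P s := by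
  rintro s (rfl | rfl | rfl | rfl)
  · exact h1
  · exact h2
  · exact h3
  · exact h4

theorem s1_mem : s1 ∈ T := Subgroup.subset_closure (by simp [S])
theorem s2_mem : s2 ∈ T := Subgroup.subset_closure (by simp [S])
theorem s3_mem : s3 ∈ T := Subgroup.subset_closure (by simp [S])
theorem s4_mem : s4 ∈ T := Subgroup.subset_closure (by simp [S])

theorem comm_mem {a b : Cfsg.Spor.Suz} (ha : a ∈ T) (hb : b ∈ T) : a * b * a⁻¹ * b⁻¹ ∈ T :=
  mul_mem (mul_mem (mul_mem ha hb) (inv_mem ha)) (inv_mem hb)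

theorem x4_mem : x4 ∈ T := comm_mem s1_mem s2_mem
theorem x5_mem : x5 ∈ T := comm_mem s2_mem s3_mem
theorem x6_mem : x6 ∈ T := comm_mem s2_mem s4_mem
theorem x7_mem : x7 ∈ T := comm_mem s1_mem s4_mem
theorem x8_mem : x8 ∈ T := comm_mem s3_mem s4_mem
theorem x9_mem : x9 ∈ T := comm_mem x4_mem s3_mem
theorem x10_mem : x10 ∈ T := comm_mem x8_mem s1_mem
theorem x11_mem : x11 ∈ T := comm_mem x10_mem s2_mem

/-- from `a b = r b a` to the commutator -/
theorem comm_eq {a b r : Cfsg.Spor.Suz} (h : a * b = r * b * a) : a * b * a⁻¹ * b⁻¹ = r := by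
  rw [h]; group

theorem comm_one {a b : Cfsg.Spor.Suz} (h : a * b = b * a) : a * b * a⁻¹ * b⁻¹ = 1 := by
  rw [h]; group

theorem x12_mem : x12 ∈ T := by
  have := comm_mem x7_mem s1_mem
  rwa [comm_eq e_x7_s1] at this

noncomputable def U12 : Subgroup Cfsg.Spor.Suz := Subgroup.closure {x12} ⊔ ⊥
noncomputable def U11 : Subgroup Cfsg.Spor.Suz := Subgroup.closure {x11} ⊔ U12
noncomputable def U10 : Subgroup Cfsg.Spor.Suz := Subgroup.closure {x10} ⊔ U11
noncomputable def U7 : Subgroup Cfsg.Spor.Suz := Subgroup.closure {x7, x8, x9} ⊔ U10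
noncomputable def U4 : Subgroup Cfsg.Spor.Suz := Subgroup.closure {x4, x5, x6} ⊔ U7

theorem mem12_12 : x12 ∈ U12 := Subgroup.mem_sup_left (Subgroup.subset_closure rfl)
theorem le11 : U12 ≤ U11 := le_sup_right
theorem le10 : U11 ≤ U10 := le_sup_right
theorem le7 : U10 ≤ U7 := le_sup_right
theorem le4 : U7 ≤ U4 := le_sup_right
theorem mem11_12 : x12 ∈ U11 := le11 mem12_12
theorem mem11_11 : x11 ∈ U11 := Subgroup.mem_sup_left (Subgroup.subset_closure rfl)
theorem mem10_12 : x12 ∈ U10 := le10 mem11_12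
theorem mem10_11 : x11 ∈ U10 := le10 mem11_11
theorem mem10_10 : x10 ∈ U10 := Subgroup.mem_sup_left (Subgroup.subset_closure rfl)
theorem mem7_12 : x12 ∈ U7 := le7 mem10_12
theorem mem7_11 : x11 ∈ U7 := le7 mem10_11
theorem mem7_10 : x10 ∈ U7 := le7 mem10_10
theorem mem7_9 : x9 ∈ U7 := Subgroup.mem_sup_left (Subgroup.subset_closure (by simp))
theorem mem7_8 : x8 ∈ U7 := Subgroup.mem_sup_left (Subgroup.subset_closure (by simp))
theorem mem7_7 : x7 ∈ U7 := Subgroup.mem_sup_left (Subgroup.subset_closure (by simp))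
theorem mem4_4 : x4 ∈ U4 := Subgroup.mem_sup_left (Subgroup.subset_closure (by simp))
theorem mem4_5 : x5 ∈ U4 := Subgroup.mem_sup_left (Subgroup.subset_closure (by simp))
theorem mem4_6 : x6 ∈ U4 := Subgroup.mem_sup_left (Subgroup.subset_closure (by simp))

theorem st12 : Nrm T U12 ∧ ∀ m ∈ U12, ∀ t ∈ T, m * t * m⁻¹ * t⁻¹ ∈ (⊥ : Subgroup Cfsg.Spor.Suz) := by
  refine step T_def (Nrm.bot T) {x12} (by rintro _ rfl; exact x12_mem) ?_ rfl
  rintro _ rfl
  exact forall_S (comm_one e_x12_s1) (comm_one e_x12_s2) (comm_one e_x12_s3) (comm_one e_x12_s4)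

theorem st11 : Nrm T U11 ∧ ∀ m ∈ U11, ∀ t ∈ T, m * t * m⁻¹ * t⁻¹ ∈ U12 := by
  refine step T_def st12.1 {x11} (by rintro _ rfl; exact x11_mem) ?_ rfl
  rintro _ rfl
  refine forall_S ?_ ?_ ?_ ?_
  · rw [comm_eq e_x11_s1]; exact mem12_12
  · rw [comm_one e_x11_s2]; exact one_mem _
  · rw [comm_one e_x11_s3]; exact one_mem _
  · rw [comm_one e_x11_s4]; exact one_mem _

theorem st10 : Nrm T U10 ∧ ∀ m ∈ U10, ∀ t ∈ T, m * t * m⁻¹ * t⁻¹ ∈ U11 := by
  refine step T_def st11.1 {x10} (by rintro _ rfl; exact x10_mem) ?_ rfl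
  rintro _ rfl
  refine forall_S ?_ ?_ ?_ ?_
  · rw [comm_one e_x10_s1]; exact one_mem _
  · rw [comm_eq e_x10_s2]; exact mem11_11
  · rw [comm_one e_x10_s3]; exact one_mem _
  · rw [comm_one e_x10_s4]; exact one_mem _

theorem st7 : Nrm T U7 ∧ ∀ m ∈ U7, ∀ t ∈ T, m * t * m⁻¹ * t⁻¹ ∈ U10 := by
  refine step T_def st10.1 {x7, x8, x9} ?_ ?_ rfl
  · rintro _ (rfl | rfl | rfl)
    · exact x7_mem
    · exact x8_mem
    · exact x9_mem
  · rintro _ (rfl | rfl | rfl)
    · refine forall_S ?_ ?_ ?_ ?_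
      · rw [comm_eq e_x7_s1]; exact mem10_12
      · rw [comm_eq e_x7_s2]; exact mem10_11
      · rw [comm_eq e_x7_s3]; exact mem10_10
      · rw [comm_eq e_x7_s4]; exact mem10_12
    · refine forall_S ?_ ?_ ?_ ?_
      · rw [comm_eq e_x8_s1]; exact mem10_10
      · rw [comm_eq e_x8_s2]; exact mul_mem mem10_11 mem10_12
      · rw [comm_one e_x8_s3]; exact one_mem _
      · rw [comm_one e_x8_s4]; exact one_mem _
    · refine forall_S ?_ ?_ ?_ ?_
      · rw [comm_one e_x9_s1]; exact one_mem _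
      · rw [comm_eq e_x9_s2]; exact mem10_11
      · rw [comm_eq e_x9_s3]; exact mem10_12
      · rw [comm_eq e_x9_s4]; exact mul_mem (mul_mem mem10_10 mem10_11) mem10_12

theorem st4 : Nrm T U4 ∧ ∀ m ∈ U4, ∀ t ∈ T, m * t * m⁻¹ * t⁻¹ ∈ U7 := by
  refine step T_def st7.1 {x4, x5, x6} ?_ ?_ rfl
  · rintro _ (rfl | rfl | rfl)
    · exact x4_mem
    · exact x5_mem
    · exact x6_mem
  · rintro _ (rfl | rfl | rfl)
    · refine forall_S ?_ ?_ ?_ ?_
      · rw [comm_one e_x4_s1]; exact one_mem _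
      · rw [comm_one e_x4_s2]; exact one_mem _
      · rw [comm_eq e_x4_s3]; exact mem7_9
      · rw [comm_eq e_x4_s4]; exact mem7_7
    · refine forall_S ?_ ?_ ?_ ?_
      · rw [comm_eq e_x5_s1]; exact mul_mem (mul_mem mem7_9 mem7_11) mem7_12
      · rw [comm_eq e_x5_s2]; exact mul_mem mem7_11 mem7_12
      · rw [comm_eq e_x5_s3]; exact mul_mem mem7_11 mem7_12
      · rw [comm_eq e_x5_s4]; exact mem7_8
    · refine forall_S ?_ ?_ ?_ ?_
      · rw [comm_eq e_x6_s1]; exact mem7_7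
      · rw [comm_eq e_x6_s2]; exact mul_mem mem7_11 mem7_12
      · rw [comm_eq e_x6_s3]; exact mem7_8
      · rw [comm_eq e_x6_s4]; exact mul_mem mem7_11 mem7_12

theorem comm_inv {a b : Cfsg.Spor.Suz} {N : Subgroup Cfsg.Spor.Suz} (h : a * b * a⁻¹ * b⁻¹ ∈ N) :
    b * a * b⁻¹ * a⁻¹ ∈ N := by
  have := inv_mem h
  have e : (a * b * a⁻¹ * b⁻¹)⁻¹ = b * a * b⁻¹ * a⁻¹ := by group
  rwa [e] at this

theorem T_eq : T = Subgroup.closure S ⊔ U4 := by
  rw [← T_def]
  exact (sup_eq_left.2 st4.1.1).symm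

theorem st0 : Nrm T T ∧ ∀ m ∈ T, ∀ t ∈ T, m * t * m⁻¹ * t⁻¹ ∈ U4 := by
  have h12 : s1 * s2 * s1⁻¹ * s2⁻¹ ∈ U4 := by rw [comm_eq e_s1_s2]; exact mem4_4
  have h13 : s1 * s3 * s1⁻¹ * s3⁻¹ ∈ U4 := by rw [comm_one e_s1_s3]; exact one_mem _
  have h14 : s1 * s4 * s1⁻¹ * s4⁻¹ ∈ U4 := by rw [comm_eq e_s1_s4]; exact le4 mem7_7
  have h23 : s2 * s3 * s2⁻¹ * s3⁻¹ ∈ U4 := by rw [comm_eq e_s2_s3]; exact mem4_5
  have h24 : s2 * s4 * s2⁻¹ * s4⁻¹ ∈ U4 := by rw [comm_eq e_s2_s4]; exact mem4_6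
  have h34 : s3 * s4 * s3⁻¹ * s4⁻¹ ∈ U4 := by rw [comm_eq e_s3_s4]; exact le4 mem7_8
  have hself : ∀ a : Cfsg.Spor.Suz, a * a * a⁻¹ * a⁻¹ ∈ U4 := fun a => by
    rw [comm_one rfl]; exact one_mem _
  refine step T_def st4.1 S (fun x hx => Subgroup.subset_closure hx) ?_ T_eq
  refine forall_S ?_ ?_ ?_ ?_
  · exact forall_S (hself _) h12 h13 h14
  · exact forall_S (comm_inv h12) (hself _) h23 h24
  · exact forall_S (comm_inv h13) (comm_inv h23) (hself _) h34
  · exact forall_S (comm_inv h14) (comm_inv h24) (comm_inv h34) (hself _)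

/-! ### `T` is a 2-group -/

theorem nrm_of {N M : Subgroup Cfsg.Spor.Suz} (hN : Nrm T N) (hNM : N ≤ M) (hM : M ≤ T) : Nrm M N :=
  ⟨hNM, fun t ht n hn => hN.2 t (hM ht) n hn⟩

theorem two12 : IsPGroup 2 U12 :=
  isPGroup_step (nrm_of (Nrm.bot T) bot_le st12.1.1) IsPGroup.of_bot {x12} rfl
    (by rintro _ rfl; exact ⟨1, by rw [Subgroup.mem_bot]; simpa using o_x12⟩)
    (fun a ha b hb => st12.2 a ha b (st12.1.1 hb))

theorem two11 : IsPGroup 2 U11 :=
  isPGroup_step (nrm_of st12.1 le11 st11.1.1) two12 {x11} rfl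
    (by rintro _ rfl; exact ⟨1, by rw [pow_one, o_x11]; exact one_mem _⟩)
    (fun a ha b hb => st11.2 a ha b (st11.1.1 hb))

theorem two10 : IsPGroup 2 U10 :=
  isPGroup_step (nrm_of st11.1 le10 st10.1.1) two11 {x10} rfl
    (by rintro _ rfl; exact ⟨1, by rw [pow_one, o_x10]; exact one_mem _⟩)
    (fun a ha b hb => st10.2 a ha b (st10.1.1 hb))

theorem two7 : IsPGroup 2 U7 :=
  isPGroup_step (nrm_of st10.1 le7 st7.1.1) two10 {x7, x8, x9} rfl
    (by
      rintro _ (rfl | rfl | rfl)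
      · exact ⟨2, by norm_num [o_x7, one_mem]⟩
      · exact ⟨1, by norm_num [o_x8, one_mem]⟩
      · exact ⟨2, by norm_num [o_x9, one_mem]⟩)
    (fun a ha b hb => st7.2 a ha b (st7.1.1 hb))

theorem two4 : IsPGroup 2 U4 :=
  isPGroup_step (nrm_of st7.1 le4 st4.1.1) two7 {x4, x5, x6} rfl
    (by
      rintro _ (rfl | rfl | rfl)
      · exact ⟨1, by norm_num [o_x4, one_mem]⟩
      · exact ⟨2, by norm_num [o_x5, one_mem]⟩
      · exact ⟨2, by norm_num [o_x6, one_mem]⟩)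
    (fun a ha b hb => st4.2 a ha b (st4.1.1 hb))

theorem twoT : IsPGroup 2 T :=
  isPGroup_step (nrm_of st4.1 st4.1.1 le_rfl) two4 S T_eq
    (forall_S ⟨1, by rw [pow_one, o_s1]; exact one_mem _⟩ ⟨1, by rw [pow_one, o_s2]; exact one_mem _⟩
      ⟨1, by rw [pow_one, o_s3]; exact one_mem _⟩ ⟨1, by rw [pow_one, o_s4]; exact one_mem _⟩)
    (fun a ha b hb => st0.2 a ha b hb)

/-! ### The order of `T` -/

section order

open Cfsg.Agent.Lib.PermNet Cfsg.Agent.Lib.PermNetOrbit Cfsg.Agent.SporadicRecognition.SuzPhi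
  Cfsg.Agent.SporadicRecognition.SuzOrder Cfsg.Agent.SporadicRecognition.SuzNet Cfsg.Agent.Schreier.SuzNetT

noncomputable def φT : T →* Equiv.Perm ℕ := φ.comp T.subtype

noncomputable def wsA : List (List Net) :=
  [[gN], [s2N], [eN], [s4N], [x4N], [x5N], [x6N], [x7N], [x8N], [x9N], [x10N], [x11N], [aN]]

noncomputable def wsB : List (List Net) := [[gN], [eN], [s4N, x6N, x11N, aN]]

theorem forall_wsA {P : List Net → Prop} (h1 : P [gN]) (h2 : P [s2N]) (h3 : P [eN]) (h4 : P [s4N]) (h5 : P [x4N])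
    (h6 : P [x5N]) (h7 : P [x6N]) (h8 : P [x7N]) (h9 : P [x8N]) (h10 : P [x9N]) (h11 : P [x10N]) (h12 : P [x11N])
    (h13 : P [aN]) : ∀ w ∈ wsA, P w := by
  intro w hw
  simp only [wsA, List.mem_cons, List.not_mem_nil, or_false] at hw
  rcases hw with rfl | rfl | rfl | rfl | rfl | rfl | rfl | rfl | rfl | rfl | rfl | rfl | rfl <;> assumption

theorem forall_wsB {P : List Net → Prop} (h1 : P [gN]) (h2 : P [eN]) (h3 : P [s4N, x6N, x11N, aN]) :
    ∀ w ∈ wsB, P w := by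
  intro w hw
  simp only [wsB, List.mem_cons, List.not_mem_nil, or_false] at hw
  rcases hw with rfl | rfl | rfl <;> assumption

theorem wok1 {g : Cfsg.Spor.Suz} {n : Net} (h : Rep g n) : WOk (2 ^ 11) [n] := WOk.cons h.2 (WOk.nil _)

theorem img1 {g : Cfsg.Spor.Suz} {n : Net} (h : Rep g n) (hg : g ∈ T) : ∃ t : T, φT t = wperm [n] :=
  ⟨⟨g, hg⟩, by simpa [φT] using h.1⟩

theorem wsA_ok : WsOk (2 ^ 11) wsA :=
  forall_wsA (wok1 r_s1) (wok1 r_s2) (wok1 r_s3) (wok1 r_s4) (wok1 r_x4) (wok1 r_x5) (wok1 r_x6) (wok1 r_x7)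
    (wok1 r_x8) (wok1 r_x9) (wok1 r_x10) (wok1 r_x11) (wok1 r_x12)

theorem wsA_img : ∀ w ∈ wsA, ∃ t : T, φT t = wperm w :=
  forall_wsA (img1 r_s1 s1_mem) (img1 r_s2 s2_mem) (img1 r_s3 s3_mem) (img1 r_s4 s4_mem) (img1 r_x4 x4_mem)
    (img1 r_x5 x5_mem) (img1 r_x6 x6_mem) (img1 r_x7 x7_mem) (img1 r_x8 x8_mem) (img1 r_x9 x9_mem)
    (img1 r_x10 x10_mem) (img1 r_x11 x11_mem) (img1 r_x12 x12_mem)

theorem wsB_ok : WsOk (2 ^ 11) wsB :=
  forall_wsB (wok1 r_s1) (wok1 r_s3) (rep_wok (.cons r_s4 (.cons r_x6 (.cons r_x11 (.cons r_x12 .nil)))))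

theorem wsB_img : ∀ w ∈ wsB, ∃ t : T, φT t = wperm w :=
  forall_wsB (img1 r_s1 s1_mem) (img1 r_s3 s3_mem)
    ⟨⟨_, mul_mem s4_mem (mul_mem x6_mem (mul_mem x11_mem (mul_mem x12_mem (one_mem T))))⟩,
      rep_prod (.cons r_s4 (.cons r_x6 (.cons r_x11 (.cons r_x12 .nil))))⟩

theorem stepA : 1024 * Nat.card (stabL φT [2]) ≤ Nat.card (stabL φT []) :=
  stabL_step_of_check φT (k := 11) [] 2 1024 1 wsA_ok wsA_img (by decide +kernel)
    (by decide +kernel) (by decide +kernel)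

theorem stepB : 8 * Nat.card (stabL φT [15, 2]) ≤ Nat.card (stabL φT [2]) :=
  stabL_step_of_check φT (k := 11) [2] 15 8 1 wsB_ok wsB_img (by decide +kernel)
    (by decide +kernel) (by decide +kernel)

theorem card_ge : 8192 ≤ Nat.card T := by
  have h1 := stepA
  have h2 := stepB
  have h0 : Nat.card (stabL φT []) ≤ Nat.card T :=
    Nat.card_le_card_of_injective _ (Subtype.val_injective)
  have h3 : 0 < Nat.card (stabL φT [15, 2]) := Nat.card_pos
  omega

theorem card_T : Nat.card T = 2 ^ 13 := by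
  obtain ⟨n, hn⟩ := IsPGroup.iff_card.1 twoT
  have h1 : Nat.card T ∣ 448345497600 := by
    rw [← card_Suz]; exact Subgroup.card_subgroup_dvd_card T
  have h2 := card_ge
  rw [hn] at h1 h2
  have h3 : n < 14 := by
    by_contra h
    push Not at h
    have h4 : 2 ^ 14 ∣ 448345497600 := (pow_dvd_pow 2 h).trans h1
    norm_num at h4
  have h4 : 13 ≤ n := by
    by_contra h
    push Not at h
    have : 2 ^ n ≤ 2 ^ 12 := Nat.pow_le_pow_right (by norm_num) (by omega)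
    omega
  have h5 : n = 13 := by omega
  rw [hn, h5]

theorem factorization_card : (Nat.card Cfsg.Spor.Suz).factorization 2 = 13 := by
  rw [card_Suz]
  have h : (448345497600 : ℕ) = 2 ^ 13 * 54729675 := by norm_num
  rw [h, Nat.factorization_mul (by norm_num) (by norm_num), Nat.Prime.factorization_pow Nat.prime_two]
  have h2 : (54729675 : ℕ).factorization 2 = 0 := Nat.factorization_eq_zero_of_not_dvd (by norm_num)
  simp [h2]

/-- the Sylow 2-subgroup -/
noncomputable def T₀ : Sylow 2 Cfsg.Spor.Suz :=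
  Sylow.ofCard T (by rw [card_T, factorization_card])

end order

theorem not_comm : ¬ IsMulCommutative Cfsg.Spor.Suz := fun h => ne_x4_x10 (h.is_comm.comm x4 x10)

/-- fourth term of the lower central series of `T` -/
noncomputable def W : Subgroup Cfsg.Spor.Suz := ⁅⁅⁅T, T⁆, T⁆, T⁆

theorem W_le : W ≤ U10 := by
  have h1 : ⁅T, T⁆ ≤ U4 := commutator_le st0.2
  have h2 : ⁅U4, T⁆ ≤ U7 := commutator_le st4.2
  have h3 : ⁅U7, T⁆ ≤ U10 := commutator_le st7.2
  exact (Subgroup.commutator_mono ((Subgroup.commutator_mono h1 le_rfl).trans h2) le_rfl).trans h3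

theorem comm_mem_commutator {A B : Subgroup Cfsg.Spor.Suz} {a b : Cfsg.Spor.Suz} (ha : a ∈ A) (hb : b ∈ B) :
    a * b * a⁻¹ * b⁻¹ ∈ ⁅A, B⁆ := Subgroup.commutator_mem_commutator ha hb

theorem x10_mem_W : x10 ∈ W := by
  have h5 : x5 ∈ ⁅T, T⁆ := comm_mem_commutator s2_mem s3_mem
  have h8 : x8 ∈ ⁅⁅T, T⁆, T⁆ := by
    have := comm_mem_commutator h5 s4_mem
    rwa [comm_eq e_x5_s4] at this
  exact comm_mem_commutator h8 s1_mem

theorem centralizes {s : Cfsg.Spor.Suz} (h10 : x10 * s = s * x10) (h11 : x11 * s = s * x11)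
    (h12 : x12 * s = s * x12) : s ∈ Subgroup.centralizer (W : Set Cfsg.Spor.Suz) := by
  have h1 : U10 ≤ Subgroup.centralizer {s} := by
    rw [U10, U11, U12]
    refine sup_le ?_ (sup_le ?_ (sup_le ?_ bot_le))
    all_goals
      rw [Subgroup.closure_le]
      rintro _ rfl
      rw [SetLike.mem_coe, Subgroup.mem_centralizer_singleton_iff]
      assumption
  rw [Subgroup.mem_centralizer_iff]
  intro w hw
  exact Subgroup.mem_centralizer_singleton_iff.1 (h1 (W_le hw))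

theorem T_le_normalizer : T ≤ Subgroup.normalizer (W : Set Cfsg.Spor.Suz) := by
  refine le_normalizer_commutator (le_normalizer_commutator (le_normalizer_commutator ?_))
  exact Subgroup.le_normalizer

/-- **The sporadic Suzuki group has the Schreier property.** -/
theorem sch : Sch Cfsg.Spor.Suz := by
  have : Finite Cfsg.Spor.Suz := Cfsg.Agent.SporadicRecognition.SuzOrder.finiteSuz
  have : IsSimpleGroup Cfsg.Spor.Suz := Cfsg.Agent.SporadicRecognition.SuzOrder.simple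
  refine Crit.sch_of_sylow not_comm T₀ ?_
  intro D hD hT
  have hT' : Inv D T := hT
  refine FlagTwo.tr_of_four_generators hD T twoT hT' W ?_ T_le_normalizer s1 s2 s3 s4 rfl ?_ ?_ ?_
  · exact ((hT'.commutator hT').commutator hT').commutator hT'
  · exact centralizes e_x10_s3 e_x11_s3 e_x12_s3
  · exact centralizes e_x10_s4 e_x11_s4 e_x12_s4
  · intro h
    have h1 : x4 ∈ Subgroup.centralizer (W : Set Cfsg.Spor.Suz) := h
    rw [Subgroup.mem_centralizer_iff] at h1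
    exact ne_x4_x10 (h1 x10 x10_mem_W).symm

end Cfsg.Agent.Schreier.Suz
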