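import Mathlib
import Cfsg.Agent.Lib.FrattiniPGroup
import Cfsg.Agent.Schreier.Basic
import Cfsg.Agent.Schreier.Tools
import Cfsg.Agent.Schreier.Tools2

/-!
# Perfect groups of automorphisms centralise invariant 2-generated 2-subgroups
-/

set_option autoImplicit false

namespace Cfsg.Agent.Schreier.TwoGen

open Cfsg.Agent.Schreier.Basic Cfsg.Agent.Schreier.Tools Cfsg.Agent.Schreier.Tools2

variable {K : Type*} [Group K]

/-- the subgroup generated by the squares of the elements of `T` -/
def sqs (T : Subgroup K) : Subgroup K := Subgroup.closure {x | ∃ t ∈ T, x = t * t}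

theorem sq_mem {T : Subgroup K} {t : K} (ht : t ∈ T) : t * t ∈ sqs T := Subgroup.subset_closure ⟨t, ht, rfl⟩

theorem sqs_le (T : Subgroup K) : sqs T ≤ T := by
  rw [sqs, Subgroup.closure_le]
  rintro _ ⟨t, ht, rfl⟩
  exact mul_mem ht ht

theorem conj_sqs {T : Subgroup K} {g : K} (hg : ∀ t ∈ T, g * t * g⁻¹ ∈ T) {x : K} (hx : x ∈ sqs T) :
    g * x * g⁻¹ ∈ sqs T := by
  have h1 : sqs T ≤ (sqs T).comap (MulAut.conj g).toMonoidHom := by
    refine (Subgroup.closure_le _).2 ?_
    rintro _ ⟨t, ht, rfl⟩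
    show g * (t * t) * g⁻¹ ∈ sqs T
    have h2 : g * (t * t) * g⁻¹ = (g * t * g⁻¹) * (g * t * g⁻¹) := by group
    rw [h2]
    exact sq_mem (hg t ht)
  exact h1 hx

theorem inv_sqs {D : Subgroup (MulAut K)} {T : Subgroup K} (hT : Inv D T) : Inv D (sqs T) := by
  apply Inv.closure
  rintro φ hφ _ ⟨t, ht, rfl⟩
  exact ⟨φ t, hT.apply_mem hφ ht, map_mul φ t t⟩

theorem sqs_le_frattini {T : Subgroup K} [Finite T] (hT : IsPGroup 2 T) : sqs T ≤ (frattini T).map T.subtype := by
  rw [sqs, Subgroup.closure_le]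
  rintro _ ⟨t, ht, rfl⟩
  have h := Cfsg.Agent.Lib.FrattiniPGroup.pow_mem_frattini hT (⟨t, ht⟩ : T)
  exact ⟨_, h, by rw [pow_two]; rfl⟩

/-- commutators of elements of `T` are products of squares -/
theorem comm_mem {T : Subgroup K} {a b : K} (ha : a ∈ T) (hb : b ∈ T) : a * b * a⁻¹ * b⁻¹ ∈ sqs T := by
  have h : a * b * a⁻¹ * b⁻¹ = (a * b) * (a * b) * ((b⁻¹ * a⁻¹ * b) * (b⁻¹ * a⁻¹ * b)) * (b⁻¹ * b⁻¹) := by group
  rw [h]
  refine mul_mem (mul_mem (sq_mem (mul_mem ha hb)) (sq_mem ?_)) (sq_mem (inv_mem hb))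
  exact mul_mem (mul_mem (inv_mem hb) (inv_mem ha)) hb

/-- the cosets of `sqs T` in `T` when `T = ⟨a, b⟩ sqs T` -/
theorem cases_of_two_gen {T : Subgroup K} {a b : K} (ha : a ∈ T) (hb : b ∈ T)
    (h : T ≤ Subgroup.closure {a, b} ⊔ sqs T) {t : K} (ht : t ∈ T) :
    t ∈ sqs T ∨ a⁻¹ * t ∈ sqs T ∨ b⁻¹ * t ∈ sqs T ∨ (a * b)⁻¹ * t ∈ sqs T := by
  have hc : ∀ g ∈ T, ∀ x ∈ sqs T, g * x * g⁻¹ ∈ sqs T := fun g hg x hx =>
    conj_sqs (fun t ht => mul_mem (mul_mem hg ht) (inv_mem hg)) hx
  -- work in the quotient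
  let B : Subgroup T := (sqs T).subgroupOf T
  have hBn : B.Normal := ⟨fun x hx g => hc g g.2 x hx⟩
  have hmem : ∀ x : T, (x : T ⧸ B) = 1 ↔ (x : K) ∈ sqs T := fun x => by
    rw [QuotientGroup.eq_one_iff]; rfl
  let a' : T := ⟨a, ha⟩
  let b' : T := ⟨b, hb⟩
  have hsq : ∀ q : T ⧸ B, q * q = 1 := by
    intro q
    induction q using QuotientGroup.induction_on with
    | H x =>
      rw [← QuotientGroup.mk_mul, hmem]
      exact sq_mem x.2
  have hinv : ∀ q : T ⧸ B, q⁻¹ = q := fun q => inv_eq_of_mul_eq_one_left (hsq q)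
  have hcomm : ∀ q r : T ⧸ B, q * r = r * q := by
    intro q r
    have h1 := hinv (q * r)
    rw [mul_inv_rev, hinv, hinv] at h1
    exact h1.symm
  let W : Subgroup (T ⧸ B) :=
    { carrier := {q | q = 1 ∨ q = (a' : T ⧸ B) ∨ q = (b' : T ⧸ B) ∨ q = (a' : T ⧸ B) * (b' : T ⧸ B)}
      one_mem' := Or.inl rfl
      mul_mem' := by
        have haa := hsq (a' : T ⧸ B)
        have hbb := hsq (b' : T ⧸ B)
        have hba := hcomm (b' : T ⧸ B) (a' : T ⧸ B)
        have h1 : (a' : T ⧸ B) * ((a' : T ⧸ B) * (b' : T ⧸ B)) = (b' : T ⧸ B) := by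
          rw [← mul_assoc, haa, one_mul]
        have h2 : (b' : T ⧸ B) * ((a' : T ⧸ B) * (b' : T ⧸ B)) = (a' : T ⧸ B) := by
          rw [← mul_assoc, hba, mul_assoc, hbb, mul_one]
        have h3 : (a' : T ⧸ B) * (b' : T ⧸ B) * (a' : T ⧸ B) = (b' : T ⧸ B) := by
          rw [mul_assoc, hba, h1]
        have h4 : (a' : T ⧸ B) * (b' : T ⧸ B) * (b' : T ⧸ B) = (a' : T ⧸ B) := by
          rw [mul_assoc, hbb, mul_one]
        rintro q r (rfl | rfl | rfl | rfl) (rfl | rfl | rfl | rfl)
        · left; rw [mul_one]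
        · right; left; rw [one_mul]
        · right; right; left; rw [one_mul]
        · right; right; right; rw [one_mul]
        · right; left; rw [mul_one]
        · left; exact haa
        · right; right; right; rfl
        · right; right; left; exact h1
        · right; right; left; rw [mul_one]
        · right; right; right; exact hba
        · left; exact hbb
        · right; left; exact h2
        · right; right; right; rw [mul_one]
        · right; right; left; exact h3
        · right; left; exact h4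
        · left; exact hsq _
      inv_mem' := by
        intro q hq
        have : q⁻¹ = q := hinv q
        show q⁻¹ = 1 ∨ _
        rw [this]
        exact hq }
  have hW : T ≤ (W.comap (QuotientGroup.mk' B)).map T.subtype := by
    refine h.trans (sup_le ?_ ?_)
    · rw [Subgroup.closure_le]
      rintro x (rfl | rfl)
      · exact ⟨a', Or.inr (Or.inl rfl), rfl⟩
      · exact ⟨b', Or.inr (Or.inr (Or.inl rfl)), rfl⟩
    · intro x hx
      exact ⟨⟨x, sqs_le T hx⟩, Or.inl ((hmem ⟨x, sqs_le T hx⟩).2 hx), rfl⟩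
  obtain ⟨x, hx, rfl⟩ := hW ht
  have hx' : (x : T ⧸ B) = 1 ∨ (x : T ⧸ B) = (a' : T ⧸ B) ∨ (x : T ⧸ B) = (b' : T ⧸ B) ∨
      (x : T ⧸ B) = (a' : T ⧸ B) * (b' : T ⧸ B) := hx
  rcases hx' with h1 | h1 | h1 | h1
  · left; exact (hmem x).1 h1
  · right; left
    have := QuotientGroup.eq.1 h1.symm
    exact this
  · right; right; left
    have := QuotientGroup.eq.1 h1.symm
    exact this
  · right; right; right
    rw [← QuotientGroup.mk_mul] at h1
    have := QuotientGroup.eq.1 h1.symm
    exact this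

/-- A perfect group of automorphisms centralises every invariant finite 2-subgroup that is generated by two elements
modulo its squares. -/
theorem tr_of_two_gen {D : Subgroup (MulAut K)} (hD : ⁅D, D⁆ = D) {T : Subgroup K} [Finite T] (hTp : IsPGroup 2 T)
    (hT : Inv D T) {a b : K} (ha : a ∈ T) (hb : b ∈ T) (h : T ≤ Subgroup.closure {a, b} ⊔ sqs T) : Tr D T := by
  apply tr_of_frattini hD hTp hT (sqs_le_frattini hTp)
  apply trMod_of_relIndex_le_four hD hT (inv_sqs hT)
  · exact Subgroup.FiniteIndex.index_ne_zero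
  · -- four cosets
    have hle : Nat.card (T ⧸ (sqs T).subgroupOf T) ≤ Nat.card (Bool × Bool) := by
      let f : Bool × Bool → T ⧸ (sqs T).subgroupOf T := fun p =>
        (((if p.1 then ⟨a, ha⟩ else 1) * (if p.2 then ⟨b, hb⟩ else 1) : T) : T ⧸ (sqs T).subgroupOf T)
      refine Nat.card_le_card_of_surjective f ?_
      intro q
      induction q using QuotientGroup.induction_on with
      | H x =>
        rcases cases_of_two_gen ha hb h x.2 with h1 | h1 | h1 | h1
        · refine ⟨(false, false), ?_⟩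
          apply QuotientGroup.eq.2
          rw [Subgroup.mem_subgroupOf]
          simpa using h1
        · refine ⟨(true, false), ?_⟩
          apply QuotientGroup.eq.2
          rw [Subgroup.mem_subgroupOf]
          simpa using h1
        · refine ⟨(false, true), ?_⟩
          apply QuotientGroup.eq.2
          rw [Subgroup.mem_subgroupOf]
          simpa using h1
        · refine ⟨(true, true), ?_⟩
          apply QuotientGroup.eq.2
          rw [Subgroup.mem_subgroupOf]
          simpa using h1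
    have h2 : Nat.card (Bool × Bool) = 4 := by simp
    rw [h2] at hle
    exact hle

end Cfsg.Agent.Schreier.TwoGen
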