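import Mathlib
import Cfsg.Agent.ChevalleyStructure.TwF4.BN
import Cfsg.Agent.ChevalleyStructure.TwF4.TwGen
import Cfsg.Agent.ChevalleyStructure.TwF4.TorusFix
import Cfsg.Agent.Schreier.Basic
import Cfsg.Agent.Schreier.Tools
import Cfsg.Agent.Schreier.BNSch
import Cfsg.Agent.Schreier.BNField
import Cfsg.Agent.Schreier.BNUse
import Cfsg.Agent.Schreier.TwoGen
import Cfsg.Agent.S1090
import Cfsg.Agent.S1113

/-!
# The Schreier property of `²F₄(2 ^ (2 m + 1))`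
-/

set_option autoImplicit false
set_option linter.unusedSectionVars false

namespace Cfsg.Agent.Schreier.TwFFour

open Cfsg.Lie
open Cfsg.Agent.ChevalleyStructure.TwF4.Rel
open Cfsg.Agent.ChevalleyStructure.TwF4.Groups Cfsg.Agent.ChevalleyStructure.TwF4.RankOne
open Cfsg.Agent.ChevalleyStructure.TwF4.Twisted Cfsg.Agent.ChevalleyStructure.TwF4.TwistedFix
open Cfsg.Agent.ChevalleyStructure.TwF4.BN
open Cfsg.Agent.ChevalleyStructure.TwF4.Torus (T chi T_conj_X T_inr)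
open Cfsg.Agent.ChevalleyStructure.TwF4.TwGen (tc chi_tc_24 chi_tc_25 chi_tc_33 chi_tc_27 chi28 chi30 pow_all)
open Cfsg.Agent.ChevalleyStructure.TwF4.TorusFix (mem_iff pow_unit T_rt rt)
open Cfsg.Agent.ChevalleyStructure.TwF4.Fix (Fix)
open Cfsg.Agent.Schreier.Basic Cfsg.Agent.Schreier.Tools Cfsg.Agent.Schreier.BNSch Cfsg.Agent.Schreier.BNUse

section Ambient

variable {K : Type*} [Field K] [Finite K] [CharP K 2]

/-! ### normality -/

theorem norm_ge2 {u v : GL chevF4.Idx K} (hu : u ∈ GA K posB) (hv : v ∈ GA K (geB 2)) :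
    u * v * u⁻¹ ∈ GA K (geB 2) := by
  have h := chkNorm_classes
  rw [List.all_eq_true] at h
  have h1 : chkNorm (clsB 1) (geB 2) = true := h 0 (by simp)
  have h2 := le_normalizer_of_chk (K := K) h1 (cls_pos (by norm_num)) (ge_pos 2)
  rw [← geB1] at hu
  obtain ⟨w, hw, x, hx, rfl⟩ := decomp_ge 1 (by norm_num) (by norm_num) u hu
  have h3 := (Subgroup.mem_normalizer_iff.1 (h2 hx) v).1 hv
  have h4 : w * x * v * (w * x)⁻¹ = w * (x * v * x⁻¹) * w⁻¹ := by group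
  rw [h4]
  exact mul_mem (mul_mem hw h3) (inv_mem hw)

theorem norm_le7 {u v : GL chevF4.Idx K} (hu : u ∈ GA K posB) (hv : v ∈ GA K (leB 7)) :
    u * v * u⁻¹ ∈ GA K (leB 7) := by
  have h2 := le_normalizer_of_chk (K := K) chkNorm_cls8 (cls_pos (by norm_num)) (le_pos 7)
  obtain ⟨w, hw, x, hx, rfl⟩ := decomp_cls8 u hu
  have h3 := (Subgroup.mem_normalizer_iff.1 (h2 hx) v).1 hv
  have h4 : w * x * v * (w * x)⁻¹ = w * (x * v * x⁻¹) * w⁻¹ := by group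
  rw [h4]
  exact mul_mem (mul_mem hw h3) (inv_mem hw)

theorem n1_ge2' (x : GL chevF4.Idx K) (hx : x ∈ GA K (geB 2)) : n1 K * x * (n1 K)⁻¹ ∈ GA K (geB 2) := by
  refine Act_conj Act_n1 ?_ x hx
  intro r hr h
  unfold geB at h ⊢
  rw [Bool.and_eq_true] at h ⊢
  have h0 := of_decide_eq_true h.1
  have h1 := of_decide_eq_true h.2
  have h2 := cls_fact r hr
  have h3 := cls_fact (w1 r) (w1_lt r hr)
  have h4 : cls (w1 r) = 10 - cls r := by rw [h2.2.2.2.1, if_pos (by omega)]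
  exact ⟨decide_eq_true (h3.2.2.1.1 (by omega)), decide_eq_true (by omega)⟩

theorem n2_le7' (x : GL chevF4.Idx K) (hx : x ∈ GA K (leB 7)) : n2 K * x * (n2 K)⁻¹ ∈ GA K (leB 7) := by
  refine Act_conj Act_n2 ?_ x hx
  intro r hr h
  unfold leB at h ⊢
  rw [Bool.and_eq_true] at h ⊢
  have h0 := of_decide_eq_true h.1
  have h1 := of_decide_eq_true h.2
  have h2 := cls_fact r hr
  have h3 := cls_fact (w2 r) (w2_lt r hr)
  have h4 : cls (w2 r) = 8 - cls r := by rw [h2.2.2.2.2.1, if_pos (by omega)]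
  exact ⟨decide_eq_true (h3.2.2.1.1 (by omega)), decide_eq_true (by omega)⟩

/-! ### the elements `xa`, `xb` -/

theorem NF_mul (a b c d a' b' c' d' : K) : NF a b c d * NF a' b' c' d' =
    NF (a + a') (b + b') (b * a' + (c + c')) (b * a' ^ 2 + (d + d')) := by
  have h : NF a b c d * NF a' b' c' d' = X 27 a * (X 25 b * (X 28 c * (X 30 d * NF a' b' c' d'))) := by
    conv_lhs => rw [NF]
    group
  rw [h, X30_NF, X28_NF, X25_NF, X27_NF]

variable {φ : K →+* K} {e : ℕ}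

theorem pow_add_e (hφ : Rln φ e) (a b : K) : (a + b) ^ e = a ^ e + b ^ e := by
  apply φ.injective
  rw [map_add, hφ.phi_pow, hφ.phi_pow, hφ.phi_pow]

theorem pow_2e (hφ : Rln φ e) (a : K) : (a ^ e) ^ (2 * e) = a := by
  have h := hφ.phi_pow a
  rw [hφ.phi] at h
  rw [show 2 * e = e * 2 by ring, pow_mul]
  exact h

theorem xa_add (hφ : Rln φ e) (s t : K) : xa e (s + t) = xa e s * xa e t := by
  unfold xa
  rw [pow_add_e hφ, ← X_add, ← X_add]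
  calc X 33 (s ^ e) * X 33 (t ^ e) * (X 24 s * X 24 t) = X 33 (s ^ e) * (X 33 (t ^ e) * X 24 s) * X 24 t := by group
    _ = X 33 (s ^ e) * (X 24 s * X 33 (t ^ e)) * X 24 t := by rw [c24_33]
    _ = _ := by group

theorem xb_mul (hφ : Rln φ e) (t u t' u' : K) :
    xb e t u * xb e t' u' = xb e (t + t') (u + u' + t ^ e * t') := by
  unfold xb
  rw [NF_mul]
  have h1 : t * t' ^ e + (t ^ (e + 1) + u + (t' ^ (e + 1) + u')) = (t + t') ^ (e + 1) + (u + u' + t ^ e * t') := by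
    rw [pow_succ (t + t') e, pow_add_e hφ]
    have h2 : (t ^ e + t' ^ e) * (t + t') = t ^ (e + 1) + t' ^ (e + 1) + t ^ e * t' + t * t' ^ e := by ring
    rw [h2]
    have h3 : t ^ e * t' + t ^ e * t' = 0 := CharTwo.add_self_eq_zero _
    linear_combination -h3
  have h4 : t * (t' ^ e) ^ 2 + (u ^ (2 * e) + u' ^ (2 * e)) = (u + u' + t ^ e * t') ^ (2 * e) := by
    have h5 : ∀ x y : K, (x + y) ^ (2 * e) = x ^ (2 * e) + y ^ (2 * e) := by
      intro x y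
      rw [mul_comm 2 e, pow_mul, pow_mul, pow_mul, pow_add_e hφ, CharTwo.add_sq]
    rw [h5, h5, mul_pow, pow_2e hφ, ← pow_mul, mul_comm e 2]
    ring
  rw [h1, h4, pow_add_e hφ]

theorem xb_zero (hφ : Rln φ e) : xb e (0 : K) 0 = 1 := by
  unfold xb
  have h := hφ.pos
  rw [zero_pow (by omega), zero_pow (by omega), zero_pow (by omega), add_zero, NF_one]

theorem xb_zero_add (hφ : Rln φ e) (u w : K) : xb e 0 (u + w) = xb e 0 u * xb e 0 w := by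
  rw [xb_mul hφ, add_zero, mul_zero, add_zero]

theorem xb_split (hφ : Rln φ e) (t u : K) : xb e t u = xb e t 0 * xb e 0 u := by
  rw [xb_mul hφ, add_zero, zero_add, mul_zero, add_zero]

theorem xb_comm (hφ : Rln φ e) (t u w : K) : xb e t u * xb e 0 w = xb e 0 w * xb e t u := by
  have h := hφ.pos
  rw [xb_mul hφ, xb_mul hφ, zero_pow (by omega), zero_mul, mul_zero, add_zero, zero_add, add_comm u w]

theorem xb_sq (hφ : Rln φ e) (t u : K) : xb e t u * xb e t u = xb e 0 (t ^ (e + 1)) := by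
  rw [xb_mul hφ, CharTwo.add_self_eq_zero, CharTwo.add_self_eq_zero, zero_add, pow_succ]

theorem xa_eq_one {t : K} (he : e ≠ 0) (h : xa e t = 1) : t = 0 := by
  have h1 := XX_col27 (K := K) (t ^ e) t
  have h2 : (X 33 (t ^ e) * X 24 t : GL chevF4.Idx K) = 1 := h
  rw [h2, Units.val_one, Matrix.one_mulVec] at h1
  have h3 := congrFun h1 (Cfsg.Agent.ChevalleyStructure.TwF4.Fix.ofPos 38)
  simp [ev'_apply] at h3
  exact (pow_eq_zero_iff he).1 h3.symm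

theorem xb_eq_one (he : e ≠ 0) {w : K} (h : xb e 0 w = 1) : w = 0 := by
  unfold xb at h
  rw [← NF_one] at h
  have h1 := NF_coord (congrArg (fun g : GL chevF4.Idx K =>
    Cfsg.Agent.ChevalleyStructure.TwF4.Fix.Amat (g : Matrix chevF4.Idx chevF4.Idx K)) h)
  have h2 := h1.2.2.2
  exact (pow_eq_zero_iff (by omega)).1 h2

/-! ### the torus action -/

theorem units_pow (hφ : Rln φ e) (x : Kˣ) : x ^ (2 * e * e) = x := by
  apply Units.ext
  rw [Units.val_pow_eq_pow_val, mul_comm, pow_mul]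
  exact pow_2e hφ _

theorem T_conj_xa (s t : Kˣ) (x : K) :
    T (tc e s t) * xa e x * (T (tc e s t))⁻¹ = xa e ((chi (tc e s t) 24 : K) * x) := by
  have h : T (tc e s t) * xa e x * (T (tc e s t))⁻¹ = (T (tc e s t) * X 33 (x ^ e) * (T (tc e s t))⁻¹) *
      (T (tc e s t) * X 24 x * (T (tc e s t))⁻¹) := by
    unfold xa; group
  rw [h, T_conj_X _ (by norm_num), T_conj_X _ (by norm_num), chi_tc_33, xa, mul_pow, Units.val_pow_eq_pow_val]

theorem T_conj_xb (hφ : Rln φ e) (s t : Kˣ) (x y : K) : T (tc e s t) * xb e x y * (T (tc e s t))⁻¹ =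
    xb e ((chi (tc e s t) 25 : K) * x) ((chi (tc e s t) 25 : K) ^ (e + 1) * y) := by
  have he := units_pow (K := K) hφ
  have h27 := chi_tc_27 he s t
  have h28 : chi (tc e s t) 28 = (chi (tc e s t) 25) ^ (e + 1) := by rw [chi28, h27, pow_succ]
  have h30 : chi (tc e s t) 30 = (chi (tc e s t) 25) ^ (2 * e + 1) := by
    rw [chi30, h27, h28, ← pow_add]
    congr 1
    ring
  have key : ∀ b : Kˣ, ∀ u : K, ((b : K) ^ (e + 1) * u) ^ (2 * e) = (b : K) ^ (2 * e + 1) * u ^ (2 * e) := by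
    intro b u
    rw [mul_pow, ← pow_mul]
    congr 1
    calc (b : K) ^ ((e + 1) * (2 * e)) = (b : K) ^ (2 * e * e) * (b : K) ^ (2 * e) := by rw [← pow_add]; congr 1; ring
      _ = (b : K) ^ (2 * e + 1) := by rw [pow_all hφ.pos.ne' he, pow_succ, mul_comm]
  have h : T (tc e s t) * xb e x y * (T (tc e s t))⁻¹ = (T (tc e s t) * X 27 (x ^ e) * (T (tc e s t))⁻¹) *
      (T (tc e s t) * X 25 x * (T (tc e s t))⁻¹) *
      (T (tc e s t) * X 28 (x ^ (e + 1) + y) * (T (tc e s t))⁻¹) *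
      (T (tc e s t) * X 30 (y ^ (2 * e)) * (T (tc e s t))⁻¹) := by
    unfold xb NF; group
  rw [h, T_conj_X _ (by norm_num), T_conj_X _ (by norm_num), T_conj_X _ (by norm_num), T_conj_X _ (by norm_num),
    h27, h28, h30, xb, NF, key]
  simp only [Units.val_pow_eq_pow_val, mul_pow, mul_add]

end Ambient

/-! ### the twisted group -/

section TwistedGroup

variable {K : Type*} [Field K] [Fintype K] [CharP K 2] {φ : K →+* K} {e : ℕ}

/-- the unipotent subgroup of the twisted group -/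
def U0 (K : Type*) [Field K] [CharP K 2] (e : ℕ) : Subgroup ↥(twistedF4 K e) := (GA K posB).subgroupOf (twistedF4 K e)

/-- the unipotent radical of the first minimal parabolic subgroup -/
def V1 (K : Type*) [Field K] [CharP K 2] (e : ℕ) : Subgroup ↥(twistedF4 K e) := (GA K (geB 2)).subgroupOf (twistedF4 K e)

/-- the unipotent radical of the second minimal parabolic subgroup -/
def V8 (K : Type*) [Field K] [CharP K 2] (e : ℕ) : Subgroup ↥(twistedF4 K e) := (GA K (leB 7)).subgroupOf (twistedF4 K e)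

/-- the Borel subgroup of the twisted group -/
def B0 (K : Type*) [Field K] (e : ℕ) : Subgroup ↥(twistedF4 K e) := (chevF4.borelSubgroup K).subgroupOf (twistedF4 K e)

theorem xa_U (t : K) : xa e t ∈ GA K posB := pos_le_pos (cls_pos (by norm_num)) (xa_pos e t)
theorem xb_U (t u : K) : xb e t u ∈ GA K posB := pos_le_pos (cls_pos (by norm_num)) (xb_pos e t u)

theorem borel_norm (A : ℕ → Bool) (hA : ∀ u ∈ GA K posB, ∀ v ∈ GA K A, u * v * u⁻¹ ∈ GA K A)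
    {b v : GL chevF4.Idx K} (hb : b ∈ chevF4.borelSubgroup K) (hv : v ∈ GA K A) : b * v * b⁻¹ ∈ GA K A := by
  obtain ⟨u, hu, h, hh, rfl⟩ := (mem_borel_iff hHX b).1 hb
  have h1 := H_norm_GA hHX A h hh v hv
  have h2 : u * h * v * (u * h)⁻¹ = u * (h * v * h⁻¹) * u⁻¹ := by group
  rw [h2]
  exact hA u hu _ h1

theorem xa_ge2 (he : e ≠ 0) {t : K} (h : xa e t ∈ GA K (geB 2)) : t = 0 := by
  by_contra hne
  have h1 : xa e t ≠ 1 := fun h1 => hne (xa_eq_one he h1)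
  exact conj_not_mem h1 (neg_le_neg' (cls_neg (by norm_num)) (n1_1_9 _ (xa_pos e t))) (U_le_borel (n1_ge2 _ h))

theorem xb_le7 (he : e ≠ 0) {w : K} (h : xb e 0 w ∈ GA K (leB 7)) : w = 0 := by
  by_contra hne
  have h1 : xb e 0 w ≠ 1 := fun h1 => hne (xb_eq_one he h1)
  exact conj_not_mem h1 (neg_le_neg' (cls_neg (by norm_num)) (n2_8_16 _ (xb_pos e 0 w))) (U_le_borel (n2_le7 _ h))

theorem decomp_a (hφ : Rln φ e) {u : GL chevF4.Idx K} (hu : u ∈ GA K posB) (hG : u ∈ twistedF4 K e) :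
    ∃ v ∈ GA K (geB 2), ∃ t : K, u = v * xa e t := by
  obtain ⟨v, hv, x, hx, hxG, rfl⟩ := decomp1 hφ u hu hG
  obtain ⟨t, rfl⟩ := cls1_Fix hφ x hx (twisted_le_Fix hφ hxG)
  exact ⟨v, hv, t, rfl⟩

theorem decomp_b (hφ : Rln φ e) {u : GL chevF4.Idx K} (hu : u ∈ GA K posB) (hG : u ∈ twistedF4 K e) :
    ∃ v ∈ GA K (leB 7), ∃ t w : K, u = v * xb e t w := by
  obtain ⟨v, hv, x, hx, hxG, rfl⟩ := decomp2 hφ u hu hG
  obtain ⟨t, w, rfl⟩ := cls8_Fix hφ x hx (twisted_le_Fix hφ hxG)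
  exact ⟨v, hv, t, w, rfl⟩

theorem stab_a (hφ : Rln φ e) {u : GL chevF4.Idx K} (hu : u ∈ GA K posB) (hG : u ∈ twistedF4 K e)
    (h : (n1 K)⁻¹ * u * n1 K ∈ chevF4.borelSubgroup K) : u ∈ GA K (geB 2) := by
  obtain ⟨v, hv, x, hx, hxG, rfl⟩ := decomp1 hφ u hu hG
  have h1 : n1 K * x * (n1 K)⁻¹ ∈ chevF4.borelSubgroup K := by
    rw [n1_inv] at h
    have h2 := U_le_borel (n1_ge2 v hv)
    have h3 := mul_mem (inv_mem h2) h
    rw [n1_inv] at h3 ⊢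
    have h4 : (n1 K * v * n1 K)⁻¹ * (n1 K * (v * x) * n1 K) = (n1 K)⁻¹ * x * n1 K := by group
    rw [h4, n1_inv] at h3
    exact h3
  have h2 : x = 1 := by
    by_contra hne
    exact conj_not_mem hne (neg_le_neg' (cls_neg (by norm_num)) (n1_1_9 _ hx)) h1
  rw [h2, mul_one]
  exact hv

theorem stab_b (hφ : Rln φ e) {u : GL chevF4.Idx K} (hu : u ∈ GA K posB) (hG : u ∈ twistedF4 K e)
    (h : (n2 K)⁻¹ * u * n2 K ∈ chevF4.borelSubgroup K) : u ∈ GA K (leB 7) := by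
  obtain ⟨v, hv, x, hx, hxG, rfl⟩ := decomp2 hφ u hu hG
  have h1 : n2 K * x * (n2 K)⁻¹ ∈ chevF4.borelSubgroup K := by
    rw [n2_inv] at h
    have h2 := U_le_borel (n2_le7 v hv)
    have h3 := mul_mem (inv_mem h2) h
    rw [n2_inv] at h3 ⊢
    have h4 : (n2 K * v * n2 K)⁻¹ * (n2 K * (v * x) * n2 K) = (n2 K)⁻¹ * x * n2 K := by group
    rw [h4, n2_inv] at h3
    exact h3
  have h2 : x = 1 := by
    by_contra hne
    exact conj_not_mem hne (neg_le_neg' (cls_neg (by norm_num)) (n2_8_16 _ hx)) h1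
  rw [h2, mul_one]
  exact hv

theorem node1 (hφ : Rln φ e) {P : Cfsg.BNPair ↥(twistedF4 K e)} (hB : P.B = B0 K e) :
    Node P (U0 K e) ⟨n1 K, n1_mem⟩ (V1 K e) where
  le := fun v hv => pos_le_pos (ge_pos 2) hv
  ne := ⟨⟨xa e 1, xa_mem 1⟩, xa_U 1, fun h => one_ne_zero (xa_ge2 hφ.pos.ne' h)⟩
  conj_B := fun b hb v hv => by
    rw [hB] at hb
    exact borel_norm (geB 2) (fun _ h1 _ h2 => norm_ge2 h1 h2) hb hv
  conj_s := fun v hv => by
    show (n1 K)⁻¹ * (v : GL chevF4.Idx K) * n1 K ∈ GA K (geB 2)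
    have h := n1_ge2' _ hv
    rw [n1_inv] at h ⊢
    exact h
  stab := fun u hu h => by
    rw [hB] at h
    exact stab_a hφ hu u.2 h

theorem node2 (hφ : Rln φ e) {P : Cfsg.BNPair ↥(twistedF4 K e)} (hB : P.B = B0 K e) :
    Node P (U0 K e) ⟨n2 K, n2_mem hφ.pos⟩ (V8 K e) where
  le := fun v hv => pos_le_pos (le_pos 7) hv
  ne := ⟨⟨xb e 0 1, xb_mem 0 1⟩, xb_U 0 1, fun h => one_ne_zero (xb_le7 hφ.pos.ne' h)⟩
  conj_B := fun b hb v hv => by
    rw [hB] at hb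
    exact borel_norm (leB 7) (fun _ h1 _ h2 => norm_le7 h1 h2) hb hv
  conj_s := fun v hv => by
    show (n2 K)⁻¹ * (v : GL chevF4.Idx K) * n2 K ∈ GA K (leB 7)
    have h := n2_le7' _ hv
    rw [n2_inv] at h ⊢
    exact h
  stab := fun u hu h => by
    rw [hB] at h
    exact stab_b hφ hu u.2 h

/-! ### the local steps -/

/-- a torus element with given scalar on the root group of type `A₁ × A₁` -/
theorem exists_T_a (c : Kˣ) (x : K) : T (tc e c⁻¹ 1) * xa e x * (T (tc e c⁻¹ 1))⁻¹ = xa e ((c : K) * x) := by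
  rw [T_conj_xa, chi_tc_24]
  simp

/-- the exponent `e + 1` is invertible -/
theorem exists_root (hφ : Rln φ e) (c : Kˣ) : ((c ^ (2 * e))⁻¹ * c ^ 2) ^ (e + 1) = c := by
  have h := units_pow (K := K) hφ c
  rw [mul_pow, inv_pow, ← pow_mul, ← pow_mul, show 2 * e * (e + 1) = 2 * e * e + 2 * e by ring, pow_add, h,
    show 2 * (e + 1) = 2 * e + 2 by ring, pow_add, pow_two]
  group

theorem exists_T_b (hφ : Rln φ e) (c : Kˣ) (x y : K) :
    T (tc e 1 c⁻¹) * xb e x y * (T (tc e 1 c⁻¹))⁻¹ = xb e ((c : K) * x) ((c : K) ^ (e + 1) * y) := by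
  rw [T_conj_xb hφ, chi_tc_25]
  simp

/-- conjugation by elements of the Borel subgroup on the class of type `A₁ × A₁` -/
theorem conj_xa {b : GL chevF4.Idx K} {s t : Kˣ} {u : GL chevF4.Idx K} (hφ : Rln φ e) (hu : u ∈ GA K posB)
    (hG : u ∈ twistedF4 K e) (hb : b = u * T (tc e s t)) (x : K) :
    (xa e ((chi (tc e s t) 24 : K) * x))⁻¹ * (b * xa e x * b⁻¹) ∈ GA K (geB 2) := by
  have h1 : b * xa e x * b⁻¹ = u * xa e ((chi (tc e s t) 24 : K) * x) * u⁻¹ := by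
    rw [hb, ← T_conj_xa]; group
  rw [h1]
  obtain ⟨v, hv, z, rfl⟩ := decomp_a hφ hu hG
  set y := (chi (tc e s t) 24 : K) * x
  have h2 : xa e z * xa e y * (xa e z)⁻¹ = xa e y := by
    rw [← xa_add hφ, add_comm, xa_add hφ, mul_inv_cancel_right]
  have h3 : (xa e y)⁻¹ * (v * xa e z * xa e y * (v * xa e z)⁻¹) =
      ((xa e y)⁻¹ * v * (xa e y)⁻¹⁻¹) * v⁻¹ := by
    have h4 : v * xa e z * xa e y * (v * xa e z)⁻¹ = v * (xa e z * xa e y * (xa e z)⁻¹) * v⁻¹ := by group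
    rw [h4, h2]; group
  rw [h3]
  exact mul_mem (norm_ge2 (inv_mem (xa_U y)) hv) (inv_mem hv)

/-- the subgroup of the elements of `U` whose square lies in the second radical -/
def W8 (K : Type*) [Field K] [Finite K] [CharP K 2] (e : ℕ) (hφ : ∃ φ : K →+* K, Rln φ e) : Subgroup ↥(twistedF4 K e) where
  carrier := {u | ∃ w : K, (xb e 0 w)⁻¹ * (u : GL chevF4.Idx K) ∈ GA K (leB 7)}
  one_mem' := ⟨0, by
    obtain ⟨φ, hφ⟩ := hφ
    rw [xb_zero hφ, inv_one, one_mul]; exact one_mem _⟩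
  mul_mem' := by
    rintro a b ⟨w, hw⟩ ⟨z, hz⟩
    obtain ⟨φ, hφ⟩ := hφ
    refine ⟨w + z, ?_⟩
    have h1 : (xb e 0 (w + z))⁻¹ * ((a * b : ↥(twistedF4 K e)) : GL chevF4.Idx K) =
        ((xb e 0 z)⁻¹ * ((xb e 0 w)⁻¹ * (a : GL chevF4.Idx K)) * (xb e 0 z)⁻¹⁻¹) *
          ((xb e 0 z)⁻¹ * (b : GL chevF4.Idx K)) := by
      rw [xb_zero_add hφ, Subgroup.coe_mul]; group
    rw [h1]
    exact mul_mem (norm_le7 (inv_mem (pos_le_pos (cls_pos (by norm_num)) (xb_pos e 0 z))) hw) hz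
  inv_mem' := by
    rintro a ⟨w, hw⟩
    obtain ⟨φ, hφ⟩ := hφ
    refine ⟨w, ?_⟩
    have h0 : (xb e 0 w)⁻¹ = xb e 0 w := by
      rw [inv_eq_iff_mul_eq_one, xb_sq hφ, zero_pow (by omega), xb_zero hφ]
    have h1 : (xb e 0 w)⁻¹ * ((a⁻¹ : ↥(twistedF4 K e)) : GL chevF4.Idx K) =
        xb e 0 w * ((xb e 0 w)⁻¹ * (a : GL chevF4.Idx K))⁻¹ * (xb e 0 w)⁻¹ := by
      rw [Subgroup.coe_inv, mul_inv_rev, inv_inv, h0]
      have h2 : xb e 0 w * xb e 0 w = 1 := by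
        rw [xb_sq hφ, zero_pow (by omega), xb_zero hφ]
      calc xb e 0 w * (a : GL chevF4.Idx K)⁻¹ = xb e 0 w * (a : GL chevF4.Idx K)⁻¹ * 1 := by group
        _ = xb e 0 w * (a : GL chevF4.Idx K)⁻¹ * (xb e 0 w * xb e 0 w) := by rw [h2]
        _ = _ := by group
    rw [h1]
    exact norm_le7 (pos_le_pos (cls_pos (by norm_num)) (xb_pos e 0 w)) (inv_mem hw)

theorem mem_W8 {hφ : ∃ φ : K →+* K, Rln φ e} {u : ↥(twistedF4 K e)} :
    u ∈ W8 K e hφ ↔ ∃ w : K, (xb e 0 w)⁻¹ * (u : GL chevF4.Idx K) ∈ GA K (leB 7) := Iff.rfl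

theorem W8_le {hφ : ∃ φ : K →+* K, Rln φ e} : W8 K e hφ ≤ U0 K e := by
  rintro u ⟨w, hw⟩
  have h1 : (u : GL chevF4.Idx K) = xb e 0 w * ((xb e 0 w)⁻¹ * (u : GL chevF4.Idx K)) := by group
  show (u : GL chevF4.Idx K) ∈ GA K posB
  rw [h1]
  exact mul_mem (pos_le_pos (cls_pos (by norm_num)) (xb_pos e 0 w)) (pos_le_pos (le_pos 7) hw)

theorem V8_le_W8 {hφ : ∃ φ : K →+* K, Rln φ e} : V8 K e ≤ W8 K e hφ := by
  intro u hu
  obtain ⟨φ, hφ⟩ := hφ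
  refine ⟨0, ?_⟩
  rw [xb_zero hφ, inv_one, one_mul]
  exact hu

theorem mem_W8_iff (hφ : Rln φ e) {u : ↥(twistedF4 K e)} (hu : u ∈ U0 K e) :
    u ∈ W8 K e ⟨φ, hφ⟩ ↔ u * u ∈ V8 K e := by
  constructor
  · rintro ⟨w, hw⟩
    have hxx : xb e 0 w * xb e 0 w = 1 := by
      rw [xb_sq hφ, zero_pow (by omega), xb_zero hφ]
    have h1 : ((u * u : ↥(twistedF4 K e)) : GL chevF4.Idx K) =
        (xb e 0 w * ((xb e 0 w)⁻¹ * (u : GL chevF4.Idx K)) * (xb e 0 w)⁻¹) * (xb e 0 w * xb e 0 w) *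
          ((xb e 0 w)⁻¹ * (u : GL chevF4.Idx K)) := by
      rw [Subgroup.coe_mul]; group
    show ((u * u : ↥(twistedF4 K e)) : GL chevF4.Idx K) ∈ GA K (leB 7)
    rw [h1, hxx, mul_one]
    exact mul_mem (norm_le7 (xb_U 0 w) hw) hw
  · intro h
    obtain ⟨v, hv, t, z, huv⟩ := decomp_b (u := (u : GL chevF4.Idx K)) hφ hu u.2
    have h1 : ((u * u : ↥(twistedF4 K e)) : GL chevF4.Idx K) =
        (v * (xb e t z * v * (xb e t z)⁻¹)) * xb e 0 (t ^ (e + 1)) := by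
      rw [Subgroup.coe_mul, huv, ← xb_sq hφ t z]; group
    have h2 : xb e 0 (t ^ (e + 1)) ∈ GA K (leB 7) := by
      have h3 : xb e 0 (t ^ (e + 1)) = (v * (xb e t z * v * (xb e t z)⁻¹))⁻¹ *
          ((u * u : ↥(twistedF4 K e)) : GL chevF4.Idx K) := by
        rw [h1]; group
      rw [h3]
      exact mul_mem (inv_mem (mul_mem hv (norm_le7 (xb_U t z) hv))) h
    have h3 := xb_le7 hφ.pos.ne' h2
    have h4 : t = 0 := (pow_eq_zero_iff (by omega)).1 h3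
    refine ⟨z, ?_⟩
    rw [huv, h4]
    have h5 : (xb e 0 z)⁻¹ * (v * xb e 0 z) = (xb e 0 z)⁻¹ * v * (xb e 0 z)⁻¹⁻¹ := by group
    rw [h5]
    exact norm_le7 (inv_mem (xb_U 0 z)) hv

theorem sq_mem_W8 (hφ : Rln φ e) {u : ↥(twistedF4 K e)} (hu : u ∈ U0 K e) : u * u ∈ W8 K e ⟨φ, hφ⟩ := by
  obtain ⟨v, hv, t, z, huv⟩ := decomp_b (u := (u : GL chevF4.Idx K)) hφ hu u.2
  refine ⟨t ^ (e + 1), ?_⟩
  have h1 : (xb e 0 (t ^ (e + 1)))⁻¹ * ((u * u : ↥(twistedF4 K e)) : GL chevF4.Idx K) =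
      (xb e 0 (t ^ (e + 1)))⁻¹ * (v * (xb e t z * v * (xb e t z)⁻¹)) * (xb e 0 (t ^ (e + 1)))⁻¹⁻¹ := by
    rw [Subgroup.coe_mul, huv, ← xb_sq hφ t z]; group
  rw [h1]
  exact norm_le7 (inv_mem (xb_U _ _)) (mul_mem hv (norm_le7 (xb_U t z) hv))

theorem sqs_le_W8 (hφ : Rln φ e) : TwoGen.sqs (U0 K e) ≤ W8 K e ⟨φ, hφ⟩ := by
  refine (Subgroup.closure_le _).2 ?_
  rintro _ ⟨t, ht, rfl⟩
  exact sq_mem_W8 hφ ht

theorem inv_W8 (hφ : Rln φ e) {D : Subgroup (MulAut ↥(twistedF4 K e))} (hU : Inv D (U0 K e)) (hV : Inv D (V8 K e)) :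
    Inv D (W8 K e ⟨φ, hφ⟩) := by
  refine inv_iff.2 fun ψ hψ a ha => ?_
  have h1 := (mem_W8_iff hφ (W8_le ha)).1 ha
  rw [mem_W8_iff hφ (hU.apply_mem hψ (W8_le ha)), ← map_mul]
  exact hV.apply_mem hψ h1

theorem conj_U0 {b : ↥(twistedF4 K e)} (hb : b ∈ B0 K e) {u : ↥(twistedF4 K e)} (hu : u ∈ U0 K e) :
    b * u * b⁻¹ ∈ U0 K e :=
  borel_norm posB (fun _ h1 _ h2 => mul_mem (mul_mem h1 h2) (inv_mem h1)) hb hu

theorem conj_V1 {b : ↥(twistedF4 K e)} (hb : b ∈ B0 K e) {u : ↥(twistedF4 K e)} (hu : u ∈ V1 K e) :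
    b * u * b⁻¹ ∈ V1 K e :=
  borel_norm (geB 2) (fun _ h1 _ h2 => norm_ge2 h1 h2) hb hu

theorem conj_V8 {b : ↥(twistedF4 K e)} (hb : b ∈ B0 K e) {u : ↥(twistedF4 K e)} (hu : u ∈ V8 K e) :
    b * u * b⁻¹ ∈ V8 K e :=
  borel_norm (leB 7) (fun _ h1 _ h2 => norm_le7 h1 h2) hb hu

theorem U0_le_B0 : U0 K e ≤ B0 K e := fun _ hu => U_le_borel hu

theorem conj_W8 (hφ : Rln φ e) {b : ↥(twistedF4 K e)} (hb : b ∈ B0 K e) {u : ↥(twistedF4 K e)}
    (hu : u ∈ W8 K e ⟨φ, hφ⟩) : b * u * b⁻¹ ∈ W8 K e ⟨φ, hφ⟩ := by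
  rw [mem_W8_iff hφ (conj_U0 hb (W8_le hu))]
  have h1 : b * u * b⁻¹ * (b * u * b⁻¹) = b * (u * u) * b⁻¹ := by group
  rw [h1]
  exact conj_V8 hb ((mem_W8_iff hφ (W8_le hu)).1 hu)

/-- decomposition of the Borel subgroup -/
def Dec (K : Type*) [Field K] [CharP K 2] (e : ℕ) : Prop :=
  (∀ b ∈ B0 K e, ∃ s t : Kˣ, ∃ u ∈ U0 K e, (b : GL chevF4.Idx K) = u * T (tc e s t)) ∧
    ∀ s t : Kˣ, T (tc e s t) ∈ twistedF4 K e

theorem T_mem_borel (c : Fin 4 → Kˣ) : T c ∈ chevF4.borelSubgroup K := by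
  apply H_le_borel
  rw [Cfsg.Agent.ChevalleyStructure.TwF4.Torus.diagonal_eq_range]
  exact ⟨c, rfl⟩

theorem tr_one (hφ : Rln φ e) (hdec : Dec K e) {D : Subgroup (MulAut ↥(twistedF4 K e))} (hD : ⁅D, D⁆ = D)
    (hB : Inv D (B0 K e)) (hU : Inv D (U0 K e)) (hV : Inv D (V1 K e)) : TrMod D (U0 K e) (V1 K e) := by
  refine trMod_of_field_sq hD hB hU hV (fun v hv => pos_le_pos (ge_pos 2) hv)
    (fun u hu v hv => conj_V1 (U0_le_B0 hu) hv) (fun b hb v hv => conj_V1 hb hv) (F := K)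
    (fun t => ⟨xa e t, xa_mem t⟩) (fun t => xa_U t) ?_ ?_ ?_ ?_ ?_
  · intro s t
    show (xa e (s + t))⁻¹ * (xa e s * xa e t) ∈ GA K (geB 2)
    rw [xa_add hφ, inv_mul_cancel]
    exact one_mem _
  · intro t ht
    exact xa_ge2 hφ.pos.ne' ht
  · intro u hu
    obtain ⟨v, hv, t, h⟩ := decomp_a (u := (u : GL chevF4.Idx K)) hφ hu u.2
    refine ⟨t, ?_⟩
    show (xa e t)⁻¹ * (u : GL chevF4.Idx K) ∈ GA K (geB 2)
    rw [h]
    have h5 : (xa e t)⁻¹ * (v * xa e t) = (xa e t)⁻¹ * v * (xa e t)⁻¹⁻¹ := by group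
    rw [h5]
    exact norm_ge2 (inv_mem (xa_U t)) hv
  · intro b hb
    obtain ⟨s, t, u, hu, hbu⟩ := hdec.1 b hb
    exact ⟨(chi (tc e s t) 24 : K), fun x => conj_xa hφ hu u.2 hbu x⟩
  · intro c hc
    refine ⟨⟨T (tc e ((Units.mk0 c hc) ^ 2)⁻¹ 1), hdec.2 _ _⟩, T_mem_borel _, ?_⟩
    show (xa e (c ^ 2))⁻¹ * (T (tc e ((Units.mk0 c hc) ^ 2)⁻¹ 1) * xa e 1 * (T (tc e ((Units.mk0 c hc) ^ 2)⁻¹ 1))⁻¹) ∈
      GA K (geB 2)
    rw [exists_T_a, Units.val_pow_eq_pow_val, Units.val_mk0, mul_one, inv_mul_cancel]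
    exact one_mem _

theorem tr_top (hφ : Rln φ e) (hdec : Dec K e) {D : Subgroup (MulAut ↥(twistedF4 K e))} (hD : ⁅D, D⁆ = D)
    (hB : Inv D (B0 K e)) (hU : Inv D (U0 K e)) (hV : Inv D (V8 K e)) :
    TrMod D (U0 K e) (W8 K e ⟨φ, hφ⟩) := by
  refine trMod_of_field_sq hD hB hU (inv_W8 hφ hU hV) W8_le
    (fun u hu v hv => conj_W8 hφ (U0_le_B0 hu) hv) (fun b hb v hv => conj_W8 hφ hb hv) (F := K)
    (fun t => ⟨xb e t 0, xb_mem t 0⟩) (fun t => xb_U t 0) ?_ ?_ ?_ ?_ ?_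
  · intro s t
    refine ⟨s ^ e * t, ?_⟩
    show (xb e 0 (s ^ e * t))⁻¹ * ((xb e (s + t) 0)⁻¹ * (xb e s 0 * xb e t 0)) ∈ GA K (leB 7)
    rw [xb_mul hφ, add_zero, zero_add, xb_split hφ (s + t) (s ^ e * t)]
    have : (xb e 0 (s ^ e * t))⁻¹ * ((xb e (s + t) 0)⁻¹ * (xb e (s + t) 0 * xb e 0 (s ^ e * t))) = 1 := by group
    rw [this]
    exact one_mem _
  · intro t ht
    rw [mem_W8_iff hφ (xb_U t 0)] at ht
    have h1 : xb e t 0 * xb e t 0 ∈ GA K (leB 7) := ht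
    rw [xb_sq hφ] at h1
    exact (pow_eq_zero_iff (by omega)).1 (xb_le7 hφ.pos.ne' h1)
  · intro u hu
    obtain ⟨v, hv, t, z, h⟩ := decomp_b (u := (u : GL chevF4.Idx K)) hφ hu u.2
    refine ⟨t, z, ?_⟩
    show (xb e 0 z)⁻¹ * ((xb e t 0)⁻¹ * (u : GL chevF4.Idx K)) ∈ GA K (leB 7)
    rw [h]
    have h5 : (xb e 0 z)⁻¹ * ((xb e t 0)⁻¹ * (v * xb e t z)) = (xb e t z)⁻¹ * v * (xb e t z)⁻¹⁻¹ := by
      rw [xb_split hφ t z]; group
    rw [h5]
    exact norm_le7 (inv_mem (xb_U t z)) hv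
  · intro b hb
    obtain ⟨s, t, u, hu, hbu⟩ := hdec.1 b hb
    refine ⟨(chi (tc e s t) 25 : K), fun x => ?_⟩
    set c := (chi (tc e s t) 25 : K) with hc
    set y : ↥(twistedF4 K e) := ⟨xb e (c * x) 0, xb_mem (c * x) 0⟩ with hy
    have hyU : y ∈ U0 K e := xb_U (c * x) 0
    have h1 : y⁻¹ * (b * ⟨xb e x 0, xb_mem x 0⟩ * b⁻¹) = y⁻¹ * u * y⁻¹⁻¹ * u⁻¹ := by
      apply Subtype.ext
      show (xb e (c * x) 0)⁻¹ * ((b : GL chevF4.Idx K) * xb e x 0 * (b : GL chevF4.Idx K)⁻¹) =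
        (xb e (c * x) 0)⁻¹ * (u : GL chevF4.Idx K) * (xb e (c * x) 0)⁻¹⁻¹ * (u : GL chevF4.Idx K)⁻¹
      have h2 := T_conj_xb hφ s t x 0
      rw [← hc, mul_zero] at h2
      rw [hbu, ← h2]; group
    rw [h1]
    exact sqs_le_W8 hφ (TwoGen.comm_mem (inv_mem hyU) hu)
  · intro c hc
    refine ⟨⟨T (tc e 1 ((Units.mk0 c hc) ^ 2)⁻¹), hdec.2 _ _⟩, T_mem_borel _, ?_⟩
    have h1 : (xb e (c ^ 2) 0)⁻¹ * (T (tc e 1 ((Units.mk0 c hc) ^ 2)⁻¹) * xb e 1 0 *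
        (T (tc e 1 ((Units.mk0 c hc) ^ 2)⁻¹))⁻¹) = 1 := by
      rw [exists_T_b hφ, Units.val_pow_eq_pow_val, Units.val_mk0, mul_one, mul_zero, inv_mul_cancel]
    refine ⟨0, ?_⟩
    show (xb e 0 0)⁻¹ * ((xb e (c ^ 2) 0)⁻¹ * (T (tc e 1 ((Units.mk0 c hc) ^ 2)⁻¹) * xb e 1 0 *
        (T (tc e 1 ((Units.mk0 c hc) ^ 2)⁻¹))⁻¹)) ∈ GA K (leB 7)
    rw [h1, mul_one, xb_zero hφ, inv_one]
    exact one_mem _

theorem tr_bot (hφ : Rln φ e) (hdec : Dec K e) {D : Subgroup (MulAut ↥(twistedF4 K e))} (hD : ⁅D, D⁆ = D)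
    (hB : Inv D (B0 K e)) (hU : Inv D (U0 K e)) (hV : Inv D (V8 K e)) :
    TrMod D (W8 K e ⟨φ, hφ⟩) (V8 K e) := by
  refine trMod_of_field_sq hD hB (inv_W8 hφ hU hV) hV V8_le_W8
    (fun u hu v hv => conj_V8 (U0_le_B0 (W8_le hu)) hv) (fun b hb v hv => conj_V8 hb hv) (F := K)
    (fun w => ⟨xb e 0 w, xb_mem 0 w⟩) (fun w => ⟨w, ?_⟩) ?_ ?_ ?_ ?_ ?_
  · show (xb e 0 w)⁻¹ * xb e 0 w ∈ GA K (leB 7)
    rw [inv_mul_cancel]
    exact one_mem _
  · intro s t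
    show (xb e 0 (s + t))⁻¹ * (xb e 0 s * xb e 0 t) ∈ GA K (leB 7)
    rw [xb_zero_add hφ, inv_mul_cancel]
    exact one_mem _
  · intro w hw
    exact xb_le7 hφ.pos.ne' hw
  · rintro u ⟨w, hw⟩
    exact ⟨w, hw⟩
  · intro b hb
    obtain ⟨s, t, u, hu, hbu⟩ := hdec.1 b hb
    refine ⟨(chi (tc e s t) 25 : K) ^ (e + 1), fun x => ?_⟩
    obtain ⟨v, hv, r, z, h⟩ := decomp_b (u := (u : GL chevF4.Idx K)) hφ hu u.2
    set y := (chi (tc e s t) 25 : K) ^ (e + 1) * x with hy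
    show (xb e 0 y)⁻¹ * ((b : GL chevF4.Idx K) * xb e 0 x * (b : GL chevF4.Idx K)⁻¹) ∈ GA K (leB 7)
    have h2 := T_conj_xb hφ s t 0 x
    rw [mul_zero, ← hy] at h2
    have h3 : (b : GL chevF4.Idx K) * xb e 0 x * (b : GL chevF4.Idx K)⁻¹ =
        v * (xb e r z * xb e 0 y * (xb e r z)⁻¹) * v⁻¹ := by
      rw [hbu, h, ← h2]; group
    have h4 : xb e r z * xb e 0 y * (xb e r z)⁻¹ = xb e 0 y := by
      rw [xb_comm hφ, mul_inv_cancel_right]
    rw [h3, h4]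
    have h5 : (xb e 0 y)⁻¹ * (v * xb e 0 y * v⁻¹) = ((xb e 0 y)⁻¹ * v * (xb e 0 y)⁻¹⁻¹) * v⁻¹ := by group
    rw [h5]
    exact mul_mem (norm_le7 (inv_mem (xb_U 0 y)) hv) (inv_mem hv)
  · intro c hc
    set r : Kˣ := (((Units.mk0 c hc) ^ 2) ^ (2 * e))⁻¹ * ((Units.mk0 c hc) ^ 2) ^ 2 with hr
    have hr1 : r ^ (e + 1) = (Units.mk0 c hc) ^ 2 := exists_root hφ _
    refine ⟨⟨T (tc e 1 r⁻¹), hdec.2 _ _⟩, T_mem_borel _, ?_⟩
    show (xb e 0 (c ^ 2))⁻¹ * (T (tc e 1 r⁻¹) * xb e 0 1 * (T (tc e 1 r⁻¹))⁻¹) ∈ GA K (leB 7)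
    have h1 := congrArg (fun x : Kˣ => (x : K)) hr1
    simp only [Units.val_pow_eq_pow_val, Units.val_mk0] at h1
    rw [exists_T_b hφ, h1, mul_one, mul_zero, inv_mul_cancel]
    exact one_mem _

end TwistedGroup

/-! ### the theorem -/

section Final

variable {K : Type*} [Field K] [Fintype K] {m : ℕ}

theorem dec (hK : Fintype.card K = 2 ^ (2 * m + 1)) [CharP K 2] {φ : K →+* K} (hφ : Rln φ (2 ^ m)) :
    Dec K (2 ^ m) := by
  constructor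
  · intro b hb
    obtain ⟨u, hu, huG, h, hh, hhG, he⟩ := ((twistedData hφ).mem_B_iff (b : GL chevF4.Idx K) b.2).1 hb
    have hu' : u ∈ chevF4.posUnipotent K := hu
    rw [posUnipotent_eq] at hu'
    obtain ⟨s, t, hst⟩ := (mem_iff hK h).1 ⟨hh, hhG⟩
    exact ⟨s, t, ⟨u, huG⟩, hu', by rw [he, hst]⟩
  · intro s t
    exact ((mem_iff hK _).2 ⟨s, t, rfl⟩).2

theorem isPGroup_U0 (hK : Fintype.card K = 2 ^ (2 * m + 1)) [CharP K 2] : IsPGroup 2 (U0 K (2 ^ m)) := by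
  have h1 : Nat.card (U0 K (2 ^ m)) = 2 ^ ((2 * m + 1) * 12) := by
    rw [pow_mul, ← Cfsg.Agent.S1090.result hK]
    have h2 : (U0 K (2 ^ m)).map (twistedF4 K (2 ^ m)).subtype = chevF4.posUnipotent K ⊓ twistedF4 K (2 ^ m) := by
      rw [U0, Subgroup.subgroupOf_map_subtype, posUnipotent_eq]
    rw [← h2]
    exact Nat.card_congr ((U0 K (2 ^ m)).equivMapOfInjective _ (Subgroup.subtype_injective _)).toEquiv
  exact IsPGroup.of_card h1

/-- **The Schreier property of `²F₄(2 ^ (2 m + 1))`** (`m ≥ 0`). -/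
theorem sch (hK : Fintype.card K = 2 ^ (2 * m + 1)) : Sch ↥(twistedF4 K (2 ^ m)) := by
  have : CharP K 2 := charP_two hK
  have : Fact (Nat.Prime 2) := ⟨Nat.prime_two⟩
  obtain ⟨φ, hφ⟩ := exists_rln hK
  obtain ⟨P, hPB, hPN, hPS⟩ := exists_bnPair hφ
  have hB : P.B = B0 K (2 ^ m) := hPB
  have hdec := dec hK hφ
  have hUp := isPGroup_U0 hK
  have hUs : Group.IsSolvable (U0 K (2 ^ m)) := by
    have : Group.IsNilpotent (U0 K (2 ^ m)) := hUp.isNilpotent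
    infer_instance
  refine sch_of_bn' P (U0 K (2 ^ m)) hUp ?_ ?_ ?_ ?_ (2 ^ (2 * m + 1) - 1) ?_ ?_ ?_ ?_
  · rw [hPB, ← Subgroup.inf_subgroupOf_right]
    exact Cfsg.Agent.S1113.result hK
  · rw [hB]; exact U0_le_B0
  · intro b hb u hu
    rw [hB] at hb
    exact conj_U0 hb hu
  · intro b hb
    rw [hB] at hb
    obtain ⟨s, t, u, hu, hbu⟩ := hdec.1 b hb
    refine ⟨u, hu, ?_⟩
    rw [hPN, Subgroup.mem_subgroupOf, Subgroup.coe_mul, Subgroup.coe_inv, hbu, inv_mul_cancel_left]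
    exact Cfsg.Agent.ChevalleyStructure.TwF4.NStruct.T_mem_N _
  · have h1 : 2 ∣ 2 ^ (2 * m + 1) := dvd_pow_self 2 (by omega)
    have h2 : 0 < 2 ^ (2 * m + 1) := by positivity
    omega
  · intro h hh hN
    rw [hPB, Subgroup.mem_subgroupOf] at hh
    rw [hPN, Subgroup.mem_subgroupOf] at hN
    have h1 := borel_inf_N ⟨hh, hN⟩
    obtain ⟨s, t, hst⟩ := (mem_iff hK (h : GL chevF4.Idx K)).1 ⟨h1, h.2⟩
    apply Subtype.ext
    rw [Subgroup.coe_pow, hst, ← map_pow]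
    have h2 : tc (2 ^ m) s t ^ (2 ^ (2 * m + 1) - 1) = 1 := by
      have h3 : ∀ x : Kˣ, x ^ (2 ^ (2 * m + 1) - 1) = 1 := by
        intro x
        have h4 := pow_card_eq_one' (x := x)
        rwa [Nat.card_units, Nat.card_eq_fintype_card, hK] at h4
      funext l
      rw [Pi.pow_apply, h3]; rfl
    rw [h2, map_one]; rfl
  · apply perm_of_card_le_four
    rw [hPS]
    have : Nat.card (Set.range (twistedData hφ).nG) ≤ Nat.card (Fin 2) :=
      Nat.card_le_card_of_surjective (Set.rangeFactorization _) Set.rangeFactorization_surjective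
    rw [Nat.card_fin] at this
    exact this.trans (by norm_num)
  · intro s hs
    rw [hPS] at hs
    obtain ⟨i, rfl⟩ := hs
    have hi : i = 0 ∨ i = 1 := by
      revert i; decide
    rcases hi with rfl | rfl
    · refine ⟨V1 K (2 ^ m), node1 hφ hB, ?_⟩
      intro D hD hU hDB _ hV
      rw [hB] at hDB
      exact tr_one hφ hdec hD hDB hU hV
    · refine ⟨V8 K (2 ^ m), node2 hφ hB, ?_⟩
      intro D hD hU hDB _ hV
      rw [hB] at hDB
      refine TrMod.trans hD (fun a ha c hc => conj_V8 (U0_le_B0 ha) hc) W8_le ?_ (tr_top hφ hdec hD hDB hU hV)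
        (tr_bot hφ hdec hD hDB hU hV)
      exact Group.isSolvable_of_isSolvable_injective (Subgroup.inclusion_injective (W8_le (hφ := ⟨φ, hφ⟩)))

end Final

end Cfsg.Agent.Schreier.TwFFour
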