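import Cfsg.Agent.Schreier.ChevSch

/-!
# The node data of the tabulated Chevalley groups
-/

set_option autoImplicit false

namespace Cfsg.Agent.Schreier.ChevNode

open Cfsg Cfsg.Lie Cfsg.Agent.ChevalleyStructure Cfsg.Agent.ChevalleyStructure.Elts
  Cfsg.Agent.ChevalleyStructure.NConj Cfsg.Agent.ChevalleyStructure.BNChev Cfsg.Agent.S1042
  Cfsg.Agent.Schreier.BNSch Cfsg.Agent.Schreier.ChevLocal Cfsg.Agent.Schreier.ChevSch

universe u

variable {D : ChevalleyDatum} (hD : InList D) (F : Type u) [Field F]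

/-- The (B, N)-pair with its representatives indexed by the fundamental roots. -/
theorem exists_bn : ∃ P : BNPair ↥(D.group F), P.B = BB D F ∧ P.N = (D.monomialSubgroup F).subgroupOf (D.group F) ∧
    P.S = Set.range (nn hD F) := by
  obtain ⟨P, hPB, hPN, hPS⟩ := S1042.result (F := F) D hD
  refine ⟨P, hPB, hPN, ?_⟩
  rw [hPS]
  ext g
  constructor
  · rintro ⟨i, hi, hg⟩
    exact ⟨⟨i, hi⟩, Subtype.ext ((eq_nG_iff hD _ _ _).2 hg).symm⟩
  · rintro ⟨i, rfl⟩
    exact ⟨i, i.2, coe_nG hD _ _⟩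

theorem nn_injective : Function.Injective (nn hD F) := by
  intro i j hij
  apply Fin.ext
  apply eq_of_inv_mul_mem (F := F) hD i.2 j.2
  have h1 : nS hD F i = nS hD F j := congrArg (fun g : ↥(D.group F) => (g : GL D.Idx F)) hij
  rw [h1, inv_mul_cancel]
  exact one_mem _

variable {F}

/-- The node data. -/
theorem node (P : BNPair ↥(D.group F)) (hPB : P.B = BB D F) (i : Fin D.rank) :
    Node P (UU D F) (nn hD F i) (VV D F i) := by
  have hn := nn_mem_normalizer hD F i
  refine ⟨VV_le F i, ⟨xx hD i 1, xG_mem_posUnipotent hD (simple_pos hD i.2) 1, fun h =>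
    one_ne_zero (eq_zero_of_xx_mem hD i h)⟩, ?_, ?_, ?_⟩
  · intro b hb v hv
    rw [hPB] at hb
    exact (Subgroup.mem_normalizer_iff.1 (BB_le_normalizer F hD i.2 hb) v).1 hv
  · intro v hv
    have h1 := (Subgroup.mem_normalizer_iff.1 (inv_mem hn) v).1 hv
    rwa [inv_inv] at h1
  · intro u hu h
    rw [hPB] at h
    exact mem_VV_of_conj hD i hu h

/-- Every element of `U` is uniquely `v x_p(t)` modulo `V`: `U/V` is the additive group of `F`. -/
theorem xx_mem_UU (i : Fin D.rank) (t : F) : xx hD i t ∈ UU D F :=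
  xG_mem_posUnipotent hD (simple_pos hD i.2) t

end Cfsg.Agent.Schreier.ChevNode
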