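import Cfsg.Agent.Schreier.ChevLocal
import Cfsg.Agent.Schreier.BNUse
import Cfsg.Agent.Schreier.BNGraph

/-!
# The Schreier property of the Chevalley groups given by tables

`sch_of_perm`: the Schreier property of `D.group F` (`F` finite) for every tabulated datum, provided perfect groups of
automorphisms normalising `B` fix the minimal parabolic subgroups; this is automatic for rank at most four
(`sch_of_rank_le_four`), and follows from the diagram lemma in general (`sch_of_diagram`).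
-/

set_option autoImplicit false

namespace Cfsg.Agent.Schreier.ChevSch

open scoped Pointwise
open Cfsg Cfsg.Lie Cfsg.Agent.ChevalleyStructure Cfsg.Agent.ChevalleyStructure.Elts
  Cfsg.Agent.ChevalleyStructure.NConj Cfsg.Agent.ChevalleyStructure.BNChev Cfsg.Agent.S1042
  Cfsg.Agent.Schreier.Basic Cfsg.Agent.Schreier.Tools Cfsg.Agent.Schreier.BNSch Cfsg.Agent.Schreier.BNUse
  Cfsg.Agent.Schreier.ChevLocal

universe u

variable {D : ChevalleyDatum} (hD : InList D) (F : Type u) [Field F]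

/-- `B` is generated by `U` and `H`. -/
theorem exists_mul (hD : InList D) {b : ↥(D.group F)} (hb : b ∈ BB D F) :
    ∃ u ∈ UU D F, ∃ h ∈ HH D F, b = u * h := by
  have hset : ((D.posUnipotent F ⊔ D.diagonalSubgroup F : Subgroup (GL D.Idx F)) : Set (GL D.Idx F)) =
      (D.posUnipotent F : Set (GL D.Idx F)) * (D.diagonalSubgroup F : Set (GL D.Idx F)) :=
    Subgroup.coe_mul_of_right_le_normalizer_left _ _ (S1036.result (F := F) D hD).1
  have hb2 : (b : GL D.Idx F) ∈
    ((D.posUnipotent F ⊔ D.diagonalSubgroup F : Subgroup (GL D.Idx F)) : Set (GL D.Idx F)) := hb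
  rw [hset] at hb2
  obtain ⟨w, hw, h, hh, he⟩ := hb2
  exact ⟨⟨w, posUnipotent_le_group hD F hw⟩, hw, ⟨h, diagonal_le_group hD F hh⟩, hh, Subtype.ext he.symm⟩

/-- `B` normalises `U`. -/
theorem conj_mem_UU (hD : InList D) {b u : ↥(D.group F)} (hb : b ∈ BB D F) (hu : u ∈ UU D F) :
    b * u * b⁻¹ ∈ UU D F := by
  obtain ⟨w, hw, h, hh, rfl⟩ := exists_mul F hD hb
  have h1 : h * u * h⁻¹ ∈ UU D F :=
    (Subgroup.mem_normalizer_iff.1 ((S1036.result (F := F) D hD).1 hh) u).1 hu
  have h2 : w * h * u * (w * h)⁻¹ = w * (h * u * h⁻¹) * w⁻¹ := by group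
  rw [h2]
  exact mul_mem (mul_mem hw h1) (inv_mem hw)

/-- `U` is a `p`-group. -/
theorem isPGroup_UU (hD : InList D) [Finite F] {p : ℕ} [Fact p.Prime] [CharP F p] : IsPGroup p (UU D F) := by
  classical
  have := Fintype.ofFinite F
  obtain ⟨n, -, hn⟩ := FiniteField.card F p
  have h1 := S1027.result (F := F) D hD
  have h2 : Nat.card (UU D F) = Nat.card (D.posUnipotent F) :=
    Nat.card_congr (Subgroup.subgroupOfEquivOfLe (posUnipotent_le_group hD F)).toEquiv
  refine IsPGroup.of_card (n := n * (D.nroots / 2)) ?_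
  rw [h2, h1, hn, pow_mul]

/-- The order of `H` divides a power of `q - 1`. -/
theorem pow_eq_one (hD : InList D) [Fintype F] {h : ↥(D.group F)} (hh : h ∈ HH D F) :
    h ^ ((Fintype.card F - 1) ^ D.rank) = 1 := by
  have h1 : Nat.card (D.diagonalSubgroup F) ∣ (Fintype.card F - 1) ^ D.rank := by
    have hl : ∃ n : ℕ, n * Nat.card (D.diagonalSubgroup F) = (Fintype.card F - 1) ^ D.rank := by
      have key := fun p hp => S1035.result (F := F) (q := Fintype.card F) rfl p hp
      simp only [List.mem_cons, List.not_mem_nil, or_false] at key hD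
      rcases hD with rfl | rfl | rfl | rfl | rfl | rfl | rfl
      · exact ⟨_, key (chevG2, 1) (by simp)⟩
      · exact ⟨_, key (chevB2, Nat.gcd 2 (Fintype.card F - 1)) (by simp)⟩
      · exact ⟨_, key (chevD4, Nat.gcd 2 (Fintype.card F - 1) ^ 2) (by simp)⟩
      · exact ⟨_, key (chevF4, 1) (by simp)⟩
      · exact ⟨_, key (chevE6, Nat.gcd 3 (Fintype.card F - 1)) (by simp)⟩
      · exact ⟨_, key (chevE7, Nat.gcd 2 (Fintype.card F - 1)) (by simp)⟩
      · exact ⟨_, key (chevE8, 1) (by simp)⟩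
    obtain ⟨n, hn⟩ := hl
    exact ⟨n, by rw [← hn, mul_comm]⟩
  have h2 : (⟨(h : GL D.Idx F), hh⟩ : D.diagonalSubgroup F) ^ ((Fintype.card F - 1) ^ D.rank) = 1 := by
    obtain ⟨k, hk⟩ := h1
    rw [hk, pow_mul, pow_card_eq_one', one_pow]
  apply Subtype.ext
  exact congrArg (fun g : D.diagonalSubgroup F => (g : GL D.Idx F)) h2

/-- The Schreier property of a tabulated Chevalley group, from the action on the minimal parabolic subgroups. -/
theorem sch_of_perm (hD : InList D) [Finite F] [IsSimpleGroup ↥(D.group F)]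
    (hperm : ∀ P : BNPair ↥(D.group F), P.B = BB D F → P.S = Set.range (nn hD F) →
      ∀ Δ : Subgroup (MulAut ↥(D.group F)), ⁅Δ, Δ⁆ = Δ → Inv Δ P.B → ∀ s ∈ P.S, Inv Δ (P.parabolic {s})) :
    Sch ↥(D.group F) := by
  classical
  have := Fintype.ofFinite F
  obtain ⟨P, hPB, hPN, hPS⟩ := S1042.result (F := F) D hD
  have hPS' : P.S = Set.range (nn hD F) := by
    rw [hPS]
    ext g
    constructor
    · rintro ⟨i, hi, hg⟩
      exact ⟨⟨i, hi⟩, Subtype.ext ((eq_nG_iff hD _ _ _).2 hg).symm⟩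
    · rintro ⟨i, rfl⟩
      exact ⟨i, i.2, coe_nG hD _ _⟩
  obtain ⟨p, hp⟩ := CharP.exists F
  have hpp : Fact p.Prime := ⟨CharP.char_is_prime F p⟩
  have hr : 0 < D.rank := (RootComb.good_of_mem hD).rank_pos
  have hcore := core_eq_bot P (by rw [hPS']; exact ⟨_, ⟨0, hr⟩, rfl⟩)
  have hHN : HH D F ≤ P.N := by
    rw [hPN]
    exact fun h hh => diagonal_le_monomial D F hh
  have hHB : HH D F ≤ P.B := by
    rw [hPB]
    exact fun h hh => Subgroup.mem_sup_right hh
  have hdec : ∀ b ∈ P.B, ∃ u ∈ UU D F, ∃ h ∈ HH D F, b = u * h := by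
    intro b hb
    rw [hPB] at hb
    exact exists_mul F hD hb
  have hBN : ∀ h ∈ P.B, h ∈ P.N → h ∈ HH D F := by
    intro h h1 h2
    rw [hPB] at h1
    rw [hPN] at h2
    have h3 : (h : GL D.Idx F) ∈ D.borelSubgroup F ⊓ D.monomialSubgroup F := ⟨h1, h2⟩
    rw [(S1040.result (F := F) D hD).2] at h3
    exact h3
  have hcop : ¬ p ∣ (Fintype.card F - 1) ^ D.rank := by
    intro h
    have h1 := hpp.out.dvd_of_dvd_pow h
    obtain ⟨n, -, hn⟩ := FiniteField.card F p
    have h2 : p ∣ Fintype.card F := by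
      rw [hn]
      exact dvd_pow_self p n.ne_zero
    have h3 : 1 < Fintype.card F := Fintype.one_lt_card
    have h4 : p ∣ Fintype.card F - (Fintype.card F - 1) := Nat.dvd_sub h2 h1
    rw [Nat.sub_sub_self h3.le] at h4
    exact hpp.out.one_lt.ne' (Nat.dvd_one.1 h4)
  refine sch_of_bn' P (UU D F) (isPGroup_UU F hD (p := p)) hcore ?_ ?_ ?_ ((Fintype.card F - 1) ^ D.rank) hcop ?_
    (hperm P hPB hPS') ?_
  · rw [hPB]
    exact UU_le F
  · intro b hb u hu
    rw [hPB] at hb
    exact conj_mem_UU F hD hb hu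
  · intro b hb
    obtain ⟨u, hu, h, hh, rfl⟩ := hdec b hb
    refine ⟨u, hu, ?_⟩
    rw [inv_mul_cancel_left]
    exact hHN hh
  · intro h h1 h2
    exact pow_eq_one F hD (hBN h h1 h2)
  · intro s hs
    rw [hPS'] at hs
    obtain ⟨i, rfl⟩ := hs
    have hsn := nn_mem_normalizer hD F i
    refine loc_of_field P (UU D F) (HH D F) (VV D F i) (nn hD F i) hdec hHB (xx hD i) ?_ (xx_add hD i)
      (VV_le F i) ?_ ?_ ?_ ?_ ?_ ?_ ?_ ?_
    · intro t
      exact xG_mem_posUnipotent hD (simple_pos hD i.2) t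
    · intro u hu
      obtain ⟨v, hv, t, he⟩ := decomp hD i.2 (g := (u : GL D.Idx F)) hu
      exact ⟨⟨v, comp_le hD i hv⟩, hv, t, Subtype.ext he⟩
    · intro t v hv
      have h1 : xx hD i t ∈ Subgroup.normalizer ((VV D F i : Subgroup ↥(D.group F)) : Set ↥(D.group F)) :=
        BB_le_normalizer F hD i.2 (UU_le F (xG_mem_posUnipotent hD (simple_pos hD i.2) t))
      exact (Subgroup.mem_normalizer_iff.1 h1 v).1 hv
    · intro h hh v hv
      have h1 : h ∈ Subgroup.normalizer ((VV D F i : Subgroup ↥(D.group F)) : Set ↥(D.group F)) :=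
        BB_le_normalizer F hD i.2 (Subgroup.mem_sup_right hh)
      exact (Subgroup.mem_normalizer_iff.1 h1 v).1 hv
    · intro v hv
      have h1 := (Subgroup.mem_normalizer_iff.1 (inv_mem hsn) v).1 hv
      rwa [inv_inv] at h1
    · rw [hPB]
      exact (VV_le F i).trans (UU_le F)
    · intro t ht
      rw [hPB] at ht
      exact eq_zero_of_xx_mem hD i (mem_VV_of_conj hD i (xG_mem_posUnipotent hD (simple_pos hD i.2) t) ht)
    · intro h hh
      obtain ⟨c, -, hc⟩ := diagonal_conj hD hh (simple_lt hD i.2)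
      exact ⟨c, fun t => Subtype.ext (hc t)⟩
    · intro c hc
      refine ⟨⟨hG hD (D.simple i) c, hG_mem_group hD _ _⟩, hG_mem_diagonal hD (simple_lt hD i.2) hc, ?_⟩
      apply Subtype.ext
      show hG hD (D.simple i) c * xG hD (D.simple i) 1 * (hG hD (D.simple i) c)⁻¹ = xG hD (D.simple i) (c ^ 2)
      rw [mul_inv_eq_iff_eq_mul]
      refine Units.ext ?_
      rw [Units.val_mul, Units.val_mul, coe_xG, coe_xG, coe_hG]
      have h1 := S1032.result D hD i (D.simple i) i.2 (simple_lt hD i.2) c hc 1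
      rw [(RootComb.good_of_mem hD).cartan_simple i.2, mul_one] at h1
      exact_mod_cast h1

/-- The Chevalley groups of rank at most four. -/
theorem sch_of_rank_le_four (hD : InList D) [Finite F] [IsSimpleGroup ↥(D.group F)] (h4 : D.rank ≤ 4) :
    Sch ↥(D.group F) := by
  refine sch_of_perm F hD fun P _ hPS => perm_of_card_le_four P ?_
  rw [hPS]
  refine (Nat.card_coe_set_eq _).trans_le ?_
  rw [← Set.image_univ]
  refine (Set.ncard_image_le Set.finite_univ).trans ?_
  rw [Set.ncard_univ, Nat.card_fin]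
  exact h4

/-! ### The diagram -/

/-- `n_i` and `n_j` commute modulo `B` if the Cartan integer vanishes. -/
theorem comm_mem {i j : Fin D.rank} (h0 : D.cartan i (D.simple j) = 0) :
    nn hD F i * nn hD F j * (nn hD F i)⁻¹ * (nn hD F j)⁻¹ ∈ BB D F := by
  obtain ⟨η, hη, -, -, h1⟩ := conj_n (F := F) hD i.2 (simple_lt hD j.2)
  have h2 := h1 1
  rw [((RootComb.good_of_mem hD).reflect_eq_iff i.2 (simple_lt hD j.2)).2 h0, mul_one] at h2
  show nS hD F i * nG hD (D.simple j) 1 * (nS hD F i)⁻¹ * (nG hD (D.simple j) 1)⁻¹ ∈ D.borelSubgroup F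
  rw [h2]
  apply Subgroup.mem_sup_right
  rcases hη with rfl | rfl
  · rw [mul_inv_cancel]
    exact one_mem _
  · rw [← nG_inv, ← mul_inv_rev]
    exact inv_mem (nG_one_sq_mem hD (simple_lt hD j.2))

/-- `n_i` and `n_j` do not commute modulo `B` if the Cartan integer does not vanish. -/
theorem comm_not_mem {i j : Fin D.rank} (hij : i ≠ j) (h0 : D.cartan i (D.simple j) ≠ 0) :
    nn hD F i * nn hD F j * (nn hD F i)⁻¹ * (nn hD F j)⁻¹ ∉ BB D F := by
  intro hmem
  have hG := RootComb.good_of_mem hD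
  have hne : D.simple j ≠ D.simple i := by
    intro h
    have h1 := hG.co_simple i.2 i.2
    have h2 := hG.co_simple j.2 i.2
    rw [h, h1, if_pos rfl, if_neg (fun e => hij (Fin.ext e.symm))] at h2
    exact one_ne_zero h2
  -- the commutator lies in `H`
  set d : GL D.Idx F := nS hD F i * nS hD F j * (nS hD F i)⁻¹ * (nS hD F j)⁻¹ with hd
  have hdN : d ∈ D.monomialSubgroup F := by
    have h1 := nG_one_mem_monomial (F := F) hD (simple_lt hD i.2)
    have h2 := nG_one_mem_monomial (F := F) hD (simple_lt hD j.2)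
    exact mul_mem (mul_mem (mul_mem h1 h2) (inv_mem h1)) (inv_mem h2)
  have hdH : d ∈ D.diagonalSubgroup F := by
    rw [← (S1040.result (F := F) D hD).2]
    exact ⟨hmem, hdN⟩
  have hrp : D.IsPosRoot (D.reflectRoot i (D.simple j)) := hG.reflect_pos i.2 (simple_pos hD j.2) hne
  have hrne : D.reflectRoot i (D.simple j) ≠ D.simple j := fun h =>
    h0 ((hG.reflect_eq_iff i.2 (simple_lt hD j.2)).1 h)
  obtain ⟨η, hη, h1, h2⟩ := conj_x (F := F) hD i.2 (simple_lt hD j.2)
  obtain ⟨ζ, hζ, h3⟩ := conj_simple (F := F) hD j.2 1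
  -- the two sides
  have e1 : nS hD F i * nS hD F j * xG hD (D.simple j) 1 * (nS hD F i * nS hD F j)⁻¹ =
      xG hD (D.neg (D.reflectRoot i (D.simple j))) (η * (ζ * 1)) := by
    rw [← h2, ← h3]; group
  have e2 : nS hD F i * nS hD F j * xG hD (D.simple j) 1 * (nS hD F i * nS hD F j)⁻¹ =
      d * (nS hD F j * xG hD (D.reflectRoot i (D.simple j)) (η * 1) * (nS hD F j)⁻¹) * d⁻¹ := by
    rw [← h1, hd]; group
  have h4 : nS hD F i * nS hD F j * xG hD (D.simple j) 1 * (nS hD F i * nS hD F j)⁻¹ ∈ D.posUnipotent F := by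
    rw [e2]
    exact (Subgroup.mem_normalizer_iff.1 ((S1036.result (F := F) D hD).1 hdH) _).1
      (conj_nS_mem_pos hD j.2 hrp hrne _)
  have hneg : D.IsNegRoot (D.neg (D.reflectRoot i (D.simple j))) := by
    rw [hG.isPosRoot_iff] at hrp
    rw [hG.isNegRoot_iff, Reach.neg_eq hD hrp.2]
    have := hG.nroots_eq
    omega
  rw [e1] at h4
  have h5 := one_of_mem_borel_of_mem_neg ((le_sup_left : D.posUnipotent F ≤ D.borelSubgroup F) h4)
    (xG_mem_negUnipotent hD hneg _) hD
  rw [xG_eq_one_iff hD hneg.1, mul_one] at h5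
  exact mul_ne_zero (sign_ne_zero hη) (sign_ne_zero hζ) h5

/-- The Schreier property of a tabulated Chevalley group, with a condition on the diagram. -/
theorem sch_of_diagram (hD : InList D) [Finite F] [IsSimpleGroup ↥(D.group F)]
    (adj : Fin D.rank → Fin D.rank → Prop) [DecidableRel adj] (hirr : ∀ i, ¬ adj i i)
    (hadj : ∀ i j, i ≠ j → (adj i j ↔ D.cartan i (D.simple j) ≠ 0))
    (v : ℕ) (hv : (Finset.univ.filter fun i => (Finset.univ.filter fun j => adj i j).card = v).card ≤ 4)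
    (h4 : ∀ i, (Finset.univ.filter fun j => adj i j).card ≤ 4)
    (rk : Fin D.rank → ℕ)
    (hrk : ∀ i, (Finset.univ.filter fun j => adj i j).card = v ∨ ∃ j, adj j i ∧ rk j < rk i) :
    Sch ↥(D.group F) := by
  refine sch_of_perm F hD fun P hPB hPS => BNGraph.perm_of_graph P (nn hD F) hPS.symm ?_ adj hirr ?_ v hv h4 rk hrk
  · intro i j hij
    apply Fin.ext
    apply eq_of_inv_mul_mem (F := F) hD i.2 j.2
    have h1 : nS hD F i = nS hD F j := congrArg (fun g : ↥(D.group F) => (g : GL D.Idx F)) hij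
    rw [h1, inv_mul_cancel]
    exact one_mem _
  · intro i j hij
    rw [hadj i j hij, hPB]
    constructor
    · exact fun h => comm_not_mem hD F hij h
    · exact fun h h0 => h (comm_mem hD F h0)

end Cfsg.Agent.Schreier.ChevSch
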