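import Mathlib
import Cfsg.Agent.ChevalleyStructure.Tits.Main
import Cfsg.Agent.Schreier.Basic
import Cfsg.Agent.Schreier.Tools
import Cfsg.Agent.Schreier.Crit
import Cfsg.Agent.Schreier.TwoGen

/-!
# The Schreier property of the Tits group

A Sylow 2-subgroup of `²F₄(2)′` (order `2 ^ 11`) is generated by two elements, so its automorphism group is solvable.
-/

set_option autoImplicit false

namespace Cfsg.Agent.Schreier.Tits

open Cfsg.Agent.ChevalleyStructure.Tits.Pack Cfsg.Agent.ChevalleyStructure.Tits.Data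
  Cfsg.Agent.ChevalleyStructure.Tits.Sat Cfsg.Agent.ChevalleyStructure.Tits.Final
  Cfsg.Agent.ChevalleyStructure.Tits.Mat Cfsg.Agent.ChevalleyStructure.Tits.Order
  Cfsg.Agent.ChevalleyStructure.Tits.Main
open Cfsg.Agent.Schreier.Basic Cfsg.Agent.Schreier.Tools Cfsg.Agent.Schreier.TwoGen
open scoped MatrixGroups

/-- further relations, expressing elements as products of squares -/
def sqRels : List (List ℕ × List ℕ) := [
  ([2], [0, 1, 3, 4, 0, 1, 3, 4]),
  ([4], [2, 3, 5, 6, 2, 3, 5, 6]),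
  ([6], [1, 7, 1, 7, 1, 7, 7, 7, 1, 7, 7, 7]),
  ([1, 1], [0, 6, 0, 6, 1, 3, 6, 1, 3, 6]),
  ([1, 3], [0, 3, 7, 0, 3, 7, 7, 1, 7, 1]),
  ([1, 5], [1, 7, 1, 7, 2, 5, 7, 0, 2, 5, 7, 0]),
  ([7, 1], [1, 7, 0, 7, 7, 0, 7, 7, 1, 5, 1, 5]),
  ([1, 0], [0, 1])]

theorem sqRels_ok : sqRels.all chk = true := by decide +kernel

theorem sqRels_lt : sqRels.all (fun p => (p.1.all fun i => Nat.blt i 8) && p.2.all fun i => Nat.blt i 8) = true := by
  decide +kernel

theorem rel_yH {p : List ℕ × List ℕ} (hp : p ∈ sqRels) : (p.1.map yH).prod = (p.2.map yH).prod := by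
  have h1 := sqRels_ok
  rw [List.all_eq_true] at h1
  have h2 := sqRels_lt
  rw [List.all_eq_true] at h2
  have h3 := h2 p hp
  rw [Bool.and_eq_true, List.all_eq_true, List.all_eq_true] at h3
  have h4 : ∀ i ∈ p.1, i < 8 := fun i hi => by
    have := h3.1 i hi; rwa [Nat.blt_eq] at this
  have h5 : ∀ i ∈ p.2, i < 8 := fun i hi => by
    have := h3.2 i hi; rwa [Nat.blt_eq] at this
  have h6 := rel_of_chk (h1 p hp) (fun i hi => by have := h4 i hi; omega) (fun i hi => by have := h5 i hi; omega)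
  apply Subtype.ext
  rw [coe_list _ (fun i hi => by have := h4 i hi; omega), coe_list _ (fun i hi => by have := h5 i hi; omega)]
  exact h6

section Abs

variable {Γ : Type*} [Group Γ] {y : ℕ → Γ}

/-- The even part of the group generated by the letters is generated by `y 0`, `y 1 * y 7` modulo squares. -/
theorem gen_aux (hr : ∀ p ∈ sqRels, (p.1.map y).prod = (p.2.map y).prod) (C : Subgroup Γ) [hCn : C.Normal]
    (hC : C.index = 2) (h0 : y 0 ∈ C) (h1 : y 1 ∉ C) (h2 : y 2 ∈ C) (h3 : y 3 ∉ C) (h4 : y 4 ∈ C) (h5 : y 5 ∉ C)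
    (h6 : y 6 ∈ C) (h7 : y 7 ∉ C) :
    V y 0 ⊓ C ≤ Subgroup.closure {y 0, y 1 * y 7} ⊔ sqs (V y 0 ⊓ C) := by
  set T : Subgroup Γ := V y 0 ⊓ C with hT
  set S : Subgroup Γ := Subgroup.closure {y 0, y 1 * y 7} ⊔ sqs T with hS
  have hm : ∀ i < 8, y i ∈ V y 0 := fun i hi => mem_V y (Nat.zero_le i) hi
  have mm : ∀ a b : Γ, a * b ∈ C ↔ (a ∈ C ↔ b ∈ C) := fun a b => Subgroup.mul_mem_iff_of_index_two hC
  have r2 : y 2 = (y 0 * y 1 * y 3 * y 4) * (y 0 * y 1 * y 3 * y 4) := by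
    have := hr ([2], [0, 1, 3, 4, 0, 1, 3, 4]) (by simp [sqRels])
    simpa [mul_assoc] using this
  have r4 : y 4 = (y 2 * y 3 * y 5 * y 6) * (y 2 * y 3 * y 5 * y 6) := by
    have := hr ([4], [2, 3, 5, 6, 2, 3, 5, 6]) (by simp [sqRels])
    simpa [mul_assoc] using this
  have r6 : y 6 = (y 1 * y 7) * (y 1 * y 7) * ((y 1 * y 7 * y 7 * y 7) * (y 1 * y 7 * y 7 * y 7)) := by
    have := hr ([6], [1, 7, 1, 7, 1, 7, 7, 7, 1, 7, 7, 7]) (by simp [sqRels])
    simpa [mul_assoc] using this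
  have r11 : y 1 * y 1 = (y 0 * y 6) * (y 0 * y 6) * ((y 1 * y 3 * y 6) * (y 1 * y 3 * y 6)) := by
    have := hr ([1, 1], [0, 6, 0, 6, 1, 3, 6, 1, 3, 6]) (by simp [sqRels])
    simpa [mul_assoc] using this
  have r13 : y 1 * y 3 = (y 0 * y 3 * y 7) * (y 0 * y 3 * y 7) * ((y 7 * y 1) * (y 7 * y 1)) := by
    have := hr ([1, 3], [0, 3, 7, 0, 3, 7, 7, 1, 7, 1]) (by simp [sqRels])
    simpa [mul_assoc] using this
  have r15 : y 1 * y 5 = (y 1 * y 7) * (y 1 * y 7) * ((y 2 * y 5 * y 7 * y 0) * (y 2 * y 5 * y 7 * y 0)) := by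
    have := hr ([1, 5], [1, 7, 1, 7, 2, 5, 7, 0, 2, 5, 7, 0]) (by simp [sqRels])
    simpa [mul_assoc] using this
  have r71 : y 7 * y 1 = (y 1 * y 7) * (((y 0 * y 7 * y 7) * (y 0 * y 7 * y 7)) * ((y 1 * y 5) * (y 1 * y 5))) := by
    have := hr ([7, 1], [1, 7, 0, 7, 7, 0, 7, 7, 1, 5, 1, 5]) (by simp [sqRels])
    simpa [mul_assoc] using this
  have r10 : y 1 * y 0 = y 0 * y 1 := by
    have := hr ([1, 0], [0, 1]) (by simp [sqRels])
    simpa using this
  -- membership in `T`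
  have memT : ∀ g : Γ, g ∈ V y 0 → g ∈ C → g ∈ T := fun g ha hb => ⟨ha, hb⟩
  have sqS : ∀ g : Γ, g ∈ V y 0 → g ∈ C → g * g ∈ S := fun g ha hb => Subgroup.mem_sup_right (sq_mem ⟨ha, hb⟩)
  have m0 := hm 0 (by norm_num)
  have m1 := hm 1 (by norm_num)
  have m2 := hm 2 (by norm_num)
  have m3 := hm 3 (by norm_num)
  have m4 := hm 4 (by norm_num)
  have m5 := hm 5 (by norm_num)
  have m6 := hm 6 (by norm_num)
  have m7 := hm 7 (by norm_num)
  have s0 : y 0 ∈ S := Subgroup.mem_sup_left (Subgroup.subset_closure (by simp))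
  have s17 : y 1 * y 7 ∈ S := Subgroup.mem_sup_left (Subgroup.subset_closure (by simp))
  have s2 : y 2 ∈ S := by
    rw [r2]
    exact sqS _ (mul_mem (mul_mem (mul_mem m0 m1) m3) m4) (by simp [mm, h0, h1, h3, h4])
  have s4 : y 4 ∈ S := by
    rw [r4]
    exact sqS _ (mul_mem (mul_mem (mul_mem m2 m3) m5) m6) (by simp [mm, h2, h3, h5, h6])
  have s6 : y 6 ∈ S := by
    rw [r6]
    exact mul_mem (sqS _ (mul_mem m1 m7) (by simp [mm, h1, h7]))
      (sqS _ (mul_mem (mul_mem (mul_mem m1 m7) m7) m7) (by simp [mm, h1, h7]))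
  have s11 : y 1 * y 1 ∈ S := by
    rw [r11]
    exact mul_mem (sqS _ (mul_mem m0 m6) (by simp [mm, h0, h6]))
      (sqS _ (mul_mem (mul_mem m1 m3) m6) (by simp [mm, h1, h3, h6]))
  have s13 : y 1 * y 3 ∈ S := by
    rw [r13]
    exact mul_mem (sqS _ (mul_mem (mul_mem m0 m3) m7) (by simp [mm, h0, h3, h7]))
      (sqS _ (mul_mem m7 m1) (by simp [mm, h1, h7]))
  have s15 : y 1 * y 5 ∈ S := by
    rw [r15]
    exact mul_mem (sqS _ (mul_mem m1 m7) (by simp [mm, h1, h7]))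
      (sqS _ (mul_mem (mul_mem (mul_mem m2 m5) m7) m0) (by simp [mm, h2, h5, h7, h0]))
  have s71 : y 7 * y 1 ∈ S := by
    rw [r71]
    exact mul_mem s17 (mul_mem (sqS _ (mul_mem (mul_mem m0 m7) m7) (by simp [mm, h0, h7]))
      (sqS _ (mul_mem m1 m5) (by simp [mm, h1, h5])))
  -- `y 1` normalises `S`
  have hconj : ∀ x ∈ S, (y 1)⁻¹ * x * y 1 ∈ S := by
    have h8 : S ≤ S.comap (MulAut.conj (y 1)⁻¹).toMonoidHom := by
      refine sup_le ((Subgroup.closure_le _).2 ?_) ?_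
      · rintro x (rfl | rfl)
        · show (y 1)⁻¹ * y 0 * (y 1)⁻¹⁻¹ ∈ S
          have : (y 1)⁻¹ * y 0 * (y 1)⁻¹⁻¹ = y 0 := by
            rw [inv_inv, mul_assoc, ← r10, ← mul_assoc, inv_mul_cancel, one_mul]
          rw [this]; exact s0
        · show (y 1)⁻¹ * (y 1 * y 7) * (y 1)⁻¹⁻¹ ∈ S
          have : (y 1)⁻¹ * (y 1 * y 7) * (y 1)⁻¹⁻¹ = y 7 * y 1 := by group
          rw [this]; exact s71
      · intro x hx
        refine Subgroup.mem_sup_right (conj_sqs (g := (y 1)⁻¹) ?_ hx)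
        intro t ht
        exact ⟨(V y 0).mul_mem ((V y 0).mul_mem ((V y 0).inv_mem m1) ht.1) ((V y 0).inv_mem ((V y 0).inv_mem m1)),
          hCn.conj_mem t ht.2 _⟩
    intro x hx
    have := h8 hx
    have h9 : (y 1)⁻¹ * x * (y 1)⁻¹⁻¹ ∈ S := this
    rwa [inv_inv] at h9
  -- `S ∪ y 1 S` is a subgroup
  let W : Subgroup Γ :=
    { carrier := {g | g ∈ S ∨ (y 1)⁻¹ * g ∈ S}
      one_mem' := Or.inl (one_mem _)
      mul_mem' := by
        rintro g h (hg | hg) (hh | hh)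
        · left; exact mul_mem hg hh
        · right
          have : (y 1)⁻¹ * (g * h) = ((y 1)⁻¹ * g * y 1) * ((y 1)⁻¹ * h) := by group
          rw [this]
          exact mul_mem (hconj g hg) hh
        · right
          rw [← mul_assoc]
          exact mul_mem hg hh
        · left
          have : g * h = (y 1 * y 1) * ((y 1)⁻¹ * ((y 1)⁻¹ * g) * y 1) * ((y 1)⁻¹ * h) := by group
          rw [this]
          exact mul_mem (mul_mem s11 (hconj _ hg)) hh
      inv_mem' := by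
        rintro g (hg | hg)
        · left; exact inv_mem hg
        · right
          have : (y 1)⁻¹ * g⁻¹ = ((y 1)⁻¹ * ((y 1)⁻¹ * g)⁻¹ * y 1) * (y 1 * y 1)⁻¹ := by group
          rw [this]
          exact mul_mem (hconj _ (inv_mem hg)) (inv_mem s11) }
  have hVW : V y 0 ≤ W := by
    refine (Subgroup.closure_le _).2 ?_
    rintro _ ⟨i, ⟨-, hi⟩, rfl⟩
    have key : ∀ z : Γ, y 1 * z ∈ S → (y 1)⁻¹ * z ∈ S := by
      intro z hz
      have : (y 1)⁻¹ * z = (y 1 * y 1)⁻¹ * (y 1 * z) := by group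
      rw [this]
      exact mul_mem (inv_mem s11) hz
    interval_cases i
    · exact Or.inl s0
    · right; rw [inv_mul_cancel]; exact one_mem _
    · exact Or.inl s2
    · exact Or.inr (key _ s13)
    · exact Or.inl s4
    · exact Or.inr (key _ s15)
    · exact Or.inl s6
    · exact Or.inr (key _ s17)
  have hSC : S ≤ C := by
    refine sup_le ((Subgroup.closure_le _).2 ?_) ((sqs_le T).trans inf_le_right)
    rintro x (rfl | rfl)
    · exact h0
    · simp [mm, h1, h7]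
  intro t ht
  rcases hVW ht.1 with h | h
  · exact h
  · exfalso
    have h8 := hSC h
    rw [mm] at h8
    exact h1 (inv_mem_iff.1 (h8.2 ht.2))

theorem iff_aux (P X : Prop) : X ↔ ((P ↔ X) ↔ P) := by tauto

theorem parity [Finite Γ] (hr : ∀ p ∈ sqRels, (p.1.map y).prod = (p.2.map y).prod) (hy : Sat y)
    (hgen : Subgroup.closure (y '' {i | i < 10}) = ⊤) (hcard : Nat.card Γ = 35942400)
    (hi : (commutator Γ).index = 2) : y 0 ∈ commutator Γ ∧ y 1 ∉ commutator Γ ∧ y 2 ∈ commutator Γ ∧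
      y 3 ∉ commutator Γ ∧ y 4 ∈ commutator Γ ∧ y 5 ∉ commutator Γ ∧ y 6 ∈ commutator Γ ∧ y 7 ∉ commutator Γ := by
  have mm : ∀ a b : Γ, a * b ∈ commutator Γ ↔ (a ∈ commutator Γ ↔ b ∈ commutator Γ) := fun a b =>
    Subgroup.mul_mem_iff_of_index_two hi
  have h7 : y 7 ∉ commutator Γ := by
    obtain ⟨χ, hχ⟩ := exists_sign hy hgen hcard
    intro h
    have h2 : commutator Γ ≤ χ.ker := Abelianization.commutator_subset_ker χ
    have h3 := h2 h
    rw [MonoidHom.mem_ker, hχ] at h3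
    exact absurd h3 (by decide)
  have cc : ∀ n x z : Γ, n * x * n = z → (x ∈ commutator Γ ↔ z ∈ commutator Γ) := by
    rintro n x z rfl
    rw [mm, mm]
    exact iff_aux _ _
  have e1 := cc _ _ _ (n1_conj hy (j := 1) (by norm_num) (by norm_num))
  have e3 := cc _ _ _ (n1_conj hy (j := 3) (by norm_num) (by norm_num))
  have e5 := cc _ _ _ (n2_conj hy (j := 5) (by norm_num))
  have e0 := cc _ _ _ (n2_conj hy (j := 0) (by norm_num))
  norm_num at e1 e3 e5 e0
  have h1 : y 1 ∉ commutator Γ := fun h => h7 (e1.1 h)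
  have h5 : y 5 ∉ commutator Γ := fun h => h1 (e5.1 h)
  have h3 : y 3 ∉ commutator Γ := fun h => h5 (e3.1 h)
  have r2 : y 2 = (y 0 * y 1 * y 3 * y 4) * (y 0 * y 1 * y 3 * y 4) := by
    have := hr ([2], [0, 1, 3, 4, 0, 1, 3, 4]) (by simp [sqRels])
    simpa [mul_assoc] using this
  have r4 : y 4 = (y 2 * y 3 * y 5 * y 6) * (y 2 * y 3 * y 5 * y 6) := by
    have := hr ([4], [2, 3, 5, 6, 2, 3, 5, 6]) (by simp [sqRels])
    simpa [mul_assoc] using this
  have r6 : y 6 = (y 1 * y 7) * (y 1 * y 7) * ((y 1 * y 7 * y 7 * y 7) * (y 1 * y 7 * y 7 * y 7)) := by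
    have := hr ([6], [1, 7, 1, 7, 1, 7, 7, 7, 1, 7, 7, 7]) (by simp [sqRels])
    simpa [mul_assoc] using this
  have sq : ∀ g : Γ, g * g ∈ commutator Γ := fun g => (mm g g).2 Iff.rfl
  have h2 : y 2 ∈ commutator Γ := by rw [r2]; exact sq _
  have h4 : y 4 ∈ commutator Γ := by rw [r4]; exact sq _
  have h6 : y 6 ∈ commutator Γ := by rw [r6]; exact mul_mem (sq _) (sq _)
  exact ⟨e0.2 h6, h1, h2, h3, h4, h5, h6, h7⟩

theorem sch_abs [Finite Γ] (hr : ∀ p ∈ sqRels, (p.1.map y).prod = (p.2.map y).prod) (hy : Sat y)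
    (hgen : Subgroup.closure (y '' {i | i < 10}) = ⊤) (hcard : Nat.card Γ = 35942400)
    (hV : Nat.card (V y 0) = 4096) (hres : (commutator Γ).index = 2 ∧ IsSimpleGroup (commutator Γ) ∧
      ¬ IsMulCommutative (commutator Γ) ∧ Nat.card (commutator Γ) = 2 ^ 11 * 3 ^ 3 * 5 ^ 2 * 13) :
    Sch (commutator Γ) := by
  obtain ⟨hi, hsimple, hnc, hcC⟩ := hres
  obtain ⟨h0, h1, h2, h3, h4, h5, h6, h7⟩ := parity hr hy hgen hcard hi
  have hgen := gen_aux hr (commutator Γ) hi h0 h1 h2 h3 h4 h5 h6 h7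
  have mm : ∀ a b : Γ, a * b ∈ commutator Γ ↔ (a ∈ commutator Γ ↔ b ∈ commutator Γ) := fun a b =>
    Subgroup.mul_mem_iff_of_index_two hi
  have hCn : (commutator Γ).Normal := inferInstance
  set C := commutator Γ with hC
  set U : Subgroup Γ := V y 0 with hU
  -- the order of `U ⊓ C`
  have hUC : Nat.card (U ⊓ C : Subgroup Γ) = 2048 := by
    have h8 : (U ⊓ C).relIndex U = 2 := by
      rw [Subgroup.inf_relIndex_left]
      have h9 : C.relIndex U ∣ C.index := Subgroup.relIndex_dvd_index_of_normal C U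
      rw [hi] at h9
      rcases (Nat.dvd_prime Nat.prime_two).1 h9 with h10 | h10
      · exfalso
        rw [Subgroup.relIndex_eq_one] at h10
        exact h7 (h10 (mem_V y (Nat.zero_le _) (by norm_num)))
      · exact h10
    have h9 := Subgroup.relIndex_mul_relIndex ⊥ (U ⊓ C) U bot_le inf_le_left
    rw [Subgroup.relIndex_bot_left, Subgroup.relIndex_bot_left, h8, hV] at h9
    omega
  let T₀ : Subgroup C := (U ⊓ C).subgroupOf C
  have hT₀ : T₀.map C.subtype = U ⊓ C := by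
    rw [Subgroup.subgroupOf_map_subtype]
    exact inf_eq_left.2 inf_le_right
  have hcT₀ : Nat.card T₀ = 2048 := by
    rw [← hUC, ← hT₀]
    exact Nat.card_congr (T₀.equivMapOfInjective C.subtype C.subtype_injective).toEquiv
  have hfac : (Nat.card C).factorization 2 = 11 := by
    rw [hcC]
    have : (2 ^ 11 * 3 ^ 3 * 5 ^ 2 * 13 : ℕ) = 2 ^ 11 * 8775 := by norm_num
    rw [this, Nat.factorization_mul (by norm_num) (by norm_num), Nat.factorization_pow]
    simp only [Finsupp.add_apply, Finsupp.smul_apply, smul_eq_mul]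
    rw [Nat.Prime.factorization_self Nat.prime_two, Nat.factorization_eq_zero_of_not_dvd (by norm_num)]
  have : Fact (Nat.Prime 2) := ⟨Nat.prime_two⟩
  let T : Sylow 2 C := Sylow.ofCard T₀ (by rw [hcT₀, hfac]; norm_num)
  have hTT : (T : Subgroup C) = T₀ := rfl
  refine Crit.sch_of_sylow hnc T fun D hD hT => ?_
  have ha : (⟨y 0, h0⟩ : C) ∈ (T : Subgroup C) := by
    rw [hTT, Subgroup.mem_subgroupOf]
    exact ⟨mem_V y (Nat.zero_le _) (by norm_num), h0⟩
  have h17 : y 1 * y 7 ∈ C := by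
    rw [mm]
    exact ⟨fun h => absurd h h1, fun h => absurd h h7⟩
  have hb : (⟨y 1 * y 7, h17⟩ : C) ∈ (T : Subgroup C) := by
    rw [hTT, Subgroup.mem_subgroupOf]
    exact ⟨mul_mem (mem_V y (Nat.zero_le _) (by norm_num)) (mem_V y (Nat.zero_le _) (by norm_num)), h17⟩
  refine tr_of_two_gen hD T.2 hT ha hb ?_
  rw [hTT, ← Subgroup.map_le_map_iff_of_injective C.subtype_injective, hT₀, Subgroup.map_sup, MonoidHom.map_closure,
    sqs, MonoidHom.map_closure]
  refine hgen.trans (sup_le_sup (Subgroup.closure_mono ?_) (Subgroup.closure_mono ?_))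
  · rintro x (rfl | rfl)
    · exact ⟨⟨y 0, h0⟩, by simp, rfl⟩
    · exact ⟨⟨y 1 * y 7, h17⟩, by simp, rfl⟩
  · rintro _ ⟨t, ht, rfl⟩
    refine ⟨⟨t, ht.2⟩ * ⟨t, ht.2⟩, ⟨⟨t, ht.2⟩, ?_, rfl⟩, rfl⟩
    rw [Subgroup.mem_subgroupOf]
    exact ht

end Abs

theorem sch_H0 : Sch (commutator H0) :=
  sch_abs (fun _ hp => rel_yH hp) Sat_yH gen_yH card_H0 card_V_yH H0_result

theorem sch_aux (K : Subgroup (GL I52 (ZMod 2))) (hK : K = H0) : Sch (commutator K) := by
  subst hK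
  exact sch_H0

/-- The Schreier property of the Tits group. -/
theorem sch : Sch Cfsg.Lie.TitsGroup := sch_aux (Cfsg.Lie.twistedF4 (ZMod 2) 1) T0_eq_H0

end Cfsg.Agent.Schreier.Tits
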