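import Mathlib
import Cfsg.Agent.S0205
import Cfsg.Agent.Schreier.Basic
import Cfsg.Agent.Schreier.Tools

/-!
# The Schreier property: perfect central extensions, subgroups containing a Sylow 2-subgroup
-/

set_option autoImplicit false

namespace Cfsg.Agent.Schreier.CentExt

open Cfsg.Agent.Schreier.Basic Cfsg.Agent.Schreier.Tools

section quotient

variable {C : Type*} [Group C] (N : Subgroup C) [N.Normal] (hchar : ∀ φ : MulAut C, N.map φ.toMonoidHom = N)

/-- The action of the automorphism group on a characteristic quotient. -/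
def quo : MulAut C →* MulAut (C ⧸ N) where
  toFun φ := QuotientGroup.congr N N φ (hchar φ)
  map_one' := by
    ext x
    induction x using QuotientGroup.induction_on with
    | H c => rfl
  map_mul' φ ψ := by
    ext x
    induction x using QuotientGroup.induction_on with
    | H c => rfl

theorem quo_mk (φ : MulAut C) (c : C) : quo N hchar φ (QuotientGroup.mk c) = QuotientGroup.mk (φ c) := rfl

include hchar in
/-- A perfect central extension of a group with the Schreier property has the Schreier property. -/
theorem sch_of_quotient (hN : N ≤ Subgroup.center C) (hperf : commutator C = ⊤) (h : Sch (C ⧸ N)) : Sch C := by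
  intro D hD φ hφ
  have h1 := h (D.map (quo N hchar)) (map_perfect _ hD) ⟨φ, hφ, rfl⟩
  obtain ⟨y, hy⟩ := h1
  obtain ⟨c, rfl⟩ := QuotientGroup.mk_surjective y
  have h2 : ∀ x : C, (c * x * c⁻¹)⁻¹ * φ x ∈ N := by
    intro x
    have h3 := DFunLike.congr_fun hy (QuotientGroup.mk x)
    rw [MulAut.conj_apply, quo_mk] at h3
    rw [← QuotientGroup.eq]
    exact h3
  let δ : C →* Subgroup.center C :=
    { toFun := fun x => ⟨(c * x * c⁻¹)⁻¹ * φ x, hN (h2 x)⟩
      map_one' := by
        apply Subtype.ext
        simp
      map_mul' := fun x y => by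
        apply Subtype.ext
        show (c * (x * y) * c⁻¹)⁻¹ * φ (x * y) = (c * x * c⁻¹)⁻¹ * φ x * ((c * y * c⁻¹)⁻¹ * φ y)
        have h3 := Subgroup.mem_center_iff.1 (hN (h2 x)) (c * y * c⁻¹)⁻¹
        calc (c * (x * y) * c⁻¹)⁻¹ * φ (x * y) = (c * y * c⁻¹)⁻¹ * ((c * x * c⁻¹)⁻¹ * φ x) * φ y := by
              rw [map_mul]; group
          _ = _ := by rw [h3]; group }
  have h4 : ∀ x, δ x = 1 := by
    intro x
    have h5 : commutator C ≤ δ.ker := by
      rw [_root_.commutator_def, Subgroup.commutator_le]
      intro a _ b _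
      rw [MonoidHom.mem_ker, map_commutatorElement]
      exact commutatorElement_eq_one_iff_mul_comm.2 (Subtype.ext (Subgroup.mem_center_iff.1 (δ b).2 (δ a)))
    rw [hperf] at h5
    exact h5 (Subgroup.mem_top x)
  refine ⟨c, ?_⟩
  ext x
  have h5 : (c * x * c⁻¹)⁻¹ * φ x = 1 := congrArg Subtype.val (h4 x)
  rw [inv_mul_eq_one] at h5
  rw [MulAut.conj_apply, h5]

end quotient

variable {K : Type*} [Group K]

/-- The normaliser of a Sylow 2-subgroup is solvable. -/
theorem isSolvable_normalizer [Finite K] (T : Sylow 2 K) :
    Group.IsSolvable (Subgroup.normalizer ((T : Subgroup K) : Set K)) := by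
  set N := Subgroup.normalizer ((T : Subgroup K) : Set K) with hN
  have hT : (T : Subgroup K) ≤ N := Subgroup.le_normalizer
  have hn : ((T : Subgroup K).subgroupOf N).Normal := Subgroup.normal_in_normalizer
  have h1 : Group.IsSolvable ((T : Subgroup K).subgroupOf N) := by
    have hp : IsPGroup 2 ((T : Subgroup K).subgroupOf N) :=
      T.isPGroup'.comap_of_injective _ N.subtype_injective
    have := hp.isNilpotent
    infer_instance
  have h2 : Group.IsSolvable (N ⧸ (T : Subgroup K).subgroupOf N) := by
    apply Cfsg.Agent.S0205.result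
    rw [← Subgroup.index_eq_card, ← Nat.not_even_iff_odd, even_iff_two_dvd]
    intro h3
    have h4 : (T : Subgroup K).relIndex N ∣ (T : Subgroup K).index := by
      rw [← Subgroup.relIndex_mul_index hT]
      exact dvd_mul_right _ _
    have h5 : 2 ∣ (T : Subgroup K).index := h3.trans h4
    exact T.not_dvd_index h5
  exact Group.isSolvable_of_ker_le_range (((T : Subgroup K).subgroupOf N).subtype)
    (QuotientGroup.mk' ((T : Subgroup K).subgroupOf N)) (by
      rw [QuotientGroup.ker_mk', Subgroup.range_subtype])

/-- `D` perfect, normalising a subgroup `E` with the Schreier property and a subgroup `T` of `E` with solvable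
normaliser, is trivial on `E`. -/
theorem tr_of_sch {D : Subgroup (MulAut K)} (hD : ⁅D, D⁆ = D) {E T : Subgroup K} (hT : Inv D T) (hE : Inv D E)
    (hTE : T ≤ E) (hs : Group.IsSolvable (Subgroup.normalizer (T : Set K))) (h : Sch E) : Tr D E := by
  apply tr_of_solvable_range hD hE
  -- the range is contained in the image of the normaliser
  set N : Subgroup E := (Subgroup.normalizer (T : Set K)).subgroupOf E with hN
  have hNs : Group.IsSolvable N := by
    let f : N →* Subgroup.normalizer (T : Set K) :=
      { toFun := fun x => ⟨((x : E) : K), x.2⟩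
        map_one' := rfl
        map_mul' := fun _ _ => rfl }
    have hf : Function.Injective f := by
      intro x y hxy
      have h1 : ((x : E) : K) = ((y : E) : K) := congrArg (fun k : Subgroup.normalizer (T : Set K) => (k : K)) hxy
      exact Subtype.ext (Subtype.ext h1)
    exact Group.isSolvable_of_isSolvable_injective hf
  have h1 : hE.res.range ≤ N.map (MulAut.conj : E →* MulAut E) := by
    have hperf : ⁅hE.res.range, hE.res.range⁆ = hE.res.range := by
      rw [MonoidHom.range_eq_map]
      exact map_perfect _ (top_perfect hD)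
    intro ψ hψ
    obtain ⟨c, hc⟩ := h _ hperf hψ
    refine ⟨c, ?_, hc⟩
    obtain ⟨φ, rfl⟩ := hψ
    have h2 : ∀ x : E, (c : K) * x * (c : K)⁻¹ = (φ : MulAut K) x := by
      intro x
      have h3 := congrArg (fun χ : MulAut E => ((χ x : E) : K)) hc
      exact h3
    show (c : K) ∈ Subgroup.normalizer (T : Set K)
    rw [Subgroup.mem_normalizer_iff]
    intro k
    constructor
    · intro hk
      rw [h2 ⟨k, hTE hk⟩]
      exact hT.apply_mem φ.2 hk
    · intro hk
      have hk' : k ∈ E := by
        have h4 : (c : K)⁻¹ * ((c : K) * k * (c : K)⁻¹) * c ∈ E := E.mul_mem (E.mul_mem (inv_mem c.2) (hTE hk)) c.2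
        have h5 : (c : K)⁻¹ * ((c : K) * k * (c : K)⁻¹) * c = k := by group
        rwa [h5] at h4
      rw [h2 ⟨k, hk'⟩] at hk
      exact (hT.apply_mem_iff φ.2).1 hk
  have h2 : Group.IsSolvable (N.map (MulAut.conj : E →* MulAut E)) :=
    Group.isSolvable_of_surjective ((MulAut.conj : E →* MulAut E).subgroupMap_surjective N)
  exact Group.isSolvable_of_isSolvable_injective (Subgroup.inclusion_injective h1)

end Cfsg.Agent.Schreier.CentExt
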