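import Cfsg.Prelude.Def_LieChev
import Cfsg.Agent.Schreier.ChevSch

/-!
# The Schreier property of the Chevalley groups `G₂`, `F₄`, `E₆`, `E₇`, `E₈` (and `B₂`, `D₄`) over finite fields
-/

set_option autoImplicit false

namespace Cfsg.Agent.Schreier.Chev

open Cfsg Cfsg.Lie Cfsg.Agent.Schreier.Basic Cfsg.Agent.Schreier.ChevSch

universe u v

variable (F : Type u) [Field F] [Finite F]

theorem sch_g2 [IsSimpleGroup ↥(chevG2.group F)] : Sch ↥(chevG2.group F) :=
  sch_of_rank_le_four F (by simp) (by decide)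

theorem sch_b2 [IsSimpleGroup ↥(chevB2.group F)] : Sch ↥(chevB2.group F) :=
  sch_of_rank_le_four F (by simp) (by decide)

theorem sch_d4 [IsSimpleGroup ↥(chevD4.group F)] : Sch ↥(chevD4.group F) :=
  sch_of_rank_le_four F (by simp) (by decide)

theorem sch_f4 [IsSimpleGroup ↥(chevF4.group F)] : Sch ↥(chevF4.group F) :=
  sch_of_rank_le_four F (by simp) (by decide)

/-- The edges of the diagram of a datum. -/
def adj (D : ChevalleyDatum) (i j : Fin D.rank) : Prop := i ≠ j ∧ D.cartan i (D.simple j) ≠ 0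

instance (D : ChevalleyDatum) : DecidableRel (adj D) := fun i j => by
  unfold adj; infer_instance

/-- The distance to the node of valency three in the diagrams `E₆`, `E₇`, `E₈`. -/
def rk (D : ChevalleyDatum) (i : Fin D.rank) : ℕ := [2, 1, 1, 0, 1, 2, 3, 4].getD i 0

/-- The combinatorial facts about the diagram. -/
def chk (D : ChevalleyDatum) : Prop :=
  (Finset.univ.filter fun i : Fin D.rank => (Finset.univ.filter fun j => adj D i j).card = 3).card ≤ 4 ∧
  (∀ i : Fin D.rank, (Finset.univ.filter fun j => adj D i j).card ≤ 4) ∧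
  ∀ i : Fin D.rank, (Finset.univ.filter fun j => adj D i j).card = 3 ∨ ∃ j, adj D j i ∧ rk D j < rk D i

instance (D : ChevalleyDatum) : Decidable (chk D) := by
  unfold chk; infer_instance

theorem chk_e6 : chk chevE6 := by decide +kernel
theorem chk_e7 : chk chevE7 := by decide +kernel
theorem chk_e8 : chk chevE8 := by decide +kernel

theorem sch_of_chk {D : ChevalleyDatum} (hD : ChevalleyStructure.Elts.InList D) [IsSimpleGroup ↥(D.group F)]
    (h : chk D) : Sch ↥(D.group F) :=
  sch_of_diagram F hD (adj D) (fun _ h => h.1 rfl) (fun _ _ hij => ⟨fun h => h.2, fun h => ⟨hij, h⟩⟩) 3 h.1 h.2.1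
    (rk D) h.2.2

theorem sch_e6 [IsSimpleGroup ↥(chevE6.group F)] : Sch ↥(chevE6.group F) :=
  sch_of_chk F (by simp) chk_e6

theorem sch_e7 [IsSimpleGroup ↥(chevE7.group F)] : Sch ↥(chevE7.group F) :=
  sch_of_chk F (by simp) chk_e7

theorem sch_e8 [IsSimpleGroup ↥(chevE8.group F)] : Sch ↥(chevE8.group F) :=
  sch_of_chk F (by simp) chk_e8

/-- Transfer along an isomorphism. -/
theorem sch_of_equiv {M : Type u} [Group M] (h : ∀ [IsSimpleGroup M], Sch M) {K : Type v} [Group K]
    [IsSimpleGroup K] (e : Nonempty (K ≃* M)) : Sch K := by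
  obtain ⟨e⟩ := e
  have h1 : Nontrivial M := e.symm.toEquiv.nontrivial
  have h2 : IsSimpleGroup M := IsSimpleGroup.isSimpleGroup_of_surjective e.toMonoidHom e.surjective
  exact Sch.of_equiv e.symm h

theorem sch_of_isoChevG2 {K : Type v} [Group K] [IsSimpleGroup K] (h : IsoChevG2 K) : Sch K := by
  obtain ⟨F, _, _, -, e⟩ := h
  exact sch_of_equiv (sch_g2 F) e

theorem sch_of_isoF4 {K : Type v} [Group K] [IsSimpleGroup K] (h : IsoF4 K) : Sch K := by
  obtain ⟨F, _, _, e⟩ := h
  exact sch_of_equiv (sch_f4 F) e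

theorem sch_of_isoChevE6 {K : Type v} [Group K] [IsSimpleGroup K] (h : IsoChevE6 K) : Sch K := by
  obtain ⟨F, _, _, e⟩ := h
  exact sch_of_equiv (sch_e6 F) e

theorem sch_of_isoE7 {K : Type v} [Group K] [IsSimpleGroup K] (h : IsoE7 K) : Sch K := by
  obtain ⟨F, _, _, e⟩ := h
  exact sch_of_equiv (sch_e7 F) e

theorem sch_of_isoE8 {K : Type v} [Group K] [IsSimpleGroup K] (h : IsoE8 K) : Sch K := by
  obtain ⟨F, _, _, e⟩ := h
  exact sch_of_equiv (sch_e8 F) e

end Cfsg.Agent.Schreier.Chev
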