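import Mathlib
import Cfsg.Prelude.Def_Classical
import Cfsg.Agent.Schreier.ClassPSL
import Cfsg.Agent.Schreier.ClassPSp
import Cfsg.Agent.Schreier.ClassPOmega

/-!
# The Schreier property of the classical groups of the known list (except `PSU`)
-/

set_option autoImplicit false

namespace Cfsg.Agent.Schreier.ClassAll

open Cfsg Cfsg.Agent.Schreier.Basic

theorem sch_psl {G : Type*} [Group G] (h : IsPSL G) : Sch G := by
  obtain ⟨F, _, _, n, hn, -, ⟨e⟩⟩ := h
  exact Sch.of_equiv e.symm (ClassPSL.sch hn)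

theorem sch_psp {G : Type*} [Group G] (h : IsPSp G) : Sch G := by
  obtain ⟨F, _, _, m, hm, h2, ⟨e⟩⟩ := h
  exact Sch.of_equiv e.symm (ClassPSp.sch hm fun h3 => by
    rw [Nat.card_eq_fintype_card]; exact h2 h3)

theorem sch_pomegaOdd {G : Type*} [Group G] (h : IsPOmegaOdd G) : Sch G := by
  obtain ⟨F, _, _, m, hm, hodd, ⟨e⟩⟩ := h
  exact Sch.of_equiv e.symm (ClassPOmega.sch_odd hm
    (Cfsg.Agent.LieClassical.PomegaCard.odd_card_iff.1 hodd))

theorem sch_pomegaPlus {G : Type*} [Group G] (h : IsPOmegaPlus G) : Sch G := by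
  obtain ⟨F, _, _, m, hm, ⟨e⟩⟩ := h
  exact Sch.of_equiv e.symm (ClassPOmega.sch_plus hm)

theorem sch_pomegaMinus {G : Type*} [Group G] (h : IsPOmegaMinus G) : Sch G := by
  obtain ⟨F, _, _, m, a, b, hm, hab, ⟨e⟩⟩ := h
  exact Sch.of_equiv e.symm (ClassPOmega.sch_minus hm a b hab)

end Cfsg.Agent.Schreier.ClassAll
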