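import Mathlib
import Cfsg.Prelude.Def_Local
import Cfsg.Agent.ClassificationK.PCompTransport
import Cfsg.Agent.Schreier.Basic
import Cfsg.Agent.Schreier.Balance

/-!
# L-balance for groups whose composition factors have the Schreier property

`l_balance_of_factors` is L-balance for `p`-subgroups; `l_balance_commuting` is the version for two commuting elements
of order `p` (both of them under the hypothesis that non-abelian composition factors have the Schreier property).
-/

set_option autoImplicit false

open scoped commutatorElement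

namespace Cfsg.Agent.Schreier.KBalance

open Cfsg Cfsg.Agent.Lib Cfsg.Agent.SignalizersComponents Cfsg.Agent.Schreier.Basic

/-- All the non-abelian composition factors have the Schreier property. -/
def SchFactors (X : Type*) [Group X] : Prop :=
  ∀ (H : Subgroup X), H.IsSubnormal → ∀ (N : Subgroup H) [N.Normal],
    IsSimpleGroup (H ⧸ N) → ¬ IsMulCommutative (H ⧸ N) → Sch (H ⧸ N)

/-- The quotient of the source by the preimage of a normal subgroup, for a surjective homomorphism. -/
noncomputable def quotientComapEquiv {A B : Type*} [Group A] [Group B] (f : A →* B) (hf : Function.Surjective f)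
    (M : Subgroup B) [M.Normal] : A ⧸ M.comap f ≃* B ⧸ M :=
  (QuotientGroup.quotientMulEquivOfEq (by
    rw [← MonoidHom.comap_ker, QuotientGroup.ker_mk'] :
      M.comap f = ((QuotientGroup.mk' M).comp f).ker)).trans
    (QuotientGroup.quotientKerEquivOfSurjective ((QuotientGroup.mk' M).comp f)
      ((QuotientGroup.mk'_surjective M).comp hf))

theorem not_isMulCommutative_of_equiv {A B : Type*} [Group A] [Group B] (e : A ≃* B)
    (h : ¬ IsMulCommutative B) : ¬ IsMulCommutative A := by
  intro hA
  apply h
  refine ⟨⟨fun x y => ?_⟩⟩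
  have h1 := hA.is_comm.comm (e.symm x) (e.symm y)
  have h2 := congrArg e h1
  simpa using h2

theorem isSimpleGroup_of_equiv {A B : Type*} [Group A] [Group B] (e : A ≃* B) (h : IsSimpleGroup B) :
    IsSimpleGroup A := e.isSimpleGroup

/-- The simple quotient of a quasisimple group is not commutative. -/
theorem not_isMulCommutative_quotient {L : Type*} [Group L] (hL : IsQuasisimple L) :
    ¬ IsMulCommutative (L ⧸ Subgroup.center L) := by
  intro h
  have h1 := Balance.center_quotient_eq_bot hL
  have hs := hL.2
  have h2 : Subgroup.center (L ⧸ Subgroup.center L) = ⊤ := by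
    rw [eq_top_iff]
    intro x _
    rw [Subgroup.mem_center_iff]
    intro g
    exact h.is_comm.comm g x
  rw [h1] at h2
  exact bot_ne_top h2

/-- L-balance for a group whose non-abelian composition factors have the Schreier property. -/
theorem l_balance_of_factors {X : Type*} [Group X] [Finite X] (hX : SchFactors X) (p : ℕ) [hp : Fact p.Prime]
    (R : Subgroup X) (hR : IsPGroup p R) :
    (pLayer p ↥(Subgroup.centralizer (R : Set X))).map (Subgroup.centralizer (R : Set X)).subtype ≤
      pLayer p X := by
  refine Balance.l_balance ?_ R hR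
  intro E hE
  -- the preimage of `E` and of its centre
  let π := QuotientGroup.mk' (pPrimeCore p X)
  let H : Subgroup X := E.comap π
  let f : H →* E := π.subgroupComap E
  have hf : Function.Surjective f := π.subgroupComap_surjective_of_surjective E (QuotientGroup.mk'_surjective _)
  let e : H ⧸ (Subgroup.center E).comap f ≃* E ⧸ Subgroup.center E := quotientComapEquiv f hf _
  have h1 : IsSimpleGroup (H ⧸ (Subgroup.center E).comap f) := isSimpleGroup_of_equiv e hE.2.2
  have h2 : ¬ IsMulCommutative (H ⧸ (Subgroup.center E).comap f) :=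
    not_isMulCommutative_of_equiv e (not_isMulCommutative_quotient hE.2)
  exact Sch.of_equiv e (hX H (hE.1.comap π) _ h1 h2)

/-- The Schreier property of composition factors is inherited along injective homomorphisms with subnormal
range. -/
theorem SchFactors.of_injective {Y X : Type*} [Group Y] [Group X] (hX : SchFactors X) (φ : Y →* X)
    (hφ : Function.Injective φ) (hr : φ.range.IsSubnormal) : SchFactors Y := by
  intro H hH N hN h1 h2
  have hH' : (H.map φ).IsSubnormal := by
    have h2 := (hH.map φ.rangeRestrict_surjective).trans' hr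
    rwa [Subgroup.map_map, MonoidHom.subtype_comp_rangeRestrict] at h2
  let e : H ≃* H.map φ := H.equivMapOfInjective φ hφ
  let f : H.map φ →* H := e.symm.toMonoidHom
  have hf : Function.Surjective f := e.symm.surjective
  let e' : (H.map φ) ⧸ N.comap f ≃* H ⧸ N := quotientComapEquiv f hf N
  exact Sch.of_equiv e' (hX _ hH' _ (isSimpleGroup_of_equiv e' h1) (not_isMulCommutative_of_equiv e' h2))

/-- The preimage of a `p`-component under an injective homomorphism with subnormal range containing it is a
`p`-component. -/
theorem isPComponent_comap {G X : Type*} [Group G] [Group X] [Finite G] [Finite X] (p : ℕ) (φ : G →* X)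
    (hφ : Function.Injective φ) (hrange : φ.range.IsSubnormal) {K : Subgroup X} (hK : IsPComponent p K)
    (hle : K ≤ φ.range) : IsPComponent p (K.comap φ) := by
  have hker : (Nat.card φ.ker).Coprime p := by
    rw [(MonoidHom.ker_eq_bot_iff φ).2 hφ]
    simp
  have hcomap := ClassificationK.PCompTransport.comap_pPrimeCore p φ hker hrange
  obtain ⟨hsub, hcomp, hmin⟩ := hK
  let π : G →* G ⧸ pPrimeCore p G := QuotientGroup.mk' (pPrimeCore p G)
  let ρ : X →* X ⧸ pPrimeCore p X := QuotientGroup.mk' (pPrimeCore p X)
  let ψ : G ⧸ pPrimeCore p G →* X ⧸ pPrimeCore p X :=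
    QuotientGroup.map _ _ φ hcomap.ge
  have hψ : ψ.comp π = ρ.comp φ := by
    ext x
    rfl
  have hψinj : Function.Injective ψ := by
    rw [← MonoidHom.ker_eq_bot_iff, eq_bot_iff]
    intro x hx
    induction x using QuotientGroup.induction_on with
    | H x =>
      have h1 : ((φ x : X) : X ⧸ pPrimeCore p X) = 1 := hx
      rw [QuotientGroup.eq_one_iff, ← Subgroup.mem_comap, hcomap] at h1
      rw [Subgroup.mem_bot]
      exact (QuotientGroup.eq_one_iff x).mpr h1
  have hmapmap : ∀ H : Subgroup G, (H.map φ).map ρ = (H.map π).map ψ := by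
    intro H
    rw [Subgroup.map_map, Subgroup.map_map, hψ]
  have hKK : (K.comap φ).map φ = K := Subgroup.map_comap_eq_self hle
  refine ⟨hsub.comap φ, ⟨(hsub.comap φ).map (QuotientGroup.mk'_surjective _), ?_⟩, ?_⟩
  · have e : ((K.comap φ).map π) ≃* (K.map ρ) := by
      have h1 : K.map ρ = ((K.comap φ).map π).map ψ := by
        rw [← hmapmap, hKK]
      rw [h1]
      exact ((K.comap φ).map π).equivMapOfInjective ψ hψinj
    exact Components.isQuasisimple_of_mulEquiv e.symm hcomp.2
  · intro H hH hHle hmap
    have hH' : (H.map φ).IsSubnormal := by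
      have h2 := (hH.map φ.rangeRestrict_surjective).trans' hrange
      rwa [Subgroup.map_map, MonoidHom.subtype_comp_rangeRestrict] at h2
    have h1 : (H.map φ).map ρ = K.map ρ := by
      rw [hmapmap,
        show H.map π = (K.comap φ).map π from hmap, ← hmapmap, hKK]
    have h2 := hmin (H.map φ) hH' (by rw [← hKK]; exact Subgroup.map_mono hHle) h1
    apply Subgroup.map_injective hφ
    rw [h2, hKK]

/-- The `p`-layer maps into the `p`-layer under injective homomorphisms with subnormal range. -/
theorem map_pLayer_le {G X : Type*} [Group G] [Group X] [Finite G] [Finite X] (p : ℕ) (φ : G →* X)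
    (hφ : Function.Injective φ) (hrange : φ.range.IsSubnormal) : (pLayer p G).map φ ≤ pLayer p X := by
  rw [Subgroup.map_le_iff_le_comap]
  refine sSup_le fun K hK => ?_
  rw [← Subgroup.map_le_iff_le_comap]
  refine le_sSup (ClassificationK.PCompTransport.isPComponent_map p φ ?_ hrange hK)
  rw [(MonoidHom.ker_eq_bot_iff φ).2 hφ]
  simp

/-- The `p`-layer is the image of the `p`-layer of a group embedded as a subnormal subgroup containing it. -/
theorem map_pLayer_eq {G X : Type*} [Group G] [Group X] [Finite G] [Finite X] (p : ℕ) (φ : G →* X)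
    (hφ : Function.Injective φ) (hrange : φ.range.IsSubnormal) (h : pLayer p X ≤ φ.range) :
    (pLayer p G).map φ = pLayer p X := by
  apply le_antisymm (map_pLayer_le p φ hφ hrange)
  refine sSup_le fun K hK => ?_
  have h1 : K ≤ φ.range := (le_sSup hK : K ≤ pLayer p X).trans h
  rw [← Subgroup.map_comap_eq_self h1]
  exact Subgroup.map_mono (le_sSup (isPComponent_comap p φ hφ hrange hK h1))

theorem map_pLayer_equiv {G X : Type*} [Group G] [Group X] [Finite G] [Finite X] (p : ℕ) (e : G ≃* X) :
    (pLayer p G).map e.toMonoidHom = pLayer p X := by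
  have h1 : e.toMonoidHom.range = ⊤ := MonoidHom.range_eq_top.mpr e.surjective
  refine map_pLayer_eq p e.toMonoidHom e.injective ?_ ?_
  · rw [h1]
    exact Subgroup.IsSubnormal.top
  · rw [h1]; exact le_top

section Commuting

variable {G : Type*} [Group G] [Finite G]

/-- A version of the `p`-layer for subgroups. -/
def PL (p : ℕ) (H : Subgroup G) : Subgroup G := (pLayer p H).map H.subtype

omit [Finite G] in
theorem PL_def (p : ℕ) (H : Subgroup G) : PL p H = (pLayer p H).map H.subtype := rfl

omit [Finite G] in
theorem PL_le (p : ℕ) (H : Subgroup G) : PL p H ≤ H := Subgroup.map_subtype_le _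

theorem PL_eq_of_subnormal (p : ℕ) {N C : Subgroup G} (h : N ≤ C) (hN : (N.subgroupOf C).IsSubnormal)
    (hC : PL p C ≤ N) : PL p N = PL p C := by
  have hr : (Subgroup.inclusion h).range.IsSubnormal := by
    rw [Subgroup.inclusion_range]; exact hN
  have h1 := map_pLayer_eq p (Subgroup.inclusion h) (Subgroup.inclusion_injective h) hr (by
    rw [Subgroup.inclusion_range]
    intro x hx
    exact hC ⟨x, hx, rfl⟩)
  rw [PL_def, PL_def, ← h1, Subgroup.map_map]
  rfl

/-- L-balance inside a subgroup. -/
theorem PL_inf_centralizer_le (p : ℕ) [hp : Fact p.Prime] {C : Subgroup G} (hC : SchFactors C) {b : G} (hbC : b ∈ C)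
    (hb : orderOf b = p) : PL p (C ⊓ Subgroup.centralizer {b}) ≤ PL p C := by
  let R : Subgroup C := Subgroup.zpowers ⟨b, hbC⟩
  have hR : IsPGroup p R := by
    apply IsPGroup.of_card_dvd_pow (n := 1)
    rw [Nat.card_zpowers, Subgroup.orderOf_mk, hb, pow_one]
  have h1 := l_balance_of_factors hC p R hR
  have h2 : (Subgroup.centralizer (R : Set C)).map C.subtype = C ⊓ Subgroup.centralizer {b} := by
    ext x
    constructor
    · rintro ⟨y, hy, rfl⟩
      refine ⟨y.2, ?_⟩
      have h3 := Subgroup.mem_centralizer_iff.1 hy ⟨b, hbC⟩ (Subgroup.mem_zpowers _)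
      change (y : G) ∈ Subgroup.centralizer ({b} : Set G)
      rw [Subgroup.mem_centralizer_iff]
      rintro _ rfl
      exact congrArg Subtype.val h3
    · rintro ⟨hx1, hx2⟩
      refine ⟨⟨x, hx1⟩, ?_, rfl⟩
      have h3 : b * x = x * b := Subgroup.mem_centralizer_iff.1 hx2 b rfl
      have h4 : Commute (⟨x, hx1⟩ : C) ⟨b, hbC⟩ := Subtype.ext h3.symm
      change (⟨x, hx1⟩ : C) ∈ Subgroup.centralizer (R : Set C)
      rw [Subgroup.mem_centralizer_iff]
      rintro _ ⟨m, rfl⟩
      exact (h4.zpow_right m).eq.symm
  -- transport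
  let e : ↥(Subgroup.centralizer (R : Set C)) ≃* ↥((Subgroup.centralizer (R : Set C)).map C.subtype) :=
    (Subgroup.centralizer (R : Set C)).equivMapOfInjective C.subtype C.subtype_injective
  have h5 : PL p ((Subgroup.centralizer (R : Set C)).map C.subtype) =
      ((pLayer p ↥(Subgroup.centralizer (R : Set C))).map (Subgroup.centralizer (R : Set C)).subtype).map
        C.subtype := by
    rw [PL_def, ← map_pLayer_equiv p e, Subgroup.map_map, Subgroup.map_map]
    rfl
  rw [← h2, h5]
  exact Subgroup.map_mono h1

/-- The `p`-layer of the intersection of the `p`-layer of `C_G(a)` with `C_G(b)`. -/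
theorem PL_eq_aux (p : ℕ) [hp : Fact p.Prime] {C : Subgroup G} (hC : SchFactors C) {b : G} (hbC : b ∈ C)
    (hb : orderOf b = p) : PL p (PL p C ⊓ Subgroup.centralizer {b}) = PL p (C ⊓ Subgroup.centralizer {b}) := by
  apply PL_eq_of_subnormal p (inf_le_inf_right _ (PL_le p C))
  · apply Subgroup.Normal.isSubnormal
    refine ⟨fun n hn g => ?_⟩
    rw [Subgroup.mem_subgroupOf] at hn ⊢
    obtain ⟨⟨x, hx, hxn⟩, hn2⟩ := hn
    refine ⟨?_, ?_⟩
    · have h1 := (ClassificationK.PCompTransport.pLayer_normal (G := C) p).conj_mem x hx ⟨g, g.2.1⟩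
      refine ⟨_, h1, ?_⟩
      change (g : G) * (x : G) * (g : G)⁻¹ = _
      rw [show (x : G) = (n : G) from hxn]
      rfl
    · exact Subgroup.mul_mem _ (Subgroup.mul_mem _ g.2.2 hn2) (Subgroup.inv_mem _ g.2.2)
  · exact le_inf (PL_inf_centralizer_le p hC hbC hb) ((PL_le p _).trans inf_le_right)

omit [Finite G] in
/-- The centralizer of an element is a composition-factor-Schreier group if the normalizer of the cyclic group is. -/
theorem schFactors_centralizer {a : G} (h : SchFactors ↥(Subgroup.normalizer (Subgroup.zpowers a : Set G))) :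
    SchFactors ↥(Subgroup.centralizer ({a} : Set G)) := by
  have hcen : Subgroup.centralizer ({a} : Set G) = Subgroup.centralizer (Subgroup.zpowers a : Set G) := by
    rw [Subgroup.zpowers_eq_closure, Subgroup.centralizer_closure]
  have hle : Subgroup.centralizer ({a} : Set G) ≤ Subgroup.normalizer (Subgroup.zpowers a : Set G) := by
    rw [hcen]
    exact Subgroup.centralizer_le_normalizer _
  refine h.of_injective (Subgroup.inclusion hle) (Subgroup.inclusion_injective hle) ?_
  rw [Subgroup.inclusion_range]
  apply Subgroup.Normal.isSubnormal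
  refine ⟨fun n hn g => ?_⟩
  rw [Subgroup.mem_subgroupOf, hcen] at hn ⊢
  rw [Subgroup.mem_centralizer_iff] at hn ⊢
  intro z hz
  have h1 : (g : G)⁻¹ * z * g ∈ Subgroup.zpowers a := (Subgroup.mem_normalizer_iff''.1 g.2 z).1 hz
  have h2 := hn _ h1
  change z * ((g : G) * n * (g : G)⁻¹) = (g : G) * n * (g : G)⁻¹ * z
  calc z * ((g : G) * n * (g : G)⁻¹) = g * (((g : G)⁻¹ * z * g) * n) * (g : G)⁻¹ := by group
    _ = g * (n * ((g : G)⁻¹ * z * g)) * (g : G)⁻¹ := by rw [h2]
    _ = _ := by group

/-- **L-balance for commuting elements of order `p`.** -/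
theorem l_balance_commuting (p : ℕ) [hp : Fact p.Prime]
    (hK : ∀ T : Subgroup G, IsPGroup p ↥T → T ≠ ⊥ → SchFactors ↥(Subgroup.normalizer (T : Set G))) (a b : G)
    (ha : orderOf a = p) (hb : orderOf b = p) (hab : a * b = b * a) :
    PL p (PL p (Subgroup.centralizer {a}) ⊓ Subgroup.centralizer {b}) =
      PL p (PL p (Subgroup.centralizer {b}) ⊓ Subgroup.centralizer {a}) := by
  have hpg : ∀ c : G, orderOf c = p → IsPGroup p (Subgroup.zpowers c) ∧ Subgroup.zpowers c ≠ ⊥ := by
    intro c hc
    refine ⟨?_, ?_⟩
    · apply IsPGroup.of_card_dvd_pow (n := 1)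
      rw [Nat.card_zpowers, hc, pow_one]
    · intro h
      rw [Subgroup.zpowers_eq_bot] at h
      rw [h, orderOf_one] at hc
      exact hp.out.one_lt.ne hc
  have hA : SchFactors ↥(Subgroup.centralizer ({a} : Set G)) :=
    schFactors_centralizer (hK _ (hpg a ha).1 (hpg a ha).2)
  have hB : SchFactors ↥(Subgroup.centralizer ({b} : Set G)) :=
    schFactors_centralizer (hK _ (hpg b hb).1 (hpg b hb).2)
  have hbA : b ∈ Subgroup.centralizer ({a} : Set G) := by
    rw [Subgroup.mem_centralizer_iff]
    rintro _ rfl
    exact hab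
  have haB : a ∈ Subgroup.centralizer ({b} : Set G) := by
    rw [Subgroup.mem_centralizer_iff]
    rintro _ rfl
    exact hab.symm
  rw [PL_eq_aux p hA hbA hb, PL_eq_aux p hB haB ha, inf_comm]

end Commuting

end Cfsg.Agent.Schreier.KBalance
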