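import Mathlib
import Cfsg.Prelude.Def_Classification2
import Cfsg.Agent.Schreier.Basic
import Cfsg.Agent.Schreier.KBalance

/-!
# The Schreier property of the known simple groups: case distinction

`Pieces` collects the Schreier property for the members of each family of the list of known finite simple groups;
`known` is the Schreier property for all the finite simple groups on the list, `balance` and `balance_commuting` are
L-balance for composition-K-groups.
-/

set_option autoImplicit false

namespace Cfsg.Agent.Schreier.Cases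

open Cfsg Cfsg.Agent.Schreier.Basic Cfsg.Agent.Schreier.KBalance

universe u

/-- The Schreier property for all finite simple groups satisfying a predicate. -/
def SchFor (P : ∀ (K : Type u) [Group K], Prop) : Prop :=
  ∀ (K : Type u) [Group K] [Finite K] [IsSimpleGroup K], ¬ IsMulCommutative K → P K → Sch K

/-- Transfer from a model in the lowest universe. -/
theorem of_model {M : Type} [Group M]
    (h : Finite M → IsSimpleGroup M → ¬ IsMulCommutative M → Sch M)
    (K : Type u) [Group K] [Finite K] [IsSimpleGroup K] (hK : ¬ IsMulCommutative K)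
    (e : Nonempty (K ≃* M)) : Sch K := by
  obtain ⟨e⟩ := e
  have h1 : Finite M := Finite.of_equiv K e.toEquiv
  have h2 : IsSimpleGroup M := isSimpleGroup_of_equiv e.symm inferInstance
  exact Sch.of_equiv e.symm (h h1 h2 (not_isMulCommutative_of_equiv e.symm hK))

/-- The Schreier property for the families of known finite simple groups. -/
structure Pieces : Prop where
  alt : SchFor.{u} @IsAlternating
  psl : SchFor.{u} @IsPSL
  psp : SchFor.{u} @IsPSp
  psu : SchFor.{u} @IsPSU
  pOmegaOdd : SchFor.{u} @IsPOmegaOdd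
  pOmegaPlus : SchFor.{u} @IsPOmegaPlus
  pOmegaMinus : SchFor.{u} @IsPOmegaMinus
  chevG2 : SchFor.{u} @Lie.IsoChevG2
  f4 : SchFor.{u} @Lie.IsoF4
  e6 : SchFor.{u} @Lie.IsoChevE6
  e7 : SchFor.{u} @Lie.IsoE7
  e8 : SchFor.{u} @Lie.IsoE8
  twistedE6 : SchFor.{u} @Lie.Iso2E6
  twistedD4 : SchFor.{u} @Lie.Iso3D4
  suzuki : SchFor.{u} @Lie.IsoSuzuki
  ree : SchFor.{u} @Lie.IsoRee
  twistedF4 : SchFor.{u} @Lie.Iso2F4
  tits : SchFor.{u} @Lie.IsoTits
  m11 : SchFor.{u} @Spor.IsoM11
  m12 : SchFor.{u} @Spor.IsoM12
  m22 : SchFor.{u} @Spor.IsoM22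
  m23 : SchFor.{u} @Spor.IsoM23
  m24 : SchFor.{u} @Spor.IsoM24
  j1 : SchFor.{u} @Spor.IsoJ1
  j2 : SchFor.{u} @Spor.IsoJ2
  j3 : SchFor.{u} @Spor.IsoJ3
  j4 : SchFor.{u} @Spor.IsoJ4
  co1 : SchFor.{u} @Spor.IsoCo1
  co2 : SchFor.{u} @Spor.IsoCo2
  co3 : SchFor.{u} @Spor.IsoCo3
  mcL : SchFor.{u} @Spor.IsoMcL
  hS : SchFor.{u} @Spor.IsoHS
  suz : SchFor.{u} @Spor.IsoSuz
  he : SchFor.{u} @Spor.IsoHe
  ru : SchFor.{u} @Spor.IsoRu
  oN : SchFor.{u} @Spor.IsoON
  ly : SchFor.{u} @Spor.IsoLy
  fi22 : SchFor.{u} @Spor.IsoFi22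
  fi23 : SchFor.{u} @Spor.IsoFi23
  fi24' : SchFor.{u} @Spor.IsoFi24'
  hN : SchFor.{u} @Spor.IsoHN
  th : SchFor.{u} @Spor.IsoTh
  b : SchFor.{u} @Spor.IsoB
  m : SchFor.{u} @Spor.IsoM

/-- The Schreier property of the known finite simple groups. -/
theorem known (h : Pieces.{u}) : SchFor.{u} @IsKnownSimple' := by
  intro K _ _ _ hK hk
  rcases hk with hk | hk | hk | hk | hk | hk | hk | hk | hk | hk
  · exfalso
    apply hK
    have h1 : Fact (Nat.card K).Prime := ⟨hk⟩
    have h2 : IsCyclic K := isCyclic_of_prime_card (p := Nat.card K) rfl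
    exact IsCyclic.isMulCommutative
  · exact h.alt K hK hk
  · exact h.psl K hK hk
  · exact h.psp K hK hk
  · exact h.psu K hK hk
  · exact h.pOmegaOdd K hK hk
  · exact h.pOmegaPlus K hK hk
  · exact h.pOmegaMinus K hK hk
  · rcases hk with hk | hk | hk | hk | hk | hk | hk | hk | hk | hk | hk
    · exact h.chevG2 K hK hk
    · exact h.f4 K hK hk
    · exact h.e6 K hK hk
    · exact h.e7 K hK hk
    · exact h.e8 K hK hk
    · exact h.twistedE6 K hK hk
    · exact h.twistedD4 K hK hk
    · exact h.suzuki K hK hk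
    · exact h.ree K hK hk
    · exact h.twistedF4 K hK hk
    · exact h.tits K hK hk
  · rcases hk with hk | hk | hk | hk | hk | hk | hk | hk | hk | hk | hk | hk | hk | hk | hk | hk | hk | hk | hk |
      hk | hk | hk | hk | hk | hk | hk
    · exact h.m11 K hK hk
    · exact h.m12 K hK hk
    · exact h.m22 K hK hk
    · exact h.m23 K hK hk
    · exact h.m24 K hK hk
    · exact h.j1 K hK hk
    · exact h.j2 K hK hk
    · exact h.j3 K hK hk
    · exact h.j4 K hK hk
    · exact h.co1 K hK hk
    · exact h.co2 K hK hk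
    · exact h.co3 K hK hk
    · exact h.mcL K hK hk
    · exact h.hS K hK hk
    · exact h.suz K hK hk
    · exact h.he K hK hk
    · exact h.ru K hK hk
    · exact h.oN K hK hk
    · exact h.ly K hK hk
    · exact h.fi22 K hK hk
    · exact h.fi23 K hK hk
    · exact h.fi24' K hK hk
    · exact h.hN K hK hk
    · exact h.th K hK hk
    · exact h.b K hK hk
    · exact h.m K hK hk

/-- The composition factors of a composition-K-group have the Schreier property. -/
theorem schFactors (h : SchFor.{u} @IsKnownSimple') {X : Type u} [Group X] [Finite X]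
    (hX : IsCompositionKGroup X) : SchFactors X := by
  intro H hH N hN h1 h2
  exact h (H ⧸ N) h2 (hX H hH N h1 h2)

/-- L-balance for composition-K-groups, from the Schreier property of the known simple groups. -/
theorem balance (h : SchFor.{u} @IsKnownSimple') {X : Type u} [Group X] [Finite X]
    (hK : IsCompositionKGroup X) (p : ℕ) [Fact p.Prime] (P : Subgroup X) (hP : IsPGroup p ↥P) :
    (pLayer p ↥(Subgroup.centralizer (P : Set X))).map (Subgroup.centralizer (P : Set X)).subtype ≤
      pLayer p X :=
  l_balance_of_factors (schFactors h hK) p P hP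

/-- L-balance for commuting elements of order `p`, from the Schreier property of the known simple groups. -/
theorem balance_commuting (h : SchFor.{u} @IsKnownSimple') {G : Type u} [Group G] [Finite G] (p : ℕ)
    [Fact p.Prime] (hK : ∀ T : Subgroup G, IsPGroup p ↥T → T ≠ ⊥ →
      IsCompositionKGroup ↥(Subgroup.normalizer (T : Set G)))
    (a b : G) (ha : orderOf a = p) (hb : orderOf b = p) (hab : a * b = b * a) :
    (pLayer p ↥((pLayer p ↥(Subgroup.centralizer ({a} : Set G))).map
        (Subgroup.centralizer ({a} : Set G)).subtype ⊓ Subgroup.centralizer ({b} : Set G))).map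
      ((pLayer p ↥(Subgroup.centralizer ({a} : Set G))).map
        (Subgroup.centralizer ({a} : Set G)).subtype ⊓ Subgroup.centralizer ({b} : Set G)).subtype =
    (pLayer p ↥((pLayer p ↥(Subgroup.centralizer ({b} : Set G))).map
        (Subgroup.centralizer ({b} : Set G)).subtype ⊓ Subgroup.centralizer ({a} : Set G))).map
      ((pLayer p ↥(Subgroup.centralizer ({b} : Set G))).map
        (Subgroup.centralizer ({b} : Set G)).subtype ⊓ Subgroup.centralizer ({a} : Set G)).subtype :=
  l_balance_commuting p (fun T hT hT1 => schFactors h (hK T hT hT1)) a b ha hb hab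

end Cfsg.Agent.Schreier.Cases
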