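import Cfsg.Agent.Schreier.ChevE
import Cfsg.Agent.Schreier.Cases

/-!
# The Schreier property of the finite simple groups G₂(q), F₄(q), E₆(q), E₇(q), E₈(q)

In the form needed for `Cfsg.Agent.Schreier.Cases.Pieces`.
-/

set_option autoImplicit false

namespace Cfsg.Agent.Schreier.ChevIso

open Cfsg Cfsg.Agent.Schreier.Basic Cfsg.Agent.Schreier.Cases

universe u

theorem chevG2 : SchFor.{u} @Lie.IsoChevG2 := by
  intro K _ _ _ hK h
  obtain ⟨F, _, _, -, e⟩ := h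
  exact of_model (fun _ h2 h3 => ChevE.sch_G2 h2 h3) K hK e

theorem f4 : SchFor.{u} @Lie.IsoF4 := by
  intro K _ _ _ hK h
  obtain ⟨F, _, _, e⟩ := h
  exact of_model (fun _ h2 h3 => ChevE.sch_F4 h2 h3) K hK e

theorem e6 : SchFor.{u} @Lie.IsoChevE6 := by
  intro K _ _ _ hK h
  obtain ⟨F, _, _, e⟩ := h
  exact of_model (fun _ h2 h3 => ChevE.sch_E6 h2 h3) K hK e

theorem e7 : SchFor.{u} @Lie.IsoE7 := by
  intro K _ _ _ hK h
  obtain ⟨F, _, _, e⟩ := h
  exact of_model (fun _ h2 h3 => ChevE.sch_E7 h2 h3) K hK e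

theorem e8 : SchFor.{u} @Lie.IsoE8 := by
  intro K _ _ _ hK h
  obtain ⟨F, _, _, e⟩ := h
  exact of_model (fun _ h2 h3 => ChevE.sch_E8 h2 h3) K hK e

end Cfsg.Agent.Schreier.ChevIso
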