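import Mathlib
import Cfsg.Agent.Schreier.Basic
import Cfsg.Agent.Schreier.Tools
import Cfsg.Agent.Schreier.SylowCrit

/-!
# Lifting perfect groups of automorphisms; Frattini arguments
-/

set_option autoImplicit false

namespace Cfsg.Agent.Schreier.Lift

open Cfsg.Agent.Schreier.Basic Cfsg.Agent.Schreier.Tools Cfsg.Agent.Schreier.SylowCrit

/-- Lifting of perfect subgroups. -/
theorem exists_perfect_lift {A B : Type*} [Group A] [Group B] [Finite A] (f : A →* B) (N : Subgroup A)
    (hN : ⁅N.map f, N.map f⁆ = N.map f) :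
    ∃ D : Subgroup A, D ≤ N ∧ ⁅D, D⁆ = D ∧ D.map f = N.map f := by
  have hanti : Antitone (derivedSeries N) := derivedSeries_antitone N
  have hst : ∃ n, derivedSeries N (n + 1) = derivedSeries N n := by
    by_contra hcon
    push Not at hcon
    have hlt : ∀ n, derivedSeries N (n + 1) < derivedSeries N n := fun n =>
      lt_of_le_of_ne (hanti (Nat.le_succ n)) (hcon n)
    have hsa : StrictAnti (derivedSeries N) := strictAnti_nat_of_succ_lt hlt
    exact not_injective_infinite_finite _ hsa.injective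
  obtain ⟨n, hn⟩ := hst
  have key : ∀ n, ((derivedSeries N n).map N.subtype).map f = N.map f := by
    intro n
    induction n with
    | zero => rw [derivedSeries_zero, ← MonoidHom.range_eq_map, Subgroup.range_subtype]
    | succ n ih => rw [derivedSeries_succ, Subgroup.map_commutator, Subgroup.map_commutator, ih, hN]
  refine ⟨(derivedSeries N n).map N.subtype, Subgroup.map_subtype_le _, ?_, key n⟩
  rw [← Subgroup.map_commutator, ← derivedSeries_succ, hn]

variable {K : Type*} [Group K]

/-- If the perfect group `C` is contained in `Inn K · N` and all perfect subgroups of `N` are inner then `C` is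
inner. -/
theorem le_inn_of_le_sup [Finite K] {C N : Subgroup (MulAut K)} (hC : ⁅C, C⁆ = C)
    (hCN : C ≤ (MulAut.conj : K →* MulAut K).range ⊔ N)
    (h : ∀ D : Subgroup (MulAut K), D ≤ N → ⁅D, D⁆ = D → D ≤ (MulAut.conj : K →* MulAut K).range) :
    C ≤ (MulAut.conj : K →* MulAut K).range := by
  have hI := conj_range_normal K
  set I : Subgroup (MulAut K) := (MulAut.conj : K →* MulAut K).range with hIdef
  have h1 : C.map (QuotientGroup.mk' I) ≤ N.map (QuotientGroup.mk' I) := by
    have h2 : C.map (QuotientGroup.mk' I) ≤ (I ⊔ N).map (QuotientGroup.mk' I) := Subgroup.map_mono hCN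
    rw [Subgroup.map_sup] at h2
    have h3 : I.map (QuotientGroup.mk' I) = ⊥ := by
      rw [Subgroup.map_eq_bot_iff, QuotientGroup.ker_mk']
    rwa [h3, bot_sup_eq] at h2
  set N0 : Subgroup (MulAut K) := N ⊓ (C.map (QuotientGroup.mk' I)).comap (QuotientGroup.mk' I) with hN0
  have h2 : N0.map (QuotientGroup.mk' I) = C.map (QuotientGroup.mk' I) := by
    apply le_antisymm
    · rintro _ ⟨x, hx, rfl⟩
      exact hx.2
    · intro y hy
      obtain ⟨n, hn, rfl⟩ := h1 hy
      exact ⟨n, ⟨hn, hy⟩, rfl⟩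
  obtain ⟨D, hDN, hD, hDmap⟩ := exists_perfect_lift (QuotientGroup.mk' I) N0
    (by rw [h2]; exact map_perfect _ hC)
  have h3 : D ≤ I := h D (hDN.trans inf_le_left) hD
  have h4 : D.map (QuotientGroup.mk' I) = ⊥ := by
    rw [Subgroup.map_eq_bot_iff, QuotientGroup.ker_mk']; exact h3
  have h5 : C.map (QuotientGroup.mk' I) = ⊥ := by rw [← h2, ← hDmap, h4]
  rwa [Subgroup.map_eq_bot_iff, QuotientGroup.ker_mk'] at h5

/-- The Schreier property from `Aut K = Inn K · N` for perfect groups. -/
theorem sch_of_sup [Finite K] (N : Subgroup (MulAut K))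
    (hN : ∀ C : Subgroup (MulAut K), ⁅C, C⁆ = C → C ≤ (MulAut.conj : K →* MulAut K).range ⊔ N)
    (h : ∀ D : Subgroup (MulAut K), D ≤ N → ⁅D, D⁆ = D → D ≤ (MulAut.conj : K →* MulAut K).range) : Sch K :=
  fun C hC => le_inn_of_le_sup hC (hN C hC) h

/-- The Frattini argument: `Aut K = Inn K · N_{Aut K}(P)`. -/
theorem inn_sup_stab_sylow [Finite K] {p : ℕ} [Fact p.Prime] (P : Sylow p K) :
    (MulAut.conj : K →* MulAut K).range ⊔ stab (P : Subgroup K) = ⊤ := by
  rw [eq_top_iff]
  intro c _
  have hp2 : IsPGroup p ((P : Subgroup K).map c.toMonoidHom) := P.2.map _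
  obtain ⟨P₂, hP₂⟩ := hp2.exists_le_sylow
  obtain ⟨n, hn⟩ := MulAction.exists_smul_eq K P P₂
  have h7 : (P : Subgroup K).map c.toMonoidHom ≤ (P : Subgroup K).map (MulAut.conj n).toMonoidHom := by
    refine hP₂.trans ?_
    rw [← hn]
    exact le_rfl
  have hT0 : Nat.card ((P : Subgroup K).map c.toMonoidHom) = Nat.card (P : Subgroup K) :=
    Nat.card_congr ((P : Subgroup K).equivMapOfInjective c.toMonoidHom c.injective).symm.toEquiv
  have h11 : (P : Subgroup K).map c.toMonoidHom = (P : Subgroup K).map (MulAut.conj n).toMonoidHom := by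
    apply Subgroup.eq_of_le_of_card_ge h7
    rw [hT0]
    exact le_of_eq (Nat.card_congr ((P : Subgroup K).equivMapOfInjective (MulAut.conj n).toMonoidHom
      (MulAut.conj n).injective).symm.toEquiv)
  have h12 : (MulAut.conj n)⁻¹ * c ∈ stab (P : Subgroup K) := by
    show (P : Subgroup K).map ((MulAut.conj n)⁻¹ * c).toMonoidHom = P
    have h2 : (P : Subgroup K).map ((MulAut.conj n)⁻¹ * c).toMonoidHom =
        ((P : Subgroup K).map c.toMonoidHom).map ((MulAut.conj n)⁻¹).toMonoidHom := by
      rw [Subgroup.map_map]; rfl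
    rw [h2, h11, Subgroup.map_map]
    have : ((MulAut.conj n)⁻¹).toMonoidHom.comp (MulAut.conj n).toMonoidHom = MonoidHom.id K := by
      ext x
      exact MulAut.inv_apply_self _ (MulAut.conj n) x
    rw [this, Subgroup.map_id]
  have h13 : c = MulAut.conj n * ((MulAut.conj n)⁻¹ * c) := by group
  rw [h13]
  exact mul_mem (Subgroup.mem_sup_left ⟨n, rfl⟩) (Subgroup.mem_sup_right h12)

/-- **Frattini criterion** at any prime. -/
theorem sch_of_sylow_stab [Finite K] {p : ℕ} [Fact p.Prime] (P : Sylow p K)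
    (h : ∀ D : Subgroup (MulAut K), ⁅D, D⁆ = D → Inv D (P : Subgroup K) →
      D ≤ (MulAut.conj : K →* MulAut K).range) : Sch K :=
  sch_of_sup (stab (P : Subgroup K)) (fun C _ => by rw [inn_sup_stab_sylow]; exact le_top)
    (fun D hDN hD => h D hD (fun φ hφ => hDN hφ))

/-- A perfect group normalising a subgroup of prime order centralises it. -/
theorem tr_of_prime_card {D : Subgroup (MulAut K)} (hD : ⁅D, D⁆ = D) {P : Subgroup K} (hP : Inv D P) {p : ℕ}
    [Fact p.Prime] (hcard : Nat.card P = p) : Tr D P := by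
  have hc : IsCyclic P := isCyclic_of_prime_card hcard
  have hcomm : ∀ f g : MulAut P, f * g = g * f := by
    intro f g
    obtain ⟨a, ha⟩ := hc.exists_generator
    obtain ⟨m, hm⟩ := ha (f a)
    obtain ⟨n, hn⟩ := ha (g a)
    replace hm : a ^ m = f a := hm
    replace hn : a ^ n = g a := hn
    apply MulEquiv.ext
    intro x
    obtain ⟨k, rfl⟩ := ha x
    have e1 : f (g (a ^ k)) = ((a ^ m) ^ n) ^ k := by
      rw [map_zpow, map_zpow, ← hn, map_zpow, ← hm]
    have e2 : g (f (a ^ k)) = ((a ^ n) ^ m) ^ k := by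
      rw [map_zpow, map_zpow, ← hm, map_zpow, ← hn]
    show f (g (a ^ k)) = g (f (a ^ k))
    have e3 : (a ^ m) ^ n = (a ^ n) ^ m := by rw [← zpow_mul, ← zpow_mul, mul_comm]
    rw [e1, e2, e3]
  have hs : Group.IsSolvable (MulAut P) := Group.isSolvable_of_comm hcomm
  exact tr_of_solvable_mulAut hD hP

end Cfsg.Agent.Schreier.Lift
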