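import Mathlib
import Cfsg.Agent.Schreier.Lift
import Cfsg.Agent.Schreier.SmallSylow

/-!
# The Schreier property from a Sylow `p`-subgroup centralising exactly two transpositions

`P` is a Sylow `p`-subgroup of `K`, normalised by the perfect group `D` of automorphisms, `z` and `c` are two commuting
involutions centralising `P`, which are permuted by `C(P)`, and the 2-elements of `C(P) ∩ C(z)` lie in `⟨z, c⟩`. Then a
Sylow 2-subgroup of `C(P)` has order 4, or 8 and is non-abelian, and `z` may be assumed to be fixed by `D`.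
-/

set_option autoImplicit false

namespace Cfsg.Agent.Schreier.FiFour

open Cfsg.Agent.Schreier.Basic Cfsg.Agent.Schreier.Tools Cfsg.Agent.Schreier.SylowCrit
  Cfsg.Agent.Schreier.Lift Cfsg.Agent.Schreier.SmallSylow

variable {K : Type*} [Group K]

theorem map_mul_aut (B : Subgroup K) (a b : MulAut K) :
    B.map (a * b).toMonoidHom = (B.map b.toMonoidHom).map a.toMonoidHom := by
  rw [Subgroup.map_map]; rfl

/-- The Frattini argument for a Sylow subgroup of an invariant subgroup. -/
theorem le_sup_stab [Finite K] {D : Subgroup (MulAut K)} {A : Subgroup K} (hA : Inv D A) {p : ℕ} [Fact p.Prime]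
    (Q : Sylow p A) :
    D ≤ (MulAut.conj : K →* MulAut K).range ⊔ stab ((Q : Subgroup A).map A.subtype) := by
  intro φ hφ
  set ψ : MulAut A := hA.res ⟨φ, hφ⟩ with hψ
  have h1 : IsPGroup p ((Q : Subgroup A).map ψ.toMonoidHom) := Q.2.map _
  obtain ⟨P₂, hP₂⟩ := h1.exists_le_sylow
  obtain ⟨n, hn⟩ := MulAction.exists_smul_eq A Q P₂
  have h2 : (Q : Subgroup A).map ψ.toMonoidHom ≤ (Q : Subgroup A).map (MulAut.conj n).toMonoidHom := by
    refine hP₂.trans ?_
    rw [← hn]
    exact le_rfl
  have h3 : (Q : Subgroup A).map ψ.toMonoidHom = (Q : Subgroup A).map (MulAut.conj n).toMonoidHom := by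
    apply Subgroup.eq_of_le_of_card_ge h2
    rw [Nat.card_congr ((Q : Subgroup A).equivMapOfInjective ψ.toMonoidHom ψ.injective).symm.toEquiv,
      Nat.card_congr ((Q : Subgroup A).equivMapOfInjective (MulAut.conj n).toMonoidHom
        (MulAut.conj n).injective).symm.toEquiv]
  have h4 : ((Q : Subgroup A).map A.subtype).map φ.toMonoidHom =
      ((Q : Subgroup A).map A.subtype).map (MulAut.conj (n : K)).toMonoidHom := by
    have e1 : ((Q : Subgroup A).map A.subtype).map φ.toMonoidHom =
        ((Q : Subgroup A).map ψ.toMonoidHom).map A.subtype := by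
      rw [Subgroup.map_map, Subgroup.map_map]; rfl
    have e2 : ((Q : Subgroup A).map A.subtype).map (MulAut.conj (n : K)).toMonoidHom =
        ((Q : Subgroup A).map (MulAut.conj n).toMonoidHom).map A.subtype := by
      rw [Subgroup.map_map, Subgroup.map_map]; rfl
    rw [e1, e2, h3]
  have h5 : (MulAut.conj (n : K))⁻¹ * φ ∈ stab ((Q : Subgroup A).map A.subtype) := by
    show ((Q : Subgroup A).map A.subtype).map ((MulAut.conj (n : K))⁻¹ * φ).toMonoidHom = _
    rw [map_mul_aut, h4, Subgroup.map_map _ _ (MulAut.conj (n : K)).toMonoidHom]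
    have : ((MulAut.conj (n : K))⁻¹).toMonoidHom.comp (MulAut.conj (n : K)).toMonoidHom = MonoidHom.id K := by
      ext x
      exact MulAut.inv_apply_self _ (MulAut.conj (n : K)) x
    rw [this, Subgroup.map_id]
  have h7 : φ = MulAut.conj (n : K) * ((MulAut.conj (n : K))⁻¹ * φ) := by group
  rw [h7]
  exact mul_mem (Subgroup.mem_sup_left ⟨n, rfl⟩) (Subgroup.mem_sup_right h5)

/-- The four-group `⟨z, c⟩`. -/
def four {z c : K} (hz : z * z = 1) (hc : c * c = 1) (hzc : z * c = c * z) : Subgroup K where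
  carrier := {x | ∃ i j : ℕ, x = z ^ i * c ^ j}
  one_mem' := ⟨0, 0, by simp⟩
  mul_mem' := by
    rintro _ _ ⟨i, j, rfl⟩ ⟨k, l, rfl⟩
    refine ⟨i + k, j + l, ?_⟩
    have h : Commute z c := hzc
    calc z ^ i * c ^ j * (z ^ k * c ^ l) = z ^ i * (c ^ j * z ^ k) * c ^ l := by simp only [mul_assoc]
      _ = z ^ i * (z ^ k * c ^ j) * c ^ l := by rw [(h.symm.pow_pow j k).eq]
      _ = z ^ (i + k) * c ^ (j + l) := by rw [pow_add, pow_add]; simp only [mul_assoc]
  inv_mem' := by
    rintro _ ⟨i, j, rfl⟩
    refine ⟨i, j, ?_⟩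
    have h : Commute z c := hzc
    apply inv_eq_of_mul_eq_one_left
    calc z ^ i * c ^ j * (z ^ i * c ^ j) = z ^ i * (c ^ j * z ^ i) * c ^ j := by simp only [mul_assoc]
      _ = z ^ i * (z ^ i * c ^ j) * c ^ j := by rw [(h.symm.pow_pow j i).eq]
      _ = (z * z) ^ i * (c * c) ^ j := by
        rw [(Commute.refl z).mul_pow, (Commute.refl c).mul_pow]; simp only [mul_assoc]
      _ = 1 := by rw [hz, hc, one_pow, one_pow, one_mul]

theorem pow_cases {z : K} (hz : z * z = 1) (i : ℕ) : z ^ i = 1 ∨ z ^ i = z := by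
  rcases Nat.even_or_odd' i with ⟨k, rfl | rfl⟩
  · left
    rw [pow_mul, pow_two, hz, one_pow]
  · right
    rw [pow_succ, pow_mul, pow_two, hz, one_pow, one_mul]

theorem mem_four {z c : K} (hz : z * z = 1) (hc : c * c = 1) (hzc : z * c = c * z) {x : K} :
    x ∈ four hz hc hzc ↔ x = 1 ∨ x = z ∨ x = c ∨ x = z * c := by
  constructor
  · rintro ⟨i, j, rfl⟩
    rcases pow_cases hz i with h1 | h1 <;> rcases pow_cases hc j with h2 | h2 <;> rw [h1, h2]
    · left; rw [one_mul]
    · right; right; left; rw [one_mul]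
    · right; left; rw [mul_one]
    · right; right; right; rfl
  · rintro (rfl | rfl | rfl | rfl)
    · exact one_mem _
    · exact ⟨1, 0, by simp⟩
    · exact ⟨0, 1, by simp⟩
    · exact ⟨1, 1, by simp⟩

theorem sch_of_two [Finite K] {p : ℕ} [Fact p.Prime] (P : Sylow p K) {z c : K} (hz : z * z = 1)
    (hc : c * c = 1) (hzc : z * c = c * z) (hne : z ≠ c)
    (hzP : ∀ x ∈ P, x * z = z * x) (hcP : ∀ x ∈ P, x * c = c * x)
    (hpz : ∀ y : K, (∀ x ∈ P, x * y = y * x) → y * z * y⁻¹ = z ∨ y * z * y⁻¹ = c)
    (hpc : ∀ y : K, (∀ x ∈ P, x * y = y * x) → y * c * y⁻¹ = z ∨ y * c * y⁻¹ = c)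
    (htwo : ∀ y : K, (∀ x ∈ P, x * y = y * x) → y * z = z * y →
      (y * y = 1 ∨ y * y = z ∨ y * y = c ∨ y * y = z * c) → (y = 1 ∨ y = z ∨ y = c ∨ y = z * c))
    (hend : ∀ D : Subgroup (MulAut K), ⁅D, D⁆ = D → (∀ φ ∈ D, (φ : MulAut K) z = z) →
      D ≤ (MulAut.conj : K →* MulAut K).range) : Sch K := by
  classical
  refine sch_of_sylow_stab P fun D hD hinv => ?_
  set A : Subgroup K := Subgroup.centralizer ((P : Subgroup K) : Set K) with hAdef
  have hA : Inv D A := hinv.centralizer
  have hAmem : ∀ {y : K}, y ∈ A ↔ ∀ x ∈ P, x * y = y * x := by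
    intro y
    rw [hAdef, Subgroup.mem_centralizer_iff]
    exact Iff.rfl
  set V : Subgroup K := four hz hc hzc with hV
  have hVmem : ∀ {y : K}, y ∈ V ↔ y = 1 ∨ y = z ∨ y = c ∨ y = z * c := mem_four hz hc hzc
  have hzV : z ∈ V := hVmem.2 (Or.inr (Or.inl rfl))
  have hcV : c ∈ V := hVmem.2 (Or.inr (Or.inr (Or.inl rfl)))
  have hzA : z ∈ A := hAmem.2 hzP
  have hcA : c ∈ A := hAmem.2 hcP
  have hVA : V ≤ A := by
    intro y hy
    rcases hVmem.1 hy with rfl | rfl | rfl | rfl
    · exact one_mem _
    · exact hzA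
    · exact hcA
    · exact mul_mem hzA hcA
  have hVsq : ∀ y ∈ V, y * y = 1 := by
    intro y hy
    rcases hVmem.1 hy with rfl | rfl | rfl | rfl
    · rw [one_mul]
    · exact hz
    · exact hc
    · calc z * c * (z * c) = z * (c * z) * c := by simp only [mul_assoc]
        _ = z * (z * c) * c := by rw [hzc]
        _ = (z * z) * (c * c) := by simp only [mul_assoc]
        _ = 1 := by rw [hz, hc, one_mul]
  have hVp : IsPGroup 2 (V.subgroupOf A) := by
    intro y
    refine ⟨1, Subtype.ext (Subtype.ext ?_)⟩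
    show ((y : A) : K) ^ (2 ^ 1) = 1
    rw [pow_one, pow_two]
    exact hVsq _ (Subgroup.mem_subgroupOf.1 y.2)
  obtain ⟨Q, hQ⟩ := hVp.exists_le_sylow
  refine le_inn_of_le_sup (N := stab ((Q : Subgroup A).map A.subtype)) hD (le_sup_stab hA Q) ?_
  set Q' : Subgroup K := (Q : Subgroup A).map A.subtype with hQ'
  have hVQ : V ≤ Q' := fun y hy => ⟨⟨y, hVA hy⟩, hQ (Subgroup.mem_subgroupOf.2 hy), rfl⟩
  have hQA : Q' ≤ A := Subgroup.map_subtype_le _
  -- 2-elements
  have hind : ∀ n : ℕ, ∀ y : K, y ∈ A → y * z = z * y → y ^ 2 ^ n = 1 → y ∈ V := by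
    intro n
    induction n with
    | zero =>
      intro y _ _ h
      rw [pow_zero, pow_one] at h
      rw [h]; exact one_mem _
    | succ n ih =>
      intro y hyA hyz h
      have h1 : y * y ∈ V := by
        apply ih _ (mul_mem hyA hyA)
        · rw [mul_assoc, hyz, ← mul_assoc, hyz, mul_assoc]
        · rw [← pow_two, ← pow_mul, ← pow_succ']
          exact h
      exact hVmem.2 (htwo y (hAmem.1 hyA) hyz (hVmem.1 h1))
  have hQV : ∀ q ∈ Q', q * z = z * q → q ∈ V := by
    rintro _ ⟨q, hq, rfl⟩ hqz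
    obtain ⟨k, hk⟩ := Q.2 ⟨q, hq⟩
    have h1 : (q : K) ^ 2 ^ k = 1 := by
      have := congrArg (fun t : (Q : Subgroup A) => ((t : A) : K)) hk
      simpa using this
    exact hind k _ q.2 hqz h1
  -- cardinalities
  let F : Finset K := {1, z, c, z * c}
  have hF4 : F.card ≤ 4 := Finset.card_le_four
  have hVF : ∀ y ∈ V, y ∈ F := by
    intro y hy
    rcases hVmem.1 hy with rfl | rfl | rfl | rfl <;> simp [F]
  have hcardV : ∀ B : Subgroup K, B ≤ V → Nat.card B ≤ 4 := by
    intro B hB
    have h1 : Nat.card B = (B : Set K).ncard := rfl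
    rw [h1]
    have h2 : (B : Set K) ⊆ (F : Set K) := fun y hy => hVF y (hB hy)
    have h3 := Set.ncard_le_ncard h2 F.finite_toSet
    rw [Set.ncard_coe_finset] at h3
    exact h3.trans hF4
  intro D' hD'N hD'
  have hQi : Inv D' Q' := fun φ hφ => hD'N hφ
  have htr : Tr D' Q' := by
    by_cases hall : ∀ q ∈ Q', q * z = z * q
    · exact tr_of_card_le_four hD' hQi (hcardV Q' fun q hq => hQV q hq (hall q hq))
    · push Not at hall
      obtain ⟨s, hs, hsz⟩ := hall
      have hszc : s * z * s⁻¹ = c := by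
        rcases hpz s (hAmem.1 (hQA hs)) with h | h
        · exact absurd (mul_inv_eq_iff_eq_mul.1 h) hsz
        · exact h
      -- the centre
      have hB := hQi.center
      set B : Subgroup K := Q' ⊓ Subgroup.centralizer (Q' : Set K) with hBdef
      have hBQ : B ≤ Q' := inf_le_left
      have hBV : B ≤ V := by
        intro b hb
        refine hQV b hb.1 ?_
        exact ((Subgroup.mem_centralizer_iff.1 hb.2) z (hVQ hzV)).symm
      have hzcB : z * c ∈ B := by
        refine Subgroup.mem_inf.2 ⟨hVQ (mul_mem hzV hcV), ?_⟩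
        rw [Subgroup.mem_centralizer_iff]
        intro q hq
        have hqA := hAmem.1 (hQA hq)
        have h1 : q * (z * c) * q⁻¹ = (q * z * q⁻¹) * (q * c * q⁻¹) := by group
        have h2 : q * (z * c) * q⁻¹ = z * c := by
          rw [h1]
          rcases hpz q hqA with e1 | e1 <;> rcases hpc q hqA with e2 | e2
          · exfalso
            apply hne
            have h3 : q * z * q⁻¹ = q * c * q⁻¹ := e1.trans e2.symm
            exact mul_left_cancel (mul_right_cancel h3)
          · rw [e1, e2]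
          · rw [e1, e2, hzc]
          · exfalso
            apply hne
            have h3 : q * z * q⁻¹ = q * c * q⁻¹ := e1.trans e2.symm
            exact mul_left_cancel (mul_right_cancel h3)
        exact mul_inv_eq_iff_eq_mul.1 h2
      have hzc1 : z * c ≠ 1 := by
        intro h
        apply hne
        calc z = z * (c * c) := by rw [hc, mul_one]
          _ = (z * c) * c := by rw [mul_assoc]
          _ = c := by rw [h, one_mul]
      have hB2 : 2 ≤ Nat.card B := by
        have : B ≠ ⊥ := by
          intro h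
          rw [h, Subgroup.mem_bot] at hzcB
          exact hzc1 hzcB
        exact Subgroup.one_lt_card_iff_ne_bot B |>.2 this
      have hQ8 : Nat.card Q' ≤ 8 := by
        have h1 : Nat.card Q' = (Q' : Set K).ncard := rfl
        rw [h1]
        have h2 : (Q' : Set K) ⊆ ((F ∪ F.image (s * ·) : Finset K) : Set K) := by
          intro q hq
          rw [Finset.coe_union, Finset.coe_image]
          rcases hpz q (hAmem.1 (hQA hq)) with h | h
          · left
            exact hVF q (hQV q hq (mul_inv_eq_iff_eq_mul.1 h))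
          · right
            refine ⟨s⁻¹ * q, ?_, by simp⟩
            apply hVF
            refine hQV _ (mul_mem (inv_mem hs) hq) ?_
            have h3 : q * z = c * q := mul_inv_eq_iff_eq_mul.1 h
            have h4 : s * z = c * s := mul_inv_eq_iff_eq_mul.1 hszc
            have h5 : s⁻¹ * c = z * s⁻¹ := by
              rw [inv_mul_eq_iff_eq_mul, ← mul_assoc, h4, mul_assoc, mul_inv_cancel, mul_one]
            calc s⁻¹ * q * z = s⁻¹ * (c * q) := by rw [mul_assoc, h3]
              _ = z * s⁻¹ * q := by rw [← mul_assoc, h5]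
              _ = z * (s⁻¹ * q) := by rw [mul_assoc]
        have h3 := Set.ncard_le_ncard h2 (Finset.finite_toSet _)
        rw [Set.ncard_coe_finset] at h3
        have h4 := Finset.card_union_le F (F.image (s * ·))
        have h5 : (F.image (s * ·)).card ≤ F.card := Finset.card_image_le
        omega
      have hidx : B.relIndex Q' ≤ 4 := by
        have h1 := card_mul_relIndex hBQ
        by_contra hlt
        push Not at hlt
        have h2 : 2 * 5 ≤ Nat.card B * B.relIndex Q' := Nat.mul_le_mul hB2 hlt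
        omega
      exact tr_of_card_index hD' hQi hB (hcardV B hBV) hidx
  exact hend D' hD' fun φ hφ => htr φ hφ z (hVQ hzV)

end Cfsg.Agent.Schreier.FiFour
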