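import Mathlib
import Cfsg.Agent.Schreier.Basic
import Cfsg.Agent.Schreier.Tools
import Cfsg.Agent.Schreier.SylowCrit
import Cfsg.Agent.Schreier.Lift

/-!
# The Schreier property from (almost) quasisimple centralisers
-/

set_option autoImplicit false

namespace Cfsg.Agent.Schreier.Step

open Cfsg.Agent.Schreier.Basic Cfsg.Agent.Schreier.Tools Cfsg.Agent.Schreier.SylowCrit
  Cfsg.Agent.Schreier.Lift

variable {K : Type*} [Group K]

/-- The action of `D` on the quotient of an invariant subgroup `A` by an invariant normal subgroup `J` of `A`. -/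
def resQuot {D : Subgroup (MulAut K)} {A : Subgroup K} (hA : Inv D A) (J : Subgroup A) [J.Normal]
    (hJ : ∀ φ : D, J.map (hA.res φ : A →* A) = J) : D →* MulAut (A ⧸ J) where
  toFun φ := QuotientGroup.congr J J (hA.res φ) (hJ φ)
  map_one' := by
    apply MulEquiv.ext
    intro x
    induction x using QuotientGroup.induction_on with
    | H a =>
      show (QuotientGroup.mk ((hA.res 1) a) : A ⧸ J) = QuotientGroup.mk a
      rw [map_one]
      rfl
  map_mul' φ ψ := by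
    apply MulEquiv.ext
    intro x
    induction x using QuotientGroup.induction_on with
    | H a =>
      show (QuotientGroup.mk ((hA.res (φ * ψ)) a) : A ⧸ J) = QuotientGroup.mk (hA.res φ (hA.res ψ a))
      rw [map_mul]
      rfl

theorem resQuot_mk {D : Subgroup (MulAut K)} {A : Subgroup K} (hA : Inv D A) (J : Subgroup A) [J.Normal]
    (hJ : ∀ φ : D, J.map (hA.res φ : A →* A) = J) (φ : D) (a : A) :
    resQuot hA J hJ φ (QuotientGroup.mk a) = QuotientGroup.mk (hA.res φ a) := rfl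

theorem isSolvable_zpowers (z : K) : Group.IsSolvable (Subgroup.zpowers z) := by
  apply Group.isSolvable_of_comm
  rintro ⟨_, m, rfl⟩ ⟨_, n, rfl⟩
  exact Subtype.ext ((Commute.refl z).zpow_zpow m n)

/-- The data of a quotient map `f : A → Q` whose kernel is generated by the central element `z`. -/
structure CQ (A : Subgroup K) (z : K) {Q : Type*} [Group Q] (f : A →* Q) : Prop where
  surj : Function.Surjective f
  ker : ∀ x : A, f x = 1 ↔ (x : K) ∈ Subgroup.zpowers z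
  mem : z ∈ A
  cen : ∀ x ∈ A, x * z = z * x

theorem ker_map_eq {D : Subgroup (MulAut K)} {A : Subgroup K} (hA : Inv D A) {z : K} {Q : Type*} [Group Q]
    {f : A →* Q} (h : CQ A z f) (hz : ∀ φ ∈ D, φ z = z) (φ : D) :
    f.ker.map (hA.res φ : A →* A) = f.ker := by
  have hz' : ∀ ψ ∈ D, ∀ x ∈ Subgroup.zpowers z, (ψ : MulAut K) x = x := by
    rintro ψ hψ _ ⟨n, rfl⟩
    show (ψ : MulAut K) (z ^ n) = z ^ n
    rw [map_zpow, hz ψ hψ]
  ext x
  constructor
  · rintro ⟨y, hy, rfl⟩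
    have h1 : (y : K) ∈ Subgroup.zpowers z := (h.ker y).1 (MonoidHom.mem_ker.1 hy)
    have h2 : (((hA.res φ) y : A) : K) = (y : K) := by
      rw [Inv.res_apply]; exact hz' φ φ.2 _ h1
    have h3 : (hA.res φ) y = y := Subtype.ext h2
    show (hA.res φ) y ∈ f.ker
    rw [h3]; exact hy
  · intro hx
    have h1 : (x : K) ∈ Subgroup.zpowers z := (h.ker x).1 (MonoidHom.mem_ker.1 hx)
    have h3 : (hA.res φ) x = x := Subtype.ext (by rw [Inv.res_apply]; exact hz' φ φ.2 _ h1)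
    exact ⟨x, hx, h3⟩

/-- The image of `D` in `Aut (A / ⟨z⟩)` acts through inner automorphisms. -/
theorem exists_inner {D : Subgroup (MulAut K)} (hD : ⁅D, D⁆ = D) {A : Subgroup K} (hA : Inv D A) {z : K}
    {Q : Type*} [Group Q] {f : A →* Q} (h : CQ A z f) (hz : ∀ φ ∈ D, φ z = z) (hQ : Sch Q)
    {φ : MulAut K} (hφ : φ ∈ D) :
    ∃ a ∈ A, ∀ x ∈ A, (a * x * a⁻¹)⁻¹ * φ x ∈ Subgroup.zpowers z := by
  set ρ := resQuot hA f.ker (ker_map_eq hA h hz) with hρ
  have hQ' : Sch (A ⧸ f.ker) := hQ.of_equiv (QuotientGroup.quotientKerEquivOfSurjective f h.surj).symm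
  have hperf : ⁅(⊤ : Subgroup D).map ρ, (⊤ : Subgroup D).map ρ⁆ = (⊤ : Subgroup D).map ρ :=
    map_perfect ρ (top_perfect hD)
  obtain ⟨q, hq⟩ := hQ' _ hperf ⟨⟨φ, hφ⟩, Subgroup.mem_top _, rfl⟩
  obtain ⟨a, rfl⟩ := QuotientGroup.mk_surjective q
  refine ⟨a, a.2, fun x hx => ?_⟩
  have h1 := DFunLike.congr_fun hq (QuotientGroup.mk (⟨x, hx⟩ : A))
  rw [MulAut.conj_apply, hρ, resQuot_mk, ← QuotientGroup.mk_mul, ← QuotientGroup.mk_inv, ← QuotientGroup.mk_mul,
    QuotientGroup.eq] at h1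
  exact (h.ker _).1 (MonoidHom.mem_ker.1 h1)

theorem conj_comm_aux {G : Type*} [Group G] {u v z c : G} (hu : u * z * u⁻¹ = z * c) (hv : v * z * v⁻¹ = z * c)
    (huc : u * c * u⁻¹ = c) (hvc : v * c * v⁻¹ = c) : v * u⁻¹ * z = z * (v * u⁻¹) := by
  have h1 : u * (z * c⁻¹) * u⁻¹ = z := by
    calc u * (z * c⁻¹) * u⁻¹ = (u * z * u⁻¹) * (u * c * u⁻¹)⁻¹ := by group
      _ = z := by rw [hu, huc]; group
  have h2 : v * (z * c⁻¹) * v⁻¹ = z := by
    calc v * (z * c⁻¹) * v⁻¹ = (v * z * v⁻¹) * (v * c * v⁻¹)⁻¹ := by group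
      _ = z := by rw [hv, hvc]; group
  calc v * u⁻¹ * z = v * u⁻¹ * (u * (z * c⁻¹) * u⁻¹) := by rw [h1]
    _ = (v * (z * c⁻¹) * v⁻¹) * (v * u⁻¹) := by group
    _ = z * (v * u⁻¹) := by rw [h2]

theorem CQ.conj_eq {A : Subgroup K} {z : K} {Q : Type*} [Group Q] {f : A →* Q} (h : CQ A z f) {u : K}
    (hu : u ∈ A) {c : K} (hc : c ∈ Subgroup.zpowers z) : u * c * u⁻¹ = c := by
  obtain ⟨n, rfl⟩ := hc
  have : Commute u z := h.cen u hu
  show u * z ^ n * u⁻¹ = z ^ n
  rw [(this.zpow_right n).eq, mul_inv_cancel_right]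

/-- **STEP**: a perfect group acting trivially on `L` acts trivially on `L'`. -/
theorem tr_step {D : Subgroup (MulAut K)} (hD : ⁅D, D⁆ = D) {L L' : Subgroup K} (hL : Tr D L) (hL' : Inv D L')
    {z z' : K} {Q : Type*} [Group Q] {f : L' →* Q} (h : CQ L' z' f) (hz' : ∀ φ ∈ D, φ z' = z') (hQ : Sch Q)
    (hzL : z ∈ L) (hzL' : z ∈ L') (hcent : ∀ x ∈ L', x * z = z * x → x ∈ L) : Tr D L' := by
  classical
  set ρ := resQuot hL' f.ker (ker_map_eq hL' h hz') with hρ
  -- the elements of `L'` centralising `L ∩ L'` modulo `⟨z'⟩`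
  set M : Subgroup (L' ⧸ f.ker) := (L.subgroupOf L').map (QuotientGroup.mk' f.ker) with hM
  set Y : Subgroup (L' ⧸ f.ker) := Subgroup.centralizer (M : Set (L' ⧸ f.ker)) with hY
  have hcj : ∀ x : L', (QuotientGroup.mk x : L' ⧸ f.ker) ∈ Y →
      ∃ c ∈ Subgroup.zpowers z', (x : K) * z * (x : K)⁻¹ = z * c := by
    intro x hw
    rw [hY, Subgroup.mem_centralizer_iff] at hw
    have h1 := hw (QuotientGroup.mk (⟨z, hzL'⟩ : L')) ⟨⟨z, hzL'⟩, hzL, rfl⟩
    rw [← QuotientGroup.mk_mul, ← QuotientGroup.mk_mul, QuotientGroup.eq] at h1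
    have h2 : (z * (x : K))⁻¹ * ((x : K) * z) ∈ Subgroup.zpowers z' := (h.ker _).1 (MonoidHom.mem_ker.1 h1)
    refine ⟨(z * (x : K))⁻¹ * ((x : K) * z), h2, ?_⟩
    have h3 := h.conj_eq x.2 h2
    calc (x : K) * z * (x : K)⁻¹ = z * ((x : K) * ((z * (x : K))⁻¹ * ((x : K) * z)) * (x : K)⁻¹) := by group
      _ = z * ((z * (x : K))⁻¹ * ((x : K) * z)) := by rw [h3]
  -- commutators of `Y` lie in `M`
  have hYY : ⁅Y, Y⁆ ≤ M := by
    rw [Subgroup.commutator_le]
    intro w₁ hw₁ w₂ hw₂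
    obtain ⟨x, rfl⟩ := QuotientGroup.mk_surjective w₁
    obtain ⟨y, rfl⟩ := QuotientGroup.mk_surjective w₂
    obtain ⟨a, ha, hxa⟩ := hcj x hw₁
    obtain ⟨b, hb, hyb⟩ := hcj y hw₂
    refine ⟨x * y * x⁻¹ * y⁻¹, ?_, rfl⟩
    rw [SetLike.mem_coe, Subgroup.mem_subgroupOf]
    apply hcent _ (x * y * x⁻¹ * y⁻¹ : L').2
    have hab : a * b = b * a := by
      obtain ⟨m, rfl⟩ := ha
      obtain ⟨n, rfl⟩ := hb
      exact (Commute.refl z').zpow_zpow m n
    have h1 : (y : K) * (x : K) * z * ((y : K) * (x : K))⁻¹ = z * (a * b) := by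
      have h5 := h.conj_eq y.2 ha
      calc (y : K) * (x : K) * z * ((y : K) * (x : K))⁻¹
          = (y : K) * ((x : K) * z * (x : K)⁻¹) * (y : K)⁻¹ := by group
        _ = (y : K) * z * (y : K)⁻¹ * ((y : K) * a * (y : K)⁻¹) := by rw [hxa]; group
        _ = z * (a * b) := by rw [hyb, h5, hab]; group
    have h2 : (x : K) * (y : K) * z * ((x : K) * (y : K))⁻¹ = z * (a * b) := by
      have h5 := h.conj_eq x.2 hb
      calc (x : K) * (y : K) * z * ((x : K) * (y : K))⁻¹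
          = (x : K) * ((y : K) * z * (y : K)⁻¹) * (x : K)⁻¹ := by group
        _ = (x : K) * z * (x : K)⁻¹ * ((x : K) * b * (x : K)⁻¹) := by rw [hyb]; group
        _ = z * (a * b) := by rw [hxa, h5]; group
    have h3 := conj_comm_aux h1 h2 (h.conj_eq (mul_mem y.2 x.2) (mul_mem ha hb))
      (h.conj_eq (mul_mem x.2 y.2) (mul_mem ha hb))
    have h4 : ((x * y * x⁻¹ * y⁻¹ : L') : K) = (x : K) * (y : K) * ((y : K) * (x : K))⁻¹ := by
      simp only [Subgroup.coe_mul, Subgroup.coe_inv]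
      group
    rw [h4]
    exact h3
  -- the image of `D` lies in `Y`
  have hQ' : Sch (L' ⧸ f.ker) := hQ.of_equiv (QuotientGroup.quotientKerEquivOfSurjective f h.surj).symm
  set E : Subgroup (MulAut (L' ⧸ f.ker)) := (⊤ : Subgroup D).map ρ with hE
  have hperf : ⁅E, E⁆ = E := map_perfect ρ (top_perfect hD)
  have hEY : E ≤ Y.map (MulAut.conj : (L' ⧸ f.ker) →* MulAut (L' ⧸ f.ker)) := by
    intro e he
    obtain ⟨q, hq⟩ := hQ' _ hperf he
    obtain ⟨φ, -, rfl⟩ := he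
    refine ⟨q, ?_, hq⟩
    rw [SetLike.mem_coe, hY, Subgroup.mem_centralizer_iff]
    rintro _ ⟨m, hm, rfl⟩
    have h1 := DFunLike.congr_fun hq (QuotientGroup.mk m : L' ⧸ f.ker)
    rw [MulAut.conj_apply, hρ, resQuot_mk] at h1
    have h2 : hL'.res φ m = m := Subtype.ext (by
      rw [Inv.res_apply]
      exact hL φ φ.2 _ hm)
    rw [h2, mul_inv_eq_iff_eq_mul] at h1
    exact h1.symm
  have hYbot : ⁅Y, ⁅Y, Y⁆⁆ = ⊥ := by
    rw [Subgroup.commutator_eq_bot_iff_le_centralizer]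
    exact fun y hy => Subgroup.centralizer_le hYY hy
  have hEbot : E = ⊥ := by
    have h1 : E ≤ ⁅Y, Y⁆.map (MulAut.conj : (L' ⧸ f.ker) →* MulAut (L' ⧸ f.ker)) := by
      rw [Subgroup.map_commutator]
      exact hperf.symm.le.trans (Subgroup.commutator_mono hEY hEY)
    have h2 : E ≤ ⁅Y, ⁅Y, Y⁆⁆.map (MulAut.conj : (L' ⧸ f.ker) →* MulAut (L' ⧸ f.ker)) := by
      rw [Subgroup.map_commutator]
      exact hperf.symm.le.trans (Subgroup.commutator_mono hEY h1)
    rw [hYbot, Subgroup.map_bot] at h2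
    exact le_bot_iff.1 h2
  -- conclusion
  have hmod : TrMod D L' (Subgroup.zpowers z') := by
    intro φ hφ x hx
    have h1 : ρ ⟨φ, hφ⟩ = 1 := by
      have : ρ ⟨φ, hφ⟩ ∈ E := ⟨⟨φ, hφ⟩, Subgroup.mem_top _, rfl⟩
      rwa [hEbot, Subgroup.mem_bot] at this
    have h2 := DFunLike.congr_fun h1 (QuotientGroup.mk (⟨x, hx⟩ : L'))
    rw [hρ, resQuot_mk] at h2
    have h3 := h2.symm
    rw [MulAut.one_apply, QuotientGroup.eq] at h3
    exact (h.ker _).1 (MonoidHom.mem_ker.1 h3)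
  refine tr_of_trMod hD ?_ ?_ hmod
  · exact isSolvable_zpowers z'
  · rintro φ hφ _ ⟨n, rfl⟩
    show φ (z' ^ n) = z' ^ n
    rw [map_zpow, hz' φ hφ]

/-- The automorphisms normalising `L`, fixing `z` and acting trivially on `L / ⟨z⟩`. -/
def modFixer (L : Subgroup K) (z : K) : Subgroup (MulAut K) where
  carrier := {φ | L.map φ.toMonoidHom = L ∧ φ z = z ∧ ∀ x ∈ L, x⁻¹ * φ x ∈ Subgroup.zpowers z}
  one_mem' := ⟨Subgroup.map_id L, rfl, fun x _ => by simp⟩
  mul_mem' := fun {φ ψ} hφ hψ => by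
    refine ⟨(stab L).mul_mem hφ.1 hψ.1, by rw [MulAut.mul_apply, hψ.2.1, hφ.2.1], fun x hx => ?_⟩
    have h1 : ψ x ∈ L := by
      rw [← hψ.1]; exact ⟨x, hx, rfl⟩
    have h2 := mul_mem (hψ.2.2 x hx) (hφ.2.2 _ h1)
    have h3 : x⁻¹ * (φ * ψ) x = x⁻¹ * ψ x * ((ψ x)⁻¹ * φ (ψ x)) := by
      rw [MulAut.mul_apply]; group
    rw [h3]; exact h2
  inv_mem' := fun {φ} hφ => by
    refine ⟨(stab L).inv_mem hφ.1, ?_, fun x hx => ?_⟩
    · calc φ⁻¹ z = φ⁻¹ (φ z) := by rw [hφ.2.1]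
        _ = z := MulAut.inv_apply_self _ φ z
    · have hx' := hx
      rw [← hφ.1] at hx'
      obtain ⟨y, hy, rfl⟩ := hx'
      have h1 := inv_mem (hφ.2.2 y hy)
      have h2 : (φ y)⁻¹ * φ⁻¹ (φ y) = (y⁻¹ * φ y)⁻¹ := by
        rw [MulAut.inv_apply_self]; group
      show (φ y)⁻¹ * φ⁻¹ (φ y) ∈ _
      rw [h2]; exact h1

/-- **First step**: a perfect group `D` fixing `z` and normalising `L` (`L/⟨z⟩ = Q` with the Schreier property)
is inner as soon as the perfect groups acting trivially on `L` are inner. -/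
theorem le_inn_of_cq [Finite K] {D : Subgroup (MulAut K)} (hD : ⁅D, D⁆ = D) {L : Subgroup K} (hL : Inv D L)
    {z : K} {Q : Type*} [Group Q] {f : L →* Q} (h : CQ L z f) (hz : ∀ φ ∈ D, φ z = z) (hQ : Sch Q)
    (hE : ∀ E : Subgroup (MulAut K), ⁅E, E⁆ = E → Tr E L → E ≤ (MulAut.conj : K →* MulAut K).range) :
    D ≤ (MulAut.conj : K →* MulAut K).range := by
  refine le_inn_of_le_sup (N := modFixer L z) hD ?_ ?_
  · intro φ hφ
    obtain ⟨a, ha, hax⟩ := exists_inner hD hL h hz hQ hφ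
    have h1 : (MulAut.conj a)⁻¹ * φ ∈ modFixer L z := by
      have hmap : ((MulAut.conj a)⁻¹ * φ) ∈ stab L :=
        mul_mem (inv_mem (map_conj_eq_of_mem_normalizer (Subgroup.le_normalizer ha))) (hL φ hφ)
      have hinv : ∀ w : K, (MulAut.conj a)⁻¹ w = a⁻¹ * w * a := by
        intro w
        rw [← map_inv, MulAut.conj_apply, inv_inv]
      refine ⟨hmap, ?_, fun x hx => ?_⟩
      · rw [MulAut.mul_apply, hz φ hφ, hinv]
        have := h.cen a ha
        rw [mul_assoc, ← this]; group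
      · rw [MulAut.mul_apply, hinv]
        have h2 := h.conj_eq (inv_mem ha) (hax x hx)
        have h3 : x⁻¹ * (a⁻¹ * φ x * a) = a⁻¹ * ((a * x * a⁻¹)⁻¹ * φ x) * a⁻¹⁻¹ := by group
        rw [h3, h2]
        exact hax x hx
    have h2 : φ = MulAut.conj a * ((MulAut.conj a)⁻¹ * φ) := by group
    rw [h2]
    exact mul_mem (Subgroup.mem_sup_left ⟨a, rfl⟩) (Subgroup.mem_sup_right h1)
  · intro E hEN hEp
    apply hE E hEp
    refine tr_of_trMod hEp (isSolvable_zpowers z) ?_ (fun φ hφ x hx => (hEN hφ).2.2 x hx)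
    rintro φ hφ _ ⟨n, rfl⟩
    show φ (z ^ n) = z ^ n
    rw [map_zpow, (hEN hφ).2.1]

/-- The centraliser of a fixed element is invariant. -/
theorem inv_centralizer_singleton {D : Subgroup (MulAut K)} {z : K} (hz : ∀ φ ∈ D, φ z = z) :
    Inv D (Subgroup.centralizer ({z} : Set K)) := by
  refine inv_iff.2 fun φ hφ x hx => ?_
  rw [Subgroup.mem_centralizer_singleton_iff] at hx ⊢
  have := congrArg φ hx
  rwa [map_mul, map_mul, hz φ hφ] at this

/-- A group acting trivially on `K` is trivial. -/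
theorem eq_bot_of_tr_top {D : Subgroup (MulAut K)} (h : Tr D (⊤ : Subgroup K)) : D = ⊥ := by
  rw [eq_bot_iff]
  intro φ hφ
  rw [Subgroup.mem_bot]
  ext x
  exact h φ hφ x (Subgroup.mem_top x)

theorem Tr.sup {D : Subgroup (MulAut K)} {A B : Subgroup K} (hA : Tr D A) (hB : Tr D B) : Tr D (A ⊔ B) := by
  intro φ hφ
  have h1 : A ⊔ B ≤ (φ.toMonoidHom.eqLocus (MonoidHom.id K)) := by
    rw [sup_le_iff]
    exact ⟨fun a ha => hA φ hφ a ha, fun b hb => hB φ hφ b hb⟩
  exact fun x hx => h1 hx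

/-- **Two centralisers**: `K = ⟨C(z), C(z')⟩`, `z'` commutes with `z`, `C(z)/⟨z⟩` and `C(z')/⟨z'⟩` have the
Schreier property; then perfect groups of automorphisms fixing `z` are inner. -/
theorem le_inn_of_two [Finite K] {D : Subgroup (MulAut K)} (hD : ⁅D, D⁆ = D) {z z' : K}
    (hz : ∀ φ ∈ D, φ z = z) (hcomm : z * z' = z' * z)
    {Q Q' : Type*} [Group Q] [Group Q'] {f : Subgroup.centralizer ({z} : Set K) →* Q}
    {f' : Subgroup.centralizer ({z'} : Set K) →* Q'} (h : CQ _ z f) (h' : CQ _ z' f') (hQ : Sch Q) (hQ' : Sch Q')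
    (htop : Subgroup.centralizer ({z} : Set K) ⊔ Subgroup.centralizer ({z'} : Set K) = ⊤) :
    D ≤ (MulAut.conj : K →* MulAut K).range := by
  refine le_inn_of_cq hD (inv_centralizer_singleton hz) h hz hQ fun E hE htr => ?_
  have hz' : ∀ φ ∈ E, φ z' = z' := fun φ hφ =>
    htr φ hφ z' (Subgroup.mem_centralizer_singleton_iff.2 hcomm.symm)
  have h1 : Tr E (Subgroup.centralizer ({z'} : Set K)) := by
    refine tr_step hE htr (inv_centralizer_singleton hz') h' hz' hQ' (z := z)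
      (Subgroup.mem_centralizer_singleton_iff.2 rfl) (Subgroup.mem_centralizer_singleton_iff.2 hcomm) ?_
    intro x _ hxz
    exact Subgroup.mem_centralizer_singleton_iff.2 hxz
  have h2 : E = ⊥ := eq_bot_of_tr_top (by rw [← htop]; exact Tr.sup htr h1)
  rw [h2]
  exact bot_le

/-- Transport of the quotient data by conjugation. -/
theorem CQ.exists_conj {z : K} {Q : Type*} [Group Q] {f : Subgroup.centralizer ({z} : Set K) →* Q}
    (h : CQ _ z f) (g : K) :
    ∃ f' : Subgroup.centralizer ({g * z * g⁻¹} : Set K) →* Q, CQ _ (g * z * g⁻¹) f' := by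
  have hmem : ∀ x : Subgroup.centralizer ({g * z * g⁻¹} : Set K),
      g⁻¹ * (x : K) * g ∈ Subgroup.centralizer ({z} : Set K) := by
    intro x
    have hx := Subgroup.mem_centralizer_singleton_iff.1 x.2
    rw [Subgroup.mem_centralizer_singleton_iff]
    calc g⁻¹ * (x : K) * g * z = g⁻¹ * ((x : K) * (g * z * g⁻¹)) * g := by group
      _ = g⁻¹ * ((g * z * g⁻¹) * (x : K)) * g := by rw [hx]
      _ = z * (g⁻¹ * (x : K) * g) := by group
  let e : Subgroup.centralizer ({g * z * g⁻¹} : Set K) →* Subgroup.centralizer ({z} : Set K) :=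
    { toFun := fun x => ⟨g⁻¹ * (x : K) * g, hmem x⟩
      map_one' := Subtype.ext (by simp)
      map_mul' := fun x y => Subtype.ext (by simp [mul_assoc]) }
  refine ⟨f.comp e, ⟨?_, ?_, Subgroup.mem_centralizer_singleton_iff.2 rfl, fun x hx => ?_⟩⟩
  · intro q
    obtain ⟨y, rfl⟩ := h.surj q
    have hy := Subgroup.mem_centralizer_singleton_iff.1 y.2
    refine ⟨⟨g * (y : K) * g⁻¹, ?_⟩, ?_⟩
    · rw [Subgroup.mem_centralizer_singleton_iff]
      calc g * (y : K) * g⁻¹ * (g * z * g⁻¹) = g * ((y : K) * z) * g⁻¹ := by group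
        _ = g * (z * (y : K)) * g⁻¹ := by rw [hy]
        _ = g * z * g⁻¹ * (g * (y : K) * g⁻¹) := by group
    · show f (e _) = f y
      congr 1
      apply Subtype.ext
      show g⁻¹ * (g * (y : K) * g⁻¹) * g = y
      group
  · intro x
    show f (e x) = 1 ↔ _
    rw [h.ker]
    show g⁻¹ * (x : K) * g ∈ Subgroup.zpowers z ↔ _
    constructor
    · rintro ⟨n, hn⟩
      refine ⟨n, ?_⟩
      replace hn : z ^ n = g⁻¹ * (x : K) * g := hn
      show (g * z * g⁻¹) ^ n = x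
      rw [conj_zpow, hn]; group
    · rintro ⟨n, hn⟩
      refine ⟨n, ?_⟩
      replace hn : (g * z * g⁻¹) ^ n = x := hn
      show z ^ n = g⁻¹ * (x : K) * g
      rw [← hn, conj_zpow]; group
  · exact Subgroup.mem_centralizer_singleton_iff.1 hx

/-- Two conjugate centralisers. -/
theorem le_inn_of_conj [Finite K] {D : Subgroup (MulAut K)} (hD : ⁅D, D⁆ = D) {z g : K}
    (hz : ∀ φ ∈ D, φ z = z) (hcomm : z * (g * z * g⁻¹) = g * z * g⁻¹ * z)
    {Q : Type*} [Group Q] {f : Subgroup.centralizer ({z} : Set K) →* Q} (h : CQ _ z f) (hQ : Sch Q)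
    (htop : Subgroup.centralizer ({z} : Set K) ⊔ Subgroup.centralizer ({g * z * g⁻¹} : Set K) = ⊤) :
    D ≤ (MulAut.conj : K →* MulAut K).range := by
  obtain ⟨f', h'⟩ := h.exists_conj g
  exact le_inn_of_two hD hz hcomm h h' hQ hQ htop

/-- The Schreier property of a group from that of a characteristic subgroup with trivial centraliser. -/
theorem sch_of_characteristic {L : Type*} [Group L] (N : Subgroup L) [hN : N.Characteristic]
    (hC : Subgroup.centralizer (N : Set L) = ⊥) (hS : Sch N) : Sch L := by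
  intro D hD φ hφ
  have hInv : Inv D N := fun ψ _ => Subgroup.characteristic_iff_map_eq.1 hN ψ
  have hcq : CQ N (1 : L) (MonoidHom.id N) :=
    ⟨fun x => ⟨x, rfl⟩, fun x => by
      rw [MonoidHom.id_apply, Subgroup.zpowers_one_eq_bot, Subgroup.mem_bot]
      exact OneMemClass.coe_eq_one.symm, one_mem N,
      fun x _ => by simp⟩
  obtain ⟨a, ha, hax⟩ := exists_inner hD hInv hcq (fun ψ _ => map_one ψ) hS hφ
  have hax' : ∀ x ∈ N, φ x = a * x * a⁻¹ := by
    intro x hx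
    have h1 := hax x hx
    rw [Subgroup.zpowers_one_eq_bot, Subgroup.mem_bot, inv_mul_eq_one] at h1
    exact h1.symm
  refine ⟨a, ?_⟩
  ext x
  rw [MulAut.conj_apply]
  have h2 : (a * x)⁻¹ * (φ x * a) ∈ Subgroup.centralizer (N : Set L) := by
    rw [Subgroup.mem_centralizer_iff]
    intro n hn
    have h3 : x * n * x⁻¹ ∈ N := (Subgroup.normal_of_characteristic N).conj_mem n hn x
    have h4 := hax' _ h3
    rw [map_mul, map_mul, map_inv, hax' n hn] at h4
    -- `φ x * (a n a⁻¹) * (φ x)⁻¹ = a (x n x⁻¹) a⁻¹`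
    calc n * ((a * x)⁻¹ * (φ x * a)) = (a * x)⁻¹ * (a * (x * n * x⁻¹) * a⁻¹) * (φ x * a) := by group
      _ = (a * x)⁻¹ * (φ x * (a * n * a⁻¹) * (φ x)⁻¹) * (φ x * a) := by rw [h4]
      _ = (a * x)⁻¹ * (φ x * a) * n := by group
  rw [hC, Subgroup.mem_bot, inv_mul_eq_one] at h2
  rw [h2]; group

end Cfsg.Agent.Schreier.Step
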