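import Mathlib
import Cfsg.Agent.Fischer.Centralizer
import Cfsg.Agent.Schreier.Step

/-!
# Tools for the Schreier property of the Fischer groups
-/

set_option autoImplicit false

namespace Cfsg.Agent.Schreier.FiCommon

open Cfsg Cfsg.Agent.Fischer.Abstract Cfsg.Agent.Fischer.Centralizer
  Cfsg.Agent.Schreier.Basic Cfsg.Agent.Schreier.Tools Cfsg.Agent.Schreier.SylowCrit
  Cfsg.Agent.Schreier.Lift Cfsg.Agent.Schreier.Step

/-- An element of prime order of `H` fixing a point `h • z` where the `H`-orbit of `z` has size `n`, `|H| = n m`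
and `p ∤ m` does not exist. -/
theorem false_of_fix {G X : Type*} [Group G] [MulAction G X] [Finite G] (H : Subgroup G) (z : X) {n m p : ℕ}
    (hn : (MulAction.orbit H z).ncard = n) (hn0 : n ≠ 0) (hcard : Nat.card H = n * m) [Fact p.Prime] (hpm : ¬ p ∣ m)
    {x : G} (hx : x ∈ H) (hxp : orderOf x = p) {h : G} (hh : h ∈ H) (hfix : x • h • z = h • z) : False := by
  set s : H := ⟨h, hh⟩⁻¹ * ⟨x, hx⟩ * ⟨h, hh⟩ with hs
  have h1 : s ∈ MulAction.stabilizer H z := by
    rw [MulAction.mem_stabilizer_iff]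
    show (h⁻¹ * x * h) • z = z
    rw [mul_smul, mul_smul, hfix, inv_smul_smul]
  have h2 : Nat.card (MulAction.stabilizer H z) = m := by
    have e1 := (MulAction.stabilizer H z).index_mul_card
    rw [MulAction.index_stabilizer, hn, hcard] at e1
    exact Nat.eq_of_mul_eq_mul_left (Nat.pos_of_ne_zero hn0) e1
  have h3 : orderOf (⟨s, h1⟩ : MulAction.stabilizer H z) = p := by
    rw [Subgroup.orderOf_mk, hs]
    have e : (⟨h, hh⟩ : H)⁻¹ * ⟨x, hx⟩ * ⟨h, hh⟩ = MulAut.conj (⟨h, hh⟩ : H)⁻¹ ⟨x, hx⟩ := by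
      rw [MulAut.conj_apply, inv_inv]
    rw [e, MulEquiv.orderOf_eq, Subgroup.orderOf_mk, hxp]
  apply hpm
  rw [← h2, ← h3]
  exact orderOf_dvd_natCard _

variable {G X : Type*} [Group G] [MulAction G X] (R : Rank3 G X)

/-- A subgroup containing the centraliser of the base transposition and moving the base point to a non-commuting one
is everything. -/
theorem eq_top_of_exists (z2 : ∃ z, ¬ R.Com R.x0 z ∧ ¬ R.Com R.c z) (M : Subgroup G)
    (hM : C R ≤ M) (hm : ∃ m ∈ M, ¬ R.Com R.x0 (m • R.x0)) : M = ⊤ := by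
  have hstab : ∀ m ∈ M, ∀ k : G, k • (m • R.x0) = m • R.x0 → k ∈ M := by
    intro m hm k hk
    have h1 : m⁻¹ * k * m ∈ C R := by
      rw [mem_C_iff, mul_smul, mul_smul, hk, inv_smul_smul]
    have h2 : k = m * (m⁻¹ * k * m) * m⁻¹ := by group
    rw [h2]
    exact M.mul_mem (M.mul_mem hm (hM h1)) (M.inv_mem hm)
  -- points not commuting with `x0`
  have hb : ∀ y, ¬ R.Com R.x0 y → ∃ m ∈ M, m • R.x0 = y := by
    intro y hy
    obtain ⟨m, hm, hm'⟩ := hm
    obtain ⟨h, hh, hhb⟩ := R.not_com_x0_iff.1 hm'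
    obtain ⟨k, hk, hkb⟩ := R.not_com_x0_iff.1 hy
    refine ⟨k * h⁻¹ * m, M.mul_mem (M.mul_mem (hM ((mem_C_iff R _).2 hk)) (M.inv_mem (hM ((mem_C_iff R _).2 hh)))) hm, ?_⟩
    rw [mul_smul, mul_smul, ← hhb, inv_smul_smul, hkb]
  -- the point `c`
  have hc : ∃ m ∈ M, m • R.x0 = R.c := by
    obtain ⟨z, hz1, hz2⟩ := z2
    obtain ⟨m, hm, rfl⟩ := hb z hz1
    have h1 : ¬ R.Com R.x0 (m⁻¹ • R.x0) := by
      have := R.com_smul m R.x0 (m⁻¹ • R.x0)
      rw [smul_inv_smul] at this
      rw [← this]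
      exact fun h => hz1 (R.com_symm h)
    have h2 : ¬ R.Com R.x0 (m⁻¹ • R.c) := by
      have := R.com_smul m R.x0 (m⁻¹ • R.c)
      rw [smul_inv_smul] at this
      rw [← this]
      exact fun h => hz2 (R.com_symm h)
    obtain ⟨m', hm', hm'e⟩ := hb _ h2
    exact ⟨m * m', M.mul_mem hm hm', by rw [mul_smul, hm'e, smul_inv_smul]⟩
  have hall : ∀ y, ∃ m ∈ M, m • R.x0 = y := by
    intro y
    rcases R.rank3 y with h0 | ⟨h, hh, hy⟩ | h1
    · exact ⟨1, M.one_mem, by rw [one_smul, h0]⟩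
    · obtain ⟨m, hm, hmc⟩ := hc
      exact ⟨h * m, M.mul_mem (hM ((mem_C_iff R _).2 hh)) hm, by rw [mul_smul, hmc, hy]⟩
    · exact hb y (R.not_com_x0_iff.2 h1)
  rw [eq_top_iff]
  intro g _
  obtain ⟨m, hm, hmg⟩ := hall (g • R.x0)
  have h1 : m⁻¹ * g ∈ C R := by
    rw [mem_C_iff, mul_smul, ← hmg, inv_smul_smul]
  have h2 : g = m * (m⁻¹ * g) := by group
  rw [h2]
  exact M.mul_mem hm (hM h1)

/-- The centralisers of two commuting transpositions generate the group. -/
theorem sup_centralizer_eq_top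
    (z1 : ∃ z, R.Com R.x0 z ∧ z ≠ R.x0 ∧ R.Com R.b z ∧ z ≠ R.b)
    (z2 : ∃ z, ¬ R.Com R.x0 z ∧ ¬ R.Com R.c z) {g : G} (hg : g • R.x0 = R.c) :
    Subgroup.centralizer ({R.t R.x0} : Set G) ⊔ Subgroup.centralizer ({g * R.t R.x0 * g⁻¹} : Set G) = ⊤ := by
  rw [← R.map_smul, hg]
  apply eq_top_of_exists R z2 _ le_sup_left
  -- a point `b'` not commuting with `x0` and commuting with `c`
  obtain ⟨z, hz1, hz2, hz3, hz4⟩ := z1
  obtain ⟨h, hh, hhc⟩ := (R.com_x0_iff.1 hz1).resolve_left hz2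
  have h1 : ¬ R.Com R.x0 (h⁻¹ • R.b) := by
    have := R.com_smul h R.x0 (h⁻¹ • R.b)
    rw [smul_inv_smul, hh] at this
    rw [← this]
    exact R.not_com_x0_b
  have h2 : R.Com R.c (h⁻¹ • R.b) := by
    have := R.com_smul h R.c (h⁻¹ • R.b)
    rw [smul_inv_smul, hhc] at this
    rw [← this]
    exact R.com_symm hz3
  have h3 : h⁻¹ • R.b ≠ R.c := fun e => by
    apply hz4
    rw [← hhc, ← e, smul_inv_smul]
  -- an element of the stabiliser of `c` mapping `x0` to `h⁻¹ • b`
  have key : ∀ y, R.Com R.c y → y ≠ R.c → ∃ k : G, k • R.c = R.c ∧ k • R.x0 = y := by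
    intro y hy hy'
    -- both `x0` and `y` are in the link of `c = g • x0`
    have e1 : R.Com R.x0 (g⁻¹ • R.x0) := by
      have := R.com_smul g R.x0 (g⁻¹ • R.x0)
      rw [smul_inv_smul, hg] at this
      rw [← this]
      exact R.com_symm R.com_x0_c
    have e1' : g⁻¹ • R.x0 ≠ R.x0 := fun e => R.c_ne_x0 (by rw [← hg, ← e, smul_inv_smul, e])
    have e2 : R.Com R.x0 (g⁻¹ • y) := by
      have := R.com_smul g R.x0 (g⁻¹ • y)
      rw [smul_inv_smul, hg] at this
      rw [← this]
      exact hy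
    have e2' : g⁻¹ • y ≠ R.x0 := fun e => hy' (by rw [← hg, ← e, smul_inv_smul])
    obtain ⟨k1, hk1, hk1c⟩ := (R.com_x0_iff.1 e1).resolve_left e1'
    obtain ⟨k2, hk2, hk2c⟩ := (R.com_x0_iff.1 e2).resolve_left e2'
    refine ⟨g * k2 * k1⁻¹ * g⁻¹, ?_, ?_⟩
    · rw [mul_smul, mul_smul, mul_smul, ← hg, inv_smul_smul, inv_smul_eq_iff.2 hk1.symm, hk2]
    · rw [mul_smul, mul_smul, mul_smul, ← hk1c, inv_smul_smul, hk2c, smul_inv_smul]
  obtain ⟨k, hk1, hk2⟩ := key _ h2 h3
  refine ⟨k, Subgroup.mem_sup_right ((R.mem_centralizer_iff k R.c).2 hk1), ?_⟩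
  rw [hk2]
  exact h1

omit [MulAction G X] in
/-- The quotient data of a double cover with centre `⟨z⟩`. -/
theorem cq_of_cover {z : G} (hz1 : z ≠ 1) {Q : Type*} [Group Q]
    (h : IsNonsplitDoubleCover (Subgroup.centralizer ({z} : Set G)) Q) :
    ∃ f : Subgroup.centralizer ({z} : Set G) →* Q, CQ _ z f := by
  obtain ⟨h1, ⟨e⟩, _⟩ := h
  have hzm : z ∈ Subgroup.centralizer ({z} : Set G) := Subgroup.mem_centralizer_singleton_iff.2 rfl
  have hzc : (⟨z, hzm⟩ : Subgroup.centralizer ({z} : Set G)) ∈ Subgroup.center (Subgroup.centralizer ({z} : Set G)) := by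
    rw [Subgroup.mem_center_iff]
    intro g
    exact Subtype.ext (Subgroup.mem_centralizer_singleton_iff.1 g.2)
  have hcen : ∀ x : Subgroup.centralizer ({z} : Set G),
      x ∈ Subgroup.center (Subgroup.centralizer ({z} : Set G)) ↔ (x : G) ∈ Subgroup.zpowers z := by
    intro x
    constructor
    · intro hx
      have h2 : ∀ y ∈ Subgroup.center (Subgroup.centralizer ({z} : Set G)), y = 1 ∨ y = ⟨z, hzm⟩ := by
        intro y hy
        by_contra hcon
        push Not at hcon
        have hfin : Finite (Subgroup.center (Subgroup.centralizer ({z} : Set G))) :=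
          Nat.finite_of_card_ne_zero (by rw [h1]; norm_num)
        let F : Fin 3 → Subgroup.center (Subgroup.centralizer ({z} : Set G)) :=
          ![1, ⟨⟨z, hzm⟩, hzc⟩, ⟨y, hy⟩]
        have hF : Function.Injective F := by
          have n1 : (1 : Subgroup.center (Subgroup.centralizer ({z} : Set G))) ≠ ⟨⟨z, hzm⟩, hzc⟩ := fun e => by
            apply hz1
            exact (congrArg Subtype.val (congrArg Subtype.val e)).symm
          have n2 : (1 : Subgroup.center (Subgroup.centralizer ({z} : Set G))) ≠ ⟨y, hy⟩ := fun e => by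
            apply hcon.1
            exact (congrArg Subtype.val e).symm
          have n3 : (⟨⟨z, hzm⟩, hzc⟩ : Subgroup.center (Subgroup.centralizer ({z} : Set G))) ≠ ⟨y, hy⟩ := fun e => by
            apply hcon.2
            exact (congrArg Subtype.val e).symm
          intro i j hij
          fin_cases i <;> fin_cases j
          · rfl
          · exact absurd hij n1
          · exact absurd hij n2
          · exact absurd hij n1.symm
          · rfl
          · exact absurd hij n3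
          · exact absurd hij n2.symm
          · exact absurd hij n3.symm
          · rfl
        have h3 := Nat.card_le_card_of_injective F hF
        rw [h1, Nat.card_eq_fintype_card, Fintype.card_fin] at h3
        omega
      rcases h2 x hx with rfl | rfl
      · exact one_mem _
      · exact Subgroup.mem_zpowers z
    · intro hx
      rw [Subgroup.mem_center_iff]
      intro g
      apply Subtype.ext
      obtain ⟨n, hn⟩ := hx
      have hc : Commute (g : G) z := Subgroup.mem_centralizer_singleton_iff.1 g.2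
      show (g : G) * x = x * g
      rw [← hn]
      exact hc.zpow_right n
  refine ⟨e.toMonoidHom.comp (QuotientGroup.mk' _), ⟨?_, ?_, hzm, fun x hx => Subgroup.mem_centralizer_singleton_iff.1 hx⟩⟩
  · exact e.surjective.comp (QuotientGroup.mk'_surjective _)
  · intro x
    rw [← hcen]
    show e (QuotientGroup.mk x) = 1 ↔ _
    rw [map_eq_one_iff e e.injective, QuotientGroup.eq_one_iff]

/-- The element of order two in `⟨z⟩`. -/
theorem eq_of_mem_zpowers {z x : G} (hz : z * z = 1) (hx : x ∈ Subgroup.zpowers z) : x = 1 ∨ x = z := by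
  obtain ⟨n, rfl⟩ := hx
  have h2 : z ^ (2 : ℤ) = 1 := by
    rw [zpow_two, hz]
  rcases Int.even_or_odd' n with ⟨k, rfl | rfl⟩
  · left
    show z ^ (2 * k) = 1
    rw [zpow_mul, h2, one_zpow]
  · right
    show z ^ (2 * k + 1) = z
    rw [zpow_add, zpow_mul, h2, one_zpow, one_mul, zpow_one]

end Cfsg.Agent.Schreier.FiCommon
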