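import Mathlib
import Cfsg.Agent.Fischer.Order22
import Cfsg.Agent.SporRec.Fi22Iso
import Cfsg.Agent.Schreier.FiCommon
import Cfsg.Agent.Schreier.U6Eleven
import Cfsg.Agent.Schreier.PSU

/-!
# The Schreier property of `Fi22`
-/

set_option autoImplicit false

namespace Cfsg.Agent.Schreier.FiTwentyTwo

open Cfsg Cfsg.Agent.Fischer.Abstract Cfsg.Agent.Fischer.Centralizer
  Cfsg.Agent.Fischer.Group22 Cfsg.Agent.Fischer.Rank22 Cfsg.Agent.Fischer.Unit22 Cfsg.Agent.SporRec.GF4
  Cfsg.Agent.Schreier.Basic Cfsg.Agent.Schreier.Tools Cfsg.Agent.Schreier.SylowCrit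
  Cfsg.Agent.Schreier.Lift Cfsg.Agent.Schreier.Step Cfsg.Agent.Schreier.FiCommon

instance fact11 : Fact (Nat.Prime 11) := ⟨by norm_num⟩

theorem orbit_c : MulAction.orbit (C R) R.c = (Finset.Ici (⟨2817, by norm_num⟩ : Fin 3510) : Finset (Fin 3510)) := by
  ext y
  rw [Finset.coe_Ici, Set.mem_Ici]
  constructor
  · rintro ⟨k, rfl⟩
    have h1 : R.Com R.x0 ((k : G) • R.c) := by
      have := R.com_smul (k : G) R.x0 R.c
      rw [(mem_C_iff R _).1 k.2] at this
      exact this.2 R.com_x0_c
    have h2 : (k : G) • R.c ≠ R.x0 := by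
      intro h
      apply R.c_ne_x0
      have h3 := (mem_C_iff R _).1 k.2
      exact MulAction.injective (k : G) (h.trans h3.symm)
    exact link_ge ⟨(k : G) • R.c, h1, h2⟩
  · intro hy
    obtain ⟨k, hk, hk'⟩ := orbit_high y.1 y.2 hy
    have hkC : k ∈ C R := by rw [C_eq_H1]; exact hk
    exact ⟨⟨k, hkC⟩, hk'⟩

theorem orbit_b : MulAction.orbit (C R) R.b =
    (Finset.Icc (⟨1, by norm_num⟩ : Fin 3510) (⟨2816, by norm_num⟩ : Fin 3510) : Finset (Fin 3510)) := by
  ext y
  rw [Finset.coe_Icc, Set.mem_Icc]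
  constructor
  · rintro ⟨k, rfl⟩
    have h1 : ¬ R.Com R.x0 ((k : G) • R.b) := by
      have := R.com_smul (k : G) R.x0 R.b
      rw [(mem_C_iff R _).1 k.2] at this
      rw [this]
      exact R.not_com_x0_b
    have h3 : (((k : G) • R.b : X) : ℕ) ≤ 2816 := low_of_not_com h1
    refine ⟨?_, h3⟩
    by_contra hlt
    have h4 : (((k : G) • R.b : X) : ℕ) = 0 := by
      have : ¬ (1 ≤ (((k : G) • R.b : X) : ℕ)) := hlt
      omega
    apply h1
    have h5 : (k : G) • R.b = R.x0 := Fin.ext h4
    rw [h5]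
    exact R.com_self _
  · rintro ⟨h1, h2⟩
    obtain ⟨k, hk, hk'⟩ := orbit_low y.1 y.2 h1 h2
    have hkC : k ∈ C R := by rw [C_eq_H1]; exact hk
    have e : g .a • R.b = (pt 1 (by decide) : X) := by
      apply Fin.ext
      have h2 := pts_spec.2.2.2.2.2.2.2.2.2.2
      have h3 := Cfsg.Agent.Fischer.Group22.nx_nx .a (x := 1) (by decide)
      rw [h2] at h3
      exact h3
    have haC : g .a ∈ C R := by rw [C_eq_H1]; exact g_mem_H1 (s := .a) rfl
    refine ⟨⟨k, hkC⟩ * ⟨g .a, haC⟩, ?_⟩
    show (k * g .a) • R.b = y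
    rw [mul_smul, e, hk']
    rfl

theorem ncard_c : (MulAction.orbit (C R) R.c).ncard = 693 := by
  rw [orbit_c, Set.ncard_coe_finset, Fin.card_Ici]
  show 3510 - 2817 = 693
  norm_num

theorem ncard_b : (MulAction.orbit (C R) R.b).ncard = 2816 := by
  rw [orbit_b, Set.ncard_coe_finset, Fin.card_Icc]
  show 2816 + 1 - 1 = 2816
  norm_num

/-- The Schreier property for the permutation group. -/
theorem sch_G : Sch G := by
  have hfaith := Cfsg.Agent.Fischer.Even22.faithful
  have hfin : Finite G := Nat.finite_of_card_ne_zero (by rw [Cfsg.Agent.Fischer.Order22.card_G]; norm_num)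
  have hcC := Cfsg.Agent.Fischer.Order22.card_C
  -- an element of order eleven
  obtain ⟨x', hx'⟩ := exists_prime_orderOf_dvd_card' (G := C R) 11 (by rw [hcC]; norm_num)
  set x : G := (x' : G) with hxdef
  have hx : orderOf x = 11 := by rw [hxdef, Subgroup.orderOf_coe, hx']
  have hxC : x ∈ C R := x'.2
  have hx1 : x ≠ 1 := by
    intro h
    rw [h, orderOf_one] at hx
    norm_num at hx
  -- its unique fixed point
  have hfix : ∀ y : X, x • y = y → y = R.x0 := by
    intro y hy
    rcases R.rank3 y with h0 | ⟨h, hh, rfl⟩ | ⟨h, hh, rfl⟩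
    · exact h0
    · exact (false_of_fix (C R) R.c ncard_c (by norm_num) (m := 26542080) (by rw [hcC]) (p := 11) (by norm_num)
        hxC hx ((mem_C_iff R h).2 hh) hy).elim
    · exact (false_of_fix (C R) R.b ncard_b (by norm_num) (m := 6531840) (by rw [hcC]) (p := 11) (by norm_num)
        hxC hx ((mem_C_iff R h).2 hh) hy).elim
  have hcent : ∀ k : G, k * x = x * k → k ∈ C R := by
    intro k hk
    rw [mem_C_iff]
    apply hfix
    rw [← mul_smul, ← hk, mul_smul, (mem_C_iff R x).1 hxC]
  -- the Sylow subgroup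
  have hcardP : Nat.card (Subgroup.zpowers x) = 11 := by rw [Nat.card_zpowers, hx]
  have hfac : 11 ^ (Nat.card G).factorization 11 = 11 := by
    rw [Cfsg.Agent.Fischer.Order22.card_G]
    have : (64561751654400 : ℕ) = 11 ^ 1 * 5869250150400 := by norm_num
    rw [this, Nat.factorization_mul (by norm_num) (by norm_num), Nat.Prime.factorization_pow (by norm_num)]
    rw [Finsupp.add_apply, Finsupp.single_eq_same, Nat.factorization_eq_zero_of_not_dvd (by norm_num)]
    norm_num
  let P : Sylow 11 G := Sylow.ofCard (Subgroup.zpowers x) (by rw [hcardP, hfac])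
  have hPcoe : (P : Subgroup G) = Subgroup.zpowers x := rfl
  refine sch_of_sylow_stab P fun D hD hinv => ?_
  rw [hPcoe] at hinv
  have htr := tr_of_prime_card hD hinv hcardP
  have hDx : ∀ φ ∈ D, (φ : MulAut G) x = x := fun φ hφ => htr φ hφ x (Subgroup.mem_zpowers x)
  -- the double cover
  set d : G := R.t R.x0 with hd
  have hdd : d * d = 1 := R.sq
  have hd1 : d ≠ 1 := R.t_x0_ne_one
  obtain ⟨f, hf⟩ := cq_of_cover hd1 isNonsplitDoubleCover_C
  have hdx : d * x = x * d := (Subgroup.mem_centralizer_singleton_iff.1 hxC).symm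
  -- the involution is unique
  have huniq : ∀ u : G, u * u = 1 → u ≠ 1 → u * x = x * u → u = d := by
    intro u hu hu1 hux
    have huC : u ∈ C R := hcent u hux
    have h1 : f ⟨u, huC⟩ = 1 := by
      refine U6Eleven.main hF (x := f ⟨u, huC⟩) (a := f ⟨x, hxC⟩) ?_ ?_ ?_ ?_
      · rw [← map_mul, ← map_one f]
        exact congrArg f (Subtype.ext hu)
      · rw [← map_pow, ← map_one f]
        refine congrArg f (Subtype.ext ?_)
        show x ^ 11 = 1
        rw [← hx, pow_orderOf_eq_one]
      · intro h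
        rcases eq_of_mem_zpowers hdd ((hf.ker _).1 h) with h2 | h2
        · exact hx1 h2
        · have h3 : x = d := h2
          rw [h3, R.orderOf_t] at hx
          norm_num at hx
      · rw [← map_mul, ← map_mul]
        exact congrArg f (Subtype.ext hux)
    rcases eq_of_mem_zpowers hdd ((hf.ker _).1 h1) with h2 | h2
    · exact absurd h2 hu1
    · exact h2
  have hDd : ∀ φ ∈ D, (φ : MulAut G) d = d := by
    intro φ hφ
    apply huniq
    · rw [← map_mul, hdd, map_one]
    · intro h
      apply hd1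
      rw [← map_one φ] at h
      exact φ.injective h
    · have := congrArg φ hdx
      rw [map_mul, map_mul, hDx φ hφ] at this
      exact this
  obtain ⟨g, hg⟩ := R.trans R.c
  have hgd : g * d * g⁻¹ = R.t R.c := by rw [hd, ← R.map_smul, hg]
  refine le_inn_of_conj hD hDd (g := g) ?_ hf ?_ ?_
  · rw [hgd]; exact R.comm_c
  · exact Cfsg.Agent.Schreier.PSU.sch (q := 2) hF (by norm_num) (by norm_num)
  · exact sup_centralizer_eq_top R R_z1 R_z2 hg

/-- **The Schreier property of `Fi22`.** -/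
theorem sch : Sch Cfsg.Spor.Fi22 := sch_G.of_equiv Cfsg.Agent.SporRec.Fi22Iso.ψe.symm

end Cfsg.Agent.Schreier.FiTwentyTwo
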