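import Mathlib
import Cfsg.Agent.R08.FiTwentyThree
import Cfsg.Agent.Schreier.FiTwentyTwo
import Cfsg.Agent.Schreier.FiFour

/-!
# The Schreier property of `Fi23`
-/

set_option autoImplicit false
set_option linter.constructorNameAsVariable false
set_option maxRecDepth 10000

namespace Cfsg.Agent.Schreier.FiTwentyThree

open Cfsg Cfsg.Agent.Fischer.Abstract Cfsg.Agent.Fischer.Centralizer
  Cfsg.Agent.Fischer.Group22 Cfsg.Agent.Fischer.Rank22 Cfsg.Agent.Fischer.Unit22 Cfsg.Agent.SporRec.GF4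
  Cfsg.Agent.Schreier.Basic Cfsg.Agent.Schreier.Tools Cfsg.Agent.Schreier.SylowCrit
  Cfsg.Agent.Schreier.Lift Cfsg.Agent.Schreier.Step Cfsg.Agent.Schreier.FiCommon
open Cfsg.Agent.Fischer.Fi23Class (K)
open Cfsg.Agent.Fischer.Fi23Z (z0)

/-! ### Elements of order 11 of `Fi22` -/

/-- The unique fixed point. -/
theorem fix22 {x : G} (hxC : x ∈ C R) (hx : orderOf x = 11) {y : X} (hy : x • y = y) : y = R.x0 := by
  have hfin : Finite G := Nat.finite_of_card_ne_zero (by rw [Cfsg.Agent.Fischer.Order22.card_G]; norm_num)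
  have hcC := Cfsg.Agent.Fischer.Order22.card_C
  have f11 : Fact (Nat.Prime 11) := ⟨by norm_num⟩
  rcases R.rank3 y with h0 | ⟨h, hh, rfl⟩ | ⟨h, hh, rfl⟩
  · exact h0
  · exact (false_of_fix (C R) R.c FiTwentyTwo.ncard_c (by norm_num) (m := 26542080) (by rw [hcC]) (p := 11)
      (by norm_num) hxC hx ((mem_C_iff R h).2 hh) hy).elim
  · exact (false_of_fix (C R) R.b FiTwentyTwo.ncard_b (by norm_num) (m := 6531840) (by rw [hcC]) (p := 11)
      (by norm_num) hxC hx ((mem_C_iff R h).2 hh) hy).elim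

theorem two22 {x u : G} (hxC : x ∈ C R) (hx : orderOf x = 11) (hux : u * x = x * u)
    (huu : u * u = 1 ∨ u * u = R.t R.x0) : u = 1 ∨ u = R.t R.x0 := by
  have hx1 : x ≠ 1 := by
    intro h
    rw [h, orderOf_one] at hx
    norm_num at hx
  have huC : u ∈ C R := by
    rw [mem_C_iff]
    apply fix22 hxC hx
    rw [← mul_smul, ← hux, mul_smul, (mem_C_iff R x).1 hxC]
  set d : G := R.t R.x0 with hd
  have hdd : d * d = 1 := R.sq
  have hd1 : d ≠ 1 := R.t_x0_ne_one
  obtain ⟨f, hf⟩ := cq_of_cover hd1 isNonsplitDoubleCover_C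
  have h1 : f ⟨u, huC⟩ = 1 := by
    refine U6Eleven.main hF (x := f ⟨u, huC⟩) (a := f ⟨x, hxC⟩) ?_ ?_ ?_ ?_
    · rw [← map_mul, hf.ker]
      show u * u ∈ Subgroup.zpowers d
      rcases huu with h | h <;> rw [h]
      · exact one_mem _
      · exact Subgroup.mem_zpowers d
    · rw [← map_pow, ← map_one f]
      refine congrArg f (Subtype.ext ?_)
      show x ^ 11 = 1
      rw [← hx, pow_orderOf_eq_one]
    · intro h
      rcases eq_of_mem_zpowers hdd ((hf.ker _).1 h) with h2 | h2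
      · exact hx1 h2
      · have h3 : x = d := h2
        rw [h3, R.orderOf_t] at hx
        norm_num at hx
    · rw [← map_mul, ← map_mul]
      exact congrArg f (Subtype.ext hux)
  exact eq_of_mem_zpowers hdd ((hf.ker _).1 h1)

/-! ### The projection -/

/-- The projection of `K` onto the permutation group `Fi22` of degree 3510. -/
noncomputable def ρ : K →* G := (Cfsg.Agent.SporRec.Fi22Iso.ψe.toMonoidHom).comp R08.FiTwentyThree.pi

theorem ρ_apply (k : K) : ρ k = Cfsg.Agent.SporRec.Fi22Iso.ψe (R08.FiTwentyThree.pi k) := rfl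

theorem ρ_surjective : Function.Surjective ρ :=
  Cfsg.Agent.SporRec.Fi22Iso.ψe.surjective.comp R08.FiTwentyThree.pi_surjective

theorem ρ_eq {k l : K} : ρ k = ρ l ↔ k = l ∨ k = l * R08.FiTwentyThree.zK := by
  rw [ρ_apply, ρ_apply, EmbeddingLike.apply_eq_iff_eq]
  exact R08.FiTwentyThree.ext.map_eq

theorem ρ_one {k : K} : ρ k = 1 ↔ k = 1 ∨ k = R08.FiTwentyThree.zK := by
  rw [← map_one ρ, ρ_eq, one_mul]

theorem ρ_S {k : K} (hk : k ∈ R08.FiTwentyThree.S) : ∃ y : X, ρ k = R.t y := by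
  have h1 := R08.FiTwentyThree.lifted.map k hk
  rw [← R01.Fi22Facts.image_D] at h1
  obtain ⟨_, ⟨y, rfl⟩, hy⟩ := h1
  refine ⟨y, ?_⟩
  rw [ρ_apply, ← hy]
  exact Cfsg.Agent.SporRec.Fi22Iso.ψe.apply_symm_apply _

theorem exists_S (y : X) : ∃ k ∈ R08.FiTwentyThree.S, ρ k = R.t y := by
  have h1 : R01.Fi22Facts.E (R.t y) ∈ R01.Fi22Facts.T := by
    rw [← R01.Fi22Facts.image_D]
    exact ⟨R.t y, ⟨y, rfl⟩, rfl⟩
  obtain ⟨k, hk, hky⟩ := R08.FiTwentyThree.lifted.surj _ h1
  refine ⟨k, hk, ?_⟩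
  rw [ρ_apply, hky]
  exact Cfsg.Agent.SporRec.Fi22Iso.ψe.apply_symm_apply _

theorem inj_S {k l : K} (hk : k ∈ R08.FiTwentyThree.S) (hl : l ∈ R08.FiTwentyThree.S) (h : ρ k = ρ l) : k = l :=
  R08.FiTwentyThree.lifted.inj k hk l hl (Cfsg.Agent.SporRec.Fi22Iso.ψe.injective h)

/-- An element of order 11 of `K`. -/
theorem exists_x : ∃ x : K, orderOf x = 11 ∧ orderOf (ρ x) = 11 ∧ ρ x ∈ C R := by
  have hfin : Finite G := Nat.finite_of_card_ne_zero (by rw [Cfsg.Agent.Fischer.Order22.card_G]; norm_num)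
  have hcC := Cfsg.Agent.Fischer.Order22.card_C
  have f11 : Fact (Nat.Prime 11) := ⟨by norm_num⟩
  obtain ⟨x', hx'⟩ := exists_prime_orderOf_dvd_card' (G := C R) 11 (by rw [hcC]; norm_num)
  have hx2 : orderOf (x' : G) = 11 := by rw [Subgroup.orderOf_coe, hx']
  obtain ⟨k, hk⟩ := ρ_surjective (x' : G)
  have h11 : (x' : G) ^ 11 = 1 := by rw [← hx2, pow_orderOf_eq_one]
  have h12 : ρ (k ^ 12) = (x' : G) := by
    rw [map_pow, hk, show 12 = 11 + 1 from rfl, pow_succ, h11, one_mul]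
  have hk11 : ρ (k ^ 11) = 1 := by rw [map_pow, hk, h11]
  have hp : (k ^ 12) ^ 11 = 1 := by
    rw [← pow_mul, mul_comm, pow_mul]
    rcases ρ_one.1 hk11 with h | h <;> rw [h]
    · rw [one_pow]
    · rw [show 12 = 2 * 6 from rfl, pow_mul, pow_two, R08.FiTwentyThree.zz, one_pow]
  refine ⟨k ^ 12, ?_, by rw [h12]; exact hx2, by rw [h12]; exact x'.2⟩
  apply orderOf_eq_prime hp
  intro h
  rw [h, map_one] at h12
  rw [← h12, orderOf_one] at hx2
  norm_num at hx2

/-! ### The quotient data -/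

theorem centralizer_le : Subgroup.centralizer ({z0} : Set Spor.Fi23) ≤ K := fun g hg =>
  (R08.FiTwentyThree.mem_K_iff g).2 (Subgroup.mem_centralizer_singleton_iff.1 hg)

theorem cq : CQ (Subgroup.centralizer ({z0} : Set Spor.Fi23)) z0
    (R08.FiTwentyThree.pi.comp (Subgroup.inclusion centralizer_le)) where
  surj q := by
    obtain ⟨k, hk⟩ := R08.FiTwentyThree.pi_surjective q
    exact ⟨⟨k, Subgroup.mem_centralizer_singleton_iff.2 ((R08.FiTwentyThree.mem_K_iff _).1 k.2)⟩, hk⟩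
  ker x := by
    rw [MonoidHom.comp_apply, R08.FiTwentyThree.pi_ker]
    constructor
    · rintro (h | h)
      · have h1 : (x : Spor.Fi23) = 1 := congrArg Subtype.val h
        rw [h1]; exact one_mem _
      · have h1 : (x : Spor.Fi23) = z0 := congrArg Subtype.val h
        rw [h1]; exact Subgroup.mem_zpowers _
    · intro h
      have hz : z0 * z0 = 1 := congrArg Subtype.val R08.FiTwentyThree.zz
      rcases eq_of_mem_zpowers hz h with h1 | h1
      · left; exact Subtype.ext h1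
      · right; exact Subtype.ext h1
  mem := Subgroup.mem_centralizer_singleton_iff.2 rfl
  cen x hx := Subgroup.mem_centralizer_singleton_iff.1 hx

/-! ### The rank three data -/

section rank

open Cfsg.Agent.Fischer.Fi23Hom (gen)
open Cfsg.Spor Cfsg.Spor.Fi23

/-- Adjacent generators which commute are equal. -/
theorem eq_of_comm {x y : Gen} (h : coxLabel edges x y = 3) (hc : gen x * gen y = gen y * gen x) :
    gen x = gen y := by
  have h1 := Cfsg.Agent.Fischer.Fi23Final.gen_rel x y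
  rw [h] at h1
  have hx := Cfsg.Agent.Fischer.Fi23Final.gen_sq x
  have hy := Cfsg.Agent.Fischer.Fi23Final.gen_sq y
  have h2 : (gen x * gen y) * (gen x * gen y) = 1 := by
    calc gen x * gen y * (gen x * gen y) = gen x * gen y * (gen y * gen x) := by rw [hc]
      _ = gen x * (gen y * gen y) * gen x := by simp only [mul_assoc]
      _ = 1 := by rw [hy, mul_one, hx]
  rw [pow_succ, pow_two, h2, one_mul] at h1
  calc gen x = gen x * (gen y * gen y) := by rw [hy, mul_one]
    _ = gen x * gen y * gen y := by rw [mul_assoc]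
    _ = gen y := by rw [h1, one_mul]

theorem z0_gen {x : Gen} (hx : x ≠ .j) : z0 * gen x = gen x * z0 :=
  ((R08.FiTwentyThree.mem_K_iff _).1 (Cfsg.Agent.Fischer.Fi23Class.gen_mem_K x hx)).symm

theorem g_j : gen .g * gen .j ≠ gen .j * gen .g := by
  intro h
  have h1 := eq_of_comm (x := .g) (y := .j) (by decide) h
  apply Cfsg.Agent.Fischer.Fi23Class.z0_ncomm
  rw [← h1]
  exact z0_gen (by decide)

theorem f_g : gen .f * gen .g ≠ gen .g * gen .f := by
  intro h
  have h1 := eq_of_comm (x := .f) (y := .g) (by decide) h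
  apply g_j
  rw [← h1]
  exact Cfsg.Agent.Fischer.Fi23Class.gen_comm .f .j (by decide)

theorem g_ne : gen .g ≠ z0 := by
  intro h
  apply f_g
  rw [h]
  exact (z0_gen (by decide)).symm

theorem a_ne : gen .a ≠ z0 := by
  intro h
  apply Cfsg.Agent.Fischer.Fi23Class.z0_ncomm
  rw [← h]
  exact Cfsg.Agent.Fischer.Fi23Class.gen_comm .a .j (by decide)

theorem a_ne_j : gen .a ≠ gen .j := by
  intro h
  apply Cfsg.Agent.Fischer.Fi23Class.z0_ncomm
  rw [← h]
  exact z0_gen (by decide)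

variable {Y : Type*} [MulAction Spor.Fi23 Y] (Q : Rank3 Spor.Fi23 Y)

theorem z1 (h0 : Q.t Q.x0 = z0) {ya yj : Y} (ha : Q.t ya = gen .a) (hj : Q.t yj = gen .j) :
    ∃ z, Q.Com Q.x0 z ∧ z ≠ Q.x0 ∧ Q.Com Q.b z ∧ z ≠ Q.b := by
  have h1 : ¬ Q.Com Q.x0 yj := by
    rw [Q.com_def, h0, hj]
    exact Cfsg.Agent.Fischer.Fi23Class.z0_ncomm
  obtain ⟨h, hh, hb⟩ := Q.not_com_x0_iff.1 h1
  refine ⟨h⁻¹ • ya, ?_, ?_, ?_, ?_⟩
  · rw [← Q.com_smul h, hh, smul_inv_smul, Q.com_def, h0, ha]
    exact z0_gen (by decide)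
  · intro e
    apply a_ne
    rw [← ha, ← h0]
    congr 1
    rw [← hh, ← e, smul_inv_smul]
  · rw [← Q.com_smul h, hb, smul_inv_smul, Q.com_def, hj, ha]
    exact (Cfsg.Agent.Fischer.Fi23Class.gen_comm .a .j (by decide)).symm
  · intro e
    apply a_ne_j
    rw [← ha, ← hj]
    congr 1
    rw [← hb, ← e, smul_inv_smul]

theorem z2 (h0 : Q.t Q.x0 = z0) {yg yj : Y} (hg : Q.t yg = gen .g) (hj : Q.t yj = gen .j) :
    ∃ z, ¬ Q.Com Q.x0 z ∧ ¬ Q.Com Q.c z := by
  have h1 : Q.Com Q.x0 yg := by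
    rw [Q.com_def, h0, hg]
    exact z0_gen (by decide)
  have h2 : yg ≠ Q.x0 := by
    rintro rfl
    exact g_ne (hg.symm.trans h0)
  obtain ⟨h, hh, hc⟩ := (Q.com_x0_iff.1 h1).resolve_left h2
  refine ⟨h⁻¹ • yj, ?_, ?_⟩
  · rw [← Q.com_smul h, hh, smul_inv_smul, Q.com_def, h0, hj]
    exact Cfsg.Agent.Fischer.Fi23Class.z0_ncomm
  · rw [← Q.com_smul h, hc, smul_inv_smul, Q.com_def, hg, hj]
    exact g_j

end rank

/-! ### The theorem -/

/-- **The Schreier property of `Fi23`.** -/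
theorem sch : Sch Cfsg.Spor.Fi23 := by
  have hfin : Finite Spor.Fi23 := R08.FiTwentyThree.finite_fi23
  have f11 : Fact (Nat.Prime 11) := ⟨by norm_num⟩
  obtain ⟨Q, hQ0, hQx, hQD⟩ := R08.FiTwentyThree.exists_rank3
  obtain ⟨x, hx, hρx, hρC⟩ := exists_x
  obtain ⟨k0, hk0, hρk0⟩ := exists_S R.x0
  have hcard := R01.AlphaFi23.card_fi23
  have hmemK : ∀ g : Spor.Fi23, g • Q.x0 = Q.x0 ↔ g ∈ K := by
    intro g
    rw [← Q.mem_centralizer_iff, hQ0, Subgroup.mem_centralizer_singleton_iff, R08.FiTwentyThree.mem_K_iff]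
  -- `x` commutes with `z0` and with `k0`
  have hxz : (x : Spor.Fi23) * z0 = z0 * x := (R08.FiTwentyThree.mem_K_iff _).1 x.2
  have hxk : x * k0 = k0 * x := by
    have h1 : x * k0 * x⁻¹ ∈ R08.FiTwentyThree.S := R08.FiTwentyThree.lifted.conj x k0 hk0
    have h2 : x * k0 * x⁻¹ = k0 := by
      apply inj_S h1 hk0
      rw [map_mul, map_mul, map_inv, hρk0, ← R.map_smul, (mem_C_iff R _).1 hρC]
    exact mul_inv_eq_iff_eq_mul.1 h2
  set c0 : Spor.Fi23 := (k0 : Spor.Fi23) with hc0
  have hxc : (x : Spor.Fi23) * c0 = c0 * x := congrArg Subtype.val hxk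
  have hc0D : c0 ∈ R08.FiTwentyThree.D := hk0.1
  have hc0z : c0 ≠ z0 := hk0.2
  have hzc : z0 * c0 = c0 * z0 := ((R08.FiTwentyThree.mem_K_iff _).1 k0.2).symm
  have hzz : z0 * z0 = 1 := congrArg Subtype.val R08.FiTwentyThree.zz
  have hcc : c0 * c0 = 1 := R08.FiTwentyThree.sq_D hc0D
  have hx11 : orderOf (x : Spor.Fi23) = 11 := by rw [Subgroup.orderOf_coe, hx]
  -- fixed points
  have hfixpt : ∀ y, (x : Spor.Fi23) * Q.t y = Q.t y * x → (x : Spor.Fi23) • y = y := by
    intro y hy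
    apply Q.t_injective
    rw [Q.map_smul, hy, mul_inv_cancel_right]
  have horb : (MulAction.orbit K Q.b).ncard = 28160 := by
    obtain ⟨q₁, q, -, hq⟩ := Cfsg.Agent.SporRec.Fi23Index.orbits
    rcases Q.rank3 q with h0 | ⟨h, hh, hh2⟩ | ⟨h, hh, hh2⟩
    · exfalso
      have h1 : MulAction.orbit K q = {q} := by
        ext y
        rw [Set.mem_singleton_iff]
        constructor
        · rintro ⟨k, rfl⟩
          rw [h0]
          exact (hmemK k).2 k.2
        · rintro rfl
          exact MulAction.mem_orbit_self _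
      rw [h1, Set.ncard_singleton] at hq
      norm_num at hq
    · exfalso
      have h1 : MulAction.orbit K q = MulAction.orbit K Q.c := by
        rw [MulAction.orbit_eq_iff]
        exact ⟨⟨h, (hmemK h).1 hh⟩, hh2⟩
      rw [h1] at hq
      have h2 : c0 ∈ Set.range Q.t := by rw [hQD]; exact hc0D
      obtain ⟨y, hy⟩ := h2
      have h3 : Q.Com Q.x0 y := by
        rw [Q.com_def, hQ0, hy]; exact hzc
      have h4 : y ≠ Q.x0 := by
        rintro rfl
        exact hc0z (hy.symm.trans hQ0)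
      obtain ⟨l, hl, hly⟩ := (Q.com_x0_iff.1 h3).resolve_left h4
      refine false_of_fix K Q.c hq (by norm_num) (m := 4585351680) ?_ (p := 11) (by norm_num) x.2 hx11
        ((hmemK l).1 hl) ?_
      · rw [R01.AlphaFi23.card_K]
      · rw [hly]
        apply hfixpt
        rw [hy]
        exact hxc
    · have h1 : MulAction.orbit K q = MulAction.orbit K Q.b := by
        rw [MulAction.orbit_eq_iff]
        exact ⟨⟨h, (hmemK h).1 hh⟩, hh2⟩
      rw [← h1, hq]
  -- the transpositions commuting with `x`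
  have hA : ∀ e ∈ R08.FiTwentyThree.D, (x : Spor.Fi23) * e = e * x → e = z0 ∨ e = c0 := by
    intro e he hxe
    by_cases h1 : e = z0
    · exact Or.inl h1
    right
    by_cases h2 : e * z0 = z0 * e
    · set e' : K := ⟨e, (R08.FiTwentyThree.mem_K_iff e).2 h2⟩ with he'
      have hS : e' ∈ R08.FiTwentyThree.S := ⟨he, h1⟩
      obtain ⟨y, hy⟩ := ρ_S hS
      have h3 : x * e' = e' * x := Subtype.ext hxe
      have h4 : ρ x • y = y := by
        apply R.t_injective
        rw [R.map_smul, ← hy, ← map_mul, h3, map_mul, mul_inv_cancel_right]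
      have h5 := fix22 hρC hρx h4
      have h6 : e' = k0 := by
        apply inj_S hS hk0
        rw [hy, hρk0, h5]
      exact congrArg Subtype.val h6
    · exfalso
      have h3 : e ∈ Set.range Q.t := by rw [hQD]; exact he
      obtain ⟨y, hy⟩ := h3
      have h4 : ¬ Q.Com Q.x0 y := by
        rw [Q.com_def, hQ0, hy]
        exact fun h => h2 h.symm
      obtain ⟨l, hl, hly⟩ := Q.not_com_x0_iff.1 h4
      refine false_of_fix K Q.b horb (by norm_num) (m := 4585351680) ?_ (p := 11) (by norm_num) x.2 hx11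
        ((hmemK l).1 hl) ?_
      · rw [R01.AlphaFi23.card_K]
      · rw [hly]
        apply hfixpt
        rw [hy]
        exact hxe
  -- the Sylow subgroup
  have hcardP : Nat.card (Subgroup.zpowers (x : Spor.Fi23)) = 11 := by rw [Nat.card_zpowers, hx11]
  have hfac : 11 ^ (Nat.card Spor.Fi23).factorization 11 = 11 := by
    rw [hcard]
    have : (4089470473293004800 : ℕ) = 11 ^ 1 * 371770043026636800 := by norm_num
    rw [this, Nat.factorization_mul (by norm_num) (by norm_num), Nat.Prime.factorization_pow (by norm_num)]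
    rw [Finsupp.add_apply, Finsupp.single_eq_same, Nat.factorization_eq_zero_of_not_dvd (by norm_num)]
    norm_num
  let P : Sylow 11 Spor.Fi23 := Sylow.ofCard (Subgroup.zpowers (x : Spor.Fi23)) (by rw [hcardP, hfac])
  have hxP : (x : Spor.Fi23) ∈ P := Subgroup.mem_zpowers (x : Spor.Fi23)
  have hcommP : ∀ e : Spor.Fi23, (x : Spor.Fi23) * e = e * x → ∀ w ∈ P, w * e = e * w := by
    rintro e he _ ⟨n, rfl⟩
    have : Commute (x : Spor.Fi23) e := he
    exact (this.zpow_left n).eq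
  have hconj : ∀ y e : Spor.Fi23, (∀ w ∈ P, w * y = y * w) → e ∈ R08.FiTwentyThree.D →
      (x : Spor.Fi23) * e = e * x → y * e * y⁻¹ = z0 ∨ y * e * y⁻¹ = c0 := by
    intro y e hy he hxe
    apply hA _ (R08.FiTwentyThree.conj_mem_D he y)
    have h1 : Commute (x : Spor.Fi23) y := hy _ hxP
    have h2 : Commute (x : Spor.Fi23) e := hxe
    exact ((h1.mul_right h2).mul_right h1.inv_right).eq
  refine FiFour.sch_of_two P hzz hcc hzc (Ne.symm hc0z) (hcommP _ hxz) (hcommP _ hxc)
    (fun y hy => hconj y z0 hy R08.FiTwentyThree.z0_mem_D hxz) (fun y hy => hconj y c0 hy hc0D hxc) ?_ ?_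
  · intro y hy hyz hyy
    set k : K := ⟨y, (R08.FiTwentyThree.mem_K_iff y).2 hyz⟩ with hk
    have h1 : ρ k * ρ x = ρ x * ρ k := by
      rw [← map_mul, ← map_mul]
      exact congrArg ρ (Subtype.ext (hy _ hxP).symm)
    have hzK : ρ R08.FiTwentyThree.zK = 1 := ρ_one.2 (Or.inr rfl)
    have h2 : ρ k * ρ k = 1 ∨ ρ k * ρ k = R.t R.x0 := by
      rw [← map_mul]
      rcases hyy with h | h | h | h
      · left
        have : k * k = 1 := Subtype.ext h
        rw [this, map_one]
      · left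
        have : k * k = R08.FiTwentyThree.zK := Subtype.ext h
        rw [this, hzK]
      · right
        have : k * k = k0 := Subtype.ext h
        rw [this, hρk0]
      · right
        have : k * k = R08.FiTwentyThree.zK * k0 := Subtype.ext h
        rw [this, map_mul, hzK, one_mul, hρk0]
    rcases two22 hρC hρx h1 h2 with h3 | h3
    · rcases ρ_one.1 h3 with h4 | h4
      · left; exact congrArg Subtype.val h4
      · right; left; exact congrArg Subtype.val h4
    · rw [← hρk0] at h3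
      rcases ρ_eq.1 h3 with h4 | h4
      · right; right; left; exact congrArg Subtype.val h4
      · right; right; right
        have h5 : y = c0 * z0 := congrArg Subtype.val h4
        rw [h5, hzc]
  · intro D hD hDz
    obtain ⟨g, hg⟩ := Q.trans Q.c
    have hgd : g * z0 * g⁻¹ = Q.t Q.c := by rw [← hQ0, ← Q.map_smul, hg]
    have hrange : ∀ s : Spor.Fi23.Gen, ∃ y, Q.t y = Cfsg.Agent.Fischer.Fi23Hom.gen s := by
      intro s
      have : Cfsg.Agent.Fischer.Fi23Hom.gen s ∈ Set.range Q.t := by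
        rw [hQD]; exact R08.FiTwentyThree.gen_mem_D s
      exact this
    obtain ⟨ya, hya⟩ := hrange .a
    obtain ⟨yg, hyg⟩ := hrange .g
    obtain ⟨yj, hyj⟩ := hrange .j
    have htop := sup_centralizer_eq_top Q (z1 Q hQ0 hya hyj) (z2 Q hQ0 hyg hyj) hg
    rw [hQ0] at htop
    refine le_inn_of_conj hD hDz (g := g) ?_ cq FiTwentyTwo.sch htop
    rw [hgd, ← hQ0]
    exact Q.comm_c

end Cfsg.Agent.Schreier.FiTwentyThree
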