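import Cfsg.Agent.Schreier.MonsterInst
import Cfsg.Agent.MonsterP.NodesDone
import Cfsg.Agent.BM.KHAll

/-!
# The Schreier property of the presented Monster
-/

set_option autoImplicit false

namespace Cfsg.Agent.Schreier.MonsterFinal

open Cfsg Cfsg.Agent.Schreier.Basic

/-- The presented Monster, if it is simple, has the Schreier property. -/
theorem sch [h : IsSimpleGroup Spor.Monster] : Sch Spor.Monster :=
  MonsterInst.sch h (MonsterP.NodesDone.prel MonsterInst.mOrbit) (MonsterP.NodesDone.zrel MonsterInst.mOrbit)
    (MonsterP.NodesDone.gen MonsterInst.mOrbit BM.KHAll.isB)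

end Cfsg.Agent.Schreier.MonsterFinal
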