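import Mathlib
import Cfsg.Prelude.Def_Classical
import Cfsg.Agent.StandardComponent.AltAut
import Cfsg.Agent.Schreier.SmallSylow

/-!
# The Schreier property of the alternating groups
-/

set_option autoImplicit false

namespace Cfsg.Agent.Schreier.Alt

open Cfsg Cfsg.Agent.Schreier.Basic

/-- Perfect groups of automorphisms of `A_n` are inner (`n ≥ 7`). -/
theorem sch_of_seven_le {n : ℕ} (hn : 7 ≤ n) : Sch (alternatingGroup (Fin n)) := by
  obtain ⟨ψ, hψ⟩ := Cfsg.Agent.StandardComponent.AltAut.exists_autHom n hn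
  intro D hD φ hφ
  have h1 : (Equiv.Perm.sign.comp ψ) φ = 1 := apply_eq_one_of_perfect _ hD hφ
  refine ⟨⟨ψ φ, Equiv.Perm.mem_alternatingGroup.2 h1⟩, ?_⟩
  apply MulEquiv.ext
  intro x
  apply Subtype.ext
  rw [hψ φ, MulAut.conj_apply]
  rfl

theorem card_alt {n : ℕ} (hn : 2 ≤ n) : 2 * Nat.card (alternatingGroup (Fin n)) = n.factorial := by
  have : Nontrivial (Fin n) := Fin.nontrivial_iff_two_le.2 hn
  rw [Nat.card_eq_fintype_card, two_mul_card_alternatingGroup, Fintype.card_perm, Fintype.card_fin]

theorem not_comm {n : ℕ} (hn : 5 ≤ n) : ¬ IsMulCommutative (alternatingGroup (Fin n)) := by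
  intro h
  have hc : ∀ a b : alternatingGroup (Fin n), a * b = b * a := h.is_comm.comm
  have hcard : 5 ≤ Nat.card (Fin n) := by rw [Nat.card_eq_fintype_card, Fintype.card_fin]; exact hn
  have hs : IsSimpleGroup (alternatingGroup (Fin n)) := alternatingGroup.isSimpleGroup hcard
  let _ : CommGroup (alternatingGroup (Fin n)) :=
    { (inferInstance : Group (alternatingGroup (Fin n))) with mul_comm := hc }
  have hp : (Nat.card (alternatingGroup (Fin n))).Prime := IsSimpleGroup.prime_card
  have h1 := card_alt (n := n) (by omega)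
  have h2 : 12 ∣ Nat.card (alternatingGroup (Fin n)) := by
    have h3 : Nat.factorial 4 ∣ n.factorial := Nat.factorial_dvd_factorial (by omega)
    rw [← h1, show Nat.factorial 4 = 2 * 12 by rfl] at h3
    exact Nat.dvd_of_mul_dvd_mul_left (by norm_num) h3
  have h3 : 2 ∣ Nat.card (alternatingGroup (Fin n)) := dvd_trans (by norm_num) h2
  have h4 := (Nat.prime_dvd_prime_iff_eq Nat.prime_two hp).1 h3
  rw [← h4] at h2
  norm_num at h2

/-- **The Schreier property of the alternating groups.** -/
theorem sch {n : ℕ} (hn : 5 ≤ n) : Sch (alternatingGroup (Fin n)) := by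
  by_cases h7 : 7 ≤ n
  · exact sch_of_seven_le h7
  have hcard : 5 ≤ Nat.card (Fin n) := by rw [Nat.card_eq_fintype_card, Fintype.card_fin]; exact hn
  have hs : IsSimpleGroup (alternatingGroup (Fin n)) := alternatingGroup.isSimpleGroup hcard
  have : Fact (Nat.Prime 2) := ⟨Nat.prime_two⟩
  obtain ⟨T⟩ : Nonempty (Sylow 2 (alternatingGroup (Fin n))) := inferInstance
  have h1 := card_alt (n := n) (by omega)
  have h56 : n = 5 ∨ n = 6 := by omega
  rcases h56 with rfl | rfl
  · have h2 : Nat.card (alternatingGroup (Fin 5)) = 60 := by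
      have : Nat.factorial 5 = 120 := rfl
      omega
    apply SmallSylow.sch_of_card_four (not_comm hn) T
    rw [T.card_eq_multiplicity, h2, show (60 : ℕ) = 2 ^ 2 * 15 by norm_num,
      Nat.factorization_mul (by norm_num) (by norm_num), Nat.Prime.factorization_pow Nat.prime_two]
    rw [Finsupp.add_apply, Finsupp.single_eq_same,
      Nat.factorization_eq_zero_of_not_dvd (by norm_num : ¬ 2 ∣ 15)]
    norm_num
  · have h2 : Nat.card (alternatingGroup (Fin 6)) = 360 := by
      have : Nat.factorial 6 = 720 := rfl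
      omega
    apply SmallSylow.sch_of_card_eight (not_comm hn) T
    rw [T.card_eq_multiplicity, h2, show (360 : ℕ) = 2 ^ 3 * 45 by norm_num,
      Nat.factorization_mul (by norm_num) (by norm_num), Nat.Prime.factorization_pow Nat.prime_two]
    rw [Finsupp.add_apply, Finsupp.single_eq_same,
      Nat.factorization_eq_zero_of_not_dvd (by norm_num : ¬ 2 ∣ 45)]
    norm_num

/-- The Schreier property of the groups on the list `IsAlternating`. -/
theorem sch_of_isAlternating {K : Type*} [Group K] (h : IsAlternating K) : Sch K := by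
  obtain ⟨n, hn, ⟨e⟩⟩ := h
  exact Sch.of_equiv e.symm (sch hn)

end Cfsg.Agent.Schreier.Alt
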