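import Mathlib
import Cfsg.Prelude.Def_Transfer
import Cfsg.Agent.S0205
import Cfsg.Agent.Schreier.Basic
import Cfsg.Agent.Schreier.Tools
import Cfsg.Agent.Schreier.Crit

/-!
# The Schreier property from an involution centraliser of characteristic 2 type

`K` simple, `T` a Sylow 2-subgroup, `C = C_K(z)` the centraliser of a central involution of `T`, `Q` a normal
2-subgroup of `C` (for instance an extraspecial group), `C / Q` with the Schreier property, `Q / ⟨z⟩` irreducible.
-/

set_option autoImplicit false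

namespace Cfsg.Agent.Schreier.ExtraCrit

open Cfsg.Agent.Schreier.Basic Cfsg.Agent.Schreier.Tools

/-- A solvable subgroup of odd index has solvable normalizer. -/
theorem isSolvable_normalizer {L : Type*} [Group L] [Finite L] (S : Subgroup L) (hS : Group.IsSolvable S)
    (hodd : Odd S.index) : Group.IsSolvable (Subgroup.normalizer (S : Set L)) := by
  have hSN : S ≤ Subgroup.normalizer (S : Set L) := Subgroup.le_normalizer
  have hn : (S.subgroupOf (Subgroup.normalizer (S : Set L))).Normal := Subgroup.normal_in_normalizer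
  rw [Group.isSolvable_iff_subgroup_quotient (S.subgroupOf (Subgroup.normalizer (S : Set L)))]
  refine ⟨?_, ?_⟩
  · exact Group.isSolvable_of_isSolvable_injective (f := (Subgroup.subgroupOfEquivOfLe hSN).toMonoidHom)
      (MulEquiv.injective _)
  · apply Cfsg.Agent.S0205.result
    have h1 : Nat.card (Subgroup.normalizer (S : Set L) ⧸ S.subgroupOf (Subgroup.normalizer (S : Set L))) =
      S.relIndex (Subgroup.normalizer (S : Set L)) := rfl
    rw [h1]
    exact Odd.of_dvd_nat hodd (Subgroup.relIndex_dvd_index_of_le hSN)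

section Section

variable {K : Type*} [Group K] {D : Subgroup (MulAut K)} {C Q : Subgroup K}

theorem map_res_subgroupOf (hC : Inv D C) (hQ : Inv D Q) (φ : D) :
    (Q.subgroupOf C).map (hC.res φ : C ≃* C).toMonoidHom = Q.subgroupOf C := by
  apply le_antisymm
  · rintro _ ⟨x, hx, rfl⟩
    exact hQ.apply_mem φ.2 hx
  · intro x hx
    refine ⟨⟨(φ : MulAut K)⁻¹ x, hC.apply_mem (inv_mem φ.2) x.2⟩, ?_, ?_⟩
    · exact hQ.apply_mem (inv_mem φ.2) hx
    · exact Subtype.ext (MulAut.apply_inv_self _ (φ : MulAut K) (x : K))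

/-- The action of `D` on the section `C / Q`. -/
noncomputable def secHom (hC : Inv D C) (hQ : Inv D Q) [(Q.subgroupOf C).Normal] :
    D →* MulAut (C ⧸ Q.subgroupOf C) where
  toFun φ := QuotientGroup.congr (Q.subgroupOf C) (Q.subgroupOf C) (hC.res φ) (map_res_subgroupOf hC hQ φ)
  map_one' := by
    ext x
    induction x using QuotientGroup.induction_on with
    | H a => rfl
  map_mul' φ ψ := by
    ext x
    induction x using QuotientGroup.induction_on with
    | H a => rfl

theorem secHom_mk (hC : Inv D C) (hQ : Inv D Q) [(Q.subgroupOf C).Normal] (φ : D) (c : C) :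
    secHom hC hQ φ (QuotientGroup.mk c) = QuotientGroup.mk (⟨(φ : MulAut K) c, hC.apply_mem φ.2 c.2⟩ : C) := rfl

theorem trMod_of_secHom (hC : Inv D C) (hQ : Inv D Q) [(Q.subgroupOf C).Normal]
    (h : ∀ φ : D, secHom hC hQ φ = 1) : TrMod D C Q := by
  intro φ hφ c hc
  have h1 : secHom hC hQ ⟨φ, hφ⟩ (QuotientGroup.mk ⟨c, hc⟩) = QuotientGroup.mk ⟨c, hc⟩ := by
    rw [h ⟨φ, hφ⟩]; rfl
  rw [secHom_mk] at h1
  have h2 := QuotientGroup.eq.1 h1.symm
  exact h2

/-- **A perfect group acts trivially on a section with the Schreier property whose Sylow 2-subgroup it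
normalises.** -/
theorem trMod_of_sch [Finite K] (hD : ⁅D, D⁆ = D) {T : Subgroup K} (hTs : Group.IsSolvable T)
    (hTodd : Odd (T.relIndex C)) (hT : Inv D T) (hTC : T ≤ C) (hC : Inv D C) (hQ : Inv D Q)
    [(Q.subgroupOf C).Normal] (hs : Sch (C ⧸ Q.subgroupOf C)) : TrMod D C Q := by
  apply trMod_of_secHom hC hQ
  set f := secHom hC hQ with hf
  set L := C ⧸ Q.subgroupOf C with hL
  let T' : Subgroup L := (T.subgroupOf C).map (QuotientGroup.mk' (Q.subgroupOf C))
  have hT's : Group.IsSolvable T' := by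
    have h1 : Group.IsSolvable (T.subgroupOf C) :=
      Group.isSolvable_of_isSolvable_injective (f := (Subgroup.subgroupOfEquivOfLe hTC).toMonoidHom)
        (MulEquiv.injective _)
    exact Group.isSolvable_of_surjective (f := (QuotientGroup.mk' (Q.subgroupOf C)).subgroupMap (T.subgroupOf C))
      ((QuotientGroup.mk' (Q.subgroupOf C)).subgroupMap_surjective (T.subgroupOf C))
  have hT'odd : Odd T'.index := by
    have h1 : T'.index ∣ (T.subgroupOf C).index :=
      Subgroup.index_map_dvd _ (QuotientGroup.mk'_surjective (Q.subgroupOf C))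
    exact Odd.of_dvd_nat hTodd h1
  have hN := isSolvable_normalizer T' hT's hT'odd
  -- the range of `f` is perfect
  have hperf : ⁅f.range, f.range⁆ = f.range := by
    rw [MonoidHom.range_eq_map]
    exact map_perfect f (top_perfect hD)
  have hin := hs f.range hperf
  -- `P` = elements of `L` inducing elements of the range
  let P : Subgroup L := f.range.comap (MulAut.conj : L →* MulAut L)
  have hPN : P ≤ Subgroup.normalizer (T' : Set L) := by
    intro x hx
    obtain ⟨φ, hφ⟩ := hx
    rw [Subgroup.mem_normalizer_iff]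
    have hmem : ∀ (ψ : D) (y : L), y ∈ T' → f ψ y ∈ T' := by
      rintro ψ _ ⟨t, ht, rfl⟩
      refine ⟨⟨(ψ : MulAut K) t, hC.apply_mem ψ.2 t.2⟩, hT.apply_mem ψ.2 ht, rfl⟩
    intro y
    have h1 : ∀ y, x * y * x⁻¹ = f φ y := by
      intro y
      rw [hφ]; rfl
    rw [h1]
    constructor
    · exact hmem φ y
    · intro hy
      have h2 := hmem φ⁻¹ _ hy
      rw [map_inv, MulAut.inv_apply_self] at h2
      exact h2
  have hPs : Group.IsSolvable P := by
    have := hN
    exact Group.isSolvable_of_isSolvable_injective (Subgroup.inclusion_injective hPN)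
  have hrange : f.range = P.map (MulAut.conj : L →* MulAut L) := by
    rw [Subgroup.map_comap_eq]
    exact (inf_eq_right.2 hin).symm
  have hrs : Group.IsSolvable f.range := by
    rw [hrange]
    exact Group.isSolvable_of_surjective (f := (MulAut.conj : L →* MulAut L).subgroupMap P)
      ((MulAut.conj : L →* MulAut L).subgroupMap_surjective P)
  intro φ
  have h3 := hom_eq_one hD f.rangeRestrict φ
  exact congrArg Subtype.val h3

end Section

section Irred

/-- The endomorphisms of a finite abelian group commuting with an irreducible set of automorphisms commute. -/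
theorem comm_of_irreducible {V : Type*} [CommGroup V] [Finite V] (A : Set (MulAut V))
    (hirr : ∀ B : Subgroup V, (∀ a ∈ A, ∀ b ∈ B, a b ∈ B) → B = ⊥ ∨ B = ⊤) (φ ψ : MulAut V)
    (hφ : ∀ a ∈ A, ∀ v, a (φ v) = φ (a v)) (hψ : ∀ a ∈ A, ∀ v, a (ψ v) = ψ (a v)) :
    ∀ v, φ (ψ v) = ψ (φ v) := by
  classical
  rcases subsingleton_or_nontrivial V with hV | hV
  · intro v; exact Subsingleton.elim _ _
  let toE : MulAut V → AddMonoid.End (Additive V) := fun φ => MonoidHom.toAdditive φ.toMonoidHom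
  have htoE : ∀ (φ : MulAut V) (v : V), toE φ (Additive.ofMul v) = Additive.ofMul (φ v) := fun _ _ => rfl
  let R : Subring (AddMonoid.End (Additive V)) := Subring.centralizer (toE '' A)
  have hmem : ∀ φ : MulAut V, (∀ a ∈ A, ∀ v, a (φ v) = φ (a v)) → toE φ ∈ R := by
    intro φ hφ
    rw [Subring.mem_centralizer_iff]
    rintro _ ⟨a, ha, rfl⟩
    apply AddMonoidHom.ext
    intro v
    exact congrArg Additive.ofMul (hφ a ha (Additive.toMul v))
  have hfinE : Finite (AddMonoid.End (Additive V)) := by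
    have : Finite (Additive V) := ‹Finite V›
    exact Finite.of_injective (fun f : AddMonoid.End (Additive V) => (f : Additive V → Additive V))
      DFunLike.coe_injective
  have hR : IsDomain R := by
    have hnz : NoZeroDivisors R := by
      constructor
      rintro ⟨f, hf⟩ ⟨g, hg⟩ hfg
      rw [or_iff_not_imp_left]
      intro hf0
      -- the kernel of `f`
      let B : Subgroup V :=
        { carrier := {v | f (Additive.ofMul v) = 0}
          one_mem' := map_zero f
          mul_mem' := fun {x y} hx hy => by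
            show f (Additive.ofMul x + Additive.ofMul y) = 0
            rw [map_add]
            have hx' : f (Additive.ofMul x) = 0 := hx
            have hy' : f (Additive.ofMul y) = 0 := hy
            rw [hx', hy', add_zero]
          inv_mem' := fun {x} hx => by
            show f (-(Additive.ofMul x)) = 0
            have hx' : f (Additive.ofMul x) = 0 := hx
            rw [map_neg, hx', neg_zero] }
      have hB : ∀ v, v ∈ B ↔ f (Additive.ofMul v) = 0 := fun _ => Iff.rfl
      have hBA : ∀ a ∈ A, ∀ b ∈ B, a b ∈ B := by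
        intro a ha b hb
        rw [hB] at hb ⊢
        have h1 := (Subring.mem_centralizer_iff.1 hf) (toE a) ⟨a, ha, rfl⟩
        have h2 : toE a (f (Additive.ofMul b)) = f (toE a (Additive.ofMul b)) :=
          DFunLike.congr_fun h1 (Additive.ofMul b)
        rw [htoE, hb, map_zero] at h2
        exact h2.symm
      rcases hirr B hBA with hb | hb
      · apply Subtype.ext
        ext v
        show g v = 0
        have h1 : f (g v) = 0 := by
          have h2 := congrArg Subtype.val hfg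
          exact DFunLike.congr_fun h2 v
        have h2 : (Additive.toMul (g v)) ∈ B := h1
        rw [hb, Subgroup.mem_bot] at h2
        exact h2
      · exfalso
        apply hf0
        apply Subtype.ext
        ext v
        have h1 : (Additive.toMul v) ∈ B := by rw [hb]; exact Subgroup.mem_top _
        exact h1
    have hnt : Nontrivial R := by
      obtain ⟨v, hv⟩ := exists_ne (1 : V)
      refine ⟨0, 1, fun h => hv ?_⟩
      have h1 := congrArg Subtype.val h
      have h2 := DFunLike.congr_fun h1 (Additive.ofMul v)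
      exact h2.symm
    exact NoZeroDivisors.to_isDomain R
  have hfield := Finite.isDomain_to_isField R
  intro v
  have h1 := hfield.mul_comm ⟨toE φ, hmem φ hφ⟩ ⟨toE ψ, hmem ψ hψ⟩
  have h2 := congrArg Subtype.val h1
  exact DFunLike.congr_fun h2 (Additive.ofMul v)

variable {K : Type*} [Group K] {D : Subgroup (MulAut K)} {C Q Z : Subgroup K}

/-- **A perfect group commuting with an irreducible action acts trivially.**  If `D` acts trivially on `C / Q` and
`Q / Z` is abelian and irreducible under `C` then `D` acts trivially on `Q / Z`. -/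
theorem trMod_of_irreducible [Finite K] (hD : ⁅D, D⁆ = D) (hQ : Inv D Q) (hZ : Inv D Z)
    (hQC : Q ≤ C) (hCQ : C ≤ Subgroup.normalizer (Q : Set K)) (hCZ : C ≤ Subgroup.normalizer (Z : Set K))
    (hab : ⁅Q, Q⁆ ≤ Z) (htr : TrMod D C Q)
    (hirr : ∀ A : Subgroup K, Z ≤ A → A ≤ Q → C ≤ Subgroup.normalizer (A : Set K) → A = Z ∨ A = Q)
    (hZQ : Z ≤ Q) : TrMod D Q Z := by
  have hZn : (Z.subgroupOf Q).Normal := by
    constructor
    intro z hz q
    rw [Subgroup.mem_subgroupOf] at hz ⊢
    exact (Subgroup.mem_normalizer_iff.1 (hCZ (hQC q.2)) z).1 hz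
  have hcomm : ∀ a b : Q ⧸ Z.subgroupOf Q, a * b = b * a := by
    intro a b
    induction a using QuotientGroup.induction_on with
    | H a =>
      induction b using QuotientGroup.induction_on with
      | H b =>
        rw [← QuotientGroup.mk_mul, ← QuotientGroup.mk_mul, QuotientGroup.eq, Subgroup.mem_subgroupOf]
        apply hab
        have h1 := Subgroup.commutator_mem_commutator (inv_mem b.2) (inv_mem a.2)
        rw [commutatorElement_def, inv_inv, inv_inv] at h1
        have h2 : (((a * b)⁻¹ * (b * a) : Q) : K) = (b : K)⁻¹ * (a : K)⁻¹ * b * a := by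
          simp [mul_assoc]
        rw [h2]
        exact h1
  let instC : CommGroup (Q ⧸ Z.subgroupOf Q) :=
    { (inferInstance : Group (Q ⧸ Z.subgroupOf Q)) with mul_comm := hcomm }
  apply trMod_of_secHom hQ hZ
  set f := secHom hQ hZ with hf
  -- conjugation by elements of `C`
  have hinvQ : ∀ c ∈ C, ∀ q ∈ Q, c * q * c⁻¹ ∈ Q := fun c hc q hq =>
    (Subgroup.mem_normalizer_iff.1 (hCQ hc) q).1 hq
  let DC : Subgroup (MulAut K) := C.map (MulAut.conj : K →* MulAut K)
  have hDQ : Inv DC Q := by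
    rw [inv_iff]
    rintro _ ⟨c, hc, rfl⟩ q hq
    exact hinvQ c hc q hq
  have hDZ : Inv DC Z := by
    rw [inv_iff]
    rintro _ ⟨c, hc, rfl⟩ z hz
    exact (Subgroup.mem_normalizer_iff.1 (hCZ hc) z).1 hz
  let g := secHom hDQ hDZ
  have hgirr : ∀ B : Subgroup (Q ⧸ Z.subgroupOf Q),
      (∀ a ∈ (Set.range g : Set (MulAut (Q ⧸ Z.subgroupOf Q))), ∀ b ∈ B, a b ∈ B) → B = ⊥ ∨ B = ⊤ := by
    intro B hB
    let A : Subgroup K := (B.comap (QuotientGroup.mk' (Z.subgroupOf Q))).map Q.subtype
    have hA : ∀ x (hx : x ∈ Q), x ∈ A ↔ (QuotientGroup.mk (⟨x, hx⟩ : Q) : Q ⧸ Z.subgroupOf Q) ∈ B := by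
      intro x hx
      constructor
      · rintro ⟨y, hy, rfl⟩
        exact hy
      · intro h
        exact ⟨⟨x, hx⟩, h, rfl⟩
    have hAQ : A ≤ Q := by
      rintro _ ⟨y, -, rfl⟩
      exact y.2
    have hZA : Z ≤ A := by
      intro z hz
      rw [hA z (hZQ hz)]
      have : (QuotientGroup.mk (⟨z, hZQ hz⟩ : Q) : Q ⧸ Z.subgroupOf Q) = 1 := by
        rw [QuotientGroup.eq_one_iff]; exact hz
      rw [this]; exact one_mem _
    have hstep : ∀ c ∈ C, ∀ a ∈ A, c * a * c⁻¹ ∈ A := by
      intro c hc a ha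
      have haQ := hAQ ha
      rw [hA _ (hinvQ c hc a haQ)]
      rw [hA a haQ] at ha
      exact hB (g ⟨MulAut.conj c, ⟨c, hc, rfl⟩⟩) ⟨_, rfl⟩ _ ha
    have hCA : C ≤ Subgroup.normalizer (A : Set K) := by
      intro c hc
      rw [Subgroup.mem_normalizer_iff]
      intro a
      refine ⟨hstep c hc a, fun h => ?_⟩
      have h1 := hstep c⁻¹ (inv_mem hc) _ h
      have h2 : c⁻¹ * (c * a * c⁻¹) * c⁻¹⁻¹ = a := by group
      rwa [h2] at h1
    rcases hirr A hZA hAQ hCA with h | h
    · left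
      rw [eq_bot_iff]
      intro b hb
      induction b using QuotientGroup.induction_on with
      | H b =>
        have h1 : (b : K) ∈ A := (hA b b.2).2 hb
        rw [h] at h1
        rw [Subgroup.mem_bot, QuotientGroup.eq_one_iff]
        exact h1
    · right
      rw [eq_top_iff]
      intro b _
      induction b using QuotientGroup.induction_on with
      | H b =>
        have h1 : (b : K) ∈ A := by rw [h]; exact b.2
        exact (hA b b.2).1 h1
  -- `f φ` commutes with the action of `C`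
  have hcm : ∀ φ : D, ∀ a ∈ (Set.range g : Set (MulAut (Q ⧸ Z.subgroupOf Q))), ∀ v, a (f φ v) = f φ (a v) := by
    rintro φ _ ⟨⟨_, ⟨c, hc, rfl⟩⟩, rfl⟩ v
    induction v using QuotientGroup.induction_on with
    | H v =>
      show (QuotientGroup.mk (⟨c * (φ : MulAut K) v * c⁻¹, _⟩ : Q) : Q ⧸ Z.subgroupOf Q) =
        QuotientGroup.mk (⟨(φ : MulAut K) (c * v * c⁻¹), _⟩ : Q)
      have hq : c⁻¹ * (φ : MulAut K) c ∈ Q := htr φ φ.2 c hc
      have hv : (φ : MulAut K) v ∈ Q := hQ.apply_mem φ.2 v.2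
      rw [QuotientGroup.eq, Subgroup.mem_subgroupOf]
      have e1 : ((((⟨c * (φ : MulAut K) v * c⁻¹, hinvQ c hc _ hv⟩ : Q)⁻¹ *
          (⟨(φ : MulAut K) (c * v * c⁻¹), hQ.apply_mem φ.2 (hinvQ c hc _ v.2)⟩ : Q)) : Q) : K) =
          c * (((φ : MulAut K) v)⁻¹ * (c⁻¹ * (φ : MulAut K) c) * (φ : MulAut K) v * (c⁻¹ * (φ : MulAut K) c)⁻¹) *
            c⁻¹ := by
        simp only [Subgroup.coe_mul, InvMemClass.coe_inv, map_mul, map_inv]
        group
      have h1 : ((φ : MulAut K) v)⁻¹ * (c⁻¹ * (φ : MulAut K) c) * (φ : MulAut K) v *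
          (c⁻¹ * (φ : MulAut K) c)⁻¹ ∈ Z := by
        apply hab
        have h2 := Subgroup.commutator_mem_commutator (inv_mem hv) hq
        rwa [commutatorElement_def, inv_inv] at h2
      have h3 := (Subgroup.mem_normalizer_iff.1 (hCZ hc) _).1 h1
      rw [← e1] at h3
      exact h3
  have hab2 : ∀ φ ψ : D, f φ * f ψ = f ψ * f φ := by
    intro φ ψ
    apply MulEquiv.ext
    intro v
    exact comm_of_irreducible (Set.range g : Set (MulAut (Q ⧸ Z.subgroupOf Q))) hgirr (f φ) (f ψ)
      (hcm φ) (hcm ψ) v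
  have hrs : Group.IsSolvable f.range := by
    apply Group.isSolvable_of_comm
    rintro ⟨_, ⟨φ, rfl⟩⟩ ⟨_, ⟨ψ, rfl⟩⟩
    exact Subtype.ext (hab2 φ ψ)
  intro φ
  have h3 := hom_eq_one hD f.rangeRestrict φ
  exact congrArg Subtype.val h3

end Irred

section Main

variable {K : Type*} [Group K]

/-- A normal 2-subgroup with non-abelian simple quotient is preserved by all automorphisms preserving the group. -/
theorem inv_of_simple_quotient [Finite K] {D : Subgroup (MulAut K)} {C Q : Subgroup K} (hC : Inv D C)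
    (hQC : Q ≤ C) (hCQ : C ≤ Subgroup.normalizer (Q : Set K)) (hQ2 : IsPGroup 2 Q) [hn : (Q.subgroupOf C).Normal]
    (hsimple : IsSimpleGroup (C ⧸ Q.subgroupOf C)) (hnc : ¬ IsMulCommutative (C ⧸ Q.subgroupOf C)) : Inv D Q := by
  rw [inv_iff]
  intro φ hφ q hq
  -- the image of `Q` under `φ`, in the quotient
  let R : Subgroup C := (Q.map φ.toMonoidHom).subgroupOf C
  have hRle : Q.map φ.toMonoidHom ≤ C := by
    rintro _ ⟨q, hq, rfl⟩
    exact hC.apply_mem hφ (hQC hq)
  have hRn : R.Normal := by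
    constructor
    rintro ⟨r, hrC⟩ ⟨q, hq, hqr⟩ ⟨c, hc⟩
    have hqr' : φ q = r := hqr
    have h1 : φ⁻¹ c ∈ C := hC.apply_mem (inv_mem hφ) hc
    refine ⟨φ⁻¹ c * q * (φ⁻¹ c)⁻¹, (Subgroup.mem_normalizer_iff.1 (hCQ h1) q).1 hq, ?_⟩
    show φ (φ⁻¹ c * q * (φ⁻¹ c)⁻¹) = c * r * c⁻¹
    rw [map_mul, map_mul, map_inv, MulAut.apply_inv_self, hqr']
  have hR2 : IsPGroup 2 R := by
    have h1 : IsPGroup 2 (Q.map φ.toMonoidHom) := hQ2.map φ.toMonoidHom
    exact h1.comap_subtype
  let R' : Subgroup (C ⧸ Q.subgroupOf C) := R.map (QuotientGroup.mk' (Q.subgroupOf C))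
  have hR'n : R'.Normal := hRn.map _ (QuotientGroup.mk'_surjective _)
  have hR'2 : IsPGroup 2 R' := hR2.map _
  rcases hR'n.eq_bot_or_eq_top with h | h
  · have h1 : (QuotientGroup.mk (⟨φ q, hC.apply_mem hφ (hQC hq)⟩ : C) : C ⧸ Q.subgroupOf C) ∈ R' :=
      ⟨⟨φ q, hC.apply_mem hφ (hQC hq)⟩, ⟨q, hq, rfl⟩, rfl⟩
    rw [h, Subgroup.mem_bot, QuotientGroup.eq_one_iff] at h1
    exact h1
  · exfalso
    apply hnc
    have h1 : IsPGroup 2 (C ⧸ Q.subgroupOf C) := by
      rw [h] at hR'2
      exact hR'2.of_equiv Subgroup.topEquiv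
    have : Fact (Nat.Prime 2) := ⟨Nat.prime_two⟩
    have h2 : Group.IsNilpotent (C ⧸ Q.subgroupOf C) := h1.isNilpotent
    have h3 : Group.IsSolvable (C ⧸ Q.subgroupOf C) := inferInstance
    exact ⟨⟨IsSimpleGroup.comm_iff_isSolvable.2 h3⟩⟩

/-- **The Schreier property from an involution centraliser of extraspecial type** (internal form). -/
theorem sch_of_extraspecial [Finite K] [IsSimpleGroup K] (hK : ¬ IsMulCommutative K) (z : K)
    (C : Subgroup K) (hCdef : C = Subgroup.centralizer {z})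
    (Q : Subgroup K) (hzQ : z ∈ Q) (hQ2 : IsPGroup 2 Q)
    (hQC : Q ≤ C)
    (hCQ : C ≤ Subgroup.normalizer (Q : Set K))
    [hn : (Q.subgroupOf C).Normal]
    (hcen : C ⊓ Subgroup.centralizer (Q : Set K) ≤ Q)
    (hZ : Q ⊓ Subgroup.centralizer (Q : Set K) ≤ Subgroup.zpowers z)
    (hz2 : orderOf z = 2)
    (hab : ⁅Q, Q⁆ ≤ Subgroup.zpowers z)
    (hirr : ∀ A : Subgroup K, Subgroup.zpowers z ≤ A → A ≤ Q →
      C ≤ Subgroup.normalizer (A : Set K) → A = Subgroup.zpowers z ∨ A = Q)
    (hsimple : IsSimpleGroup (C ⧸ Q.subgroupOf C))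
    (hnc : ¬ IsMulCommutative (C ⧸ Q.subgroupOf C))
    (hsch : Sch (C ⧸ Q.subgroupOf C)) : Sch K := by
  have : Fact (Nat.Prime 2) := ⟨Nat.prime_two⟩
  -- a Sylow 2-subgroup containing `Q`
  obtain ⟨T, hQT⟩ := hQ2.exists_le_sylow
  have hzT : z ∈ (T : Subgroup K) := hQT hzQ
  have hz1 : z ≠ 1 := by
    rintro rfl
    rw [orderOf_one] at hz2
    omega
  have hZTle : (T : Subgroup K) ⊓ Subgroup.centralizer ((T : Subgroup K) : Set K) ≤ Subgroup.zpowers z := by
    intro x hx
    have h1 : x ∈ Subgroup.centralizer ((T : Subgroup K) : Set K) := hx.2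
    have h2 : x ∈ Subgroup.centralizer (Q : Set K) := by
      rw [Subgroup.mem_centralizer_iff] at h1 ⊢
      intro q hq
      exact h1 q (hQT hq)
    have h3 : x ∈ C := by
      rw [hCdef, Subgroup.mem_centralizer_iff]
      intro y hy
      rw [Set.mem_singleton_iff] at hy
      subst hy
      exact (Subgroup.mem_centralizer_iff.1 h1) y hzT
    exact hZ ⟨hcen ⟨h3, h2⟩, h2⟩
  -- the center of `T` is not trivial
  have hTne : Nontrivial (T : Subgroup K) := ⟨⟨z, hzT⟩, 1, fun h => hz1 (congrArg Subtype.val h)⟩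
  have hcT : Nontrivial (Subgroup.center (T : Subgroup K)) := T.isPGroup'.center_nontrivial
  have hzcen : z ∈ Subgroup.centralizer ((T : Subgroup K) : Set K) := by
    obtain ⟨⟨⟨x, hxT⟩, hxc⟩, hx1⟩ := exists_ne (1 : Subgroup.center (T : Subgroup K))
    have hxne : x ≠ 1 := fun h => hx1 (Subtype.ext (Subtype.ext h))
    have hxcen : x ∈ Subgroup.centralizer ((T : Subgroup K) : Set K) := by
      rw [Subgroup.mem_centralizer_iff]
      intro t ht
      exact congrArg Subtype.val (Subgroup.mem_center_iff.1 hxc ⟨t, ht⟩)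
    have h1 : x ∈ Subgroup.zpowers z := hZTle ⟨hxT, hxcen⟩
    have h2 : x = z := by
      classical
      rw [mem_zpowers_iff_mem_range_orderOf, hz2] at h1
      simp only [Finset.mem_image, Finset.mem_range] at h1
      obtain ⟨n, hn, rfl⟩ := h1
      have : n = 0 ∨ n = 1 := by omega
      rcases this with rfl | rfl
      · exact absurd (pow_zero z) hxne
      · exact pow_one z
    rw [← h2]
    exact hxcen
  have hTC : (T : Subgroup K) ≤ C := by
    intro t ht
    rw [hCdef, Subgroup.mem_centralizer_singleton_iff]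
    exact (Subgroup.mem_centralizer_iff.1 hzcen) t ht
  have hZT : (T : Subgroup K) ⊓ Subgroup.centralizer ((T : Subgroup K) : Set K) = Subgroup.zpowers z := by
    apply le_antisymm hZTle
    rw [Subgroup.zpowers_le]
    exact ⟨hzT, hzcen⟩
  have hzQle : Subgroup.zpowers z ≤ Q := by
    rw [Subgroup.zpowers_le]; exact hzQ
  have hCZ : C ≤ Subgroup.normalizer ((Subgroup.zpowers z : Subgroup K) : Set K) := by
    have h1 : C = Subgroup.centralizer ((Subgroup.zpowers z : Subgroup K) : Set K) := by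
      rw [hCdef, Subgroup.zpowers_eq_closure, Subgroup.centralizer_closure]
    rw [h1]
    exact Subgroup.centralizer_le_normalizer _
  apply Crit.sch_of_sylow hK T
  intro D hD hT
  have hDz : Inv D (Subgroup.zpowers z) := by
    rw [← hZT]
    exact hT.center
  have hDC : Inv D C := by
    have h1 : C = Subgroup.centralizer ((Subgroup.zpowers z : Subgroup K) : Set K) := by
      rw [hCdef, Subgroup.zpowers_eq_closure, Subgroup.centralizer_closure]
    rw [h1]
    exact hDz.centralizer
  have hDQ : Inv D Q := inv_of_simple_quotient hDC hQC hCQ hQ2 hsimple hnc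
  have hTsol : Group.IsSolvable (T : Subgroup K) := by
    have h1 : Group.IsNilpotent (T : Subgroup K) := T.isPGroup'.isNilpotent
    infer_instance
  have hTodd : Odd ((T : Subgroup K).relIndex C) := by
    have h1 : (T : Subgroup K).relIndex C ∣ (T : Subgroup K).index := Subgroup.relIndex_dvd_index_of_le hTC
    have h2 : ¬ 2 ∣ (T : Subgroup K).index := T.not_dvd_index
    rw [← Nat.not_even_iff_odd, even_iff_two_dvd]
    exact fun h => h2 (h.trans h1)
  have htr1 : TrMod D C Q := trMod_of_sch hD hTsol hTodd hT hTC hDC hDQ hsch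
  have htr2 : TrMod D Q (Subgroup.zpowers z) :=
    trMod_of_irreducible hD hDQ hDz hQC hCQ hCZ hab htr1 hirr hzQle
  have hcardz : Nat.card (Subgroup.zpowers z) = 2 := by rw [Nat.card_zpowers, hz2]
  have htr3 : Tr D (Subgroup.zpowers z) := by
    rw [← trMod_bot]
    apply trMod_of_relIndex_le_four hD hDz (inv_bot D)
    · rw [Subgroup.relIndex_bot_left, hcardz]; norm_num
    · rw [Subgroup.relIndex_bot_left, hcardz]; norm_num
  have htr4 : Tr D Q := tr_of_trMod hD inferInstance htr3 htr2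
  have hQsol : Group.IsSolvable Q := by
    have h1 : Group.IsNilpotent Q := hQ2.isNilpotent
    infer_instance
  refine tr_of_centralizer_le hD hT (hTC.trans hCQ) htr4 hQsol ?_
  rintro x ⟨hx1, hx2⟩
  exact hcen ⟨hTC hx1, hx2⟩

/-- **The Schreier property from an involution centraliser `2^{1+2n}.L`.**  (`C` is the centraliser of `z`.) -/
theorem sch_of_extraspecial_aux [Finite K] [IsSimpleGroup K] (z : K) (hz : orderOf z = 2)
    (C : Subgroup K) (hC : C = Subgroup.centralizer ({z} : Set K))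
    (Q : Subgroup C) [hQn : Q.Normal] (hQ : Cfsg.IsExtraspecial 2 Q)
    (h2c : Subgroup.centralizer (Q : Set C) ≤ Q)
    {L : Type*} [Group L] (e : C ⧸ Q ≃* L) (hL : IsSimpleGroup L)
    (hLnc : ¬ IsMulCommutative L) (hLs : Sch L)
    (hirr : ∀ A : Subgroup C, A.Normal → A ≤ Q →
      (∃ a ∈ A, (a : K) ≠ 1 ∧ (a : K) ≠ z) → (∃ a ∈ A, (a : K) = z) → Q ≤ A) : Sch K := by
  have : Fact (Nat.Prime 2) := ⟨Nat.prime_two⟩
  obtain ⟨⟨hQ2, -, hQcomm⟩, hQcard⟩ := hQ
  have hzC : z ∈ C := by
    rw [hC, Subgroup.mem_centralizer_singleton_iff]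
  -- `z ∈ Q`
  have hzcC : ∀ c : C, (⟨z, hzC⟩ : C) * c = c * ⟨z, hzC⟩ := by
    rintro ⟨c, hc⟩
    have h1 : c ∈ Subgroup.centralizer ({z} : Set K) := hC ▸ hc
    rw [Subgroup.mem_centralizer_singleton_iff] at h1
    exact Subtype.ext h1.symm
  have hzQ : (⟨z, hzC⟩ : C) ∈ Q := by
    apply h2c
    rw [Subgroup.mem_centralizer_iff]
    intro q _
    exact (hzcC q).symm
  have hz1 : z ≠ 1 := by
    rintro rfl
    rw [orderOf_one] at hz
    omega
  have hzcen : (⟨⟨z, hzC⟩, hzQ⟩ : Q) ∈ Subgroup.center Q := by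
    rw [Subgroup.mem_center_iff]
    intro q
    exact Subtype.ext (hzcC q).symm
  have hcen : ∀ q : Q, q ∈ Subgroup.center Q → (q : K) ∈ Subgroup.zpowers z := by
    intro q hq
    have h1 : Subgroup.zpowers (⟨⟨z, hzC⟩, hzQ⟩ : Q) = Subgroup.center Q := by
      apply Subgroup.eq_of_le_of_card_ge
      · rw [Subgroup.zpowers_le]; exact hzcen
      · rw [hQcard, Nat.card_zpowers]
        have : orderOf (⟨⟨z, hzC⟩, hzQ⟩ : Q) = orderOf z := by
          rw [← Subgroup.orderOf_coe, ← Subgroup.orderOf_coe]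
        rw [this, hz]
    rw [← h1, Subgroup.mem_zpowers_iff] at hq
    obtain ⟨n, rfl⟩ := hq
    rw [Subgroup.mem_zpowers_iff]
    exact ⟨n, by simp⟩
  -- the subgroup of `K`
  let Q' : Subgroup K := Q.map C.subtype
  have hQ' : ∀ x (hx : x ∈ C), x ∈ Q' ↔ (⟨x, hx⟩ : C) ∈ Q := by
    intro x hx
    constructor
    · rintro ⟨y, hy, rfl⟩
      exact hy
    · intro h
      exact ⟨⟨x, hx⟩, h, rfl⟩
  have hQ'C : Q' ≤ C := Subgroup.map_subtype_le _
  have hsub : Q'.subgroupOf C = Q := by
    ext x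
    exact hQ' x x.2
  have hn : (Q'.subgroupOf C).Normal := by rw [hsub]; infer_instance
  have hCQ' : C ≤ Subgroup.normalizer (Q' : Set K) := by
    have hstep : ∀ c ∈ C, ∀ a ∈ Q', c * a * c⁻¹ ∈ Q' := by
      rintro c hc _ ⟨y, hy, rfl⟩
      exact ⟨⟨c, hc⟩ * y * ⟨c, hc⟩⁻¹, hQn.conj_mem y hy ⟨c, hc⟩, rfl⟩
    intro c hc
    rw [Subgroup.mem_normalizer_iff]
    intro a
    refine ⟨hstep c hc a, fun h => ?_⟩
    have h1 := hstep c⁻¹ (inv_mem hc) _ h
    have h2 : c⁻¹ * (c * a * c⁻¹) * c⁻¹⁻¹ = a := by group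
    rwa [h2] at h1
  let e' : C ⧸ Q'.subgroupOf C ≃* L := (QuotientGroup.quotientMulEquivOfEq hsub).trans e
  have hLnc' : ¬ IsMulCommutative (C ⧸ Q'.subgroupOf C) := by
    intro h
    apply hLnc
    refine ⟨⟨fun a b => ?_⟩⟩
    apply e'.symm.injective
    rw [map_mul, map_mul]
    exact h.is_comm.comm _ _
  have hsimple : IsSimpleGroup (C ⧸ Q'.subgroupOf C) := e'.isSimpleGroup_congr.2 hL
  have hK : ¬ IsMulCommutative K := by
    intro h
    apply hLnc'
    refine ⟨⟨fun a b => ?_⟩⟩
    induction a using QuotientGroup.induction_on with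
    | H a =>
      induction b using QuotientGroup.induction_on with
      | H b =>
        rw [← QuotientGroup.mk_mul, ← QuotientGroup.mk_mul]
        exact congrArg _ (Subtype.ext (h.is_comm.comm _ _))
  have hQ'2 : IsPGroup 2 Q' := hQ2.map _
  have hzQ' : z ∈ Q' := (hQ' z hzC).2 hzQ
  have hSch : Sch (C ⧸ Q'.subgroupOf C) := Sch.of_equiv e'.symm hLs
  refine sch_of_extraspecial hK z C hC Q' hzQ' hQ'2 hQ'C hCQ' ?_ ?_ hz ?_ ?_ hsimple hLnc' hSch
  · rintro x ⟨hx1, hx2⟩
    rw [hQ' x hx1]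
    apply h2c
    rw [Subgroup.mem_centralizer_iff]
    intro q hq
    exact Subtype.ext ((Subgroup.mem_centralizer_iff.1 hx2) q ⟨q, hq, rfl⟩)
  · rintro _ ⟨⟨y, hy, rfl⟩, hx2⟩
    apply hcen ⟨y, hy⟩
    rw [Subgroup.mem_center_iff]
    intro q
    exact Subtype.ext (Subtype.ext ((Subgroup.mem_centralizer_iff.1 hx2) q ⟨q, q.2, rfl⟩))
  · rw [Subgroup.commutator_le]
    rintro _ ⟨a, ha, rfl⟩ _ ⟨b, hb, rfl⟩
    have h1 : (⟨a, ha⟩ : Q) * ⟨b, hb⟩ * (⟨a, ha⟩ : Q)⁻¹ * (⟨b, hb⟩ : Q)⁻¹ ∈ Subgroup.center Q := by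
      rw [← hQcomm]
      exact Subgroup.commutator_mem_commutator (Subgroup.mem_top _) (Subgroup.mem_top _)
    exact hcen _ h1
  · intro A hzA hAQ' hCA
    by_cases hex : ∃ a ∈ A, a ≠ 1 ∧ a ≠ z
    · right
      apply le_antisymm hAQ'
      have hAn : (A.subgroupOf C).Normal := by
        constructor
        intro a ha c
        rw [Subgroup.mem_subgroupOf] at ha ⊢
        exact (Subgroup.mem_normalizer_iff.1 (hCA c.2) a).1 ha
      have h1 := hirr (A.subgroupOf C) hAn
        (fun a ha => (hQ' a a.2).1 (hAQ' ha))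
        (by
          obtain ⟨a, ha, h2⟩ := hex
          exact ⟨⟨a, hQ'C (hAQ' ha)⟩, ha, h2⟩)
        ⟨⟨z, hzC⟩, hzA (Subgroup.mem_zpowers z), rfl⟩
      rintro _ ⟨q, hq, rfl⟩
      exact h1 hq
    · left
      apply le_antisymm _ hzA
      intro a ha
      by_cases h1 : a = 1
      · rw [h1]; exact one_mem _
      · by_cases h2 : a = z
        · rw [h2]; exact Subgroup.mem_zpowers z
        · exact absurd ⟨a, ha, h1, h2⟩ hex

/-- **The Schreier property from an involution centraliser `2^{1+2n}.L`.** -/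
theorem sch_of_extraspecial_centralizer [Finite K] [IsSimpleGroup K] (z : K) (hz : orderOf z = 2)
    (Q : Subgroup (Subgroup.centralizer ({z} : Set K))) [Q.Normal] (hQ : Cfsg.IsExtraspecial 2 Q)
    (h2c : Subgroup.centralizer (Q : Set (Subgroup.centralizer ({z} : Set K))) ≤ Q)
    {L : Type*} [Group L] (e : (Subgroup.centralizer ({z} : Set K)) ⧸ Q ≃* L) (hL : IsSimpleGroup L)
    (hLnc : ¬ IsMulCommutative L) (hLs : Sch L)
    (hirr : ∀ A : Subgroup (Subgroup.centralizer ({z} : Set K)), A.Normal → A ≤ Q →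
      (∃ a ∈ A, (a : K) ≠ 1 ∧ (a : K) ≠ z) → (∃ a ∈ A, (a : K) = z) → Q ≤ A) : Sch K :=
  sch_of_extraspecial_aux z hz _ rfl Q hQ h2c e hL hLnc hLs hirr

end Main

end Cfsg.Agent.Schreier.ExtraCrit
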