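import Mathlib
import Cfsg.Agent.Schreier.ExtraCrit

/-!
# The extraspecial criterion for a simple group given as a subgroup of a larger group

`G ≤ Γ` finite and simple, `C = C_G(z) ≤ Γ`, `Q ≤ C`, `C / Q ≃ K₀`.
-/

set_option autoImplicit false

namespace Cfsg.Agent.Schreier.AmbCrit

open Cfsg.Agent.Schreier.Basic Cfsg.Agent.Schreier.Tools Cfsg.Agent.Schreier.ExtraCrit

/-- The facts about `C = C_G(z)` and its normal 2-subgroup `Q`. -/
structure Amb {Γ : Type*} [Group Γ] (G C Q : Subgroup Γ) (z : Γ) (K₀ : Type*) [Group K₀] : Prop where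
  C_le : C ≤ G
  cent : ∀ g ∈ G, g * z = z * g → g ∈ C
  z_comm : ∀ g ∈ C, g * z = z * g
  Q_le : Q ≤ C
  z_mem : z ∈ Q
  z_ne : z ≠ 1
  z_sq : z * z = 1
  Q_two : IsPGroup 2 Q
  Q_comm : ∀ x ∈ Q, ∀ y ∈ Q, x * y = y * x ∨ x * y = y * x * z
  Q_center : ∀ x ∈ Q, (∀ y ∈ Q, x * y = y * x) → x = 1 ∨ x = z
  Q_irred : ∀ N : Subgroup Γ, N ≤ Q → (∀ g ∈ C, ∀ n ∈ N, g * n * g⁻¹ ∈ N) →
    (∀ n ∈ N, n = 1 ∨ n = z) ∨ N = Q
  cent_Q : ∀ x ∈ C, (∀ y ∈ Q, x * y = y * x) → x ∈ Q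
  quot : ∃ π : C →* K₀, Function.Surjective π ∧ ∀ g : C, π g = 1 ↔ (g : Γ) ∈ Q
  simple : IsSimpleGroup K₀
  not_comm : ¬ IsMulCommutative K₀

/-- **The Schreier property of `G` from the one of `K₀ = C_G(z) / Q`.** -/
theorem sch_of_amb {Γ : Type*} [Group Γ] {G C Q : Subgroup Γ} {z : Γ} {K₀ : Type*} [Group K₀]
    [hfin : Finite G] [hG : IsSimpleGroup G] (A : Amb G C Q z K₀) (hs : Sch K₀) : Sch G := by
  obtain ⟨π, hπs, hπk⟩ := A.quot
  have hzG : z ∈ G := A.C_le (A.Q_le A.z_mem)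
  have hQG : Q ≤ G := A.Q_le.trans A.C_le
  -- conjugation by elements of `C`
  have hQn : ∀ c ∈ C, ∀ q ∈ Q, c * q * c⁻¹ ∈ Q := by
    intro c hc q hq
    have h1 : π ⟨q, A.Q_le hq⟩ = 1 := (hπk _).2 hq
    have h2 : π (⟨c, hc⟩ * ⟨q, A.Q_le hq⟩ * ⟨c, hc⟩⁻¹) = 1 := by
      rw [map_mul, map_mul, h1, mul_one, ← map_mul, mul_inv_cancel, map_one]
    exact (hπk _).1 h2
  let z' : G := ⟨z, hzG⟩
  let C' : Subgroup G := C.subgroupOf G
  let Q' : Subgroup G := Q.subgroupOf G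
  have hC'def : C' = Subgroup.centralizer {z'} := by
    ext g
    rw [Subgroup.mem_centralizer_singleton_iff]
    constructor
    · intro h
      exact Subtype.ext (A.z_comm g h)
    · intro h
      exact A.cent g g.2 (congrArg Subtype.val h)
  have hQ'n : ∀ c ∈ C', ∀ q ∈ Q', c * q * c⁻¹ ∈ Q' := fun c hc q hq => hQn c hc q hq
  have hQ'C' : Q' ≤ C' := fun q hq => A.Q_le hq
  have hn : (Q'.subgroupOf C').Normal := by
    constructor
    intro q hq c
    exact hQ'n c c.2 q hq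
  have hnorm : ∀ N : Subgroup G, (∀ c ∈ C', ∀ q ∈ N, c * q * c⁻¹ ∈ N) → C' ≤ Subgroup.normalizer (N : Set G) := by
    intro N hN c hc
    rw [Subgroup.mem_normalizer_iff]
    intro a
    refine ⟨hN c hc a, fun h => ?_⟩
    have h1 := hN c⁻¹ (inv_mem hc) _ h
    have h2 : c⁻¹ * (c * a * c⁻¹) * c⁻¹⁻¹ = a := by group
    rwa [h2] at h1
  -- the quotient
  let ρ : C' →* K₀ := π.comp
    { toFun := fun c => (⟨((c : G) : Γ), c.2⟩ : C)
      map_one' := rfl
      map_mul' := fun _ _ => rfl }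
  have hρs : Function.Surjective ρ := by
    intro k
    obtain ⟨c, rfl⟩ := hπs k
    exact ⟨⟨⟨(c : Γ), A.C_le c.2⟩, c.2⟩, rfl⟩
  have hρk : ρ.ker = Q'.subgroupOf C' := by
    ext c
    rw [MonoidHom.mem_ker]
    exact hπk _
  let e : C' ⧸ Q'.subgroupOf C' ≃* K₀ :=
    (QuotientGroup.quotientMulEquivOfEq hρk.symm).trans (QuotientGroup.quotientKerEquivOfSurjective ρ hρs)
  have hnc : ¬ IsMulCommutative (C' ⧸ Q'.subgroupOf C') := by
    intro h
    apply A.not_comm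
    refine ⟨⟨fun a b => ?_⟩⟩
    apply e.symm.injective
    rw [map_mul, map_mul]
    exact h.is_comm.comm _ _
  have hsimple : IsSimpleGroup (C' ⧸ Q'.subgroupOf C') := e.isSimpleGroup_congr.2 A.simple
  have hGnc : ¬ IsMulCommutative G := by
    intro h
    apply hnc
    refine ⟨⟨fun a b => ?_⟩⟩
    induction a using QuotientGroup.induction_on with
    | H a =>
      induction b using QuotientGroup.induction_on with
      | H b =>
        rw [← QuotientGroup.mk_mul, ← QuotientGroup.mk_mul]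
        exact congrArg _ (Subtype.ext (h.is_comm.comm _ _))
  have hz1 : z' ≠ 1 := fun h => A.z_ne (congrArg Subtype.val h)
  have hz2 : orderOf z' = 2 := by
    have : Fact (Nat.Prime 2) := ⟨Nat.prime_two⟩
    apply orderOf_eq_prime _ hz1
    rw [pow_two]
    exact Subtype.ext A.z_sq
  have hQ'2 : IsPGroup 2 Q' := A.Q_two.comap_subtype
  have hzpow : ∀ x : G, (x = 1 ∨ x = z') → x ∈ Subgroup.zpowers z' := by
    rintro x (rfl | rfl)
    · exact one_mem _
    · exact Subgroup.mem_zpowers _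
  refine sch_of_extraspecial hGnc z' C' hC'def Q' A.z_mem hQ'2 hQ'C' (hnorm Q' hQ'n) ?_ ?_ hz2 ?_ ?_
    hsimple hnc (Sch.of_equiv e.symm hs)
  · rintro x ⟨hx1, hx2⟩
    refine A.cent_Q x hx1 fun y hy => ?_
    exact (congrArg Subtype.val ((Subgroup.mem_centralizer_iff.1 hx2) ⟨y, hQG hy⟩ hy)).symm
  · rintro x ⟨hx1, hx2⟩
    apply hzpow
    rcases A.Q_center x hx1 (fun y hy =>
      (congrArg Subtype.val ((Subgroup.mem_centralizer_iff.1 hx2) ⟨y, hQG hy⟩ hy)).symm) with h | h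
    · exact Or.inl (Subtype.ext h)
    · exact Or.inr (Subtype.ext h)
  · rw [Subgroup.commutator_le]
    intro a ha b hb
    apply hzpow
    rw [commutatorElement_def]
    rcases A.Q_comm a ha b hb with h | h
    · left
      apply Subtype.ext
      show (a : Γ) * b * (a : Γ)⁻¹ * (b : Γ)⁻¹ = 1
      rw [h]; group
    · right
      apply Subtype.ext
      show (a : Γ) * b * (a : Γ)⁻¹ * (b : Γ)⁻¹ = z
      have h1 : (b : Γ) * (a : Γ) * z * (a : Γ)⁻¹ * (b : Γ)⁻¹ = z := by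
        have h2 : ((b : Γ) * a) * z = z * (b * a) :=
          A.z_comm _ (C.mul_mem (A.Q_le hb) (A.Q_le ha))
        rw [h2]; group
      rw [h]; exact h1
  · intro N hzN hNQ hCN
    have h1 := A.Q_irred (N.map G.subtype) (by
      rintro _ ⟨n, hn, rfl⟩
      exact hNQ hn) (by
      rintro g hg _ ⟨n, hn, rfl⟩
      exact ⟨⟨g, A.C_le hg⟩ * n * ⟨g, A.C_le hg⟩⁻¹,
        (Subgroup.mem_normalizer_iff.1 (hCN (show (⟨g, A.C_le hg⟩ : G) ∈ C' from hg)) n).1 hn, rfl⟩)
    rcases h1 with h1 | h1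
    · left
      apply le_antisymm _ hzN
      intro n hn
      apply hzpow
      rcases h1 n ⟨n, hn, rfl⟩ with h | h
      · exact Or.inl (Subtype.ext h)
      · exact Or.inr (Subtype.ext h)
    · right
      apply le_antisymm hNQ
      intro q hq
      have h2 : (q : Γ) ∈ N.map G.subtype := by rw [h1]; exact hq
      obtain ⟨n, hn, hnq⟩ := h2
      have : n = q := Subtype.ext hnq
      rw [← this]; exact hn

end Cfsg.Agent.Schreier.AmbCrit
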