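import Mathlib
import Cfsg.Agent.BabyM.AbsFinal
import Cfsg.Agent.Schreier.AmbCrit

/-!
# The Schreier property of the model of the Baby Monster, from the one of `Co₂`
-/

set_option autoImplicit false

namespace Cfsg.Agent.Schreier.BabyModel

open Cfsg.Agent.Schreier.Basic Cfsg.Agent.Schreier.AmbCrit Cfsg.Agent.BabyM.Model

variable {W : Type} [AddCommGroup W] [Module ℚ W] {M : BData W} {K₀ : Type} [Group K₀]

theorem amb (A : BAll M K₀) (hnc : ¬ IsMulCommutative K₀) : Amb M.G M.C M.Q M.z K₀ where
  C_le := A.C_le_G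
  cent := fun g hg h => A.cent_z g hg h
  z_comm := A.grp.z_comm
  Q_le := A.grp.Q_le
  z_mem := A.grp.z_mem
  z_ne := A.grp.z_ne
  z_sq := A.grp.z_sq
  Q_two := IsPGroup.of_card A.grp.Q_card
  Q_comm := A.grp.Q_comm
  Q_center := A.grp.Q_center
  Q_irred := A.grp.Q_irred
  cent_Q := fun x hx h => A.grp.centralizer_Q x hx h
  quot := A.grp.quot
  simple := A.grp.simple
  not_comm := hnc

/-- **The Schreier property of the model of the Baby Monster.** -/
theorem sch_of_model (A : BAll M K₀) (hnc : ¬ IsMulCommutative K₀) (hs : Sch K₀) : Sch M.G := by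
  have := A.finite_G
  have := A.simple
  exact sch_of_amb (amb A hnc) hs

end Cfsg.Agent.Schreier.BabyModel
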