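import Mathlib
import Cfsg.Agent.Lib.FrattiniBasic
import Cfsg.Agent.Schreier.Basic
import Cfsg.Agent.Schreier.Tools

/-!
# Perfect groups of automorphisms acting on a 2-group modulo its Frattini subgroup

A perfect group `D` of automorphisms which leaves the finite 2-group `T` invariant and acts trivially on `T / Φ(T)`
acts trivially on `T`. So it is enough to have a chain of `D`-invariant subgroups between `T` and `Φ(T)` with all
indices at most 4.
-/

set_option autoImplicit false
set_option linter.unusedSectionVars false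

namespace Cfsg.Agent.Schreier.Flag

open Cfsg.Agent.Schreier.Basic Cfsg.Agent.Schreier.Tools

variable {K : Type*} [Group K]

/-- The Frattini subgroup of the subgroup `T`, as a subgroup of the whole group. -/
def phi (T : Subgroup K) : Subgroup K := (frattini T).map T.subtype

theorem phi_le (T : Subgroup K) : phi T ≤ T := Subgroup.map_subtype_le _

theorem mem_phi {T : Subgroup K} {x : K} : x ∈ phi T ↔ ∃ h : x ∈ T, (⟨x, h⟩ : T) ∈ frattini T := by
  constructor
  · rintro ⟨y, hy, rfl⟩
    exact ⟨y.2, hy⟩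
  · rintro ⟨h, hx⟩
    exact ⟨⟨x, h⟩, hx, rfl⟩

theorem inv_phi {D : Subgroup (MulAut K)} {T : Subgroup K} (hT : Inv D T) : Inv D (phi T) :=
  hT.of_characteristic (frattini T)

section TwoGroup

variable {T : Subgroup K} [Finite T]

theorem commutator_mem_phi (h2 : IsPGroup 2 T) {x y : K} (hx : x ∈ T) (hy : y ∈ T) :
    x * y * x⁻¹ * y⁻¹ ∈ phi T := by
  have h := Cfsg.Agent.Lib.FrattiniBasic.commutator_le_frattini h2
  have h1 : (⟨x, hx⟩ * ⟨y, hy⟩ * (⟨x, hx⟩)⁻¹ * (⟨y, hy⟩)⁻¹ : T) ∈ commutator T :=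
    Subgroup.commutator_mem_commutator (Subgroup.mem_top _) (Subgroup.mem_top _)
  exact ⟨_, h h1, rfl⟩

theorem sq_mem_phi (h2 : IsPGroup 2 T) {x : K} (hx : x ∈ T) : x * x ∈ phi T := by
  have h := Cfsg.Agent.Lib.FrattiniBasic.pow_mem_frattini h2 (⟨x, hx⟩ : T)
  refine ⟨_, h, ?_⟩
  simp [pow_two]

/-- A subgroup between `Φ(T)` and `T` is normal in `T`. -/
theorem conj_mem_of_phi_le (h2 : IsPGroup 2 T) {B : Subgroup K} (hΦ : phi T ≤ B) (hB : B ≤ T)
    {t b : K} (ht : t ∈ T) (hb : b ∈ B) : t * b * t⁻¹ ∈ B := by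
  have h := mul_mem (hΦ (commutator_mem_phi h2 ht (hB hb))) hb
  simpa using h

/-- The Frattini subgroup consists of non-generators. -/
theorem eq_of_sup_phi {A : Subgroup K} (hA : A ≤ T) (h : T ≤ A ⊔ phi T) : A = T := by
  have h1 : A.subgroupOf T ⊔ frattini T = ⊤ := by
    rw [eq_top_iff]
    rintro ⟨x, hx⟩ _
    have hmap : (A.subgroupOf T ⊔ frattini T).map T.subtype = A ⊔ phi T := by
      rw [Subgroup.map_sup, Subgroup.subgroupOf_map_subtype, inf_eq_left.2 hA]
      rfl
    have h2 : x ∈ (A.subgroupOf T ⊔ frattini T).map T.subtype := by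
      rw [hmap]
      exact h hx
    obtain ⟨y, hy, hyx⟩ := h2
    have : y = ⟨x, hx⟩ := Subtype.ext hyx
    rwa [← this]
  have h2 := frattini_nongenerating h1
  apply le_antisymm hA
  intro x hx
  have : (⟨x, hx⟩ : T) ∈ A.subgroupOf T := by
    rw [h2]
    exact Subgroup.mem_top _
  exact this

/-- An automorphism of odd prime order of a finite 2-group which is trivial modulo the Frattini subgroup is trivial. -/
theorem eq_one_of_odd_prime {P : Type*} [Group P] [Finite P] (h2 : IsPGroup 2 P) (ψ : MulAut P) {p : ℕ}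
    (hp : p.Prime) (hp2 : p ≠ 2) (hψ : orderOf ψ = p) (h : ∀ t, t⁻¹ * ψ t ∈ frattini P) : ψ = 1 := by
  have : Fact p.Prime := ⟨hp⟩
  -- all powers of `ψ` are trivial modulo Frattini
  have hall : ∀ φ ∈ Subgroup.zpowers ψ, ∀ t, t⁻¹ * φ t ∈ frattini P := by
    have hcl : Subgroup.zpowers ψ ≤
        { carrier := {φ : MulAut P | ∀ t, t⁻¹ * φ t ∈ frattini P}
          one_mem' := fun t => by simp
          mul_mem' := fun {a b} ha hb t => by
            have h1 := mul_mem (hb t) (ha (b t))
            simpa [MulAut.mul_apply, mul_assoc] using h1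
          inv_mem' := fun {a} ha t => by
            have h1 := inv_mem (ha (a⁻¹ t))
            rw [MulAut.apply_inv_self] at h1
            simpa using h1 } := by
      rw [Subgroup.zpowers_le]
      exact h
    exact fun φ hφ => hcl hφ
  let C : Subgroup P := { carrier := {x | ψ x = x}
                          one_mem' := map_one _
                          mul_mem' := fun {a b} (ha : ψ a = a) (hb : ψ b = b) => by
                            show ψ (a * b) = a * b
                            rw [map_mul, ha, hb]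
                          inv_mem' := fun {a} (ha : ψ a = a) => by
                            show ψ a⁻¹ = a⁻¹
                            rw [map_inv, ha] }
  have hCtop : C ⊔ frattini P = ⊤ := by
    rw [eq_top_iff]
    intro t _
    -- the coset of `t`
    let S : Type _ := {x : P // t⁻¹ * x ∈ frattini P}
    let A : MulAction (Subgroup.zpowers ψ) S :=
      { smul := fun φ x => ⟨(φ : MulAut P) x.1, by
          have h1 := mul_mem x.2 (hall φ φ.2 x.1)
          simpa [mul_assoc] using h1⟩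
        one_smul := fun x => rfl
        mul_smul := fun a b x => rfl }
    have hpg : IsPGroup p (Subgroup.zpowers ψ) := by
      apply IsPGroup.of_card (n := 1)
      rw [Nat.card_zpowers, hψ, pow_one]
    have hcard : Nat.card S = Nat.card (frattini P) := by
      refine Nat.card_congr ⟨fun x => ⟨t⁻¹ * x.1, x.2⟩, fun y => ⟨t * y.1, ?_⟩, ?_, ?_⟩
      · rw [inv_mul_cancel_left]
        exact y.2
      · intro x
        apply Subtype.ext
        simp
      · intro y
        apply Subtype.ext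
        simp
    have hnd : ¬ p ∣ Nat.card S := by
      rw [hcard]
      obtain ⟨k, hk⟩ := IsPGroup.iff_card.1 (h2.to_subgroup (frattini P))
      rw [hk]
      intro hd
      have := hp.dvd_of_dvd_pow hd
      exact hp2 ((Nat.prime_dvd_prime_iff_eq hp Nat.prime_two).1 this)
    obtain ⟨x, hx⟩ := hpg.nonempty_fixed_point_of_prime_not_dvd_card S hnd
    have hx1 : ψ x.1 = x.1 := congrArg Subtype.val (hx ⟨ψ, Subgroup.mem_zpowers ψ⟩)
    have hxt : t = x.1 * (t⁻¹ * x.1)⁻¹ := by group
    rw [hxt]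
    exact mul_mem (Subgroup.mem_sup_left hx1) (Subgroup.mem_sup_right (inv_mem x.2))
  have hC := frattini_nongenerating hCtop
  ext x
  have : x ∈ C := by
    rw [hC]
    exact Subgroup.mem_top _
  exact this

/-- **Burnside**: a perfect group of automorphisms acting trivially on `T / Φ(T)` acts trivially on `T`. -/
theorem tr_of_trMod_phi {D : Subgroup (MulAut K)} (hD : ⁅D, D⁆ = D) (h2 : IsPGroup 2 T) (hT : Inv D T)
    (h : TrMod D T (phi T)) : Tr D T := by
  apply tr_of_solvable_range hD hT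
  have hfr : ∀ ψ ∈ hT.res.range, ∀ t : T, t⁻¹ * ψ t ∈ frattini T := by
    rintro _ ⟨φ, rfl⟩ t
    have h1 := h φ φ.2 t t.2
    obtain ⟨h3, h4⟩ := mem_phi.1 h1
    exact h4
  have hcard : ∃ k, Nat.card hT.res.range = 2 ^ k := by
    refine ⟨_, Nat.eq_prime_pow_of_unique_prime_dvd Nat.card_pos.ne' ?_⟩
    intro p hp hdvd
    by_contra hp2
    have : Fact p.Prime := ⟨hp⟩
    obtain ⟨ψ, hψ⟩ := exists_prime_orderOf_dvd_card' p hdvd
    have h1 : orderOf (ψ : MulAut T) = p := by
      rw [← hψ]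
      exact Subgroup.orderOf_coe ψ
    have h3 := eq_one_of_odd_prime h2 (ψ : MulAut T) hp hp2 h1 (hfr _ ψ.2)
    rw [h3, orderOf_one] at h1
    exact hp.one_lt.ne h1
  obtain ⟨k, hk⟩ := hcard
  have : Fact (Nat.Prime 2) := ⟨Nat.prime_two⟩
  have h5 : IsPGroup 2 hT.res.range := IsPGroup.of_card hk
  have h6 : Group.IsNilpotent hT.res.range := h5.isNilpotent
  infer_instance

theorem isSolvable_of_le (h2 : IsPGroup 2 T) {A : Subgroup K} (hA : A ≤ T) : Group.IsSolvable A := by
  have : Fact (Nat.Prime 2) := ⟨Nat.prime_two⟩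
  have h1 : IsPGroup 2 A := h2.to_le hA
  have : Finite A := Set.Finite.subset (Set.toFinite (T : Set K)) hA
  have h6 : Group.IsNilpotent A := h1.isNilpotent
  infer_instance

/-- One step of a flag between `T` and `Φ(T)`. -/
theorem trMod_step {D : Subgroup (MulAut K)} (hD : ⁅D, D⁆ = D) (h2 : IsPGroup 2 T) {A B : Subgroup K}
    (hA : Inv D A) (hB : Inv D B) (hAT : A ≤ T) (hBA : B ≤ A) (hΦ : phi T ≤ B) (h : TrMod D T A)
    (h0 : B.relIndex A ≠ 0) (h4 : B.relIndex A ≤ 4) : TrMod D T B :=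
  TrMod.trans hD (fun _ ha _ hc => conj_mem_of_phi_le h2 hΦ (hBA.trans hAT) ha hc) hAT
    (isSolvable_of_le h2 hAT) h (trMod_of_relIndex_le_four hD hA hB h0 h4)

theorem trMod_self {D : Subgroup (MulAut K)} (hT : Inv D T) : TrMod D T T := fun _ hφ _ ht =>
  mul_mem (inv_mem ht) (hT.apply_mem hφ ht)

/-- The quotient `T / Φ(T)` has order at most 4. -/
theorem tr_of_relIndex_phi_le_four {D : Subgroup (MulAut K)} (hD : ⁅D, D⁆ = D) (h2 : IsPGroup 2 T) (hT : Inv D T)
    (h0 : (phi T).relIndex T ≠ 0) (h4 : (phi T).relIndex T ≤ 4) : Tr D T :=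
  tr_of_trMod_phi hD h2 hT (trMod_of_relIndex_le_four hD hT (inv_phi hT) h0 h4)

/-- A flag with one intermediate subgroup. -/
theorem tr_of_flag_one {D : Subgroup (MulAut K)} (hD : ⁅D, D⁆ = D) (h2 : IsPGroup 2 T) (hT : Inv D T)
    {A : Subgroup K} (hA : Inv D A) (hAT : A ≤ T) (hΦ : phi T ≤ A)
    (h0 : A.relIndex T ≠ 0) (h4 : A.relIndex T ≤ 4)
    (h0' : (phi T).relIndex A ≠ 0) (h4' : (phi T).relIndex A ≤ 4) : Tr D T :=
  tr_of_trMod_phi hD h2 hT (trMod_step hD h2 hA (inv_phi hT) hAT hΦ le_rfl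
    (trMod_of_relIndex_le_four hD hT hA h0 h4) h0' h4')

/-- A flag with two intermediate subgroups. -/
theorem tr_of_flag_two {D : Subgroup (MulAut K)} (hD : ⁅D, D⁆ = D) (h2 : IsPGroup 2 T) (hT : Inv D T)
    {A B : Subgroup K} (hA : Inv D A) (hB : Inv D B) (hAT : A ≤ T) (hBA : B ≤ A) (hΦ : phi T ≤ B)
    (h0 : A.relIndex T ≠ 0) (h4 : A.relIndex T ≤ 4) (h0' : B.relIndex A ≠ 0) (h4' : B.relIndex A ≤ 4)
    (h0'' : (phi T).relIndex B ≠ 0) (h4'' : (phi T).relIndex B ≤ 4) : Tr D T :=
  tr_of_trMod_phi hD h2 hT (trMod_step hD h2 hB (inv_phi hT) (hBA.trans hAT) hΦ le_rfl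
    (trMod_step hD h2 hA hB hAT hBA hΦ (trMod_of_relIndex_le_four hD hT hA h0 h4) h0' h4') h0'' h4'')

end TwoGroup

/-! ### Indices -/

/-- Bound of an index by a function which separates the cosets. -/
theorem relIndex_le_of_fun {A B : Subgroup K} {α : Type*} [Finite α] (f : A → α)
    (h : ∀ x y : A, f x = f y → (x : K)⁻¹ * y ∈ B) :
    B.relIndex A ≠ 0 ∧ B.relIndex A ≤ Nat.card α := by
  have hinj : Function.Injective (fun q : A ⧸ B.subgroupOf A => f q.out) := by
    intro q q' hq
    have h1 := h _ _ hq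
    have h2 : (QuotientGroup.mk q.out : A ⧸ B.subgroupOf A) = QuotientGroup.mk q'.out := by
      rw [QuotientGroup.eq, Subgroup.mem_subgroupOf]
      exact h1
    rwa [QuotientGroup.out_eq', QuotientGroup.out_eq'] at h2
  have hfin : Finite (A ⧸ B.subgroupOf A) := Finite.of_injective _ hinj
  exact ⟨Nat.card_pos.ne', Nat.card_le_card_of_injective _ hinj⟩

/-- A set described canonically in terms of invariant subgroups is invariant. -/
theorem inv_of_mem_iff {D : Subgroup (MulAut K)} {X T A B : Subgroup K} (hT : Inv D T) (hA : Inv D A)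
    (hB : Inv D B) (h : ∀ x, x ∈ X ↔ x ∈ T ∧ ∀ a ∈ A, x * a * x⁻¹ * a⁻¹ ∈ B) : Inv D X := by
  refine inv_iff.2 fun φ hφ x hx => ?_
  rw [h] at hx ⊢
  refine ⟨hT.apply_mem hφ hx.1, fun a ha => ?_⟩
  have h1 : φ⁻¹ a ∈ A := hA.apply_mem (inv_mem hφ) ha
  have h2 := hB.apply_mem hφ (hx.2 _ h1)
  simpa [map_mul, map_inv, MulAut.apply_inv_self] using h2

end Cfsg.Agent.Schreier.Flag
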