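import Mathlib
import Cfsg.Agent.Schreier.Basic
import Cfsg.Agent.Schreier.Tools
import Cfsg.Agent.Schreier.Crit
import Cfsg.Agent.Schreier.Flag
import Cfsg.Agent.Co2Type.FactsD
import Cfsg.Agent.Co2Type.FactsClass

/-!
# The Schreier property of the second Conway group

`T = E : T22` is the explicit Sylow 2-subgroup of `Spor.Co2`, `E` elementary abelian of order `2 ^ 10`.  The subgroups
`W₁ < W₂ < W₃` (the first three terms of the upper central series of `T`), `G₃ = C_T(W₃)`,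
`X₇ = {x | [x, G₃] ≤ W₃}` and `E = C_T(X₇)` are canonical in `T`.  The socle series of `E` under `T` has factors of
order at most 4.  Hence a perfect group of automorphisms of `Spor.Co2` normalising `T` centralises `E` and then `T`.
-/

set_option autoImplicit false

namespace Cfsg.Agent.Schreier.ConwayTwo

open Cfsg Cfsg.Agent.SporadicA.GolayBase Cfsg.Agent.SporadicA.GolayPerm
open Cfsg.Agent.SporadicStructure.M24El
open Cfsg.Agent.Co2Type.Mono Cfsg.Agent.Co2Type.TData Cfsg.Agent.Co2Type.TGroup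
open Cfsg.Agent.Co2Type.TCard Cfsg.Agent.Co2Type.FactsD
open Cfsg.Agent.Schreier.Basic Cfsg.Agent.Schreier.Tools

/-! ### Spans -/

theorem xor_cancel (a b c : ℕ) : (a ^^^ c) ^^^ (b ^^^ c) = a ^^^ b := by
  rw [Nat.xor_comm b c, Nat.xor_assoc, ← Nat.xor_assoc c c b, Nat.xor_self, Nat.zero_xor]

theorem xor_cancel_right (a b : ℕ) : (a ^^^ b) ^^^ b = a := by
  rw [Nat.xor_assoc, Nat.xor_self, Nat.xor_zero]

theorem sp_zero : ∀ l : List ℕ, Sp l 0
  | [] => rfl
  | _ :: l => Or.inl (sp_zero l)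

theorem sp_xor : ∀ {l : List ℕ} {a b : ℕ}, Sp l a → Sp l b → Sp l (a ^^^ b) := by
  intro l
  induction l with
  | nil =>
    intro a b ha hb
    have ha' : a = 0 := ha
    have hb' : b = 0 := hb
    subst ha' hb'
    rfl
  | cons c l ih =>
    intro a b ha hb
    rcases ha with ha | ha <;> rcases hb with hb | hb
    · exact Or.inl (ih ha hb)
    · right
      rw [Nat.xor_assoc]
      exact ih ha hb
    · right
      have : (a ^^^ b) ^^^ c = (a ^^^ c) ^^^ b := by
        rw [Nat.xor_assoc, Nat.xor_comm b c, ← Nat.xor_assoc]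
      rw [this]
      exact ih ha hb
    · left
      rw [← xor_cancel a b c]
      exact ih ha hb

theorem sp_map {f : ℕ → ℕ} (h0 : f 0 = 0) (hf : ∀ a b, f (a ^^^ b) = f a ^^^ f b) {l : List ℕ} :
    ∀ {l' : List ℕ}, (∀ b ∈ l', Sp l (f b)) → ∀ {m : ℕ}, Sp l' m → Sp l (f m) := by
  intro l'
  induction l' with
  | nil =>
    intro _ m hm
    have hm' : m = 0 := hm
    rw [hm', h0]
    exact sp_zero l
  | cons b l' ih =>
    intro h m hm
    have h1 : ∀ b ∈ l', Sp l (f b) := fun c hc => h c (List.mem_cons_of_mem _ hc)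
    rcases hm with hm | hm
    · exact ih h1 hm
    · have h2 := sp_xor (ih h1 hm) (h b List.mem_cons_self)
      rwa [hf, xor_cancel_right] at h2

/-- The map `m ↦ m + P m`. -/
def dl (P m : ℕ) : ℕ := Nat.xor m (pimg P m)

theorem dl_zero {P : ℕ} (hP : isPerm P = true) : dl P 0 = 0 := by
  show 0 ^^^ pimg P 0 = 0
  rw [pimg_zero hP, Nat.xor_self]

theorem dl_xor {P : ℕ} (hP : isPerm P = true) (a b : ℕ) : dl P (a ^^^ b) = dl P a ^^^ dl P b := by
  show (a ^^^ b) ^^^ pimg P (a ^^^ b) = (a ^^^ pimg P a) ^^^ (b ^^^ pimg P b)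
  rw [pimg_xor hP, Nat.xor_assoc, ← Nat.xor_assoc b, Nat.xor_comm b (pimg P a), Nat.xor_assoc, Nat.xor_assoc]

/-! ### The subgroups of `E` -/

theorem ge_inj {m n : ℕ} (hm : inE m = true) (hn : inE n = true) (h : ge m = ge n) : m = n :=
  (mo2_injT hm hn idP_mem idP_mem h).1

theorem ge_inv {m : ℕ} (hm : inE m = true) : (ge m)⁻¹ = ge m := inv_eq_of_mul_eq_one_left (ge_sq hm)

/-- The subgroup of `E` of the masks in the span of `l`. -/
def W (l : List ℕ) : Subgroup Spor.Co2 where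
  carrier := {g | ∃ m, inE m = true ∧ Sp l m ∧ g = ge m}
  one_mem' := ⟨0, inE_zero, sp_zero l, ge_zero.symm⟩
  mul_mem' := by
    rintro _ _ ⟨m, hm, h, rfl⟩ ⟨n, hn, h', rfl⟩
    exact ⟨m ^^^ n, inE_xor hm hn, sp_xor h h', ge_mul hm hn⟩
  inv_mem' := by
    rintro _ ⟨m, hm, h, rfl⟩
    exact ⟨m, hm, h, ge_inv hm⟩

theorem mem_W {l : List ℕ} {g : Spor.Co2} : g ∈ W l ↔ ∃ m, inE m = true ∧ Sp l m ∧ g = ge m := Iff.rfl

theorem ge_mem_W {l : List ℕ} {m : ℕ} (hm : inE m = true) : ge m ∈ W l ↔ Sp l m := by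
  constructor
  · rintro ⟨n, hn, h, h1⟩
    rw [ge_inj hm hn h1]
    exact h
  · intro h
    exact ⟨m, hm, h, rfl⟩

theorem W_le_E (l : List ℕ) : W l ≤ E := by
  rintro _ ⟨m, hm, -, rfl⟩
  exact ge_mem hm

theorem W_nil : W [] = ⊥ := by
  rw [eq_bot_iff]
  rintro _ ⟨m, hm, h, rfl⟩
  have h' : m = 0 := h
  rw [h', ge_zero]
  exact Subgroup.mem_bot.2 rfl

theorem W_B10 : W B10 = E := by
  apply le_antisymm (W_le_E _)
  rintro _ ⟨m, hm, rfl⟩
  exact ⟨m, hm, sp_B10 hm, rfl⟩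

theorem inE_dl {P m : ℕ} (hP : P ∈ L22) (hm : inE m = true) : inE (dl P m) = true :=
  inE_xor hm (inE_pimg (okP_of_mem hP) hm)

/-- Commutators of elements of `E` with elements of `T`. -/
theorem comm_ge_mo {m n P : ℕ} (hm : inE m = true) (hn : inE n = true) (hP : P ∈ L22) :
    ge m * mo2 n P * (ge m)⁻¹ * (mo2 n P)⁻¹ = ge (dl P m) := by
  have h1 : mo2 n P * ge m = ge (pimg P m) * mo2 n P := mo2_conj_E hn hm (okP_of_mem hP) (lt_of_mem hP)
  rw [ge_inv hm, mul_assoc (ge m), h1, ← mul_assoc, mul_inv_cancel_right,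
    ge_mul hm (inE_pimg (okP_of_mem hP) hm)]
  rfl

theorem comm_mo_ge {m n P : ℕ} (hm : inE m = true) (hn : inE n = true) (hP : P ∈ L22) :
    mo2 m P * ge n * (mo2 m P)⁻¹ * (ge n)⁻¹ = ge (dl P n) := by
  have h1 : mo2 m P * ge n = ge (pimg P n) * mo2 m P := mo2_conj_E hm hn (okP_of_mem hP) (lt_of_mem hP)
  rw [ge_inv hn, h1, mul_inv_cancel_right, ge_mul (inE_pimg (okP_of_mem hP) hn) hn, Nat.xor_comm]
  rfl

/-! ### Canonical subgroups -/

/-- Characterisation of the subgroup `W l'` of `T` by commutators with `A` modulo `W l`, `E ≤ A ≤ T`. -/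
theorem mem_iff_T (l l' : List ℕ) (A : Subgroup Spor.Co2) (hs : List ℕ) (q : ℕ → Bool) (hE : E ≤ A)
    (hA : ∀ g ∈ A, ∃ m P, inE m = true ∧ P ∈ L22 ∧ q P = true ∧ g = mo2 m P)
    (hhs : ∀ h ∈ hs, h ∈ L22 ∧ mo2 0 h ∈ A)
    (c0 : allSp l (spB l) 0 = true)
    (c1 : (L22.all fun P => cond (B10.all fun b => spB l (dl P b)) (Nat.beq P idP) true) = true)
    (c2 : allSp B10 (fun m => cond (hs.all fun h => spB l (dl h m)) (spB l' m) true) 0 = true)
    (c3 : (L22.all fun P => cond (q P) (l'.all fun b => spB l (dl P b)) true) = true)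
    (x : Spor.Co2) : x ∈ W l' ↔ x ∈ T ∧ ∀ a ∈ A, x * a * x⁻¹ * a⁻¹ ∈ W l := by
  constructor
  · rintro ⟨m, hm, h, rfl⟩
    refine ⟨ge_mem_T hm, fun a ha => ?_⟩
    obtain ⟨n, P, hn, hP, hq, rfl⟩ := hA a ha
    rw [comm_ge_mo hm hn hP, ge_mem_W (inE_dl hP hm)]
    have hp := isPerm_of_mem hP
    refine sp_map (dl_zero hp) (dl_xor hp) (fun b hb => ?_) h
    have h1 := List.all_eq_true.1 c3 P hP
    rw [hq, cond_true] at h1
    exact sp_of_spB (List.all_eq_true.1 h1 b hb)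
  · rintro ⟨⟨m, P, hm, hP, rfl⟩, h⟩
    have h1 : P = idP := by
      have h2 := List.all_eq_true.1 c1 P hP
      have h3 : (B10.all fun b => spB l (dl P b)) = true := by
        rw [List.all_eq_true]
        intro b hb
        have hb' : inE b = true := List.all_eq_true.1 chkB10 b hb
        have h4 := h _ (hE (ge_mem hb'))
        rw [comm_mo_ge hm hb' hP, ge_mem_W (inE_dl hP hb')] at h4
        exact allSp_zero c0 h4
      rw [h3, cond_true] at h2
      exact Nat.eq_of_beq_eq_true h2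
    subst h1
    refine ⟨m, hm, ?_, rfl⟩
    have h5 := allSp_zero c2 (sp_B10 hm)
    have h6 : (hs.all fun h => spB l (dl h m)) = true := by
      rw [List.all_eq_true]
      intro k hk
      obtain ⟨hk1, hk2⟩ := hhs k hk
      have h4 := h _ hk2
      have h7 : ge m * mo2 0 k * (ge m)⁻¹ * (mo2 0 k)⁻¹ ∈ W l := h4
      rw [comm_ge_mo hm inE_zero hk1, ge_mem_W (inE_dl hk1 hm)] at h7
      exact allSp_zero c0 h7
    simp only [h6, cond_true] at h5
    exact sp_of_spB h5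

/-- Characterisation of the subgroup `W l'` of `E` by commutators with `T` modulo `W l`. -/
theorem mem_iff_E (l l' : List ℕ) (c0 : allSp l (spB l) 0 = true)
    (c2 : allSp B10 (fun m => cond (tg.all fun h => spB l (dl h m)) (spB l' m) true) 0 = true)
    (c3 : (L22.all fun P => l'.all fun b => spB l (dl P b)) = true)
    (x : Spor.Co2) : x ∈ W l' ↔ x ∈ E ∧ ∀ a ∈ T, x * a * x⁻¹ * a⁻¹ ∈ W l := by
  constructor
  · rintro ⟨m, hm, h, rfl⟩
    refine ⟨ge_mem hm, fun a ha => ?_⟩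
    obtain ⟨n, P, hn, hP, rfl⟩ := ha
    rw [comm_ge_mo hm hn hP, ge_mem_W (inE_dl hP hm)]
    have hp := isPerm_of_mem hP
    refine sp_map (dl_zero hp) (dl_xor hp) (fun b hb => ?_) h
    exact sp_of_spB (List.all_eq_true.1 (List.all_eq_true.1 c3 P hP) b hb)
  · rintro ⟨⟨m, hm, rfl⟩, h⟩
    refine ⟨m, hm, ?_, rfl⟩
    have h5 := allSp_zero c2 (sp_B10 hm)
    have h6 : (tg.all fun h => spB l (dl h m)) = true := by
      rw [List.all_eq_true]
      intro k hk
      have hk1 : k ∈ L22 := memL_iff.1 (List.all_eq_true.1 chkTg k hk)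
      have h7 : ge m * mo2 0 k * (ge m)⁻¹ * (mo2 0 k)⁻¹ ∈ W l := h _ (mo2_mem_T inE_zero hk1)
      rw [comm_ge_mo hm inE_zero hk1, ge_mem_W (inE_dl hk1 hm)] at h7
      exact allSp_zero c0 h7
    simp only [h6, cond_true] at h5
    exact sp_of_spB h5

/-! ### The lists -/

/-- `W₁ = Z(T)`. -/
def l1 : List ℕ := [3406834]
/-- `W₂`. -/
def l2 : List ℕ := [3375280, 31554]
/-- `W₃`. -/
def l3 : List ℕ := [2201890, 1186194, 31554]
/-- `X₇`. -/
def x7 : List ℕ := [4726026, 2141072, 1084018, 301236, 168928, 78514, 31554]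
/-- The fourth term of the socle series. -/
def l5 : List ℕ := [4726026, 2201890, 1161408, 237906, 31554]
/-- The fifth term of the socle series. -/
def l7 : List ℕ := [4726026, 2141072, 1084018, 277580, 168928, 78514, 31554]
/-- The sixth term of the socle series. -/
def l8 : List ℕ := [4726026, 2101096, 1060490, 277580, 145176, 78514, 42232, 31554]
/-- Generators of the permutations which centralise `W₃`. -/
def h3 : List ℕ := [984595137648923788561440491536746848, 13655254267030198278037860231268407,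
  25541498956642104225835441434478871, 24875981887444158271857804570871863,
  29171931033524210258733142741469239]

theorem T_spec : ∀ g ∈ T, ∃ m P, inE m = true ∧ P ∈ L22 ∧ (fun _ : ℕ => true) P = true ∧ g = mo2 m P := by
  rintro _ ⟨m, P, hm, hP, rfl⟩
  exact ⟨m, P, hm, hP, rfl, rfl⟩

theorem tg_spec : ∀ h ∈ tg, h ∈ L22 ∧ mo2 0 h ∈ T := fun h hh => by
  have hk1 : h ∈ L22 := memL_iff.1 (List.all_eq_true.1 chkTg h hh)
  exact ⟨hk1, mo2_mem_T inE_zero hk1⟩

theorem mem_W1 (x : Spor.Co2) : x ∈ W l1 ↔ x ∈ T ∧ ∀ a ∈ T, x * a * x⁻¹ * a⁻¹ ∈ W [] :=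
  mem_iff_T [] l1 T tg (fun _ => true) E_le_T T_spec tg_spec (by decide +kernel) (by decide +kernel)
    (by decide +kernel) (by decide +kernel) x

theorem mem_W2 (x : Spor.Co2) : x ∈ W l2 ↔ x ∈ T ∧ ∀ a ∈ T, x * a * x⁻¹ * a⁻¹ ∈ W l1 :=
  mem_iff_T l1 l2 T tg (fun _ => true) E_le_T T_spec tg_spec (by decide +kernel) (by decide +kernel)
    (by decide +kernel) (by decide +kernel) x

theorem mem_W3 (x : Spor.Co2) : x ∈ W l3 ↔ x ∈ T ∧ ∀ a ∈ T, x * a * x⁻¹ * a⁻¹ ∈ W l2 :=
  mem_iff_T l2 l3 T tg (fun _ => true) E_le_T T_spec tg_spec (by decide +kernel) (by decide +kernel)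
    (by decide +kernel) (by decide +kernel) x

/-- `C_T(W₃)`. -/
def G3 : Subgroup Spor.Co2 := T ⊓ Subgroup.centralizer (W l3 : Set Spor.Co2)

/-- The permutations fixing the masks in `l`. -/
def fixL (l : List ℕ) (P : ℕ) : Bool := l.all fun b => Nat.beq (pimg P b) b

theorem pimg_eq_of_fixL {l : List ℕ} {P : ℕ} (hP : isPerm P = true) (h : fixL l P = true) {m : ℕ} (hm : Sp l m) :
    pimg P m = m := by
  have h1 : Sp [] (dl P m) := sp_map (dl_zero hP) (dl_xor hP) (fun b hb => by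
    have h2 : pimg P b = b := Nat.eq_of_beq_eq_true (List.all_eq_true.1 h b hb)
    show b ^^^ pimg P b = 0
    rw [h2, Nat.xor_self]) hm
  have h2 : m ^^^ pimg P m = 0 := h1
  exact (Nat.xor_eq_zero_iff.1 h2).symm

theorem mem_cent_W {l : List ℕ} (hl : (l.all inE) = true) {m P : ℕ} (hm : inE m = true) (hP : P ∈ L22) :
    mo2 m P ∈ Subgroup.centralizer (W l : Set Spor.Co2) ↔ fixL l P = true := by
  rw [Subgroup.mem_centralizer_iff]
  constructor
  · intro h
    unfold fixL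
    rw [List.all_eq_true]
    intro b hb
    have hb' : inE b = true := List.all_eq_true.1 hl b hb
    have hb2 : Sp l b := by
      clear h hl hb'
      induction l with
      | nil => exact absurd hb List.not_mem_nil
      | cons c l ih =>
        rcases List.mem_cons.1 hb with rfl | hb
        · right
          rw [Nat.xor_self]
          exact sp_zero l
        · exact Or.inl (ih hb)
    exact Nat.beq_eq.mpr ((comm_iff hm hb' hP).1 (h _ ((ge_mem_W hb').2 hb2)))
  · rintro h _ ⟨n, hn, h1, rfl⟩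
    exact (comm_iff hm hn hP).2 (pimg_eq_of_fixL (isPerm_of_mem hP) h h1)

theorem l3_ok : (l3.all inE) = true := by decide +kernel

theorem x7_ok : (x7.all inE) = true := by decide +kernel

theorem G3_spec : ∀ g ∈ G3, ∃ m P, inE m = true ∧ P ∈ L22 ∧ fixL l3 P = true ∧ g = mo2 m P := by
  rintro _ ⟨⟨m, P, hm, hP, rfl⟩, h⟩
  exact ⟨m, P, hm, hP, (mem_cent_W l3_ok hm hP).1 h, rfl⟩

theorem h3_check : (h3.all fun h => memL h L22 && fixL l3 h) = true := by decide +kernel

theorem h3_spec : ∀ h ∈ h3, h ∈ L22 ∧ mo2 0 h ∈ G3 := by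
  intro h hh
  have h1 := List.all_eq_true.1 h3_check h hh
  rw [Bool.and_eq_true] at h1
  have h2 : h ∈ L22 := memL_iff.1 h1.1
  exact ⟨h2, mo2_mem_T inE_zero h2, (mem_cent_W l3_ok inE_zero h2).2 h1.2⟩

theorem E_le_G3 : E ≤ G3 := by
  intro e he
  refine Subgroup.mem_inf.2 ⟨E_le_T he, ?_⟩
  rw [Subgroup.mem_centralizer_iff]
  intro w hw
  exact E_comm w (W_le_E _ hw) e he

theorem mem_X7 (x : Spor.Co2) : x ∈ W x7 ↔ x ∈ T ∧ ∀ a ∈ G3, x * a * x⁻¹ * a⁻¹ ∈ W l3 :=
  mem_iff_T l3 x7 G3 h3 (fixL l3) E_le_G3 G3_spec h3_spec (by decide +kernel) (by decide +kernel)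
    (by decide +kernel) (by decide +kernel) x

theorem x7_faith : (L22.all fun P => cond (fixL x7 P) (Nat.beq P idP) true) = true := by decide +kernel

theorem E_eq : E = T ⊓ Subgroup.centralizer (W x7 : Set Spor.Co2) := by
  apply le_antisymm
  · intro e he
    refine Subgroup.mem_inf.2 ⟨E_le_T he, ?_⟩
    rw [Subgroup.mem_centralizer_iff]
    intro w hw
    exact E_comm w (W_le_E _ hw) e he
  · rintro _ ⟨⟨m, P, hm, hP, rfl⟩, h⟩
    have h1 := List.all_eq_true.1 x7_faith P hP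
    rw [(mem_cent_W x7_ok hm hP).1 h, cond_true] at h1
    rw [Nat.eq_of_beq_eq_true h1]
    exact ge_mem hm

theorem mem_W5 (x : Spor.Co2) : x ∈ W l5 ↔ x ∈ E ∧ ∀ a ∈ T, x * a * x⁻¹ * a⁻¹ ∈ W l3 :=
  mem_iff_E l3 l5 (by decide +kernel) (by decide +kernel) (by decide +kernel) x

theorem mem_W7 (x : Spor.Co2) : x ∈ W l7 ↔ x ∈ E ∧ ∀ a ∈ T, x * a * x⁻¹ * a⁻¹ ∈ W l5 :=
  mem_iff_E l5 l7 (by decide +kernel) (by decide +kernel) (by decide +kernel) x

theorem mem_W8 (x : Spor.Co2) : x ∈ W l8 ↔ x ∈ E ∧ ∀ a ∈ T, x * a * x⁻¹ * a⁻¹ ∈ W l7 :=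
  mem_iff_E l7 l8 (by decide +kernel) (by decide +kernel) (by decide +kernel) x

/-! ### Indices -/

/-- The cosets of `W l` in `W l'` are represented by `0, b, c, b + c`. -/
theorem relIndex_le (l l' : List ℕ) (b c : ℕ)
    (h : allSp l' (fun m => spB l m || (spB l (Nat.xor m b) || (spB l (Nat.xor m c) ||
      spB l (Nat.xor m (Nat.xor b c))))) 0 = true) :
    (W l).relIndex (W l') ≠ 0 ∧ (W l).relIndex (W l') ≤ 4 := by
  have key : ∀ x : W l', ∃ i : Fin 4, ∃ m, inE m = true ∧ (x : Spor.Co2) = ge m ∧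
      Sp l (m ^^^ (![0, b, c, b ^^^ c] i)) := by
    rintro ⟨_, ⟨m, hm, h1, rfl⟩⟩
    have h2 := allSp_zero h h1
    simp only [Bool.or_eq_true] at h2
    rcases h2 with h2 | h2 | h2 | h2
    · exact ⟨0, m, hm, rfl, by simpa using sp_of_spB h2⟩
    · exact ⟨1, m, hm, rfl, sp_of_spB h2⟩
    · exact ⟨2, m, hm, rfl, sp_of_spB h2⟩
    · exact ⟨3, m, hm, rfl, sp_of_spB h2⟩
  choose f hf using key
  have h3 := Flag.relIndex_le_of_fun (A := W l') (B := W l) f (fun x y hxy => by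
    obtain ⟨m, hm, h1, h2⟩ := hf x
    obtain ⟨n, hn, h3, h4⟩ := hf y
    rw [h1, h3, ge_inv hm, ge_mul hm hn, ge_mem_W (inE_xor hm hn)]
    rw [hxy] at h2
    have h5 := sp_xor h2 h4
    rwa [xor_cancel] at h5)
  rwa [Nat.card_eq_fintype_card, Fintype.card_fin] at h3

theorem solvable_W (l : List ℕ) : Group.IsSolvable (W l) := by
  apply Group.isSolvable_of_comm
  intro a b
  exact Subtype.ext (E_comm a (W_le_E _ a.2) b (W_le_E _ b.2))

/-- One step in the flag. -/
theorem step {D : Subgroup (MulAut Spor.Co2)} (hD : ⁅D, D⁆ = D) {l l' : List ℕ} (hl : Inv D (W l))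
    (hl' : Inv D (W l')) (h : (W l).relIndex (W l') ≠ 0 ∧ (W l).relIndex (W l') ≤ 4) (ht : Tr D (W l)) :
    Tr D (W l') :=
  tr_of_trMod hD (solvable_W l) ht (trMod_of_relIndex_le_four hD hl' hl h.1 h.2)

theorem E_faith : T ⊓ Subgroup.centralizer (E : Set Spor.Co2) ≤ E := by
  conv_rhs => rw [E_eq]
  exact inf_le_inf_left _ (Subgroup.centralizer_le (W_le_E x7))

theorem tr_T {D : Subgroup (MulAut Spor.Co2)} (hD : ⁅D, D⁆ = D) (hT : Inv D T) : Tr D T := by
  have i0 : Inv D (W []) := by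
    rw [W_nil]
    exact inv_bot D
  have i1 : Inv D (W l1) := Flag.inv_of_mem_iff hT hT i0 mem_W1
  have i2 : Inv D (W l2) := Flag.inv_of_mem_iff hT hT i1 mem_W2
  have i3 : Inv D (W l3) := Flag.inv_of_mem_iff hT hT i2 mem_W3
  have iG : Inv D G3 := hT.inf i3.centralizer
  have iX : Inv D (W x7) := Flag.inv_of_mem_iff hT iG i3 mem_X7
  have iE : Inv D E := by
    rw [E_eq]
    exact hT.inf iX.centralizer
  have i5 : Inv D (W l5) := Flag.inv_of_mem_iff iE hT i3 mem_W5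
  have i7 : Inv D (W l7) := Flag.inv_of_mem_iff iE hT i5 mem_W7
  have i8 : Inv D (W l8) := Flag.inv_of_mem_iff iE hT i7 mem_W8
  have i10 : Inv D (W B10) := by
    rw [W_B10]
    exact iE
  have t0 : Tr D (W []) := by
    rw [W_nil]
    intro φ _ a ha
    rw [Subgroup.mem_bot.1 ha, map_one]
  have t2 : Tr D (W l2) := step hD i0 i2 (relIndex_le [] l2 3375280 31554 (by decide +kernel)) t0
  have t3 : Tr D (W l3) := step hD i2 i3 (relIndex_le l2 l3 2201890 0 (by decide +kernel)) t2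
  have t5 : Tr D (W l5) := step hD i3 i5 (relIndex_le l3 l5 4726026 1161408 (by decide +kernel)) t3
  have t7 : Tr D (W l7) := step hD i5 i7 (relIndex_le l5 l7 2141072 277580 (by decide +kernel)) t5
  have t8 : Tr D (W l8) := step hD i7 i8 (relIndex_le l7 l8 2101096 0 (by decide +kernel)) t7
  have t10 : Tr D (W B10) := step hD i8 i10 (relIndex_le l8 B10 4202192 1050548 (by decide +kernel)) t8
  rw [W_B10] at t10
  refine tr_of_centralizer_le hD hT ?_ t10 ?_ E_faith
  · intro t ht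
    rw [Subgroup.mem_normalizer_iff]
    intro e
    constructor
    · intro he
      exact E_normal t ht e he
    · intro he
      have h1 := E_normal t⁻¹ (inv_mem ht) _ he
      have h2 : t⁻¹ * (t * e * t⁻¹) * t⁻¹⁻¹ = e := by group
      rwa [h2] at h1
  · rw [← W_B10]
    exact solvable_W B10

/-- **The Schreier property of `Co₂`.** -/
theorem sch [Finite Spor.Co2] [IsSimpleGroup Spor.Co2] (hK : ¬ IsMulCommutative Spor.Co2) : Sch Spor.Co2 :=
  Crit.sch_of_sylow hK Cfsg.Agent.Co2Type.FactsClass.TSyl fun _ hD hT => tr_T hD hT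

end Cfsg.Agent.Schreier.ConwayTwo
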