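import Mathlib
import Cfsg.Prelude.Def_Spor_B
import Cfsg.Agent.BabyM.Instance
import Cfsg.Agent.BM.StageWSurj
import Cfsg.Agent.Schreier.ConwayTwo
import Cfsg.Agent.Schreier.CoTwoStab
import Cfsg.Agent.Schreier.BabyModel

/-!
# The Schreier property of the Baby Monster

The concrete model (4371-dimensional) contains `2^{1+22}.Co₂`; the presented group maps onto it.
-/

set_option autoImplicit false

namespace Cfsg.Agent.Schreier.BabyMonster

open Cfsg Cfsg.Agent.Schreier.Basic Cfsg.Agent.BabyM Cfsg.Agent.BabyM.Model

/-- The Schreier property of the group `Co₂` of the model. -/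
theorem sch_K₀ : Sch GroupInst.K₀ := by
  obtain ⟨e⟩ := CoTwoStab.exists_equiv _ GroupInst.dt_l₀
  have h1 := CoTwoStab.isSimpleGroup
  have h2 := CoTwoStab.finite
  exact Sch.of_equiv e.symm (ConwayTwo.sch CoTwoStab.not_comm)

theorem not_comm_K₀ : ¬ IsMulCommutative GroupInst.K₀ := by
  obtain ⟨e⟩ := CoTwoStab.exists_equiv _ GroupInst.dt_l₀
  intro h
  apply CoTwoStab.not_comm
  refine ⟨⟨fun a b => ?_⟩⟩
  apply e.symm.injective
  rw [map_mul, map_mul]
  exact h.is_comm.comm _ _

/-- The Schreier property of the concrete model of the Baby Monster. -/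
theorem sch_model : Sch Inst.M.G := BabyModel.sch_of_model Instance.all not_comm_K₀ sch_K₀

/-- **The Schreier property of the presented Baby Monster** (simple). -/
theorem sch [IsSimpleGroup Spor.BabyMonster] : Sch Spor.BabyMonster := by
  have hs : Function.Surjective (BM.StageW.hom Instance.all Instance.ok) :=
    BM.StageW.hom_surjective Instance.all Instance.ok (BM.StageWSurj.closure_x Instance.all Instance.ok)
  have hi : Function.Injective (BM.StageW.hom Instance.all Instance.ok) := by
    rw [← MonoidHom.ker_eq_bot_iff]
    rcases (inferInstance : (BM.StageW.hom Instance.all Instance.ok).ker.Normal).eq_bot_or_eq_top with h | h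
    · exact h
    · exfalso
      have h1 := Instance.all.simple
      obtain ⟨x, hx⟩ := exists_ne (1 : Inst.M.G)
      obtain ⟨y, rfl⟩ := hs x
      apply hx
      have : y ∈ (BM.StageW.hom Instance.all Instance.ok).ker := by rw [h]; exact Subgroup.mem_top _
      exact this
  exact Sch.of_equiv (MulEquiv.ofBijective _ ⟨hi, hs⟩).symm sch_model

end Cfsg.Agent.Schreier.BabyMonster
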