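import Mathlib
import Cfsg.Agent.Schreier.MonoData

/-!
# Checks for the module of `Co1`
-/

set_option autoImplicit false
set_option maxRecDepth 100000

namespace Cfsg.Agent.Schreier.CoOneData

open Cfsg.Agent.SporadicA.GolayBase Cfsg.Agent.SporadicA.GolayPerm Cfsg.Agent.Schreier.MonoRep
open Cfsg.Agent.Schreier.MonoGroup Cfsg.Agent.Schreier.MonoCheck Cfsg.Agent.Schreier.MonoData

/-- The test for the masks of the module. -/
def chk (_ : ℕ) : Bool := true

/-- data -/
def L0 : List (ℕ × ℕ) := [(23, 16777215)]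

/-- data -/
def L1 : List (ℕ × ℕ) := [(22, 5241686), (23, 11535529)]

/-- data -/
def L2 : List (ℕ × ℕ) := [(19, 837906), (22, 4403780), (23, 11535529)]

/-- data -/
def L3 : List (ℕ × ℕ) := [(17, 237906), (19, 837906), (22, 4231958), (23, 11535529)]

/-- data -/
def L4 : List (ℕ × ℕ) := [(17, 237906), (18, 381252), (19, 596054), (21, 3179802), (22, 4231958), (23, 8421811)]

/-- data -/
def z1 : ℕ := 5241686

/-- data -/
def z2 : ℕ := 837906

/-- data -/
def z3 : ℕ := 237906

/-- data -/
def z4 : ℕ := 381252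

/-- data -/
def z5 : ℕ := 3179802

/-- data -/
def e : ℕ := 10558

/-- data -/
def zg : List ℕ := [16777215]

/-- data -/
def U : List (ℕ × ℕ) := [(b0, 5279), (b0, 10558), (b0, 18147), (b0, 36294), (b0, 133817), (b0, 262637), (b0, 1050548), (b2, 10558), (b2, 1050548), (a0, 10558)]

/-- data -/
def VL : List (ℕ × ℕ) := [(12, 5279), (13, 10558), (14, 18147), (15, 36294), (16, 69395), (17, 133817), (18, 262637), (19, 525274),
  (20, 1050548), (21, 2101096), (22, 4196943), (23, 8391797)]

/-- data -/
def C : List ℕ := [1246, 1, 2757, 2181, 589, 3091, 1143, 49, 2436, 1687, 2789, 2419]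

theorem chkZ0 : chkZ chk L0 L1 b0 b1 b2 a0 = true := by decide +kernel

theorem chkZ1 : chkZ chk L1 L2 b0 b1 b2 a0 = true := by decide +kernel

theorem chkZ2 : chkZ chk L2 L3 b0 b1 b2 a0 = true := by decide +kernel

theorem chkZ3 : chkZ chk L3 L4 b0 b1 b2 a0 = true := by decide +kernel

theorem chkO0 : chkOne chk L0 L1 z1 = true := by decide +kernel

theorem chkO1 : chkOne chk L1 L2 z2 = true := by decide +kernel

theorem chkO2 : chkOne chk L2 L3 z3 = true := by decide +kernel

theorem chkT : chkTwo chk L3 L4 z4 z5 = true := by decide +kernel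

theorem chkG : chkGen chk e zg U VL C = true := by decide +kernel

theorem chkS : chkSep L0 L1 L2 z2 z3 z4 z5 b0 b1 a0 = true := by decide +kernel

theorem chkF : chkFaith L3 VL LA LB = true := by decide +kernel

theorem chkM : (isV chk z1 && isV chk z2 && isV chk z3 && isV chk z4 && isV chk z5 && isV chk e &&
    zm L2 z2 && zm L3 z3 && zm L4 z4 && zm L4 z5 && VL.all fun x => isV chk x.2) = true := by decide +kernel

end Cfsg.Agent.Schreier.CoOneData
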