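import Mathlib
import Cfsg.Agent.Schreier.Flag

/-!
# Monomial 2-groups

A 2-group `T = E P` with `E = s(V)` elementary abelian and `P = p(H)` acting on it, in which the first terms of the upper
central series are known subgroups of `E`. Under explicit conditions on the `H`-module `V`, a perfect group of
automorphisms which leaves `T` invariant is trivial on `T`.
-/

set_option autoImplicit false
set_option linter.unusedSectionVars false

namespace Cfsg.Agent.Schreier.MonoModel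

open Cfsg.Agent.Schreier.Basic Cfsg.Agent.Schreier.Tools Cfsg.Agent.Schreier.Flag
open scoped commutatorElement

variable {K V H : Type*} [Group K] [AddCommGroup V] [Group H]

/-- An elementary abelian group `s(V)` with a group `p(H)` acting on it, in `K`. -/
structure Model (s : V → K) (p : H →* K) (act : H → V → V) : Prop where
  s_add : ∀ a b, s (a + b) = s a * s b
  two : ∀ v : V, v + v = 0
  conj : ∀ h v, p h * s v * (p h)⁻¹ = s (act h v)
  sep : ∀ v h, s v = p h → h = 1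
  act_add : ∀ h a b, act h (a + b) = act h a + act h b
  act_mul : ∀ g h v, act (g * h) v = act g (act h v)
  act_one : ∀ v, act 1 v = v

namespace Model

variable {s : V → K} {p : H →* K} {act : H → V → V}

theorem s_zero (m : Model s p act) : s 0 = 1 := by
  have h := m.s_add 0 0
  rw [add_zero] at h
  exact (mul_eq_left.1 h.symm)

theorem s_mul_self (m : Model s p act) (v : V) : s v * s v = 1 := by
  rw [← m.s_add, m.two, m.s_zero]

theorem s_inv (m : Model s p act) (v : V) : (s v)⁻¹ = s v :=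
  inv_eq_of_mul_eq_one_left (m.s_mul_self v)

theorem neg_eq (m : Model s p act) (v : V) : -v = v := neg_eq_of_add_eq_zero_left (m.two v)

theorem s_comm (m : Model s p act) (v w : V) : s v * s w = s w * s v := by
  rw [← m.s_add, ← m.s_add, add_comm]

theorem act_zero (m : Model s p act) (h : H) : act h 0 = 0 := by
  have := m.act_add h 0 0
  rw [add_zero] at this
  exact left_eq_add.1 this

theorem p_mul_s (m : Model s p act) (h : H) (v : V) : p h * s v = s (act h v) * p h := by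
  rw [← m.conj, inv_mul_cancel_right]

theorem act_inv_act (m : Model s p act) (h : H) (v : V) : act h⁻¹ (act h v) = v := by
  rw [← m.act_mul, inv_mul_cancel, m.act_one]

theorem act_act_inv (m : Model s p act) (h : H) (v : V) : act h (act h⁻¹ v) = v := by
  rw [← m.act_mul, mul_inv_cancel, m.act_one]

/-- The group `s(V) p(H)`. -/
def T (m : Model s p act) : Subgroup K where
  carrier := {x | ∃ v h, x = s v * p h}
  one_mem' := ⟨0, 1, by rw [m.s_zero, map_one, one_mul]⟩
  mul_mem' := by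
    rintro _ _ ⟨v, h, rfl⟩ ⟨w, g, rfl⟩
    refine ⟨v + act h w, h * g, ?_⟩
    rw [m.s_add, map_mul, mul_assoc, ← mul_assoc (p h), m.p_mul_s]
    simp only [mul_assoc]
  inv_mem' := by
    rintro _ ⟨v, h, rfl⟩
    refine ⟨act h⁻¹ v, h⁻¹, ?_⟩
    rw [mul_inv_rev, m.s_inv, ← map_inv, m.p_mul_s]

theorem mem_T (m : Model s p act) {x : K} : x ∈ m.T ↔ ∃ v h, x = s v * p h := Iff.rfl

theorem s_mem (m : Model s p act) (v : V) : s v ∈ m.T := ⟨v, 1, by rw [map_one, mul_one]⟩

theorem p_mem (m : Model s p act) (h : H) : p h ∈ m.T := ⟨0, h, by rw [m.s_zero, one_mul]⟩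

/-- The commutator of `s v p h` with `s w`. -/
theorem comm_left (m : Model s p act) (v w : V) (h : H) :
    (s v * p h) * s w * (s v * p h)⁻¹ * (s w)⁻¹ = s (act h w + w) := by
  rw [mul_inv_rev, m.s_inv w, m.s_inv v]
  calc s v * p h * s w * ((p h)⁻¹ * s v) * s w = s v * (p h * s w * (p h)⁻¹) * s v * s w := by group
    _ = s v * s (act h w) * s v * s w := by rw [m.conj]
    _ = s (act h w) * (s v * s v) * s w := by rw [m.s_comm v]; group
    _ = s (act h w + w) := by rw [m.s_mul_self, mul_one, ← m.s_add]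

/-- The commutator of `s v` with `s w p g`. -/
theorem comm_right (m : Model s p act) (v w : V) (g : H) :
    s v * (s w * p g) * (s v)⁻¹ * (s w * p g)⁻¹ = s (v + act g v) := by
  rw [mul_inv_rev, m.s_inv w, m.s_inv v]
  calc s v * (s w * p g) * s v * ((p g)⁻¹ * s w) = s v * s w * (p g * s v * (p g)⁻¹) * s w := by group
    _ = s v * s w * s (act g v) * s w := by rw [m.conj]
    _ = s v * s (act g v) * (s w * s w) := by rw [mul_assoc (s v) (s w), m.s_comm w]; group
    _ = s (v + act g v) := by rw [m.s_mul_self, mul_one, ← m.s_add]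

/-! ### The upper central series -/

/-- The subgroups of `V` given by the upper central series of `T`. -/
def Zs (m : Model s p act) : ℕ → AddSubgroup V
  | 0 => { carrier := {v | s v = 1}
           zero_mem' := m.s_zero
           add_mem' := fun {a b} (ha : s a = 1) (hb : s b = 1) => by
            show s (a + b) = 1
            rw [m.s_add, ha, hb, mul_one]
           neg_mem' := fun {a} (ha : s a = 1) => by
            show s (-a) = 1
            rw [m.neg_eq, ha] }
  | k + 1 => { carrier := {v | ∀ h, v + act h v ∈ Zs m k}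
               zero_mem' := fun h => by
                rw [m.act_zero, add_zero]
                exact zero_mem _
               add_mem' := fun {a b} ha hb h => by
                have := add_mem (ha h) (hb h)
                rw [m.act_add]
                rwa [add_add_add_comm]
               neg_mem' := fun {a} ha h => by
                rw [m.neg_eq]
                exact ha h }

theorem mem_Zs_zero (m : Model s p act) {v : V} : v ∈ m.Zs 0 ↔ s v = 1 := Iff.rfl

theorem mem_Zs_succ (m : Model s p act) {k : ℕ} {v : V} : v ∈ m.Zs (k + 1) ↔ ∀ h, v + act h v ∈ m.Zs k := Iff.rfl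

theorem act_mem_Zs (m : Model s p act) (k : ℕ) : ∀ {v : V}, v ∈ m.Zs k → ∀ h, act h v ∈ m.Zs k := by
  induction k with
  | zero =>
    intro v hv h
    rw [mem_Zs_zero] at hv ⊢
    rw [← m.conj, hv, mul_one, mul_inv_cancel]
  | succ k ih =>
    intro v hv h g
    have h1 : v + act (h⁻¹ * g * h) v ∈ m.Zs k := hv _
    have h2 := ih h1 h
    rw [m.act_add, ← m.act_mul] at h2
    have h3 : h * (h⁻¹ * g * h) = g * h := by group
    rwa [h3, m.act_mul] at h2

theorem Zs_le_succ (m : Model s p act) (k : ℕ) : m.Zs k ≤ m.Zs (k + 1) := fun _ hv h =>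
  add_mem hv (m.act_mem_Zs k hv h)

theorem Zs_mono (m : Model s p act) {j k : ℕ} (h : j ≤ k) : m.Zs j ≤ m.Zs k :=
  monotone_nat_of_le_succ (m.Zs_le_succ) h

/-- It is enough to check generators. -/
theorem mem_Zs_succ_iff (m : Model s p act) {k : ℕ} {G : Set H} (hG : Subgroup.closure G = ⊤) {v : V} :
    v ∈ m.Zs (k + 1) ↔ ∀ g ∈ G, v + act g v ∈ m.Zs k := by
  refine ⟨fun h g _ => h g, fun h => ?_⟩
  let S : Subgroup H :=
    { carrier := {g | v + act g v ∈ m.Zs k}
      one_mem' := by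
        show v + act 1 v ∈ m.Zs k
        rw [m.act_one, m.two]
        exact zero_mem _
      mul_mem' := fun {a b} (ha : v + act a v ∈ m.Zs k) (hb : v + act b v ∈ m.Zs k) => by
        show v + act (a * b) v ∈ m.Zs k
        have h1 := add_mem ha (m.act_mem_Zs k hb a)
        rw [m.act_add, ← m.act_mul] at h1
        have h2 : v + act a v + (act a v + act (a * b) v) = v + act (a * b) v := by
          rw [add_assoc, ← add_assoc (act a v), m.two, zero_add]
        rwa [h2] at h1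
      inv_mem' := fun {a} (ha : v + act a v ∈ m.Zs k) => by
        show v + act a⁻¹ v ∈ m.Zs k
        have h1 := m.act_mem_Zs k ha a⁻¹
        rw [m.act_add, m.act_inv_act, add_comm] at h1
        exact h1 }
  have hS : S = ⊤ := by
    rw [eq_top_iff, ← hG, Subgroup.closure_le]
    exact h
  intro g
  have : g ∈ S := by
    rw [hS]
    exact Subgroup.mem_top _
  exact this

/-- The upper central series of `T`, in `K`. -/
def X (m : Model s p act) (k : ℕ) : Subgroup K := (Subgroup.upperCentralSeries m.T k).map m.T.subtype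

theorem X_zero (m : Model s p act) {x : K} : x ∈ m.X 0 ↔ x = 1 := by
  unfold X
  rw [Subgroup.upperCentralSeries_zero, Subgroup.map_bot, Subgroup.mem_bot]

theorem X_succ (m : Model s p act) {k : ℕ} {x : K} :
    x ∈ m.X (k + 1) ↔ x ∈ m.T ∧ ∀ t ∈ m.T, x * t * x⁻¹ * t⁻¹ ∈ m.X k := by
  unfold X
  constructor
  · rintro ⟨y, hy, rfl⟩
    refine ⟨y.2, fun t ht => ?_⟩
    exact ⟨_, (Subgroup.mem_upperCentralSeries_succ_iff).1 hy ⟨t, ht⟩, rfl⟩
  · rintro ⟨hx, h⟩
    refine ⟨⟨x, hx⟩, ?_, rfl⟩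
    refine (Subgroup.mem_upperCentralSeries_succ_iff).2 ?_
    rintro ⟨t, ht⟩
    obtain ⟨y, hy, hyx⟩ := h t ht
    have : y = ⁅(⟨x, hx⟩ : m.T), ⟨t, ht⟩⁆ := Subtype.ext hyx
    rw [← this]
    exact hy

theorem X_inv (m : Model s p act) {D : Subgroup (MulAut K)} (hT : Inv D m.T) (k : ℕ) : Inv D (m.X k) :=
  hT.of_characteristic _

theorem X_le (m : Model s p act) (k : ℕ) : m.X k ≤ m.T := Subgroup.map_subtype_le _

theorem s_mem_X (m : Model s p act) (k : ℕ) : ∀ v : V, s v ∈ m.X k ↔ v ∈ m.Zs k := by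
  induction k with
  | zero =>
    intro v
    rw [m.X_zero, mem_Zs_zero]
  | succ k ih =>
    intro v
    rw [m.X_succ, mem_Zs_succ]
    constructor
    · rintro ⟨-, h⟩ g
      have h1 := h _ (m.p_mem g)
      have h2 := m.comm_right v 0 g
      rw [m.s_zero, one_mul] at h2
      rw [h2] at h1
      exact (ih _).1 h1
    · intro h
      refine ⟨m.s_mem v, ?_⟩
      rintro _ ⟨w, g, rfl⟩
      rw [m.comm_right]
      exact (ih _).2 (h g)

theorem X_le_succ (m : Model s p act) (k : ℕ) : m.X k ≤ m.X (k + 1) :=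
  Subgroup.map_mono (Subgroup.upperCentralSeries_mono _ (Nat.le_succ k))

theorem X_mono (m : Model s p act) {j k : ℕ} (h : j ≤ k) : m.X j ≤ m.X k :=
  Subgroup.map_mono (Subgroup.upperCentralSeries_mono _ h)

/-- The first terms of the upper central series lie in `s(V)`. -/
theorem exists_of_mem_X (m : Model s p act) {n : ℕ}
    (hf : ∀ h, (∀ v, act h v + v ∈ m.Zs n) → h = 1) {k : ℕ} (hk : k ≤ n + 1) {x : K} (hx : x ∈ m.X k) :
    ∃ v ∈ m.Zs k, x = s v := by
  rcases Nat.eq_zero_or_pos k with rfl | hpos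
  · refine ⟨0, zero_mem _, ?_⟩
    rw [m.s_zero]
    exact m.X_zero.1 hx
  · obtain ⟨j, rfl⟩ : ∃ j, k = j + 1 := ⟨k - 1, by omega⟩
    have hx' := m.X_succ.1 hx
    obtain ⟨v, h, rfl⟩ := hx'.1
    have h1 : h = 1 := by
      apply hf
      intro w
      have h2 := hx'.2 _ (m.s_mem w)
      rw [m.comm_left] at h2
      exact m.Zs_mono (by omega) ((m.s_mem_X j _).1 h2)
    subst h1
    rw [map_one, mul_one] at hx ⊢
    exact ⟨v, (m.s_mem_X _ _).1 hx, rfl⟩

/-! ### The canonical subgroups -/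

theorem conj_mem_X (m : Model s p act) (k : ℕ) {t x : K} (ht : t ∈ m.T) (hx : x ∈ m.X k) :
    t * x * t⁻¹ ∈ m.X k := by
  obtain ⟨y, hy, rfl⟩ := hx
  exact ⟨⟨t, ht⟩ * y * (⟨t, ht⟩)⁻¹, (inferInstance : (Subgroup.upperCentralSeries m.T k).Normal).conj_mem _ hy _, rfl⟩

/-- The elements of `T` which act trivially on `X i` modulo `X j`. -/
def Q (m : Model s p act) (i j : ℕ) : Subgroup K where
  carrier := {x | x ∈ m.T ∧ ∀ a ∈ m.X i, x * a * x⁻¹ * a⁻¹ ∈ m.X j}
  one_mem' := ⟨one_mem _, fun a _ => by simp⟩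
  mul_mem' := by
    rintro x y ⟨hx, hx'⟩ ⟨hy, hy'⟩
    refine ⟨mul_mem hx hy, fun a ha => ?_⟩
    have h1 := m.conj_mem_X j hx (hy' a ha)
    have h2 := mul_mem h1 (hx' a ha)
    have h3 : x * (y * a * y⁻¹ * a⁻¹) * x⁻¹ * (x * a * x⁻¹ * a⁻¹) = x * y * a * (x * y)⁻¹ * a⁻¹ := by group
    rwa [h3] at h2
  inv_mem' := by
    rintro x ⟨hx, hx'⟩
    refine ⟨inv_mem hx, fun a ha => ?_⟩
    have h1 := m.conj_mem_X j (inv_mem hx) (inv_mem (hx' a ha))
    have h3 : x⁻¹ * (x * a * x⁻¹ * a⁻¹)⁻¹ * x⁻¹⁻¹ = x⁻¹ * a * x⁻¹⁻¹ * a⁻¹ := by group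
    rwa [h3] at h1

theorem mem_Q (m : Model s p act) {i j : ℕ} {x : K} :
    x ∈ m.Q i j ↔ x ∈ m.T ∧ ∀ a ∈ m.X i, x * a * x⁻¹ * a⁻¹ ∈ m.X j := Iff.rfl

theorem Q_inv (m : Model s p act) {D : Subgroup (MulAut K)} (hT : Inv D m.T) (i j : ℕ) : Inv D (m.Q i j) :=
  inv_of_mem_iff hT (m.X_inv hT i) (m.X_inv hT j) fun _ => Iff.rfl

theorem Q_le (m : Model s p act) (i j : ℕ) : m.Q i j ≤ m.T := fun _ h => h.1

theorem mem_Q_iff (m : Model s p act) {n : ℕ} (hf : ∀ h, (∀ v, act h v + v ∈ m.Zs n) → h = 1) {i j : ℕ}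
    (hi : i ≤ n + 1) (v : V) (h : H) :
    s v * p h ∈ m.Q i j ↔ ∀ w ∈ m.Zs i, act h w + w ∈ m.Zs j := by
  rw [mem_Q]
  constructor
  · rintro ⟨-, h1⟩ w hw
    have h2 := h1 _ ((m.s_mem_X i w).2 hw)
    rw [m.comm_left] at h2
    exact (m.s_mem_X j _).1 h2
  · intro h1
    refine ⟨⟨v, h, rfl⟩, fun a ha => ?_⟩
    obtain ⟨w, hw, rfl⟩ := m.exists_of_mem_X hf hi ha
    rw [m.comm_left]
    exact (m.s_mem_X j _).2 (h1 w hw)

/-- `Q (j+2) j` in terms of one vector. -/
theorem mem_Q_iff_one (m : Model s p act) {n : ℕ} (hf : ∀ h, (∀ v, act h v + v ∈ m.Zs n) → h = 1) {j : ℕ}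
    (hj : j + 2 ≤ n + 1) {z : V} (hz : z ∈ m.Zs (j + 2))
    (hz' : ∀ v ∈ m.Zs (j + 2), v ∈ m.Zs (j + 1) ∨ v + z ∈ m.Zs (j + 1)) (v : V) (h : H) :
    s v * p h ∈ m.Q (j + 2) j ↔ act h z + z ∈ m.Zs j := by
  rw [m.mem_Q_iff hf hj]
  constructor
  · intro h1
    exact h1 z hz
  · intro h1 w hw
    rcases hz' w hw with h2 | h2
    · rw [add_comm]
      exact h2 h
    · have h3 := h2 h
      rw [m.act_add] at h3
      have h4 := add_mem h3 h1
      have h5 : w + z + (act h w + act h z) + (act h z + z) = act h w + w := by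
        calc w + z + (act h w + act h z) + (act h z + z)
            = (act h w + w) + (z + z) + (act h z + act h z) := by abel
          _ = act h w + w := by rw [m.two, m.two, add_zero, add_zero]
      rwa [h5] at h4

/-- `Q (j+2) j` in terms of two vectors. -/
theorem mem_Q_iff_two (m : Model s p act) {n : ℕ} (hf : ∀ h, (∀ v, act h v + v ∈ m.Zs n) → h = 1) {j : ℕ}
    (hj : j + 2 ≤ n + 1) {z z' : V} (hz : z ∈ m.Zs (j + 2)) (hz1 : z' ∈ m.Zs (j + 2))
    (hz' : ∀ v ∈ m.Zs (j + 2), v ∈ m.Zs (j + 1) ∨ v + z ∈ m.Zs (j + 1) ∨ v + z' ∈ m.Zs (j + 1) ∨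
      v + (z + z') ∈ m.Zs (j + 1)) (v : V) (h : H) :
    s v * p h ∈ m.Q (j + 2) j ↔ act h z + z ∈ m.Zs j ∧ act h z' + z' ∈ m.Zs j := by
  rw [m.mem_Q_iff hf hj]
  constructor
  · intro h1
    exact ⟨h1 z hz, h1 z' hz1⟩
  · rintro ⟨h1, h1'⟩ w hw
    have key : ∀ u, w + u ∈ m.Zs (j + 1) → act h u + u ∈ m.Zs j → act h w + w ∈ m.Zs j := by
      intro u h2 h1
      have h3 := h2 h
      rw [m.act_add] at h3
      have h4 := add_mem h3 h1
      have h5 : w + u + (act h w + act h u) + (act h u + u) = act h w + w := by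
        calc w + u + (act h w + act h u) + (act h u + u)
            = (act h w + w) + (u + u) + (act h u + act h u) := by abel
          _ = act h w + w := by rw [m.two, m.two, add_zero, add_zero]
      rwa [h5] at h4
    rcases hz' w hw with h2 | h2 | h2 | h2
    · rw [add_comm]
      exact h2 h
    · exact key z h2 h1
    · exact key z' h2 h1'
    · apply key _ h2
      rw [m.act_add]
      have := add_mem h1 h1'
      have h5 : act h z + z + (act h z' + z') = act h z + act h z' + (z + z') := by abel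
      rwa [h5] at this

/-- The condition on one vector separates two cosets. -/
theorem cond_inv_mul (m : Model s p act) {j : ℕ} {z y : V} (hz : z ∈ m.Zs (j + 2))
    (hy : ∀ v ∈ m.Zs (j + 1), v ∈ m.Zs j ∨ v + y ∈ m.Zs j) {g h : H}
    (hgh : act g z + z ∈ m.Zs j ↔ act h z + z ∈ m.Zs j) : act (g⁻¹ * h) z + z ∈ m.Zs j := by
  have hg : act g z + z ∈ m.Zs (j + 1) := by
    rw [add_comm (act g z) z]
    exact hz g
  have hh : act h z + z ∈ m.Zs (j + 1) := by
    rw [add_comm (act h z) z]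
    exact hz h
  have h1 : (act g z + z) + (act h z + z) ∈ m.Zs j := by
    by_cases hc : act g z + z ∈ m.Zs j
    · exact add_mem hc (hgh.1 hc)
    · have hc' : act h z + z ∉ m.Zs j := fun h => hc (hgh.2 h)
      have h2 := (hy _ hg).resolve_left hc
      have h3 := (hy _ hh).resolve_left hc'
      have h4 := add_mem h2 h3
      have h5 : act g z + z + y + (act h z + z + y) = act g z + z + (act h z + z) + (y + y) := by abel
      rwa [h5, m.two, add_zero] at h4
  have h2 : (act g z + z) + (act h z + z) = act g z + act h z := by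
    calc (act g z + z) + (act h z + z) = act g z + act h z + (z + z) := by abel
      _ = act g z + act h z := by rw [m.two, add_zero]
  rw [h2] at h1
  have h3 := m.act_mem_Zs j h1 g⁻¹
  rw [m.act_add, m.act_inv_act, ← m.act_mul, add_comm] at h3
  exact h3

theorem cond_iff (m : Model s p act) {j : ℕ} {z : V} {g h : H}
    (hgh : act (g⁻¹ * h) z + z ∈ m.Zs j) : act g z + z ∈ m.Zs j ↔ act h z + z ∈ m.Zs j := by
  have h1 := m.act_mem_Zs j hgh g
  rw [m.act_add, ← m.act_mul, mul_inv_cancel_left] at h1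
  constructor
  · intro h2
    have h3 := add_mem h1 h2
    have h5 : act h z + act g z + (act g z + z) = act h z + z := by
      calc act h z + act g z + (act g z + z) = act h z + z + (act g z + act g z) := by abel
        _ = act h z + z := by rw [m.two, add_zero]
    rwa [h5] at h3
  · intro h2
    have h3 := add_mem h1 h2
    have h5 : act h z + act g z + (act h z + z) = act g z + z := by
      calc act h z + act g z + (act h z + z) = act g z + z + (act h z + act h z) := by abel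
        _ = act g z + z := by rw [m.two, add_zero]
    rwa [h5] at h3

theorem inv_mul_eq (m : Model s p act) (v w : V) (g h : H) :
    (s v * p g)⁻¹ * (s w * p h) = s (act g⁻¹ (v + w)) * p (g⁻¹ * h) := by
  rw [mul_inv_rev, m.s_inv, mul_assoc, ← mul_assoc (s v), ← m.s_add, ← mul_assoc, ← map_inv, m.p_mul_s, mul_assoc,
    ← map_mul]

theorem cond_inv_mul_iff (m : Model s p act) {j : ℕ} {z y : V} (hz : z ∈ m.Zs (j + 2))
    (hy : ∀ v ∈ m.Zs (j + 1), v ∈ m.Zs j ∨ v + y ∈ m.Zs j) {g h : H} :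
    act (g⁻¹ * h) z + z ∈ m.Zs j ↔ (act g z + z ∈ m.Zs j ↔ act h z + z ∈ m.Zs j) :=
  ⟨m.cond_iff, m.cond_inv_mul hz hy⟩

theorem cond_mul (m : Model s p act) {j : ℕ} {z y : V} (hz : z ∈ m.Zs (j + 2))
    (hy : ∀ v ∈ m.Zs (j + 1), v ∈ m.Zs j ∨ v + y ∈ m.Zs j) {g h : H} :
    act (g * h) z + z ∈ m.Zs j ↔ (act g z + z ∈ m.Zs j ↔ act h z + z ∈ m.Zs j) := by
  have h1 : act (1 : H) z + z ∈ m.Zs j := by
    rw [m.act_one, m.two]
    exact zero_mem _
  have h2 : act g⁻¹ z + z ∈ m.Zs j ↔ act g z + z ∈ m.Zs j := by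
    have := m.cond_inv_mul_iff hz hy (g := g) (h := 1)
    rw [mul_one] at this
    rw [this]
    exact ⟨fun h => h.2 h1, fun h => ⟨fun _ => h1, fun _ => h⟩⟩
  have h3 := m.cond_inv_mul_iff hz hy (g := g⁻¹) (h := h)
  rw [inv_inv, h2] at h3
  exact h3

end Model

/-! ### Generation modulo the Frattini subgroup -/

section Gen

variable {T : Subgroup K} [Finite T]

theorem relIndex_sup_zpowers (h2 : IsPGroup 2 T) {B : Subgroup K} (hΦ : phi T ≤ B) (hB : B ≤ T) {x : K}
    (hx : x ∈ T) : B.relIndex (B ⊔ Subgroup.zpowers x) ≠ 0 ∧ B.relIndex (B ⊔ Subgroup.zpowers x) ≤ 2 := by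
  have hxx : x * x ∈ B := hΦ (sq_mem_phi h2 hx)
  have hcj : ∀ {t b : K}, t ∈ T → b ∈ B → t * b * t⁻¹ ∈ B := fun ht hb => conj_mem_of_phi_le h2 hΦ hB ht hb
  let S : Subgroup K :=
    { carrier := {y | y ∈ B ∨ x * y ∈ B}
      one_mem' := Or.inl (one_mem _)
      mul_mem' := by
        rintro a b (ha | ha) (hb | hb)
        · exact Or.inl (mul_mem ha hb)
        · right
          have h1 := mul_mem (hcj hx ha) hb
          have h3 : x * a * x⁻¹ * (x * b) = x * (a * b) := by group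
          rwa [h3] at h1
        · right
          have h1 := mul_mem ha hb
          rwa [mul_assoc] at h1
        · left
          have h1 := mul_mem (mul_mem (hcj (inv_mem hx) ha) (inv_mem hxx)) hb
          have h3 : x⁻¹ * (x * a) * x⁻¹⁻¹ * (x * x)⁻¹ * (x * b) = a * b := by group
          rwa [h3] at h1
      inv_mem' := by
        rintro a (ha | ha)
        · exact Or.inl (inv_mem ha)
        · right
          have h1 := mul_mem (hcj hx (inv_mem ha)) hxx
          have h3 : x * (x * a)⁻¹ * x⁻¹ * (x * x) = x * a⁻¹ := by group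
          rwa [h3] at h1 }
  have hS : B ⊔ Subgroup.zpowers x ≤ S := by
    rw [sup_le_iff, Subgroup.zpowers_le]
    exact ⟨fun b hb => Or.inl hb, Or.inr hxx⟩
  have key := relIndex_le_of_fun (A := B ⊔ Subgroup.zpowers x) (B := B) (α := Prop) (fun y => (y : K) ∈ B) ?_
  · have hc : Nat.card Prop = 2 := by
      rw [Nat.card_eq_fintype_card]
      rfl
    rw [hc] at key
    exact key
  · intro y y' hyy
    have hyy' : (y : K) ∈ B ↔ (y' : K) ∈ B := iff_of_eq hyy
    rcases hS y.2 with h1 | h1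
    · exact mul_mem (inv_mem h1) (hyy'.1 h1)
    · rcases hS y'.2 with h3 | h3
      · exact mul_mem (inv_mem (hyy'.2 h3)) h3
      · have h4 := mul_mem (inv_mem h1) h3
        have h5 : (x * (y : K))⁻¹ * (x * (y' : K)) = (y : K)⁻¹ * y' := by group
        rwa [h5] at h4

/-- The subgroup generated by the Frattini subgroup and a list. -/
def ext (T : Subgroup K) : List K → Subgroup K
  | [] => phi T
  | x :: l => ext T l ⊔ Subgroup.zpowers x

theorem phi_le_ext (l : List K) : phi T ≤ ext T l := by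
  induction l with
  | nil => exact le_rfl
  | cons x l ih => exact ih.trans le_sup_left

theorem ext_le {l : List K} (hl : ∀ x ∈ l, x ∈ T) : ext T l ≤ T := by
  induction l with
  | nil => exact phi_le T
  | cons x l ih =>
    refine sup_le (ih fun y hy => hl y (List.mem_cons_of_mem _ hy)) ?_
    rw [Subgroup.zpowers_le]
    exact hl x List.mem_cons_self

theorem mem_ext {l : List K} {x : K} (hx : x ∈ l) : x ∈ ext T l := by
  induction l with
  | nil => exact absurd hx List.not_mem_nil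
  | cons y l ih =>
    rcases List.mem_cons.1 hx with rfl | hx
    · exact Subgroup.mem_sup_right (Subgroup.mem_zpowers _)
    · exact Subgroup.mem_sup_left (ih hx)

theorem relIndex_ext (h2 : IsPGroup 2 T) {l : List K} (hl : ∀ x ∈ l, x ∈ T) :
    (phi T).relIndex (ext T l) ≠ 0 ∧ (phi T).relIndex (ext T l) ≤ 2 ^ l.length := by
  induction l with
  | nil =>
    rw [ext, Subgroup.relIndex_self]
    simp
  | cons x l ih =>
    have hl' : ∀ y ∈ l, y ∈ T := fun y hy => hl y (List.mem_cons_of_mem _ hy)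
    have h1 := ih hl'
    have h3 := relIndex_sup_zpowers h2 (phi_le_ext l) (ext_le hl') (hl x List.mem_cons_self)
    have h4 := Subgroup.relIndex_mul_relIndex (phi T) (ext T l) (ext T l ⊔ Subgroup.zpowers x) (phi_le_ext l)
      le_sup_left
    rw [ext, ← h4, List.length_cons, pow_succ]
    exact ⟨mul_ne_zero h1.1 h3.1, Nat.mul_le_mul h1.2 h3.2⟩

/-- A subgroup with elementary abelian quotient contains the Frattini subgroup. -/
theorem phi_le_of_elementary {B : Subgroup K} (hc : ∀ x ∈ T, ∀ y ∈ T, x * y * x⁻¹ * y⁻¹ ∈ B)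
    (hs : ∀ x ∈ T, x * x ∈ B) : phi T ≤ B := by
  have : Fact (Nat.Prime 2) := ⟨Nat.prime_two⟩
  have h : frattini T ≤ B.subgroupOf T := by
    apply Cfsg.Agent.Lib.FrattiniBasic.frattini_le_of_elementary (p := 2)
    · rw [commutator_def, Subgroup.commutator_le]
      rintro ⟨x, hx⟩ - ⟨y, hy⟩ -
      rw [Subgroup.mem_subgroupOf]
      exact hc x hx y hy
    · rintro ⟨x, hx⟩
      rw [Subgroup.mem_subgroupOf, pow_two]
      exact hs x hx
  intro x hx
  obtain ⟨hxT, hx'⟩ := mem_phi.1 hx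
  exact h hx'

end Gen

/-! ### The theorem -/

variable {s : V → K} {p : H →* K} {act : H → V → V}

/-- The conditions on the module. -/
structure Good (m : Model s p act) (e : V) (G : Fin 4 → H) (z1 z2 z3 z4 z5 : V) (hh : Fin 8 → H) : Prop where
  faithful : ∀ h, (∀ v, act h v + v ∈ m.Zs 3) → h = 1
  mem2 : z2 ∈ m.Zs 2
  mem3 : z3 ∈ m.Zs 3
  mem4 : z4 ∈ m.Zs 4
  mem5 : z5 ∈ m.Zs 4
  cov1 : ∀ v ∈ m.Zs 1, v ∈ m.Zs 0 ∨ v + z1 ∈ m.Zs 0
  cov2 : ∀ v ∈ m.Zs 2, v ∈ m.Zs 1 ∨ v + z2 ∈ m.Zs 1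
  cov3 : ∀ v ∈ m.Zs 3, v ∈ m.Zs 2 ∨ v + z3 ∈ m.Zs 2
  cov4 : ∀ v ∈ m.Zs 4, v ∈ m.Zs 3 ∨ v + z4 ∈ m.Zs 3 ∨ v + z5 ∈ m.Zs 3 ∨ v + (z4 + z5) ∈ m.Zs 3
  gen : Subgroup.closure (Set.range G) = ⊤
  span : ∀ v, ∃ w ∈ AddSubgroup.closure {x | ∃ c h, x = c + act h c}, s v = s w ∨ s v = s (e + w)
  sep : ∀ i j, (act (hh i) z2 + z2 ∈ m.Zs 0 ↔ act (hh j) z2 + z2 ∈ m.Zs 0) →
    (act (hh i) z3 + z3 ∈ m.Zs 1 ↔ act (hh j) z3 + z3 ∈ m.Zs 1) →
    (act (hh i) z4 + z4 ∈ m.Zs 2 ↔ act (hh j) z4 + z4 ∈ m.Zs 2) →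
    (act (hh i) z5 + z5 ∈ m.Zs 2 ↔ act (hh j) z5 + z5 ∈ m.Zs 2) → i = j

variable {m : Model s p act} {e : V} {G : Fin 4 → H} {z1 z2 z3 z4 z5 : V} {hh : Fin 8 → H}

theorem T_le_ext [Finite m.T] (h2 : IsPGroup 2 m.T) (g : Good m e G z1 z2 z3 z4 z5 hh) :
    m.T ≤ ext m.T [s e, p (G 0), p (G 1), p (G 2), p (G 3)] := by
  set E := ext m.T [s e, p (G 0), p (G 1), p (G 2), p (G 3)] with hE
  have hp : ∀ h, p h ∈ E := by
    have h1 : Subgroup.closure (Set.range G) ≤ E.comap p := by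
      rw [Subgroup.closure_le]
      rintro _ ⟨i, rfl⟩
      show p (G i) ∈ E
      apply mem_ext
      fin_cases i <;> simp
    intro h
    have h3 : h ∈ Subgroup.closure (Set.range G) := by
      rw [g.gen]
      exact Subgroup.mem_top _
    exact h1 h3
  have hw : ∀ w ∈ AddSubgroup.closure {x | ∃ c h, x = c + act h c}, s w ∈ E := by
    intro w hw
    refine AddSubgroup.closure_induction (p := fun w _ => s w ∈ E) ?_ ?_ ?_ ?_ hw
    · rintro _ ⟨c, h, rfl⟩
      have h1 := m.comm_right c 0 h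
      rw [m.s_zero, one_mul] at h1
      rw [← h1]
      exact phi_le_ext _ (commutator_mem_phi h2 (m.s_mem c) (m.p_mem h))
    · rw [m.s_zero]
      exact one_mem _
    · intro a b _ _ ha hb
      rw [m.s_add]
      exact mul_mem ha hb
    · intro a _ ha
      rwa [m.neg_eq]
  have hs : ∀ v, s v ∈ E := by
    intro v
    obtain ⟨w, hw', h1 | h1⟩ := g.span v
    · rw [h1]
      exact hw w hw'
    · rw [h1, m.s_add]
      exact mul_mem (mem_ext List.mem_cons_self) (hw w hw')
  rintro _ ⟨v, h, rfl⟩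
  exact mul_mem (hs v) (hp h)

/-- **The theorem**: a perfect group of automorphisms leaving `T` invariant is trivial on `T`. -/
theorem tr [Finite m.T] (h2 : IsPGroup 2 m.T) (g : Good m e G z1 z2 z3 z4 z5 hh) {D : Subgroup (MulAut K)}
    (hD : ⁅D, D⁆ = D) (hT : Inv D m.T) : Tr D m.T := by
  have hf := g.faithful
  have memA : ∀ v h, s v * p h ∈ m.Q 2 0 ⊓ m.Q 3 1 ↔ act h z2 + z2 ∈ m.Zs 0 ∧ act h z3 + z3 ∈ m.Zs 1 := by
    intro v h
    rw [Subgroup.mem_inf, m.mem_Q_iff_one hf (by norm_num) g.mem2 g.cov2 v h,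
      m.mem_Q_iff_one hf (by norm_num) g.mem3 g.cov3 v h]
  have memC : ∀ v h, s v * p h ∈ m.Q 4 2 ↔ act h z4 + z4 ∈ m.Zs 2 ∧ act h z5 + z5 ∈ m.Zs 2 := by
    intro v h
    rw [m.mem_Q_iff_two hf (by norm_num) g.mem4 g.mem5 g.cov4 v h]
  set A := m.Q 2 0 ⊓ m.Q 3 1 with hA
  have hAT : A ≤ m.T := inf_le_left.trans (m.Q_le 2 0)
  have hcard : Nat.card (Prop × Prop) = 4 := by
    rw [Nat.card_prod, Nat.card_eq_fintype_card]
    rfl
  -- a function giving the `H`-part
  choose! vv hv hx using fun (x : K) (hx : x ∈ m.T) => m.mem_T.1 hx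
  have iA := relIndex_le_of_fun (A := m.T) (B := A) (α := Prop × Prop)
    (fun x => (act (hv x) z2 + z2 ∈ m.Zs 0, act (hv x) z3 + z3 ∈ m.Zs 1)) (by
      intro x y hxy
      rw [Prod.mk.injEq] at hxy
      have h1 := m.cond_inv_mul g.mem2 g.cov1 (iff_of_eq hxy.1)
      have h3 := m.cond_inv_mul g.mem3 g.cov2 (iff_of_eq hxy.2)
      rw [hx x x.2, hx y y.2, m.inv_mul_eq, memA]
      exact ⟨h1, h3⟩)
  rw [hcard] at iA
  have iB := relIndex_le_of_fun (A := A) (B := A ⊓ m.Q 4 2) (α := Prop × Prop)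
    (fun x => (act (hv x) z4 + z4 ∈ m.Zs 2, act (hv x) z5 + z5 ∈ m.Zs 2)) (by
      intro x y hxy
      rw [Prod.mk.injEq] at hxy
      have h1 := m.cond_inv_mul g.mem4 g.cov3 (iff_of_eq hxy.1)
      have h3 := m.cond_inv_mul g.mem5 g.cov3 (iff_of_eq hxy.2)
      refine ⟨A.mul_mem (A.inv_mem x.2) y.2, ?_⟩
      show (x : K)⁻¹ * y ∈ m.Q 4 2
      rw [hx x (hAT x.2), hx y (hAT y.2), m.inv_mul_eq, memC]
      exact ⟨h1, h3⟩)
  rw [hcard] at iB
  -- the Frattini subgroup
  have hmul : ∀ g' h, (p (g' * h) ∈ A ⊓ m.Q 4 2) ↔ (((act g' z2 + z2 ∈ m.Zs 0 ↔ act h z2 + z2 ∈ m.Zs 0) ∧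
      (act g' z3 + z3 ∈ m.Zs 1 ↔ act h z3 + z3 ∈ m.Zs 1)) ∧ ((act g' z4 + z4 ∈ m.Zs 2 ↔ act h z4 + z4 ∈ m.Zs 2) ∧
      (act g' z5 + z5 ∈ m.Zs 2 ↔ act h z5 + z5 ∈ m.Zs 2))) := by
    intro g' h
    have h1 : p (g' * h) = s 0 * p (g' * h) := by rw [m.s_zero, one_mul]
    rw [Subgroup.mem_inf, h1, memA, memC, m.cond_mul g.mem2 g.cov1, m.cond_mul g.mem3 g.cov2,
      m.cond_mul g.mem4 g.cov3, m.cond_mul g.mem5 g.cov3]
  have hsB : ∀ v, s v ∈ A ⊓ m.Q 4 2 := by
    intro v
    have h1 : s v = s v * p 1 := by rw [map_one, mul_one]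
    rw [Subgroup.mem_inf, h1, memA, memC]
    simp only [m.act_one, m.two]
    exact ⟨⟨zero_mem _, zero_mem _⟩, zero_mem _, zero_mem _⟩
  have hpT : ∀ v h, s v * p h ∈ A ⊓ m.Q 4 2 ↔ p h ∈ A ⊓ m.Q 4 2 := fun v h =>
    ⟨fun h1 => by
      have h3 := (A ⊓ m.Q 4 2).mul_mem ((A ⊓ m.Q 4 2).inv_mem (hsB v)) h1
      rwa [inv_mul_cancel_left] at h3, fun h1 => mul_mem (hsB v) h1⟩
  have hΦ : phi m.T ≤ A ⊓ m.Q 4 2 := by
    apply phi_le_of_elementary
    · rintro _ ⟨v, h, rfl⟩ _ ⟨w, k, rfl⟩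
      have h1 : ∃ u, (s v * p h) * (s w * p k) * (s v * p h)⁻¹ * (s w * p k)⁻¹ =
          s u * p ((h * k) * (h⁻¹ * k⁻¹)) := by
        refine ⟨v + act h w + act (h * k) (act h⁻¹ v) + act (h * k) (act h⁻¹ (act k⁻¹ w)), ?_⟩
        have e1 : (s v * p h)⁻¹ = s (act h⁻¹ v) * p h⁻¹ := by
          rw [mul_inv_rev, m.s_inv, ← map_inv, m.p_mul_s]
        have e2 : (s w * p k)⁻¹ = s (act k⁻¹ w) * p k⁻¹ := by
          rw [mul_inv_rev, m.s_inv, ← map_inv, m.p_mul_s]
        have e3 : ∀ a b (x y : H), (s a * p x) * (s b * p y) = s (a + act x b) * p (x * y) := by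
          intro a b x y
          rw [m.s_add, map_mul, mul_assoc, ← mul_assoc (p x), m.p_mul_s]
          simp only [mul_assoc]
        rw [e1, e2, e3, e3, e3, m.act_mul (h * k) h⁻¹, mul_assoc (h * k)]
      obtain ⟨u, hu⟩ := h1
      rw [hu, hpT, hmul, m.cond_mul g.mem2 g.cov1, m.cond_mul g.mem3 g.cov2, m.cond_mul g.mem4 g.cov3,
        m.cond_mul g.mem5 g.cov3, m.cond_mul g.mem2 g.cov1, m.cond_mul g.mem3 g.cov2, m.cond_mul g.mem4 g.cov3,
        m.cond_mul g.mem5 g.cov3]
      have hinv : ∀ {j : ℕ} {z : V} (x : H), act x⁻¹ z + z ∈ m.Zs j ↔ act x z + z ∈ m.Zs j := by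
        intro j z x
        constructor
        · intro h1
          have := m.act_mem_Zs j h1 x
          rw [m.act_add, m.act_act_inv, add_comm] at this
          exact this
        · intro h1
          have := m.act_mem_Zs j h1 x⁻¹
          rw [m.act_add, m.act_inv_act, add_comm] at this
          exact this
      simp only [hinv, iff_self, and_self]
    · rintro _ ⟨v, h, rfl⟩
      have e3 : (s v * p h) * (s v * p h) = s (v + act h v) * p (h * h) := by
        rw [m.s_add, map_mul, mul_assoc, ← mul_assoc (p h), m.p_mul_s]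
        simp only [mul_assoc]
      rw [e3, hpT, hmul]
      simp only [iff_self, and_self]
  -- the index of the Frattini subgroup
  have hidx : (phi m.T).relIndex m.T ≠ 0 ∧ (phi m.T).relIndex m.T ≤ 32 := by
    have hl : ∀ x ∈ [s e, p (G 0), p (G 1), p (G 2), p (G 3)], x ∈ m.T := by
      intro x hx
      simp only [List.mem_cons, List.not_mem_nil, or_false] at hx
      rcases hx with rfl | rfl | rfl | rfl | rfl
      · exact m.s_mem _
      all_goals exact m.p_mem _
    have h1 : ext m.T [s e, p (G 0), p (G 1), p (G 2), p (G 3)] = m.T :=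
      le_antisymm (ext_le hl) (T_le_ext h2 g)
    have h3 := relIndex_ext h2 hl
    rwa [h1] at h3
  have hBT : A ⊓ m.Q 4 2 ≤ m.T := inf_le_left.trans hAT
  have h8 : 8 ≤ (A ⊓ m.Q 4 2).relIndex m.T := by
    let F : Fin 8 → m.T ⧸ (A ⊓ m.Q 4 2).subgroupOf m.T := fun i => QuotientGroup.mk ⟨p (hh i), m.p_mem _⟩
    have hF : Function.Injective F := by
      intro i j hij
      have h1 := QuotientGroup.eq.1 hij
      rw [Subgroup.mem_subgroupOf] at h1
      have h3 : (p (hh i))⁻¹ * p (hh j) ∈ A ⊓ m.Q 4 2 := h1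
      rw [← map_inv, ← map_mul, Subgroup.mem_inf] at h3
      have e1 : p ((hh i)⁻¹ * hh j) = s 0 * p ((hh i)⁻¹ * hh j) := by rw [m.s_zero, one_mul]
      rw [e1, memA, memC] at h3
      exact g.sep i j (m.cond_iff h3.1.1) (m.cond_iff h3.1.2) (m.cond_iff h3.2.1) (m.cond_iff h3.2.2)
    have hfin : Finite (m.T ⧸ (A ⊓ m.Q 4 2).subgroupOf m.T) := inferInstance
    have h3 := Nat.card_le_card_of_injective F hF
    rw [Nat.card_eq_fintype_card, Fintype.card_fin] at h3
    exact h3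
  have hrel := Subgroup.relIndex_mul_relIndex (phi m.T) (A ⊓ m.Q 4 2) m.T hΦ hBT
  have h5 : (phi m.T).relIndex (A ⊓ m.Q 4 2) ≠ 0 := by
    intro h0
    rw [h0, zero_mul] at hrel
    exact hidx.1 hrel.symm
  have h6 : (phi m.T).relIndex (A ⊓ m.Q 4 2) ≤ 4 := by
    by_contra hcon
    push Not at hcon
    have : 5 * 8 ≤ (phi m.T).relIndex (A ⊓ m.Q 4 2) * (A ⊓ m.Q 4 2).relIndex m.T := Nat.mul_le_mul hcon h8
    have := hidx.2
    omega
  exact tr_of_flag_two hD h2 hT ((m.Q_inv hT 2 0).inf (m.Q_inv hT 3 1))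
    (((m.Q_inv hT 2 0).inf (m.Q_inv hT 3 1)).inf (m.Q_inv hT 4 2)) hAT inf_le_left hΦ iA.1 iA.2 iB.1 iB.2 h5 h6

end Cfsg.Agent.Schreier.MonoModel
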