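import Mathlib
import Cfsg.Agent.Schreier.Crit
import Cfsg.Agent.Schreier.MonoModel

/-!
# The Schreier property from a monomial Sylow 2-subgroup
-/

set_option autoImplicit false
set_option linter.unusedSectionVars false

namespace Cfsg.Agent.Schreier.MonoFinish

open Cfsg.Agent.Schreier.Basic Cfsg.Agent.Schreier.Tools Cfsg.Agent.Schreier.Flag Cfsg.Agent.Schreier.MonoModel

variable {K V H : Type*} [Group K] [AddCommGroup V] [Group H] {s : V → K} {p : H →* K} {act : H → V → V}

theorem card_T (m : Model s p act) : Nat.card m.T = Nat.card (V ⧸ m.Zs 0) * Nat.card H := by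
  have hs : ∀ v w, (QuotientAddGroup.mk v : V ⧸ m.Zs 0) = QuotientAddGroup.mk w ↔ s v = s w := by
    intro v w
    rw [QuotientAddGroup.eq, m.mem_Zs_zero, m.s_add, m.neg_eq]
    rw [mul_eq_one_iff_eq_inv, m.s_inv]
  let F : (V ⧸ m.Zs 0) × H → m.T := fun x => ⟨s x.1.out * p x.2, ⟨_, _, rfl⟩⟩
  have hF : Function.Bijective F := by
    constructor
    · rintro ⟨a, g⟩ ⟨b, h⟩ hab
      have h1 : s a.out * p g = s b.out * p h := congrArg Subtype.val hab
      have h2 : s (b.out + a.out) = p (h * g⁻¹) := by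
        rw [m.s_add, map_mul, map_inv]
        have h3 : s b.out * (s a.out * p g) = s b.out * (s b.out * p h) := by rw [h1]
        rw [← mul_assoc, ← mul_assoc, m.s_mul_self, one_mul] at h3
        exact eq_mul_inv_of_mul_eq h3
      have h3 := m.sep _ _ h2
      have h4 : g = h := (mul_inv_eq_one.1 h3).symm
      subst h4
      have h5 := mul_right_cancel h1
      have h6 := (hs a.out b.out).2 h5
      rw [QuotientAddGroup.out_eq', QuotientAddGroup.out_eq'] at h6
      rw [h6]
    · rintro ⟨_, v, h, rfl⟩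
      refine ⟨(QuotientAddGroup.mk v, h), Subtype.ext ?_⟩
      have h1 : s (Quotient.out (QuotientAddGroup.mk v : V ⧸ m.Zs 0)) = s v := by
        rw [← hs, QuotientAddGroup.out_eq']
      show s (Quotient.out (QuotientAddGroup.mk v : V ⧸ m.Zs 0)) * p h = s v * p h
      rw [h1]
  rw [← Nat.card_congr (Equiv.ofBijective F hF), Nat.card_prod]

theorem sch_of_good [Finite K] [IsSimpleGroup K] (hK : ¬ IsMulCommutative K) {m : Model s p act} {e : V}
    {G : Fin 4 → H} {z1 z2 z3 z4 z5 : V} {hh : Fin 8 → H} (g : Good m e G z1 z2 z3 z4 z5 hh) {n r : ℕ}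
    (hT : Nat.card m.T = 2 ^ n) (hcard : Nat.card K = 2 ^ n * r) (hr : ¬ 2 ∣ r) : Sch K := by
  have : Fact (Nat.Prime 2) := ⟨Nat.prime_two⟩
  have hr0 : r ≠ 0 := by
    rintro rfl
    exact hr (dvd_zero 2)
  have hf : (Nat.card K).factorization 2 = n := by
    rw [hcard, Nat.factorization_mul (by positivity) hr0]
    simp only [Finsupp.add_apply]
    rw [Nat.Prime.factorization_pow Nat.prime_two, Finsupp.single_eq_same, Nat.factorization_eq_zero_of_not_dvd hr]
    exact add_zero n
  let P : Sylow 2 K := Sylow.ofCard m.T (by rw [hT, hf])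
  have h2 : IsPGroup 2 m.T := IsPGroup.of_card hT
  refine Crit.sch_of_sylow hK P fun D hD hDT => ?_
  exact tr h2 g hD hDT

end Cfsg.Agent.Schreier.MonoFinish
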