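import Mathlib
import Cfsg.Agent.S0358
import Cfsg.Agent.S0398
import Cfsg.Agent.S0399
import Cfsg.Agent.Schreier.MonoFinish
import Cfsg.Agent.Schreier.CoOneData

/-!
# The Schreier property of `Co1`
-/

set_option autoImplicit false
set_option linter.unusedSectionVars false

namespace Cfsg.Agent.Schreier.Co1

open Cfsg Cfsg.Agent.SporadicA.GolayBase Cfsg.Agent.SporadicA.GolayPerm Cfsg.Agent.SporadicA.Co0Mono
open Cfsg.Agent.SporadicA.Co1Simple
open Cfsg.Agent.SporadicStructure.Co0Base (e8 e8_coe)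
open Cfsg.Agent.SporadicStructure.LeechBase (zmod2_cases)
open Cfsg.Agent.Schreier.Basic Cfsg.Agent.Schreier.MonoModel Cfsg.Agent.Schreier.MonoRep
open Cfsg.Agent.Schreier.MonoGroup Cfsg.Agent.Schreier.MonoCheck Cfsg.Agent.Schreier.MonoData

/-! ### Sign changes -/

theorem sign_eq_one {c : golayCode} (h : signCo0 c = 1) : c = 0 := by
  apply Subtype.ext
  funext i
  have h1 : signCo0 c • e8 i = e8 i := by rw [h, one_smul]
  have h2 := congrArg (fun v : leechLattice => (v : GolayPt → ℤ) i) h1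
  simp only [signCo0_smul, signMap_apply, e8_coe, Pi.single_eq_same] at h2
  rcases zmod2_cases ((c : GolayPt → ZMod 2) i) with h3 | h3
  · exact h3
  · rw [h3, sgn_one] at h2
    norm_num at h2

theorem sign_eq {c d : golayCode} (h : signCo0 c = signCo0 d) : c = d := by
  have h1 : signCo0 (c + d) = 1 := by
    rw [signCo0_add, h, signCo0_mul_self]
  have h2 := sign_eq_one h1
  have h3 : c + d + d = d := by rw [h2, zero_add]
  rwa [add_assoc, signCo0_add_self, add_zero] at h3

theorem allOne_ne_zero : allOne ≠ 0 := by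
  intro h
  have h1 := congrArg (fun c : golayCode => (c : GolayPt → ZMod 2) none) h
  have h2 : (1 : ZMod 2) = 0 := h1
  exact absurd h2 (by decide)

theorem mem_center {g : Co0} : g ∈ Subgroup.center Co0 ↔ g = 1 ∨ g = signCo0 allOne := by
  constructor
  · intro hg
    by_contra hcon
    push Not at hcon
    have h2 : Nat.card (Subgroup.center Co0) = 2 := Cfsg.Agent.S0398.result
    obtain ⟨y, hy, hy'⟩ := (Nat.card_eq_two_iff' (1 : Subgroup.center Co0)).1 h2
    have h3 : (⟨g, hg⟩ : Subgroup.center Co0) = y := hy' _ (fun h => hcon.1 (congrArg Subtype.val h))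
    have h4 : (⟨signCo0 allOne, allOne_mem_center⟩ : Subgroup.center Co0) = y :=
      hy' _ (fun h => allOne_ne_zero (sign_eq_one (congrArg Subtype.val h)))
    exact hcon.2 (congrArg Subtype.val (h3.trans h4.symm))
  · rintro (rfl | rfl)
    · exact one_mem _
    · exact allOne_mem_center

theorem maskW_zero : maskW (0 : GolayPt → ZMod 2) = 0 := by
  rw [← word_zero, maskW_word (by norm_num)]

theorem maskW_coe_zero : maskW ((0 : golayCode) : GolayPt → ZMod 2) = 0 := by
  rw [ZeroMemClass.coe_zero, maskW_zero]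

theorem maskW_allOne : maskW (allOne : GolayPt → ZMod 2) = 16777215 := by
  have h : (allOne : GolayPt → ZMod 2) = word 16777215 := word_all.symm
  rw [h, maskW_word (by norm_num)]

theorem maskW_inj {c d : golayCode} (h : maskW (c : GolayPt → ZMod 2) = maskW (d : GolayPt → ZMod 2)) : c = d := by
  apply Subtype.ext
  rw [← word_maskW (c : GolayPt → ZMod 2), ← word_maskW (d : GolayPt → ZMod 2), h]

/-! ### The model -/

/-- The 2-group of permutations. -/
noncomputable abbrev HH : Subgroup M24 := TT b0 b1 b2 a0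

/-- Sign changes. -/
def s (c : golayCode) : Cfsg.Spor.Co1 := QuotientGroup.mk (signCo0 c)

/-- Permutations. -/
noncomputable def p : HH →* Cfsg.Spor.Co1 :=
  (QuotientGroup.mk' (Subgroup.center Co0)).comp (permCo0.comp HH.subtype)

/-- The action. -/
def act (h : HH) (c : golayCode) : golayCode := wordPerm (h : M24) c

theorem s_eq_one {c : golayCode} : s c = 1 ↔ c = 0 ∨ c = allOne := by
  unfold s
  rw [QuotientGroup.eq_one_iff, mem_center]
  constructor
  · rintro (h | h)
    · exact Or.inl (sign_eq_one h)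
    · exact Or.inr (sign_eq h)
  · rintro (rfl | rfl)
    · exact Or.inl signCo0_zero
    · exact Or.inr rfl

theorem model : Model s p act where
  s_add a b := by
    show QuotientGroup.mk _ = QuotientGroup.mk _ * QuotientGroup.mk _
    rw [signCo0_add]
    rfl
  two v := signCo0_add_self v
  conj h v := by
    show QuotientGroup.mk (permCo0 (h : M24)) * QuotientGroup.mk (signCo0 v) *
      (QuotientGroup.mk (permCo0 (h : M24)))⁻¹ = QuotientGroup.mk (signCo0 (wordPerm (h : M24) v))
    rw [← perm_mul_sign_mul_inv]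
    rfl
  sep v h hvh := by
    have h1 : (QuotientGroup.mk (signCo0 v) : Cfsg.Spor.Co1) = QuotientGroup.mk (permCo0 (h : M24)) := hvh
    rw [QuotientGroup.eq, signCo0_inv, mem_center] at h1
    apply Subtype.ext
    rcases h1 with h1 | h1
    · exact perm_eq_one h1
    · refine perm_eq_one (d := allOne + v) ?_
      rw [signCo0_add, mul_assoc, h1, signCo0_mul_self]
  act_add h a b := rfl
  act_mul g h v := rfl
  act_one v := rfl

/-- Representation by packed permutations. -/
def rep (P : ℕ) (h : HH) : Prop := Rep P (h : M24)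

theorem coding : Coding (fun c : golayCode => maskW (c : GolayPt → ZMod 2)) rep CoOneData.chk act where
  mk_add a b := maskW_add _ _
  mk_inj a b h := maskW_inj h
  mk_enc v := by
    obtain ⟨i, hi, h⟩ := isCode_iff_exists.1 ((mem_golayCode_iff _).1 v.2)
    exact ⟨i, hi, h, rfl⟩
  mk_surj i hi _ := ⟨⟨word (enc i), enc_mem i⟩, maskW_word (enc_lt i)⟩
  rep_one := rep_one
  rep_mul h h' := h.mul h'
  mk_act h v := h.maskW v

open CoOneData

theorem zm_singleton {q b m : ℕ} (h : zm [(q, b)] m = true) : m = 0 ∨ m = b := by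
  have h1 : red [(q, b)] m = m := Nat.eq_of_beq_eq_true h
  have h2 : red [(q, b)] m = (m >>> q) % 2 * b := by
    simp only [red, List.foldr_cons, List.foldr_nil, Nat.xor_zero]
  rw [h2] at h1
  rcases Nat.mod_two_eq_zero_or_one (m >>> q) with h3 | h3
  · left
    rw [← h1, h3, zero_mul]
  · right
    rw [← h1, h3, one_mul]

theorem zm_L0_zero : zm L0 0 = true := by decide +kernel

theorem zm_L0_one : zm L0 16777215 = true := by decide +kernel

theorem L0_eq : L0 = [(23, 16777215)] := rfl

theorem hL0 (v : golayCode) : v ∈ model.Zs 0 ↔ zm L0 (maskW (v : GolayPt → ZMod 2)) = true := by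
  rw [model.mem_Zs_zero, s_eq_one]
  constructor
  · rintro (rfl | rfl)
    · rw [maskW_coe_zero]
      exact zm_L0_zero
    · rw [maskW_allOne]
      exact zm_L0_one
  · intro h
    rw [L0_eq] at h
    rcases zm_singleton h with h | h
    · left
      apply maskW_inj
      rw [h, maskW_coe_zero]
    · right
      apply maskW_inj
      rw [h, maskW_allOne]

theorem hrep : rep b0 (gens b0 b1 b2 a0 0) ∧ rep b1 (gens b0 b1 b2 a0 1) ∧ rep b2 (gens b0 b1 b2 a0 2) ∧
    rep a0 (gens b0 b1 b2 a0 3) := dataB.rep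

theorem hL1 (v : golayCode) : v ∈ model.Zs 1 ↔ zm L1 (maskW (v : GolayPt → ZMod 2)) = true :=
  mem_succ_of_check model coding (closure_gens b0 b1 b2 a0) hrep.1 hrep.2.1 hrep.2.2.1 hrep.2.2.2 hL0 chkZ0 v

theorem hL2 (v : golayCode) : v ∈ model.Zs 2 ↔ zm L2 (maskW (v : GolayPt → ZMod 2)) = true :=
  mem_succ_of_check model coding (closure_gens b0 b1 b2 a0) hrep.1 hrep.2.1 hrep.2.2.1 hrep.2.2.2 hL1 chkZ1 v

theorem hL3 (v : golayCode) : v ∈ model.Zs 3 ↔ zm L3 (maskW (v : GolayPt → ZMod 2)) = true :=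
  mem_succ_of_check model coding (closure_gens b0 b1 b2 a0) hrep.1 hrep.2.1 hrep.2.2.1 hrep.2.2.2 hL2 chkZ2 v

theorem hL4 (v : golayCode) : v ∈ model.Zs 4 ↔ zm L4 (maskW (v : GolayPt → ZMod 2)) = true :=
  mem_succ_of_check model coding (closure_gens b0 b1 b2 a0) hrep.1 hrep.2.1 hrep.2.2.1 hrep.2.2.2 hL3 chkZ3 v

theorem exists_good : ∃ (e w1 w2 w3 w4 w5 : golayCode) (hh : Fin 8 → HH),
    Good model e (gens b0 b1 b2 a0) w1 w2 w3 w4 w5 hh := by
  have hM := chkM
  simp only [Bool.and_eq_true] at hM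
  obtain ⟨⟨⟨⟨⟨⟨⟨⟨⟨⟨m1, m2⟩, m3⟩, m4⟩, m5⟩, me⟩, n2⟩, n3⟩, n4⟩, n5⟩, mV⟩ := hM
  obtain ⟨w1, h1⟩ := coding.exists_of_isV m1
  obtain ⟨w2, h2⟩ := coding.exists_of_isV m2
  obtain ⟨w3, h3⟩ := coding.exists_of_isV m3
  obtain ⟨w4, h4⟩ := coding.exists_of_isV m4
  obtain ⟨w5, h5⟩ := coding.exists_of_isV m5
  obtain ⟨e', he⟩ := coding.exists_of_isV me
  refine ⟨e', w1, w2, w3, w4, w5, eight (gens b0 b1 b2 a0 0) (gens b0 b1 b2 a0 1) (gens b0 b1 b2 a0 3), ?_⟩
  exact
    { faithful := by
        refine faithful_of_check model coding hL3 (List.all_eq_true.1 mV) (fun h => ?_) (fun h hr => ?_) chkF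
        · obtain ⟨P, hP, Q, hQ, a, b, ha, hb, hab⟩ := dataB.decomp h
          refine ⟨P, hP, Q, hQ, ?_⟩
          show Rep _ (h : M24)
          rw [hab]
          exact ha.mul hb
        · exact Subtype.ext (Rep.eq hr rep_one)
      mem2 := (hL2 w2).2 (by rw [h2]; exact n2)
      mem3 := (hL3 w3).2 (by rw [h3]; exact n3)
      mem4 := (hL4 w4).2 (by rw [h4]; exact n4)
      mem5 := (hL4 w5).2 (by rw [h5]; exact n5)
      cov1 := cov_of_check model coding hL0 hL1 (by rw [h1]; exact chkO0)
      cov2 := cov_of_check model coding hL1 hL2 (by rw [h2]; exact chkO1)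
      cov3 := cov_of_check model coding hL2 hL3 (by rw [h3]; exact chkO2)
      cov4 := cov_two_of_check model coding hL3 hL4 (by rw [h4, h5]; exact chkT)
      gen := closure_gens b0 b1 b2 a0
      span := by
        refine span_of_check model coding (Z := zg) (U := U) (VL := VL) (C := C) ?_ ?_ (by rw [he]; exact chkG)
        · intro z hz
          rw [show zg = [16777215] from rfl, List.mem_singleton] at hz
          subst hz
          exact ⟨allOne, maskW_allOne, s_eq_one.2 (Or.inr rfl)⟩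
        · intro u hu
          have hU : u.1 = b0 ∨ u.1 = b1 ∨ u.1 = b2 ∨ u.1 = a0 := by
            have h : ∀ u ∈ U, u.1 = b0 ∨ u.1 = b1 ∨ u.1 = b2 ∨ u.1 = a0 := by decide +kernel
            exact h u hu
          rcases hU with h | h | h | h <;> rw [h]
          · exact ⟨_, hrep.1⟩
          · exact ⟨_, hrep.2.1⟩
          · exact ⟨_, hrep.2.2.1⟩
          · exact ⟨_, hrep.2.2.2⟩
      sep := sep_of_check model coding hL0 hL1 hL2 hrep.1 hrep.2.1 hrep.2.2.2
        (by rw [h2, h3, h4, h5]; exact chkS) }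

theorem card_T : Nat.card model.T = 2 ^ 21 := by
  have h1 := MonoFinish.card_T model
  have h2 : Nat.card HH = 1024 := by
    rw [dataB.card]
    rfl
  have h3 : Nat.card (model.Zs 0) = 2 := by
    rw [Nat.card_eq_two_iff]
    refine ⟨⟨0, zero_mem _⟩, ⟨allOne, model.mem_Zs_zero.2 (s_eq_one.2 (Or.inr rfl))⟩, ?_, ?_⟩
    · intro h
      exact allOne_ne_zero (congrArg Subtype.val h).symm
    · rw [Set.eq_univ_iff_forall]
      rintro ⟨v, hv⟩
      rcases s_eq_one.1 (model.mem_Zs_zero.1 hv) with rfl | rfl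
      · exact Or.inl rfl
      · exact Or.inr rfl
  have h4 := AddSubgroup.card_eq_card_quotient_mul_card_addSubgroup (model.Zs 0)
  rw [Cfsg.Agent.S0358.card_golayCode, h3] at h4
  have h5 : Nat.card (golayCode ⧸ model.Zs 0) = 2048 := by omega
  rw [h1, h5, h2]
  norm_num

/-- **`Co1` has the Schreier property.** -/
theorem sch : Sch Cfsg.Spor.Co1 := by
  have h0 : Cfsg.IsCo1 Cfsg.Spor.Co1 := Cfsg.Agent.S0399.result
  have hs : IsSimpleGroup Cfsg.Spor.Co1 := h0.1
  have hc : Nat.card Cfsg.Spor.Co1 = 2 ^ 21 * 1982582476875 := by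
    rw [h0.2]
    norm_num
  have hfin : Finite Cfsg.Spor.Co1 := Nat.finite_of_card_ne_zero (by rw [hc]; norm_num)
  have hK : ¬ IsMulCommutative Cfsg.Spor.Co1 := by
    intro hcomm
    have h1 : ∀ x y : Cfsg.Spor.Co1, x * y = y * x := fun x y => hcomm.is_comm.comm x y
    have h2 : (Nat.card Cfsg.Spor.Co1).Prime := by
      have : IsSimpleGroup Cfsg.Spor.Co1 := hs
      let _ : CommGroup Cfsg.Spor.Co1 := { (inferInstance : Group Cfsg.Spor.Co1) with mul_comm := h1 }
      exact IsSimpleGroup.prime_card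
    rw [hc] at h2
    norm_num at h2
  obtain ⟨e, w1, w2, w3, w4, w5, hh, hg⟩ := exists_good
  exact MonoFinish.sch_of_good hK hg card_T hc (by norm_num)

end Cfsg.Agent.Schreier.Co1
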