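import Cfsg.Agent.Fischer.Fi24Spider
import Cfsg.Agent.Lib.PermNetPt
import Cfsg.Agent.SporadicA.GolayWalk
import Cfsg.Agent.SporadicA.M24Trans

/-!
# The basic set of 24 commuting transpositions of `Fi24`: data and kernel checks (R20, helper128)

In the representation `Fischer.Fi24Rep.rho` on 306936 points the points `0, ..., 23` form a basic set (24 commuting
transpositions).  Eight short even words `W k` permute these points as elements `tau k` of `M24`, which generate
`M24`.  The product of the eight transpositions of an octad fixes the points of all generators.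
-/

set_option autoImplicit false
set_option maxRecDepth 100000

namespace Cfsg.Agent.Schreier.FiBasic

open Cfsg Cfsg.Agent.SporadicA.GolayWalk
open Cfsg.Agent.Lib.PermNet Cfsg.Agent.Lib.PermNetPt Cfsg.Agent.Fischer.Fi24RepDef Cfsg.Agent.Fischer.Fi24Rep
open Cfsg.Spor.Fi24 (Gen)

/-- The point of index `i` (the index of the extra point is 23). -/
def ptI (i : ℕ) : GolayPt := cond (Nat.beq i 23) none (some (i : ZMod 23))

/-- The function with a given table. -/
def fn (t : List ℕ) (p : GolayPt) : GolayPt := ptI (t.getD (idx p) 0)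

/-- The involution with a given table. -/
def mkI (t : List ℕ) (h : ∀ p, fn t (fn t p) = p) : Equiv.Perm GolayPt := ⟨fn t, fn t, h, h⟩

/-- table -/
def t0 : List ℕ := [23, 1, 2, 3, 4, 5, 10, 15, 8, 21, 6, 11, 18, 13, 17, 7, 22, 14, 12, 20, 19, 9, 16, 0]
/-- table -/
def t1 : List ℕ := [0, 2, 1, 5, 4, 3, 20, 9, 8, 7, 19, 11, 18, 13, 14, 21, 22, 17, 12, 10, 6, 15, 16, 23]
/-- table -/
def t2 : List ℕ := [0, 3, 5, 1, 4, 2, 10, 21, 8, 15, 6, 11, 16, 13, 14, 9, 12, 17, 22, 20, 19, 7, 18, 23]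
/-- table -/
def t3 : List ℕ := [0, 5, 3, 2, 4, 1, 19, 15, 8, 21, 20, 11, 22, 13, 14, 7, 18, 17, 16, 6, 10, 9, 12, 23]
/-- table -/
def t4 : List ℕ := [0, 1, 4, 3, 2, 11, 6, 12, 8, 21, 10, 5, 7, 13, 20, 18, 22, 19, 15, 17, 14, 9, 16, 23]
/-- table -/
def t5 : List ℕ := [1, 0, 2, 3, 4, 17, 8, 12, 6, 15, 10, 19, 7, 13, 14, 9, 22, 5, 21, 11, 20, 18, 16, 23]
/-- table -/
def t6 : List ℕ := [0, 1, 2, 5, 4, 3, 21, 19, 11, 10, 9, 8, 18, 13, 17, 20, 16, 14, 12, 7, 15, 6, 22, 23]
/-- table -/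
def t7 : List ℕ := [0, 1, 5, 3, 4, 2, 10, 16, 13, 18, 6, 11, 21, 8, 17, 22, 7, 14, 9, 19, 20, 12, 15, 23]

theorem h0 : ∀ p, fn t0 (fn t0 p) = p := by decide +kernel
theorem h1 : ∀ p, fn t1 (fn t1 p) = p := by decide +kernel
theorem h2 : ∀ p, fn t2 (fn t2 p) = p := by decide +kernel
theorem h3 : ∀ p, fn t3 (fn t3 p) = p := by decide +kernel
theorem h4 : ∀ p, fn t4 (fn t4 p) = p := by decide +kernel
theorem h5 : ∀ p, fn t5 (fn t5 p) = p := by decide +kernel
theorem h6 : ∀ p, fn t6 (fn t6 p) = p := by decide +kernel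
theorem h7 : ∀ p, fn t7 (fn t7 p) = p := by decide +kernel

theorem m0 : mkI t0 h0 ∈ M24 :=
  mem_M24_of_table _ t0 rfl (by decide +kernel) (by decide +kernel)
theorem m1 : mkI t1 h1 ∈ M24 :=
  mem_M24_of_table _ t1 rfl (by decide +kernel) (by decide +kernel)
theorem m2 : mkI t2 h2 ∈ M24 :=
  mem_M24_of_table _ t2 rfl (by decide +kernel) (by decide +kernel)
theorem m3 : mkI t3 h3 ∈ M24 :=
  mem_M24_of_table _ t3 rfl (by decide +kernel) (by decide +kernel)
theorem m4 : mkI t4 h4 ∈ M24 :=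
  mem_M24_of_table _ t4 rfl (by decide +kernel) (by decide +kernel)
theorem m5 : mkI t5 h5 ∈ M24 :=
  mem_M24_of_table _ t5 rfl (by decide +kernel) (by decide +kernel)
theorem m6 : mkI t6 h6 ∈ M24 :=
  mem_M24_of_table _ t6 rfl (by decide +kernel) (by decide +kernel)
theorem m7 : mkI t7 h7 ∈ M24 :=
  mem_M24_of_table _ t7 rfl (by decide +kernel) (by decide +kernel)

/-- The eight elements. -/
def tau : ℕ → Equiv.Perm GolayPt
  | 0 => mkI t0 h0
  | 1 => mkI t1 h1
  | 2 => mkI t2 h2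
  | 3 => mkI t3 h3
  | 4 => mkI t4 h4
  | 5 => mkI t5 h5
  | 6 => mkI t6 h6
  | 7 => mkI t7 h7
  | _ => 1

theorem shift_eq : ([5, 1, 6, 5, 7, 5, 2, 4, 2, 6, 7].map tau).prod = Equiv.optionCongr (Equiv.addRight (1 : ZMod 23)) := by
  apply Equiv.ext; decide +kernel

theorem projInv_eq : ([4, 7, 6, 4, 1, 5, 7, 4, 6, 4, 5, 6, 7, 3, 4, 0].map tau).prod = projInv := by
  apply Equiv.ext; decide +kernel

theorem cubeTwist_eq : ([4, 2, 6, 4, 6, 5, 6, 4, 7, 5, 6, 7, 2].map tau).prod = cubeTwist := by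
  apply Equiv.ext; decide +kernel

/-- A subgroup containing the eight elements contains `M24`. -/
theorem le_of_tau (H : Subgroup (Equiv.Perm GolayPt)) (h : ∀ k < 8, tau k ∈ H) : M24 ≤ H := by
  have h8 : ∀ l : List ℕ, (∀ k ∈ l, k < 8) → (l.map tau).prod ∈ H := by
    intro l hl
    apply Subgroup.list_prod_mem
    intro x hx
    obtain ⟨k, hk, rfl⟩ := List.mem_map.1 hx
    exact h k (hl k hk)
  rw [← Cfsg.Agent.SporadicA.M24Trans.closure_eq, Cfsg.Agent.SporadicA.M24Chain.K, Subgroup.closure_le]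
  rintro z (rfl | rfl | rfl)
  · rw [← shift_eq]; exact h8 _ (by decide)
  · rw [← projInv_eq]; exact h8 _ (by decide)
  · rw [← cubeTwist_eq]; exact h8 _ (by decide)

/-! ### The points of the representation -/

/-- The point of the representation belonging to a point of `GolayPt`. -/
def lab (p : GolayPt) : ℕ :=
  ([1, 2, 3, 4, 8, 5, 13, 17, 14, 15, 12, 9, 20, 23, 7, 18, 22, 6, 19, 10, 11, 16, 21, 0] : List ℕ).getD (idx p) 0

theorem lab_none : lab none = 0 := by decide

/-- The eight words. -/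
def W : ℕ → List Gen
  | 0 => [.k, .l, .k, .a, .k, .l]
  | 1 => [.d, .e, .d, .c, .d, .e]
  | 2 => [.d, .h, .d, .c, .d, .h]
  | 3 => [.d, .h, .e, .d, .e, .h]
  | 4 => [.f, .g, .f, .e, .f, .g]
  | 5 => [.b, .c, .b, .a, .b, .c]
  | 6 => [.i, .h, .i, .d, .h, .e, .d, .c, .d, .e, .h, .d, .i, .h]
  | 7 => [.j, .g, .f, .g, .j, .e, .d, .h, .j, .g, .f, .e, .d, .c, .d, .e, .f, .g, .j, .h, .d, .e]
  | _ => []

/-- The pairs (point, image). -/
def rows : ℕ → List (ℕ × ℕ)
  | 0 => [(0, 1), (1, 0), (2, 2), (3, 3), (4, 4), (5, 5), (6, 7), (7, 6), (8, 8), (9, 9), (10, 11), (11, 10), (12, 13), (13, 12), (14, 14), (15, 16), (16, 15), (17, 18), (18, 17), (19, 20), (20, 19), (21, 22), (22, 21), (23, 23)]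
  | 1 => [(0, 0), (1, 1), (2, 3), (3, 2), (4, 5), (5, 4), (6, 6), (7, 7), (8, 8), (9, 9), (10, 12), (11, 13), (12, 10), (13, 11), (14, 14), (15, 17), (16, 18), (17, 15), (18, 16), (19, 20), (20, 19), (21, 22), (22, 21), (23, 23)]
  | 2 => [(0, 0), (1, 1), (2, 4), (3, 5), (4, 2), (5, 3), (6, 6), (7, 7), (8, 8), (9, 9), (10, 11), (11, 10), (12, 13), (13, 12), (14, 14), (15, 18), (16, 17), (17, 16), (18, 15), (19, 21), (20, 22), (21, 19), (22, 20), (23, 23)]
  | 3 => [(0, 0), (1, 1), (2, 5), (3, 4), (4, 3), (5, 2), (6, 6), (7, 7), (8, 8), (9, 9), (10, 13), (11, 12), (12, 11), (13, 10), (14, 14), (15, 16), (16, 15), (17, 18), (18, 17), (19, 22), (20, 21), (21, 20), (22, 19), (23, 23)]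
  | 4 => [(0, 0), (1, 1), (2, 2), (3, 8), (4, 4), (5, 9), (6, 10), (7, 11), (8, 3), (9, 5), (10, 6), (11, 7), (12, 12), (13, 13), (14, 14), (15, 16), (16, 15), (17, 20), (18, 19), (19, 18), (20, 17), (21, 22), (22, 21), (23, 23)]
  | 5 => [(0, 0), (1, 2), (2, 1), (3, 3), (4, 4), (5, 6), (6, 5), (7, 7), (8, 8), (9, 10), (10, 9), (11, 11), (12, 12), (13, 14), (14, 13), (15, 18), (16, 19), (17, 20), (18, 15), (19, 16), (20, 17), (21, 22), (22, 21), (23, 23)]
  | 6 => [(0, 0), (1, 1), (2, 2), (3, 3), (4, 5), (5, 4), (6, 7), (7, 6), (8, 8), (9, 14), (10, 17), (11, 18), (12, 15), (13, 16), (14, 9), (15, 12), (16, 13), (17, 10), (18, 11), (19, 20), (20, 19), (21, 21), (22, 22), (23, 23)]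
  | 7 => [(0, 0), (1, 1), (2, 2), (3, 5), (4, 4), (5, 3), (6, 7), (7, 6), (8, 8), (9, 9), (10, 10), (11, 11), (12, 13), (13, 12), (14, 23), (15, 19), (16, 20), (17, 22), (18, 21), (19, 15), (20, 16), (21, 18), (22, 17), (23, 14)]
  | _ => []

/-- All pairs of a list are (point, image) under a word. -/
noncomputable def chkP (w : List Net) (l : List (ℕ × ℕ)) : Bool :=
  List.rec (motive := fun _ => Bool) true (fun a _ ih => Bool.rec false ih (chkPt w a.1 a.2)) l

theorem chkP_spec {w : List Net} {l : List (ℕ × ℕ)} (h : chkP w l = true) : ∀ a ∈ l, chkPt w a.1 a.2 = true := by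
  induction l with
  | nil => intro a ha; exact absurd ha (by simp)
  | cons a l ih =>
    have h' : (Bool.rec false (chkP w l) (chkPt w a.1 a.2) : Bool) = true := h
    have h1 : chkPt w a.1 a.2 = true := by
      cases hc : chkPt w a.1 a.2 with
      | false => rw [hc] at h'; exact absurd h' (by simp)
      | true => rfl
    rw [h1] at h'
    intro x hx
    rcases List.mem_cons.1 hx with rfl | hx
    · exact h1
    · exact ih h' x hx

theorem rho_of_chkP {u : List Gen} {l : List (ℕ × ℕ)} (h : chkP (nw u false) l = true) :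
    ∀ a ∈ l, rho (word u) a.1 = a.2 := by
  intro a ha
  rw [rho_word]
  exact chkPt_spec (wok u false) (chkP_spec h a ha)

theorem c0 : chkP (nw (W 0) false) (rows 0) = true := by decide +kernel
theorem c1 : chkP (nw (W 1) false) (rows 1) = true := by decide +kernel
theorem c2 : chkP (nw (W 2) false) (rows 2) = true := by decide +kernel
theorem c3 : chkP (nw (W 3) false) (rows 3) = true := by decide +kernel
theorem c4 : chkP (nw (W 4) false) (rows 4) = true := by decide +kernel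
theorem c5 : chkP (nw (W 5) false) (rows 5) = true := by decide +kernel
theorem c6 : chkP (nw (W 6) false) (rows 6) = true := by decide +kernel
theorem c7 : chkP (nw (W 7) false) (rows 7) = true := by decide +kernel

theorem mem_rows : ∀ k < 8, ∀ p, (lab p, lab (tau k p)) ∈ rows k := by
  intro k hk
  interval_cases k <;> decide +kernel

theorem rho_tau (k : ℕ) (hk : k < 8) (p : GolayPt) : rho (word (W k)) (lab p) = lab (tau k p) := by
  have h : chkP (nw (W k) false) (rows k) = true := by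
    interval_cases k
    · exact c0
    · exact c1
    · exact c2
    · exact c3
    · exact c4
    · exact c5
    · exact c6
    · exact c7
  exact rho_of_chkP h _ (mem_rows k hk p)

theorem even_W : ∀ k < 8, (W k).length % 2 = 0 := by decide

end Cfsg.Agent.Schreier.FiBasic
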