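import Cfsg.Agent.Schreier.CocodeSys
import Cfsg.Agent.Schreier.FiBasic
import Cfsg.Agent.Fischer.Fi24Index
import Cfsg.Agent.S1698

/-!
# The Schreier property of `Fi24'` (R20, helper128)

The 24 commuting transpositions `d p` of `Fi24` (a basic set) are permuted by even elements as `M24`; the products
`d p * d none` form a system `CocodeSys.Sys` in `Fi24'`.
-/

set_option autoImplicit false
set_option maxRecDepth 100000

namespace Cfsg.Agent.Schreier.FiTwentyFour

open Cfsg Cfsg.Agent.Schreier.Basic Cfsg.Agent.Schreier.CocodeSys Cfsg.Agent.Schreier.CocodeOrbit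
open Cfsg.Agent.Schreier.FiBasic
open Cfsg.Agent.Lib.PermNet Cfsg.Agent.Lib.PermNetPt Cfsg.Agent.Fischer.Fi24RepDef Cfsg.Agent.Fischer.Fi24Rep
open Cfsg.Agent.Fischer.Fi24RepOrb (H index_and_suborbits)
open Cfsg.Agent.Fischer.Fi24Final (sgn sgn_gen ker_sgn gen_sq gen_comm)
open Cfsg.Agent.Fischer.Fi24Spider
open Cfsg.Spor Cfsg.Spor.Fi24

theorem hst : ∀ g, rho g 0 = 0 ↔ g ∈ H :=
  (index_and_suborbits Cfsg.Agent.Fischer.Fi24Index.index_le.2 Cfsg.Agent.Fischer.Fi24Index.index_le.1).2.1

/-! ### Words -/

theorem sgn_word (l : List Gen) : sgn (word l) = (-1) ^ l.length := by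
  induction l with
  | nil => rw [word_nil, map_one]; rfl
  | cons x l ih => rw [word_cons, map_mul, sgn_gen, ih, List.length_cons, pow_succ']

theorem word_mem {l : List Gen} (h : l.length % 2 = 0) : word l ∈ commutator Cfsg.Spor.Fi24 := by
  rw [← ker_sgn, MonoidHom.mem_ker, sgn_word]
  exact Even.neg_one_pow (Nat.even_iff.2 h)

theorem word_reverse (l : List Gen) : word l.reverse = (word l)⁻¹ := by
  induction l with
  | nil => rw [List.reverse_nil, word_nil, inv_one]
  | cons x l ih =>
    rw [List.reverse_cons, word_append, ih, word_cons, word_cons, word_nil, mul_one, mul_inv_rev]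
    congr 1
    exact (inv_eq_of_mul_eq_one_left (gen_sq x)).symm

theorem rho_of_chkPt {u : List Gen} {a b : ℕ} (h : chkPt (nw u false) a b = true) : rho (word u) a = b := by
  rw [rho_word]
  exact chkPt_spec (wok u false) h

/-! ### `M24` acts on the 24 points -/

/-- The permutations of the 24 points induced by even elements. -/
def Phi : Subgroup (Equiv.Perm GolayPt) where
  carrier := {m | ∃ n ∈ commutator Cfsg.Spor.Fi24, ∀ p, rho n (lab p) = lab (m p)}
  mul_mem' := by
    rintro a b ⟨n, hn, h⟩ ⟨n', hn', h'⟩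
    refine ⟨n * n', mul_mem hn hn', fun p => ?_⟩
    rw [map_mul, Equiv.Perm.mul_apply, h', h, Equiv.Perm.mul_apply]
  one_mem' := ⟨1, one_mem _, fun p => by rw [map_one]; rfl⟩
  inv_mem' := by
    rintro a ⟨n, hn, h⟩
    refine ⟨n⁻¹, inv_mem hn, fun p => ?_⟩
    rw [map_inv, Equiv.Perm.inv_eq_iff_eq, h]
    exact congrArg lab (a.apply_symm_apply p).symm

theorem le_Phi : M24 ≤ Phi :=
  le_of_tau Phi fun k hk => ⟨word (W k), word_mem (even_W k hk), rho_tau k hk⟩

theorem exists_map_one (p q : GolayPt) : ∃ m : M24, (m : Equiv.Perm GolayPt) p = q := by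
  obtain ⟨m, hm⟩ := exists_map_emb (n := 1) (by norm_num)
    ⟨![p], fun a b _ => Subsingleton.elim a b⟩ ⟨![q], fun a b _ => Subsingleton.elim a b⟩
  exact ⟨m, hm 0⟩

theorem exists_pt (p : GolayPt) : ∃ g : Cfsg.Spor.Fi24, rho g 0 = lab p := by
  obtain ⟨m, hm⟩ := exists_map_one none p
  obtain ⟨n, -, h⟩ := le_Phi m.2
  refine ⟨n, ?_⟩
  have h1 := h none
  rwa [lab_none, hm] at h1

/-- An element taking the point `0` to the point of `p`. -/
noncomputable def gp (p : GolayPt) : Cfsg.Spor.Fi24 := (exists_pt p).choose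

theorem gp_spec (p : GolayPt) : rho (gp p) 0 = lab p := (exists_pt p).choose_spec

/-- The transposition belonging to `p`. -/
noncomputable def d (p : GolayPt) : Cfsg.Spor.Fi24 := gp p * gen .l * (gp p)⁻¹

theorem d_eq {g : Cfsg.Spor.Fi24} {p : GolayPt} (h : rho g 0 = lab p) : g * gen .l * g⁻¹ = d p :=
  conj_eq hst (h.trans (gp_spec p).symm)

theorem conj_d {n : Cfsg.Spor.Fi24} {p q : GolayPt} (h : rho n (lab p) = lab q) : n * d p * n⁻¹ = d q := by
  have h1 := d_eq (g := n * gp p) (p := q) (by rw [map_mul, Equiv.Perm.mul_apply, gp_spec, h])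
  rw [← h1]
  unfold d
  group

theorem sgn_d (p : GolayPt) : sgn (d p) = -1 := by
  unfold d
  rw [map_mul, map_mul, map_inv, sgn_gen]
  rw [mul_comm (sgn (gp p)), mul_assoc, mul_inv_cancel, mul_one]

theorem d_mem (p q : GolayPt) : d p * d q ∈ commutator Cfsg.Spor.Fi24 := by
  rw [← ker_sgn, MonoidHom.mem_ker, map_mul, sgn_d, sgn_d]
  rfl

theorem d_sq (p : GolayPt) : d p * d p = 1 := by
  unfold d
  calc gp p * gen .l * (gp p)⁻¹ * (gp p * gen .l * (gp p)⁻¹) = gp p * (gen .l * gen .l) * (gp p)⁻¹ := by group
    _ = 1 := by rw [gen_sq]; group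

/-! ### The transpositions of an octad -/

theorem dword {u : List Gen} {x : Gen} {p : GolayPt} {a : ℕ} (ha : lab p = a)
    (h : chkPt (nw (u ++ gword x) false) 0 a = true) : word (u ++ x :: u.reverse) = d p := by
  have h1 := rho_of_chkPt h
  rw [← ha] at h1
  rw [← d_eq h1, word_append, word_append, word_cons, word_reverse]
  conv_lhs => rw [gen_conj x]
  group

/-- the word of the transposition number `i` -/
def u5 : List Gen := [.d, .h, .e, .d]
def u6 : List Gen := [.b, .c, .d, .h, .e, .d, .c, .b]
def u7 : List Gen := [.k, .a, .b, .c, .d, .h, .e, .d, .c, .b, .l, .k]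

theorem dw0 : word ([] ++ Gen.l :: ([] : List Gen).reverse) = d none :=
  dword (a := 0) (by decide) (by decide +kernel)
theorem dw1 : word ([] ++ Gen.a :: ([] : List Gen).reverse) = d (some 0) :=
  dword (a := 1) (by decide) (by decide +kernel)
theorem dw2 : word ([] ++ Gen.c :: ([] : List Gen).reverse) = d (some 1) :=
  dword (a := 2) (by decide) (by decide +kernel)
theorem dw3 : word ([] ++ Gen.e :: ([] : List Gen).reverse) = d (some 2) :=
  dword (a := 3) (by decide) (by decide +kernel)
theorem dw4 : word ([] ++ Gen.h :: ([] : List Gen).reverse) = d (some 3) :=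
  dword (a := 4) (by decide) (by decide +kernel)
theorem dw5 : word (u5 ++ Gen.c :: u5.reverse) = d (some 5) :=
  dword (a := 5) (by decide) (by decide +kernel)
theorem dw6 : word (u6 ++ Gen.a :: u6.reverse) = d (some 17) :=
  dword (a := 6) (by decide) (by decide +kernel)
theorem dw7 : word (u7 ++ Gen.a :: u7.reverse) = d (some 14) :=
  dword (a := 7) (by decide) (by decide +kernel)

/-- The octad. -/
def oct0 : List GolayPt := [none, some 0, some 1, some 2, some 3, some 5, some 17, some 14]

/-- The word of the product over the octad. -/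
def WO : List Gen :=
  ([] ++ Gen.l :: ([] : List Gen).reverse) ++ (([] ++ Gen.a :: ([] : List Gen).reverse) ++
  (([] ++ Gen.c :: ([] : List Gen).reverse) ++ (([] ++ Gen.e :: ([] : List Gen).reverse) ++
  (([] ++ Gen.h :: ([] : List Gen).reverse) ++ ((u5 ++ Gen.c :: u5.reverse) ++
  ((u6 ++ Gen.a :: u6.reverse) ++ ((u7 ++ Gen.a :: u7.reverse) ++ [])))))))

theorem word_WO : word WO = (oct0.map d).prod := by
  unfold WO oct0
  rw [word_append, dw0, word_append, dw1, word_append, dw2, word_append, dw3, word_append, dw4, word_append, dw5,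
    word_append, dw6, word_append, dw7, word_nil]
  simp only [List.map_cons, List.map_nil, List.prod_cons, List.prod_nil]

/-- The numbers of the points of the generators. -/
def pn : Gen → ℕ
  | .l => 0
  | .a => 1
  | .b => 193
  | .c => 2
  | .d => 2914
  | .e => 3
  | .f => 676
  | .g => 8
  | .j => 136
  | .h => 4
  | .i => 176
  | .k => 307872

theorem pnt_num (x : Gen) : pnt x = pn x := by
  apply rho_of_chkPt
  cases x <;> decide +kernel

theorem fix_WO (x : Gen) : chkPt (nw WO false) (pn x) (pn x) = true := by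
  cases x <;> decide +kernel

theorem WO_comm (x : Gen) : word WO * gen x = gen x * word WO := by
  apply comm_of_fix hst
  rw [pnt_num]
  exact rho_of_chkPt (fix_WO x)

/-! ### `Fi24'` -/

theorem simple : IsSimpleGroup Cfsg.Spor.Fi24' := Cfsg.Agent.S1698.result.1

theorem card_eq : Nat.card Cfsg.Spor.Fi24' = 1255205709190661721292800 := Cfsg.Agent.S1698.result.2

theorem finite : Finite Cfsg.Spor.Fi24' := Nat.finite_of_card_ne_zero (by rw [card_eq]; norm_num)

theorem not_comm : ¬ IsMulCommutative Cfsg.Spor.Fi24' := by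
  intro h
  have := simple
  have := finite
  let _ : CommGroup Cfsg.Spor.Fi24' := { (inferInstance : Group Cfsg.Spor.Fi24') with mul_comm := h.is_comm.comm }
  have h1 : (Nat.card Cfsg.Spor.Fi24').Prime := IsSimpleGroup.prime_card
  rw [card_eq] at h1
  revert h1
  norm_num

theorem WO_eq_one : word WO = 1 := by
  have := simple
  have hm : word WO ∈ commutator Cfsg.Spor.Fi24 := word_mem (by decide)
  have hc : (⟨word WO, hm⟩ : Cfsg.Spor.Fi24') ∈ Subgroup.center Cfsg.Spor.Fi24' := by
    rw [Subgroup.mem_center_iff]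
    intro y
    apply Subtype.ext
    exact (central_of_comm WO_comm (y : Cfsg.Spor.Fi24)).symm
  rcases (inferInstance : (Subgroup.center Cfsg.Spor.Fi24').Normal).eq_bot_or_eq_top with h | h
  · rw [h, Subgroup.mem_bot] at hc
    exact congrArg Subtype.val hc
  · exfalso
    apply not_comm
    refine ⟨⟨fun a b => ?_⟩⟩
    have hb : b ∈ Subgroup.center Cfsg.Spor.Fi24' := by rw [h]; trivial
    exact (Subgroup.mem_center_iff.1 hb a)

/-! ### The system -/

theorem exists_even {p q p' q' : GolayPt} (hpq : p ≠ q) (hpq' : p' ≠ q') :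
    ∃ n ∈ commutator Cfsg.Spor.Fi24, n * d p * n⁻¹ = d p' ∧ n * d q * n⁻¹ = d q' := by
  obtain ⟨m, h1, h2⟩ := exists_map_pair hpq hpq'
  obtain ⟨n, hn, h⟩ := le_Phi m.2
  exact ⟨n, hn, conj_d (by rw [h, h1]), conj_d (by rw [h, h2])⟩

theorem d_none : d none = gen .l := by
  rw [← dw0]
  show word [Gen.l] = gen .l
  rw [word_cons, word_nil, mul_one]

theorem d_zero : d (some 0) = gen .a := by
  rw [← dw1]
  show word [Gen.a] = gen .a
  rw [word_cons, word_nil, mul_one]

theorem d_comm (p q : GolayPt) : d p * d q = d q * d p := by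
  by_cases hpq : p = q
  · rw [hpq]
  have h0 : (none : GolayPt) ≠ some 0 := by decide
  obtain ⟨n, -, h1, h2⟩ := exists_even h0 hpq
  have h3 : gen Gen.l * gen Gen.a = gen Gen.a * gen Gen.l := gen_comm (by decide)
  rw [← h1, ← h2, d_none, d_zero]
  calc n * gen .l * n⁻¹ * (n * gen .a * n⁻¹) = n * (gen .l * gen .a) * n⁻¹ := by group
    _ = n * (gen .a * gen .l) * n⁻¹ := by rw [h3]
    _ = _ := by group

theorem fix_l : chkPt (nw [Gen.l] false) 193 193 = true := by decide +kernel
theorem move_a : chkPt (nw [Gen.a] false) 193 193 = false := by decide +kernel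

theorem gen_l_ne : gen Gen.l ≠ gen Gen.a := by
  intro h
  have h1 := rho_of_chkPt fix_l
  have h2 : word [Gen.l] = word [Gen.a] := by
    rw [word_cons, word_cons, word_nil, mul_one, mul_one, h]
  rw [h2] at h1
  have h3 : winv (nw [Gen.a] false) 193 = 193 := by
    rw [winv_eq (wok [Gen.a] false), Equiv.Perm.inv_eq_iff_eq, ← rho_word]
    exact h1.symm
  have h4 := move_a
  unfold chkPt at h4
  rw [h3] at h4
  exact absurd h4 (by decide)

theorem d_inj : Function.Injective d := by
  intro p q h
  by_contra hpq
  have h0 : (none : GolayPt) ≠ some 0 := by decide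
  obtain ⟨n, -, h1, h2⟩ := exists_even hpq h0
  apply gen_l_ne
  rw [← d_none, ← d_zero, ← h1, ← h2, h]

/-- The elements of the system. -/
noncomputable def e (p : GolayPt) : Cfsg.Spor.Fi24' := ⟨d p * d none, d_mem p none⟩

theorem prod_mul_const (l : List GolayPt) :
    (l.map fun p => d p * d none).prod = (l.map d).prod * d none ^ l.length := by
  induction l with
  | nil => simp
  | cons p l ih =>
    rw [List.map_cons, List.prod_cons, ih, List.map_cons, List.prod_cons, List.length_cons]
    have hc : Commute (d none) ((l.map d).prod) := by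
      apply Commute.list_prod_right
      intro x hx
      obtain ⟨q, -, rfl⟩ := List.mem_map.1 hx
      exact d_comm none q
    calc d p * d none * ((l.map d).prod * d none ^ l.length)
        = d p * (d none * (l.map d).prod) * d none ^ l.length := by group
      _ = d p * ((l.map d).prod * d none) * d none ^ l.length := by rw [hc.eq]
      _ = d p * (l.map d).prod * (d none * d none ^ l.length) := by group
      _ = _ := by rw [← pow_succ']

theorem sys : Sys e where
  sq p := by
    apply Subtype.ext
    show d p * d none * (d p * d none) = 1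
    calc d p * d none * (d p * d none) = d p * (d none * d p) * d none := by group
      _ = (d p * d p) * (d none * d none) := by rw [d_comm none p]; group
      _ = 1 := by rw [d_sq, d_sq, mul_one]
  comm p q := by
    apply Subtype.ext
    show d p * d none * (d q * d none) = d q * d none * (d p * d none)
    calc d p * d none * (d q * d none) = d p * (d none * d q) * d none := by group
      _ = (d p * d q) * (d none * d none) := by rw [d_comm none q]; group
      _ = (d q * d p) * (d none * d none) := by rw [d_comm p q]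
      _ = d q * (d p * d none) * d none := by group
      _ = d q * (d none * d p) * d none := by rw [d_comm p none]
      _ = _ := by group
  zero := Subtype.ext (d_sq none)
  inj p q h := by
    have h1 : d p * d none = d q * d none := congrArg Subtype.val h
    exact d_inj (mul_right_cancel h1)
  full m := by
    obtain ⟨n, hn, h⟩ := le_Phi m.2
    refine ⟨⟨n, hn⟩, fun p => ?_⟩
    apply Subtype.ext
    show n * (d p * d none) * n⁻¹ = d ((m : Equiv.Perm GolayPt) p) * d none *
      (d ((m : Equiv.Perm GolayPt) none) * d none)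
    have h1 := conj_d (h p)
    have h2 := conj_d (h none)
    calc n * (d p * d none) * n⁻¹ = (n * d p * n⁻¹) * (n * d none * n⁻¹) := by group
      _ = d ((m : Equiv.Perm GolayPt) p) * d ((m : Equiv.Perm GolayPt) none) := by rw [h1, h2]
      _ = d ((m : Equiv.Perm GolayPt) p) * (d none * d none) * d ((m : Equiv.Perm GolayPt) none) := by
        rw [d_sq none, mul_one]
      _ = d ((m : Equiv.Perm GolayPt) p) * d none * (d none * d ((m : Equiv.Perm GolayPt) none)) := by group
      _ = _ := by rw [d_comm none]
  oct := by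
    refine ⟨oct0, by decide, ?_, ?_⟩
    · have h1 : oct0.toFinset = Cfsg.Agent.SporadicA.GolayBase.fin (2 ^ 23 + 2 ^ 17 + 2 ^ 14 + 47) := by
        decide +kernel
      rw [h1, Cfsg.Agent.SporadicA.GolayBase.fin_mem_octads_iff (by norm_num)]
      decide +kernel
    · apply Subtype.ext
      show (commutator Cfsg.Spor.Fi24).subtype ((oct0.map e).prod) = 1
      rw [map_list_prod, List.map_map]
      have h1 : (⇑(commutator Cfsg.Spor.Fi24).subtype ∘ e) = fun p => d p * d none := rfl
      rw [h1, prod_mul_const, ← word_WO, WO_eq_one, one_mul]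
      have h8 : oct0.length = 2 * 4 := rfl
      rw [h8, pow_mul, pow_two, d_sq, one_pow]

/-- **The Schreier property of `Fi24'`.** -/
theorem sch : Sch Cfsg.Spor.Fi24' := by
  have := simple
  have := finite
  refine sch_of_sys not_comm sys ?_ ?_
  · rw [card_eq]; norm_num
  · rw [card_eq]; norm_num

end Cfsg.Agent.Schreier.FiTwentyFour
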