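import Cfsg.Agent.Schreier.HNCore
import Cfsg.Agent.S1701

/-!
# The Schreier property of the Harada–Norton group
-/

set_option autoImplicit false

namespace Cfsg.Agent.Schreier.HN

/-- **The Schreier property of HN.** -/
theorem sch : Cfsg.Agent.Schreier.Basic.Sch Cfsg.Spor.HN := by
  have : Finite Cfsg.Spor.HN := Cfsg.Agent.HN.Index.finite_HN
  exact Cfsg.Agent.Schreier.HNCore.sch_of_isHN Cfsg.Agent.S1701.result

end Cfsg.Agent.Schreier.HN
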