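import Cfsg.Agent.HN.AutHS
import Cfsg.Agent.Schreier.Basic

/-!
# The Schreier property of the Higman–Sims group

Every automorphism of the group `Q` (on 100 points) is conjugation by an automorphism of the graph, and `Q` consists of
the even automorphisms.
-/

set_option autoImplicit false

namespace Cfsg.Agent.Schreier.HS

open Cfsg.Agent.Schreier.Basic
open Cfsg.Agent.SporadicA.PermTab Cfsg.Agent.HN.HS100 Cfsg.Agent.HN.AutBound Cfsg.Agent.HN.AutHS Equiv

theorem sch_Q : Sch Q := by
  -- `Q` as the kernel of the sign on the automorphism group of the graph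
  have hker : Q.subgroupOf (autG 100 adjA) = (Perm.sign.comp (autG 100 adjA).subtype).ker := by
    ext g
    rw [Subgroup.mem_subgroupOf, MonoidHom.mem_ker, mem_Q_iff]
    exact ⟨fun h => h.2, fun h => ⟨g.2, h⟩⟩
  have hn : (Q.subgroupOf (autG 100 adjA)).Normal := by
    rw [hker]; infer_instance
  let e : Q.subgroupOf (autG 100 adjA) ≃* Q := Subgroup.subgroupOfEquivOfLe Q_le
  have he : ∀ x, ((e x : Q) : Perm (Fin 100)) = ((x : autG 100 adjA) : Perm (Fin 100)) := fun _ => rfl
  refine Sch.of_equiv e ?_
  refine sch_of_normal (MulAut.conjNormal : autG 100 adjA →* MulAut (Q.subgroupOf (autG 100 adjA))) ?_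
    (Q.subgroupOf (autG 100 adjA)) ?_ ?_
  · intro C _ σ _
    obtain ⟨p, hp, h⟩ := exists_perm ((e.symm.trans σ).trans e)
    refine ⟨⟨p, hp⟩, ?_⟩
    ext x
    have h1 := h (e x)
    have h2 : ((e.symm.trans σ).trans e) (e x) = e (σ x) := by
      simp only [MulEquiv.trans_apply, MulEquiv.symm_apply_apply]
    rw [h2, he, he] at h1
    rw [h1, MulAut.conjNormal_apply]
    rfl
  · have h1 : Group.IsSolvable (autG 100 adjA ⧸ (Perm.sign.comp (autG 100 adjA).subtype).ker) :=
      Group.isSolvable_of_isSolvable_injective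
        (QuotientGroup.kerLift_injective (Perm.sign.comp (autG 100 adjA).subtype))
    exact Group.isSolvable_of_surjective
      (f := (QuotientGroup.quotientMulEquivOfEq hker.symm).toMonoidHom)
      (QuotientGroup.quotientMulEquivOfEq hker.symm).surjective
  · rintro _ ⟨n, hn', rfl⟩
    refine ⟨⟨n, hn'⟩, ?_⟩
    ext x
    rfl

/-- **The Schreier property of HS.** -/
theorem sch : Sch ↥Cfsg.Spor.HS := by
  obtain ⟨e⟩ := nonempty_Q.1
  exact Sch.of_equiv e sch_Q

end Cfsg.Agent.Schreier.HS
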