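import Cfsg.Agent.Schreier.J4Core
import Cfsg.Agent.S1703

/-!
# The Schreier property of J4 (R20 [124], helper552)
-/

set_option autoImplicit false

namespace Cfsg.Agent.Schreier.J4

open Cfsg.Agent.Schreier.Basic

/-- Perfect groups of automorphisms of J4 are inner. -/
theorem sch : Sch Cfsg.Spor.J4 := J4Core.sch_of_isJ4 Cfsg.Agent.S1703.result

end Cfsg.Agent.Schreier.J4
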