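import Mathlib
import Cfsg.Prelude.Def_Spor_J1
import Cfsg.Agent.S0457
import Cfsg.Agent.Schreier.SmallSylow

/-!
# The Schreier property of the Janko group J₁
-/

set_option autoImplicit false

namespace Cfsg.Agent.Schreier.JOne

open Cfsg.Agent.Schreier.Basic

theorem isJ1 : Cfsg.IsJ1 Cfsg.Spor.J1 := by
  obtain ⟨x, y, hx, hy, h⟩ := Cfsg.Agent.S0457.result
  have hx' : x = Cfsg.Spor.jankoX := Units.ext hx
  have hy' : y = Cfsg.Spor.jankoY := Units.ext hy
  subst hx' hy'
  exact h

theorem card_J1 : Nat.card Cfsg.Spor.J1 = 175560 := isJ1.2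

/-- **The Schreier property of J₁.** -/
theorem sch : Sch Cfsg.Spor.J1 := by
  have hs : IsSimpleGroup Cfsg.Spor.J1 := isJ1.1
  have hcard := card_J1
  have hfin : Finite Cfsg.Spor.J1 := Nat.finite_of_card_ne_zero (by rw [hcard]; norm_num)
  have : Fact (Nat.Prime 2) := ⟨Nat.prime_two⟩
  obtain ⟨T⟩ : Nonempty (Sylow 2 Cfsg.Spor.J1) := inferInstance
  have hT : Nat.card T = 8 := by
    rw [T.card_eq_multiplicity, hcard, show (175560 : ℕ) = 2 ^ 3 * 21945 by norm_num,
      Nat.factorization_mul (by norm_num) (by norm_num), Nat.Prime.factorization_pow Nat.prime_two]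
    rw [Finsupp.add_apply, Finsupp.single_eq_same,
      Nat.factorization_eq_zero_of_not_dvd (by norm_num : ¬ 2 ∣ 21945)]
    norm_num
  have hK : ¬ IsMulCommutative Cfsg.Spor.J1 := by
    intro h
    have hc : ∀ a b : Cfsg.Spor.J1, a * b = b * a := h.is_comm.comm
    let _ : CommGroup Cfsg.Spor.J1 := { (inferInstance : Group Cfsg.Spor.J1) with mul_comm := hc }
    have hp : (Nat.card Cfsg.Spor.J1).Prime := IsSimpleGroup.prime_card
    rw [hcard] at hp
    norm_num at hp
  exact SmallSylow.sch_of_card_eight hK T hT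

end Cfsg.Agent.Schreier.JOne
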