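import Cfsg.Agent.Schreier.JTwo
import Cfsg.Agent.Schreier.JThreeSylow

/-!
# The Schreier property of the third Janko group
-/

set_option autoImplicit false

namespace Cfsg.Agent.Schreier.JThree

open Cfsg.Agent.Schreier.Basic

theorem sch {F : Type*} [Field F] [Fintype F] (hF : Fintype.card F = 4) {ω : F} (hω : ω ^ 2 + ω + 1 = 0) :
    Sch (Cfsg.Spor.J3 F ω) := by
  have H := Cfsg.Agent.J3.Core.good_of_card hF hω
  have hc := Cfsg.Agent.J3.Simple.card_J3 hF H
  have hfin : Finite (Cfsg.Spor.J3 F ω) := Nat.finite_of_card_ne_zero (by rw [hc]; norm_num)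
  have hs : IsSimpleGroup (Cfsg.Spor.J3 F ω) := Cfsg.Agent.J3.Simple.simple_J3 hF H
  obtain ⟨S⟩ : Nonempty (Sylow 2 (Cfsg.Spor.J3 F ω)) := inferInstance
  refine Cfsg.Agent.Schreier.JTwo.sch_of_type ?_ S (Cfsg.Agent.Schreier.JThreeSylow.exists_equiv hF H S)
  intro hcomm
  -- a commutative simple group has prime order
  have : IsMulCommutative (Cfsg.Spor.J3 F ω) := hcomm
  letI : CommGroup (Cfsg.Spor.J3 F ω) :=
    { (inferInstance : Group (Cfsg.Spor.J3 F ω)) with mul_comm := hcomm.is_comm.comm }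
  have h1 := IsSimpleGroup.prime_card (α := Cfsg.Spor.J3 F ω)
  rw [hc] at h1
  norm_num at h1

/-- The form for the disjunct of `IsKnownSimple'`. -/
theorem sch_of_isoJ3 {G : Type*} [Group G] (h : Cfsg.Spor.IsoJ3 G) : Sch G := by
  obtain ⟨F, _, _, ω, hF, hω, ⟨e⟩⟩ := h
  exact (sch hF hω).of_equiv e.symm

end Cfsg.Agent.Schreier.JThree
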