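import Cfsg.Agent.S1620
import Cfsg.Agent.J2Sylow.SporSylow
import Cfsg.Agent.Schreier.Crit
import Cfsg.Agent.Schreier.TypeJTwo

/-!
# The Schreier property of the Hall–Janko group
-/

set_option autoImplicit false

namespace Cfsg.Agent.Schreier.JTwo

open Cfsg.Agent.Schreier.Basic

/-- Solvability of the automorphism group transfers along isomorphisms. -/
theorem isSolvable_mulAut_of_equiv {A B : Type*} [Group A] [Group B] (e : A ≃* B)
    [h : Group.IsSolvable (MulAut A)] : Group.IsSolvable (MulAut B) :=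
  Group.isSolvable_of_surjective (f := (MulAut.congr e).toMonoidHom) (MulAut.congr e).surjective

/-- The Schreier property for simple groups with Sylow 2-subgroups of type `J2`. -/
theorem sch_of_type {K : Type*} [Group K] [Finite K] [IsSimpleGroup K] (hK : ¬ IsMulCommutative K) (S : Sylow 2 K)
    (h : Nonempty (Cfsg.Agent.J2Sylow.Model.T ≃* (S : Subgroup K))) : Sch K := by
  obtain ⟨e⟩ := h
  have := isSolvable_mulAut_of_equiv e
  exact Crit.sch_of_solvable_mulAut_sylow hK S

theorem sch : Sch Cfsg.Spor.J2 := by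
  have hfin : Finite Cfsg.Spor.J2 :=
    Nat.finite_of_card_ne_zero (by rw [Cfsg.Agent.J2Sylow.SporSylow.card_J2]; norm_num)
  obtain ⟨h1, a, b, hab⟩ := Cfsg.Agent.S1620.result
  obtain ⟨S⟩ : Nonempty (Sylow 2 Cfsg.Spor.J2) := inferInstance
  exact sch_of_type (fun h => hab (h.is_comm.comm a b)) S (Cfsg.Agent.J2Sylow.SporSylow.exists_equiv S)

end Cfsg.Agent.Schreier.JTwo
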