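import Mathlib
import Cfsg.Agent.Schreier.Basic
import Cfsg.Agent.Schreier.Tools
import Cfsg.Agent.Schreier.SylowCrit
import Cfsg.Agent.Schreier.Crit

/-!
# Criteria for the Schreier property with the centraliser of an arbitrary involution

* `tr_normalizer`: a perfect group `D` of automorphisms fixing pointwise `X` and `C_K(X)` fixes pointwise `N_K(X)`.
* `eq_bot_of_tr_centralizer`: `K` simple, `X` a 2-subgroup; `D` fixing pointwise `X` and `C_K(X)` is trivial.
* `exists_perfect_lift`, `exists_adjust`: changing `D` modulo the inner automorphisms.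
* `sch_of_le_sup`, `sch_of_isConj`: the criteria.
-/

set_option autoImplicit false

namespace Cfsg.Agent.Schreier.CritInvolution

open Cfsg.Agent.Schreier.Basic Cfsg.Agent.Schreier.Tools Cfsg.Agent.Schreier.SylowCrit

variable {K : Type*} [Group K]

/-- Three subgroups: a perfect group of automorphisms fixing `X` and `C_K(X)` pointwise fixes `N_K(X)` pointwise. -/
theorem tr_normalizer {D : Subgroup (MulAut K)} (hD : ⁅D, D⁆ = D) {X : Subgroup K} (hX : Tr D X)
    (hC : Tr D (Subgroup.centralizer (X : Set K))) : Tr D (Subgroup.normalizer (X : Set K)) := by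
  intro φ hφ n hn
  -- `n⁻¹ φ(n)` centralises `X`
  have key : ∀ φ ∈ D, n⁻¹ * φ n ∈ Subgroup.centralizer (X : Set K) := by
    intro φ hφ
    rw [Subgroup.mem_centralizer_iff]
    intro e he
    have h1 : n * e * n⁻¹ ∈ X := (Subgroup.mem_normalizer_iff.1 hn e).1 he
    have h2 := hX φ hφ _ h1
    rw [map_mul, map_mul, map_inv, hX φ hφ e he] at h2
    calc e * (n⁻¹ * φ n) = n⁻¹ * (n * e * n⁻¹) * φ n := by group
      _ = n⁻¹ * (φ n * e * (φ n)⁻¹) * φ n := by rw [h2]
      _ = n⁻¹ * φ n * e := by group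
  -- `n C_K(X) n⁻¹ = C_K(X)`
  have hnC : ∀ c ∈ Subgroup.centralizer (X : Set K), n * c * n⁻¹ ∈ Subgroup.centralizer (X : Set K) := by
    intro c hc
    rw [Subgroup.mem_centralizer_iff] at hc ⊢
    intro e he
    have h1 : n⁻¹ * e * n ∈ X := by
      have := (Subgroup.mem_normalizer_iff.1 (inv_mem hn) e).1 he
      simpa using this
    have h2 := hc _ h1
    calc e * (n * c * n⁻¹) = n * (n⁻¹ * e * n * c) * n⁻¹ := by group
      _ = n * (c * (n⁻¹ * e * n)) * n⁻¹ := by rw [h2]
      _ = n * c * n⁻¹ * e := by group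
  let f : D →* Subgroup.centralizer (X : Set K) :=
    { toFun := fun φ => ⟨n⁻¹ * (φ : MulAut K) n, key φ φ.2⟩
      map_one' := by
        apply Subtype.ext
        simp
      map_mul' := fun φ ψ => by
        apply Subtype.ext
        show n⁻¹ * ((φ : MulAut K) * (ψ : MulAut K)) n = n⁻¹ * (φ : MulAut K) n * (n⁻¹ * (ψ : MulAut K) n)
        have h1 : (φ : MulAut K) (n⁻¹ * (ψ : MulAut K) n) = n⁻¹ * (ψ : MulAut K) n :=
          hC φ φ.2 _ (key ψ ψ.2)
        have h2 : ((φ : MulAut K) * (ψ : MulAut K)) n = (φ : MulAut K) n * (n⁻¹ * (ψ : MulAut K) n) := by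
          rw [← h1, MulAut.mul_apply, ← map_mul]
          congr 1
          group
        rw [h2]
        group }
  -- the image is commutative
  have hcomm : ∀ a b : f.range, a * b = b * a := by
    rintro ⟨_, φ₁, rfl⟩ ⟨_, φ₂, rfl⟩
    apply Subtype.ext
    apply Subtype.ext
    show n⁻¹ * (φ₁ : MulAut K) n * (n⁻¹ * (φ₂ : MulAut K) n) = n⁻¹ * (φ₂ : MulAut K) n * (n⁻¹ * (φ₁ : MulAut K) n)
    set c₁ := n⁻¹ * (φ₁ : MulAut K) n with hc₁
    set c₂ := n⁻¹ * (φ₂ : MulAut K) n with hc₂
    have h1 := hC φ₂ φ₂.2 _ (hnC c₁ (key φ₁ φ₁.2))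
    have h3 : (φ₂ : MulAut K) c₁ = c₁ := hC φ₂ φ₂.2 _ (key φ₁ φ₁.2)
    have h4 : (φ₂ : MulAut K) n = n * c₂ := by rw [hc₂]; group
    rw [map_mul, map_mul, map_inv, h3, h4] at h1
    -- n c₂ c₁ (n c₂)⁻¹ = n c₁ n⁻¹
    have h5 : c₂ * c₁ * c₂⁻¹ = c₁ := by
      have h6 : n * c₂ * c₁ * (n * c₂)⁻¹ = n * (c₂ * c₁ * c₂⁻¹) * n⁻¹ := by group
      rw [h6] at h1
      have := mul_right_cancel h1
      exact mul_left_cancel this
    have h7 : c₂ * c₁ = c₁ * c₂ := by
      calc c₂ * c₁ = c₂ * c₁ * c₂⁻¹ * c₂ := by group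
        _ = c₁ * c₂ := by rw [h5]
    exact h7.symm
  have hsol : Group.IsSolvable f.range := by
    let _ : CommGroup f.range := { (inferInstance : Group f.range) with mul_comm := hcomm }
    infer_instance
  have h1 := hom_eq_one hD f.rangeRestrict ⟨φ, hφ⟩
  have h2 : n⁻¹ * φ n = 1 := congrArg (fun b : f.range => ((b : Subgroup.centralizer (X : Set K)) : K)) h1
  rw [inv_mul_eq_one] at h2
  exact h2.symm

/-- **T2'.** `K` finite simple nonabelian, `D` a perfect group of automorphisms fixing pointwise the 2-subgroup `X` and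
its centraliser.  Then `D` is trivial. -/
theorem eq_bot_of_tr_centralizer [Finite K] [IsSimpleGroup K] (hK : ¬ IsMulCommutative K)
    {D : Subgroup (MulAut K)} (hD : ⁅D, D⁆ = D) (X : Subgroup K) (h2 : IsPGroup 2 X) (hX : Tr D X)
    (hC : Tr D (Subgroup.centralizer (X : Set K))) : D = ⊥ := by
  -- choose a largest such `X`
  obtain ⟨Y, ⟨hY2, hYX, hYC⟩, hmax⟩ := Set.Finite.exists_maximalFor (fun Y : Subgroup K => Nat.card Y)
    {Y : Subgroup K | IsPGroup 2 Y ∧ Tr D Y ∧ Tr D (Subgroup.centralizer (Y : Set K))} (Set.toFinite _)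
    ⟨X, h2, hX, hC⟩
  have hN := tr_normalizer hD hYX hYC
  obtain ⟨P, hP⟩ := hY2.exists_le_sylow
  by_cases hYP : Y = (P : Subgroup K)
  · have h3 : D ≤ fixer (P : Subgroup K) := fun φ hφ t ht => hYX φ hφ t (hYP ▸ ht)
    have := Crit.isSolvable_fixer hK P
    exact eq_bot_of_perfect_of_solvable hD
      (Group.isSolvable_of_isSolvable_injective (Subgroup.inclusion_injective h3))
  · exfalso
    have hlt : Y.subgroupOf (P : Subgroup K) < ⊤ := by
      rw [lt_top_iff_ne_top]
      intro h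
      rw [Subgroup.subgroupOf_eq_top] at h
      exact hYP (le_antisymm hP h)
    have hnil : Group.IsNilpotent (P : Subgroup K) := P.2.isNilpotent
    have hnc := Group.normalizerCondition_of_isNilpotent (Y.subgroupOf (P : Subgroup K)) hlt
    -- `X₂ = N_P(Y)`
    obtain ⟨x, hx, hxY⟩ := SetLike.exists_of_lt hnc
    set Y₂ : Subgroup K := (P : Subgroup K) ⊓ Subgroup.normalizer (Y : Set K) with hY₂
    have hle : Y ≤ Y₂ := le_inf hP Subgroup.le_normalizer
    have hxN : (x : K) ∈ Subgroup.normalizer (Y : Set K) := by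
      rw [Subgroup.mem_normalizer_iff] at hx ⊢
      intro y
      constructor
      · intro hy
        exact Subgroup.mem_subgroupOf.1 ((hx ⟨y, hP hy⟩).1 (Subgroup.mem_subgroupOf.2 hy))
      · intro hy
        have hyP : y ∈ (P : Subgroup K) := by
          have h5 : (x : K) * y * (x : K)⁻¹ ∈ (P : Subgroup K) := hP hy
          have h6 := mul_mem (mul_mem (inv_mem x.2) h5) x.2
          have h7 : (x : K)⁻¹ * ((x : K) * y * (x : K)⁻¹) * (x : K) = y := by group
          rwa [h7] at h6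
        exact Subgroup.mem_subgroupOf.1 ((hx ⟨y, hyP⟩).2 (Subgroup.mem_subgroupOf.2 hy))
    have hlt2 : Y < Y₂ := by
      refine lt_of_le_of_ne hle fun h => hxY ?_
      rw [Subgroup.mem_subgroupOf, h]
      exact ⟨x.2, hxN⟩
    have hY₂mem : Y₂ ∈ {Y : Subgroup K | IsPGroup 2 Y ∧ Tr D Y ∧ Tr D (Subgroup.centralizer (Y : Set K))} := by
      refine ⟨P.2.to_le inf_le_left, hN.mono inf_le_right, hYC.mono ?_⟩
      exact Subgroup.centralizer_le hle
    have h8 := hmax hY₂mem (Subgroup.card_le_of_le hle)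
    have h9 : Y = Y₂ := Subgroup.eq_of_le_of_card_ge hle h8
    exact hlt2.ne h9

/-- The case of a single involution. -/
theorem eq_bot_of_tr_centralizer_singleton [Finite K] [IsSimpleGroup K] (hK : ¬ IsMulCommutative K)
    {D : Subgroup (MulAut K)} (hD : ⁅D, D⁆ = D) (t : K) (ht : t ^ 2 = 1)
    (hC : Tr D (Subgroup.centralizer {t})) : D = ⊥ := by
  have h1 : Subgroup.centralizer ((Subgroup.zpowers t : Subgroup K) : Set K) = Subgroup.centralizer {t} := by
    ext x
    rw [Subgroup.mem_centralizer_iff, Subgroup.mem_centralizer_singleton_iff]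
    constructor
    · intro h
      exact (h t (Subgroup.mem_zpowers t)).symm
    · intro h y hy
      obtain ⟨n, rfl⟩ := Subgroup.mem_zpowers_iff.1 hy
      exact ((show Commute x t from h).zpow_right n).symm
  refine eq_bot_of_tr_centralizer hK hD (Subgroup.zpowers t) ?_ ?_ (by rw [h1]; exact hC)
  · rw [IsPGroup.iff_card]
    have h2 : orderOf t ∣ 2 ^ 1 := orderOf_dvd_of_pow_eq_one (by simpa using ht)
    rw [Nat.card_zpowers]
    obtain ⟨n, -, hn⟩ := (Nat.dvd_prime_pow Nat.prime_two).1 h2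
    exact ⟨n, hn⟩
  · refine hC.mono ?_
    rw [Subgroup.zpowers_le, Subgroup.mem_centralizer_singleton_iff]

/-- Lifting of perfect subgroups along a homomorphism. -/
theorem exists_perfect_lift {A B : Type*} [Group A] [Finite A] [Group B] (f : A →* B) (N : Subgroup A)
    {D' : Subgroup B} (hD' : ⁅D', D'⁆ = D') (h : D' ≤ N.map f) :
    ∃ D : Subgroup A, D ≤ N ∧ ⁅D, D⁆ = D ∧ D.map f = D' := by
  obtain ⟨D, ⟨hDN, hDf⟩, hmin⟩ := Set.Finite.exists_minimalFor (fun Y : Subgroup A => Y)
    {Y : Subgroup A | Y ≤ N ∧ Y.map f = D'} (Set.toFinite _) ⟨N ⊓ D'.comap f, inf_le_left, by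
      apply le_antisymm
      · rintro _ ⟨x, hx, rfl⟩
        exact hx.2
      · intro y hy
        obtain ⟨x, hx, rfl⟩ := h hy
        exact ⟨x, ⟨hx, hy⟩, rfl⟩⟩
  refine ⟨D, hDN, ?_, hDf⟩
  have hle : ⁅D, D⁆ ≤ D := Subgroup.commutator_le_self D
  refine le_antisymm hle (hmin (j := ⁅D, D⁆) ⟨hle.trans hDN, ?_⟩ hle)
  rw [Subgroup.map_commutator, hDf, hD']

/-- **General reduction.** `S` a group of automorphisms such that every element of a perfect group of automorphisms is
in `Inn K · S`, and every perfect subgroup of `S` is inner. -/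
theorem sch_of_le_sup [Finite K] (S : Subgroup (MulAut K))
    (hst : ∀ C : Subgroup (MulAut K), ⁅C, C⁆ = C → ∀ φ ∈ C, ∃ k : K, MulAut.conj k * φ ∈ S)
    (h : ∀ D : Subgroup (MulAut K), ⁅D, D⁆ = D → D ≤ S → D ≤ (MulAut.conj : K →* MulAut K).range) : Sch K := by
  intro C hC
  have hI := conj_range_normal K
  set I : Subgroup (MulAut K) := (MulAut.conj : K →* MulAut K).range with hIdef
  have h1 : C.map (QuotientGroup.mk' I) ≤ S.map (QuotientGroup.mk' I) := by
    rintro _ ⟨c, hc, rfl⟩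
    obtain ⟨k, hk⟩ := hst C hC c hc
    refine ⟨_, hk, ?_⟩
    rw [map_mul]
    have : (QuotientGroup.mk' I) (MulAut.conj k) = 1 := by
      rw [QuotientGroup.mk'_apply, QuotientGroup.eq_one_iff]
      exact ⟨k, rfl⟩
    rw [this, one_mul]
  obtain ⟨D, hDS, hD, hDm⟩ := exists_perfect_lift (QuotientGroup.mk' I) S (map_perfect (QuotientGroup.mk' I) hC) h1
  have h2 : D ≤ I := h D hD hDS
  have h3 : D.map (QuotientGroup.mk' I) = ⊥ := by
    rw [Subgroup.map_eq_bot_iff, QuotientGroup.ker_mk']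
    exact h2
  rw [h3] at hDm
  have h4 : C.map (QuotientGroup.mk' I) = ⊥ := hDm.symm
  rw [Subgroup.map_eq_bot_iff, QuotientGroup.ker_mk'] at h4
  exact h4

/-- **Adjusting.** If every element of the perfect group `D` acts on `L` as conjugation by an element of the subgroup
`H`, then modulo inner automorphisms (by elements of `H`) `D` may be replaced by a perfect group fixing `L`
pointwise. -/
theorem exists_adjust [Finite K] {D : Subgroup (MulAut K)} (hD : ⁅D, D⁆ = D) (L H : Subgroup K)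
    (h : ∀ φ ∈ D, ∃ k ∈ H, ∀ x ∈ L, φ x = k * x * k⁻¹) :
    ∃ D₂ : Subgroup (MulAut K), ⁅D₂, D₂⁆ = D₂ ∧ D₂ ≤ D ⊔ H.map MulAut.conj ∧ Tr D₂ L ∧
      (D₂ ≤ (MulAut.conj : K →* MulAut K).range → D ≤ (MulAut.conj : K →* MulAut K).range) := by
  have hI := conj_range_normal K
  set I : Subgroup (MulAut K) := (MulAut.conj : K →* MulAut K).range with hIdef
  set N : Subgroup (MulAut K) := (D ⊔ H.map MulAut.conj) ⊓ fixer L with hN
  have h1 : D.map (QuotientGroup.mk' I) ≤ N.map (QuotientGroup.mk' I) := by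
    rintro _ ⟨c, hc, rfl⟩
    obtain ⟨k, hkH, hk⟩ := h c hc
    refine ⟨(MulAut.conj k)⁻¹ * c, Subgroup.mem_inf.2 ⟨?_, ?_⟩, ?_⟩
    · have h5 : MulAut.conj k ∈ D ⊔ H.map MulAut.conj := Subgroup.mem_sup_right ⟨k, hkH, rfl⟩
      exact mul_mem (inv_mem h5) (Subgroup.mem_sup_left hc)
    · intro x hx
      rw [MulAut.mul_apply, hk x hx, ← MulAut.conj_apply, MulAut.inv_apply_self]
    · rw [map_mul]
      have : (QuotientGroup.mk' I) (MulAut.conj k)⁻¹ = 1 := by
        rw [QuotientGroup.mk'_apply, QuotientGroup.eq_one_iff]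
        exact inv_mem (show MulAut.conj k ∈ I from ⟨k, rfl⟩)
      rw [this, one_mul]
  obtain ⟨D₂, hDS, hD₂, hDm⟩ := exists_perfect_lift (QuotientGroup.mk' I) N (map_perfect (QuotientGroup.mk' I) hD) h1
  refine ⟨D₂, hD₂, fun φ hφ => (hDS hφ).1, fun φ hφ x hx => (hDS hφ).2 x hx, fun h2 => ?_⟩
  have h3 : D₂.map (QuotientGroup.mk' I) = ⊥ := by
    rw [Subgroup.map_eq_bot_iff, QuotientGroup.ker_mk']
    exact h2
  rw [h3] at hDm
  have h4 : D.map (QuotientGroup.mk' I) = ⊥ := hDm.symm
  rw [Subgroup.map_eq_bot_iff, QuotientGroup.ker_mk'] at h4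
  exact h4

/-- The automorphisms fixing the element `t`. -/
def fixElt (t : K) : Subgroup (MulAut K) where
  carrier := {φ | φ t = t}
  one_mem' := rfl
  mul_mem' := fun {φ ψ} hφ hψ => by
    show (φ * ψ) t = t
    rw [MulAut.mul_apply, show ψ t = t from hψ, show φ t = t from hφ]
  inv_mem' := fun {φ} hφ => by
    show φ⁻¹ t = t
    have h1 : φ t = t := hφ
    calc φ⁻¹ t = φ⁻¹ (φ t) := by rw [h1]
      _ = t := MulAut.inv_apply_self _ φ t

theorem mem_fixElt {t : K} {φ : MulAut K} : φ ∈ fixElt t ↔ φ t = t := Iff.rfl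

/-- If `D` fixes `t` then `C_K(t)` is `D`-invariant. -/
theorem inv_centralizer_singleton {D : Subgroup (MulAut K)} {t : K} (h : D ≤ fixElt t) :
    Inv D (Subgroup.centralizer {t}) := by
  refine inv_iff.2 fun φ hφ c hc => ?_
  rw [Subgroup.mem_centralizer_singleton_iff] at hc ⊢
  have h1 := congrArg φ hc
  rwa [map_mul, map_mul, show φ t = t from h hφ] at h1

/-- **CRITERION A, general form.** `t` an element of order dividing 2 whose class is stable under perfect groups of
automorphisms; every perfect `D` fixing `t` is, modulo inner automorphisms, equal to a perfect group which fixes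
`C_K(t)` pointwise. -/
theorem sch_of_isConj [Finite K] [IsSimpleGroup K] (hK : ¬ IsMulCommutative K) (t : K) (ht : t ^ 2 = 1)
    (hst : ∀ C : Subgroup (MulAut K), ⁅C, C⁆ = C → ∀ φ ∈ C, IsConj t (φ t))
    (h : ∀ D : Subgroup (MulAut K), ⁅D, D⁆ = D → D ≤ fixElt t →
      ∃ D₂ : Subgroup (MulAut K), ⁅D₂, D₂⁆ = D₂ ∧ Tr D₂ (Subgroup.centralizer {t}) ∧
      (D₂ ≤ (MulAut.conj : K →* MulAut K).range → D ≤ (MulAut.conj : K →* MulAut K).range)) : Sch K := by
  refine sch_of_le_sup (fixElt t) ?_ ?_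
  · intro C hC φ hφ
    obtain ⟨k, hk⟩ := isConj_iff.1 (hst C hC φ hφ)
    refine ⟨k⁻¹, ?_⟩
    rw [mem_fixElt, MulAut.mul_apply, MulAut.conj_apply, ← hk]
    group
  · intro D hD hDt
    obtain ⟨D₂, hD₂, hC, himp⟩ := h D hD hDt
    apply himp
    rw [eq_bot_of_tr_centralizer_singleton hK hD₂ t ht hC]
    exact bot_le

/-- **CRITERION A**: as above, with the hypothesis that the perfect groups fixing `t` act by inner automorphisms on
`C_K(t)`. -/
theorem sch_of_inner [Finite K] [IsSimpleGroup K] (hK : ¬ IsMulCommutative K) (t : K) (ht : t ^ 2 = 1)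
    (hst : ∀ C : Subgroup (MulAut K), ⁅C, C⁆ = C → ∀ φ ∈ C, IsConj t (φ t))
    (h : ∀ D : Subgroup (MulAut K), ⁅D, D⁆ = D → D ≤ fixElt t →
      ∀ φ ∈ D, ∃ k : K, ∀ x ∈ Subgroup.centralizer {t}, φ x = k * x * k⁻¹) : Sch K := by
  refine sch_of_isConj hK t ht hst fun D hD hDt => ?_
  obtain ⟨D₂, h1, -, h2, h3⟩ := exists_adjust hD (Subgroup.centralizer {t}) ⊤
    (fun φ hφ => by
      obtain ⟨k, hk⟩ := h D hD hDt φ hφ
      exact ⟨k, Subgroup.mem_top k, hk⟩)
  exact ⟨D₂, h1, h2, h3⟩

/-- A perfect group permutes trivially at most four classes: stability of the class of `t` when the elements that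
satisfy an `Aut`-invariant property containing `t` fall into at most four conjugacy classes. -/
theorem isConj_of_ncard_le_four {D : Subgroup (MulAut K)} (hD : ⁅D, D⁆ = D) (S : Set (ConjClasses K))
    (hfin : S.Finite) (hcard : S.ncard ≤ 4)
    (hS : ∀ φ ∈ D, ∀ x : K, ConjClasses.mk x ∈ S → ConjClasses.mk (φ x) ∈ S) {t : K} (ht : ConjClasses.mk t ∈ S)
    {φ : MulAut K} (hφ : φ ∈ D) : IsConj t (φ t) := by
  have : Finite S := hfin
  have hmem : ∀ φ ∈ D, ∀ c ∈ S, ConjClasses.map φ.toMonoidHom c ∈ S := by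
    intro φ hφ c hc
    obtain ⟨x, rfl⟩ := ConjClasses.mk_surjective c
    exact hS φ hφ x hc
  let f : D →* Equiv.Perm S :=
    { toFun := fun φ =>
        { toFun := fun B => ⟨ConjClasses.map (φ : MulAut K).toMonoidHom B, hmem φ φ.2 B B.2⟩
          invFun := fun B => ⟨ConjClasses.map ((φ : MulAut K)⁻¹).toMonoidHom B,
            hmem (φ : MulAut K)⁻¹ (inv_mem φ.2) B B.2⟩
          left_inv := fun B => by
            obtain ⟨c, hc⟩ := B
            obtain ⟨x, rfl⟩ := ConjClasses.mk_surjective c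
            exact Subtype.ext (congrArg ConjClasses.mk (MulAut.inv_apply_self _ (φ : MulAut K) x))
          right_inv := fun B => by
            obtain ⟨c, hc⟩ := B
            obtain ⟨x, rfl⟩ := ConjClasses.mk_surjective c
            exact Subtype.ext (congrArg ConjClasses.mk (MulAut.apply_inv_self _ (φ : MulAut K) x)) }
      map_one' := by
        apply Equiv.ext
        rintro ⟨c, hc⟩
        obtain ⟨x, rfl⟩ := ConjClasses.mk_surjective c
        rfl
      map_mul' := fun φ ψ => by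
        apply Equiv.ext
        rintro ⟨c, hc⟩
        obtain ⟨x, rfl⟩ := ConjClasses.mk_surjective c
        rfl }
  have h1 := perm_eq_one hD (α := S) hcard f ⟨φ, hφ⟩ ⟨ConjClasses.mk t, ht⟩
  have h2 : ConjClasses.mk (φ t) = ConjClasses.mk t := congrArg Subtype.val h1
  exact (ConjClasses.mk_eq_mk_iff_isConj.1 h2).symm

/-- The involution classes with the same centraliser order as `t` are at most four: the class of `t` is stable. -/
theorem isConj_of_card_centralizer [Finite K] {D : Subgroup (MulAut K)} (hD : ⁅D, D⁆ = D) {t : K} (ht : orderOf t = 2)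
    (S : Set (ConjClasses K)) (hcard : S.ncard ≤ 4)
    (hS : ∀ x : K, orderOf x = 2 →
      Nat.card (Subgroup.centralizer {x} : Subgroup K) = Nat.card (Subgroup.centralizer {t} : Subgroup K) →
      ConjClasses.mk x ∈ S)
    {φ : MulAut K} (hφ : φ ∈ D) : IsConj t (φ t) := by
  classical
  set S' : Set (ConjClasses K) := {c | ∃ x : K, ConjClasses.mk x = c ∧ orderOf x = 2 ∧
    Nat.card (Subgroup.centralizer {x} : Subgroup K) = Nat.card (Subgroup.centralizer {t} : Subgroup K)} with hS'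
  have hsub : S' ⊆ S := by
    rintro _ ⟨x, rfl, hx, hx2⟩
    exact hS x hx hx2
  have hcen : ∀ (φ : MulAut K) (x : K), Nat.card (Subgroup.centralizer {φ x} : Subgroup K) =
      Nat.card (Subgroup.centralizer {x} : Subgroup K) := by
    intro φ x
    have h1 : (Subgroup.centralizer {x} : Subgroup K).map φ.toMonoidHom = Subgroup.centralizer {φ x} := by
      ext y
      constructor
      · rintro ⟨z, hz, rfl⟩
        rw [SetLike.mem_coe, Subgroup.mem_centralizer_singleton_iff] at hz
        rw [Subgroup.mem_centralizer_singleton_iff]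
        show φ z * φ x = φ x * φ z
        rw [← map_mul, hz, map_mul]
      · intro hy
        rw [Subgroup.mem_centralizer_singleton_iff] at hy
        refine ⟨φ⁻¹ y, ?_, MulAut.apply_inv_self _ φ y⟩
        rw [SetLike.mem_coe, Subgroup.mem_centralizer_singleton_iff]
        apply φ.injective
        rw [map_mul, map_mul, MulAut.apply_inv_self, hy]
    rw [← h1]
    exact Nat.card_congr ((Subgroup.centralizer {x} : Subgroup K).equivMapOfInjective φ.toMonoidHom
      φ.injective).symm.toEquiv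
  refine isConj_of_ncard_le_four hD S' (Set.toFinite _) ((Set.ncard_le_ncard hsub (Set.toFinite _)).trans hcard)
    ?_ ⟨t, rfl, ht, rfl⟩ hφ
  rintro φ - x ⟨y, hy, hy2, hy3⟩
  have hc : IsConj y x := ConjClasses.mk_eq_mk_iff_isConj.1 hy
  obtain ⟨k, hk⟩ := isConj_iff.1 hc
  refine ⟨φ y, ?_, ?_, ?_⟩
  · rw [ConjClasses.mk_eq_mk_iff_isConj, isConj_iff]
    exact ⟨φ k, by rw [← hk]; simp⟩
  · rw [← hy2]
    exact orderOf_injective φ.toMonoidHom φ.injective y
  · rw [hcen, hy3]

end Cfsg.Agent.Schreier.CritInvolution
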