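import Cfsg.Agent.Schreier.CentExt
import Cfsg.Agent.Schreier.CritInvolution
import Cfsg.Agent.SporRec.LyType
import Cfsg.Agent.SporRec.LyFiveCov
import Cfsg.Agent.StandardComponent.AltAut
import Cfsg.Agent.S0454

/-!
# The Schreier property of the Lyons group
-/

set_option autoImplicit false

namespace Cfsg.Agent.Schreier.Ly

open Cfsg.Agent.Schreier.Basic Cfsg.Agent.Schreier.Tools Cfsg.Agent.Schreier.CentExt
  Cfsg.Agent.Schreier.CritInvolution Cfsg.Agent.SporRec.TwoAn Cfsg.Agent.SporRec.LyType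

/-- Perfect groups of automorphisms of `A_n` are inner (`n ≥ 7`). -/
theorem sch_alternating (n : ℕ) (hn : 7 ≤ n) : Sch (alternatingGroup (Fin n)) := by
  obtain ⟨ψ, hψ⟩ := Cfsg.Agent.StandardComponent.AltAut.exists_autHom n hn
  intro D hD φ hφ
  have h1 : (Equiv.Perm.sign.comp ψ) φ = 1 := apply_eq_one_of_perfect _ hD hφ
  refine ⟨⟨ψ φ, Equiv.Perm.mem_alternatingGroup.2 h1⟩, ?_⟩
  ext x
  rw [MulAut.conj_apply, hψ]
  rfl

section cover

variable {n : ℕ} {C : Type*} [Group C] (K : Cover (Fin n) C)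

include K in
/-- A double cover of `A_n`, `n ≥ 7`, has the Schreier property. -/
theorem sch_cover (hn : 7 ≤ n) : Sch C := by
  have h4 : 4 ≤ Fintype.card (Fin n) := by rw [Fintype.card_fin]; omega
  have h5 : 5 ≤ Fintype.card (Fin n) := by rw [Fintype.card_fin]; omega
  have hN : (Cfsg.Agent.SporRec.LyFiveCov.proj K).ker = Subgroup.center C := by
    ext g
    rw [K.mem_center_iff h4, MonoidHom.mem_ker, ← K.ker]
    constructor
    · intro h
      exact congrArg Subtype.val h
    · intro h
      exact Subtype.ext h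
  refine sch_of_quotient (Cfsg.Agent.SporRec.LyFiveCov.proj K).ker ?_ (le_of_eq hN)
    (Cfsg.Agent.SporRec.LyFiveCov.commutator_eq_top K h5) ?_
  · intro φ
    rw [hN]
    ext x
    constructor
    · rintro ⟨y, hy, rfl⟩
      rw [SetLike.mem_coe, Subgroup.mem_center_iff] at hy
      rw [Subgroup.mem_center_iff]
      intro g
      have h1 := congrArg φ (hy (φ⁻¹ g))
      rw [map_mul, map_mul, MulAut.apply_inv_self] at h1
      exact h1
    · intro hx
      refine ⟨φ⁻¹ x, ?_, MulAut.apply_inv_self _ φ x⟩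
      rw [SetLike.mem_coe, Subgroup.mem_center_iff]
      intro g
      apply φ.injective
      rw [map_mul, map_mul, MulAut.apply_inv_self]
      exact Subgroup.mem_center_iff.1 hx (φ g)
  · exact Sch.of_equiv
      (QuotientGroup.quotientKerEquivOfSurjective _ (Cfsg.Agent.SporRec.LyFiveCov.proj_surjective K)).symm
      (sch_alternating n hn)

end cover

/-- A finite simple group of Lyons type has the Schreier property. -/
theorem sch_lyType {G : Type*} [Group G] [Finite G] [IsSimpleGroup G] (hG : ¬ IsMulCommutative G) (L : LyType G) :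
    Sch G := by
  refine sch_of_inner hG L.t (by rw [pow_two, L.t_mul_t]) ?_ ?_
  · intro D hD φ hφ
    obtain ⟨g, hg⟩ := L.one (φ L.t) (by rw [← map_mul, L.t_mul_t, map_one])
      (fun h => L.t_ne (φ.injective (h.trans (map_one φ).symm)))
    exact isConj_iff.2 ⟨g, hg⟩
  · intro D hD hDt φ hφ
    have hE : Inv D (Subgroup.centralizer {L.t}) := inv_centralizer_singleton hDt
    have hperf : ⁅hE.res.range, hE.res.range⁆ = hE.res.range := by
      rw [MonoidHom.range_eq_map]
      exact map_perfect _ (top_perfect hD)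
    obtain ⟨c, hc⟩ := sch_cover L.K (by norm_num) _ hperf ⟨⟨φ, hφ⟩, rfl⟩
    refine ⟨c, fun x hx => ?_⟩
    have h1 := congrArg (fun χ : MulAut (Subgroup.centralizer ({L.t} : Set G)) =>
      ((χ ⟨x, hx⟩ : Subgroup.centralizer ({L.t} : Set G)) : G)) hc
    exact h1.symm

open Subgroup in
/-- The double cover from Carmichael elements. -/
theorem cover_of_carmichael {G : Type*} [Group G] [Finite G] (t : G) (ht : orderOf t = 2)
    (hle : Nat.card (centralizer ({t} : Set G)) ≤ 39916800) (x : Fin 9 → G)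
    (hxc : ∀ i, x i * t = t * x i)
    (h3 : ∀ i, x i ^ 3 = 1 ∨ x i ^ 3 = t)
    (h2 : ∀ i j, i ≠ j → (x i * x j) ^ 2 = 1 ∨ (x i * x j) ^ 2 = t)
    (hx : x 0 ≠ 1 ∧ x 0 ≠ t) (g : G) (hg : g ^ 2 = t) :
    Cfsg.IsNonsplitDoubleCover (centralizer ({t} : Set G)) (alternatingGroup (Fin 11)) := by
  let C := centralizer ({t} : Set G)
  have hmem : ∀ y : G, y * t = t * y → y ∈ C := fun y hy => mem_centralizer_singleton_iff.mpr hy
  let t' : C := ⟨t, hmem t rfl⟩
  let x' : Fin 9 → C := fun i => ⟨x i, hmem _ (hxc i)⟩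
  let g' : C := ⟨g, hmem _ (by rw [← hg, ← pow_succ, ← pow_succ'])⟩
  refine (Cfsg.Agent.Ly.DoubleCover.doubleCover_of_carmichael (C := C) t' ?_ ?_ hle x' ?_ ?_ ?_ g' ?_).2
  · rw [← ht, ← orderOf_coe]
  · intro y
    apply Subtype.ext
    exact mem_centralizer_singleton_iff.mp y.2
  · intro i
    rcases h3 i with h | h
    · left; exact Subtype.ext h
    · right; exact Subtype.ext h
  · intro i j hij
    rcases h2 i j hij with h | h
    · left; exact Subtype.ext h
    · right; exact Subtype.ext h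
  · exact ⟨fun h => hx.1 (congrArg Subtype.val h), fun h => hx.2 (congrArg Subtype.val h)⟩
  · exact Subtype.ext hg

open Cfsg.Agent.Ly.Pres Cfsg.Agent.Ly.Rep111 Cfsg.Agent.Ly.Carm Cfsg.Agent.Ly.CarmData Cfsg.Agent.Ly.Final Subgroup in
/-- The involution centraliser of the presented Lyons group. -/
theorem isNonsplitDoubleCover :
    Cfsg.IsNonsplitDoubleCover (centralizer ({gens 0 ^ 4} : Set Cfsg.Spor.Ly)) (alternatingGroup (Fin 11)) := by
  have := Cfsg.Agent.Ly.Setup.finite_ly
  have hs : IsSimpleGroup Cfsg.Spor.Ly := Cfsg.Agent.Ly.Setup.isSimple_ly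
  refine cover_of_carmichael (gens 0 ^ 4) (tw_order hs)
    (Cfsg.Agent.Ly.Setup.card_centralizer_le Cfsg.Agent.S0454.card_centralizer_t) (fun i => el (ws i))
    ?_ ?_ ?_ ?_ (gens 0 ^ 2) ?_
  · intro i
    rw [← el_tw]
    apply el_inj hs
    simp only [map_mul, rho_el]
    exact comm i
  · intro i
    right
    rw [← el_tw]
    apply el_inj hs
    simp only [map_pow, rho_el]
    exact cube i
  · intro i j hij
    right
    rw [← el_tw]
    apply el_inj hs
    simp only [map_pow, map_mul, rho_el]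
    exact pair hij
  · rw [← el_tw]
    constructor
    · intro h
      apply x0_ne_one
      rw [← rho_el]
      show rho (el (ws 0)) = 1
      have h' : el (ws 0) = 1 := h
      rw [h', map_one]
    · intro h
      apply x0_ne_t
      rw [← rho_el, ← rho_el]
      exact congrArg rho h
  · rw [← pow_mul]

theorem not_commutative : ¬ IsMulCommutative Cfsg.Spor.Ly := by
  intro h
  have := Cfsg.Agent.Ly.Setup.finite_ly
  have := Cfsg.Agent.Ly.Setup.isSimple_ly
  let _ : CommGroup Cfsg.Spor.Ly := { (inferInstance : Group Cfsg.Spor.Ly) with mul_comm := h.is_comm.comm }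
  have h1 : (Nat.card Cfsg.Spor.Ly).Prime := IsSimpleGroup.prime_card
  rw [Cfsg.Agent.Ly.Setup.card_ly] at h1
  exact absurd h1 (by norm_num)

/-- The Schreier property of the Lyons group. -/
theorem sch : Sch Cfsg.Spor.Ly := by
  have := Cfsg.Agent.Ly.Setup.finite_ly
  have := Cfsg.Agent.Ly.Setup.isSimple_ly
  obtain ⟨L, -⟩ := exists_lyType (Cfsg.Agent.Ly.Pres.gens 0 ^ 4)
    (Cfsg.Agent.Ly.Final.tw_order inferInstance) isNonsplitDoubleCover
  exact sch_lyType not_commutative L

end Cfsg.Agent.Schreier.Ly
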