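import Mathlib
import Cfsg.Agent.S0364
import Cfsg.Agent.SporadicStructure.M24El

/-!
# A Sylow 2-subgroup of `M24` (type `UT5(2)`)

`T = sub gl 10` is generated by ten involutions `x15, x14, x25, x13, x24, x35, t1, t2, t3, t4`; it has order `2 ^ 10`;
`T' ≤ sub gl 6`, `[T', T] ≤ sub gl 3`.
-/

set_option autoImplicit false

namespace Cfsg.Agent.Schreier.MTwentyFourSyl

open Cfsg Cfsg.Agent.SporadicA.GolayBase Cfsg.Agent.SporadicA.GolayPerm
open Cfsg.Agent.SporadicStructure.M24El
open scoped Pointwise commutatorElement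

/-- the ten involutions -/
def gl : List ℕ := [
  475973014991519506389066485154253216,
  437030715517254051630524240244214240,
  475933736082641786795943807898714146,
  795260266457709899180660817553391874,
  436540147230951939176011557187458086,
  187309885641804323596531657235208581,
  509231865014664535232207749534816389,
  794632782776133302375160867790627889,
  976853385526715847046160301565378594,
  802421224427592736828224465130636521]
/-- normal series certificate -/
def cc : List (List (List ℕ)) := [[], [[0]], [[0], [1]], [[0], [1], [2]], [[0], [1], [2], [3]], [[0], [1], [2], [0, 3], [4]], [[0], [1], [0, 2], [3], [1, 4], [5]], [[0], [1], [2], [3], [4], [2, 5], [3, 6]], [[0], [1], [2], [1, 3], [4], [5], [6], [4, 7]], [[0], [0, 1], [2], [3], [2, 4], [5], [6], [7], [5, 8]]]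
/-- commutators in `sub gl 6` -/
def c6 : List (List (List ℕ)) := [[[], [], [], [], [], [], [], [], [], []], [[], [], [], [], [], [], [], [], [], [0]], [[], [], [], [], [], [], [0], [], [], []], [[], [], [], [], [], [0], [], [], [1], []], [[], [], [], [], [], [], [1], [], [], [2]], [[], [], [], [0], [], [], [], [2], [], []], [[], [], [0], [], [1], [], [], [3], [], []], [[], [], [], [], [], [2], [3], [], [4], []], [[], [], [], [1], [], [], [], [4], [], [5]], [[], [0], [], [], [2], [], [], [], [5], []]]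
/-- commutators in `sub gl 3` -/
def c3 : List (List (List ℕ)) := [[[], [], [], [], [], [], [], [], [], []], [[], [], [], [], [], [], [], [], [], [0]], [[], [], [], [], [], [], [0], [], [], []], [[], [], [], [], [], [0], [], [], [1], []], [[], [], [], [], [], [], [1], [], [], [2]], [[], [], [], [0], [], [], [], [2], [], []]]
/-- masks and words of elements moving them -/
def ch : List (ℕ × List ℕ) := [(101, [7]), (5, [4]), (1, [2]), (307594, [2, 4, 6]), (45058, [2, 3]), (8194, [1]), (2, [0]), (262152, [2, 8]), (8, [0, 1, 2, 4, 5]), (16, [0, 1, 2, 3, 4, 5, 7, 9])]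

theorem gl_ok : ∀ P ∈ gl, ok P = true := by decide +kernel

theorem cert_ok : ∀ k < 10, cert gl cc k = true := by decide +kernel

/-- the `i`-th involution -/
noncomputable def g (i : ℕ) : M24 := el (gl.getD i idP)

theorem g_mem {i k : ℕ} (h : i < k) : g i ∈ sub gl k := mem_sub h

/-- The Boolean check `g_i g_j = w g_j g_i`, `w` a word in the first `k` involutions. -/
def chk (k i j : ℕ) (w : List ℕ) : Bool :=
  (w.all fun a => Nat.blt a k) &&
    Nat.beq (pcomp (gl.getD i idP) (gl.getD j idP))
      (pcomp (prodW gl w) (pcomp (gl.getD j idP) (gl.getD i idP)))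

theorem comm_mem_of_chk {k i j : ℕ} {w : List ℕ} (h : chk k i j w = true) : ⁅g i, g j⁆ ∈ sub gl k := by
  unfold chk at h
  rw [Bool.and_eq_true] at h
  have h1 := congrArg el (Nat.eq_of_beq_eq_true h.2)
  rw [el_pcomp (ok_getD gl_ok i) (ok_getD gl_ok j),
    el_pcomp (ok_prodW gl_ok _) (ok_pcomp (ok_getD gl_ok j) (ok_getD gl_ok i)),
    el_pcomp (ok_getD gl_ok j) (ok_getD gl_ok i)] at h1
  have h2 : ⁅g i, g j⁆ = el (prodW gl w) := by
    rw [commutatorElement_def]
    show el (gl.getD i idP) * el (gl.getD j idP) * (el (gl.getD i idP))⁻¹ * (el (gl.getD j idP))⁻¹ = _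
    rw [h1]
    group
  rw [h2]
  apply el_prodW_mem gl_ok
  intro a ha
  exact mem_sub (Nat.blt_eq.mp (List.all_eq_true.1 h.1 a ha))

theorem chk6 : ∀ i < 10, ∀ j < 10, chk 6 i j ((c6.getD i []).getD j []) = true := by decide +kernel

theorem chk3 : ∀ i < 6, ∀ j < 10, chk 3 i j ((c3.getD i []).getD j []) = true := by decide +kernel

/-- Commuting of two of the involutions. -/
theorem comm_of_beq {i j : ℕ} (h : Nat.beq (pcomp (gl.getD i idP) (gl.getD j idP))
    (pcomp (gl.getD j idP) (gl.getD i idP)) = true) : g i * g j = g j * g i := by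
  have h1 := congrArg el (Nat.eq_of_beq_eq_true h)
  rwa [el_pcomp (ok_getD gl_ok i) (ok_getD gl_ok j), el_pcomp (ok_getD gl_ok j) (ok_getD gl_ok i)] at h1

theorem comm3 : ∀ i < 10, i ≠ 6 → i ≠ 9 → ∀ j < 3, g i * g j = g j * g i := by
  intro i hi h6 h9 j hj
  apply comm_of_beq
  revert j
  revert i
  decide +kernel

theorem sq (i : ℕ) (hi : i < 10) : g i * g i = 1 := by
  have h := cert_ok i hi
  unfold cert at h
  rw [Bool.and_eq_true] at h
  show el (gl.getD i idP) * el (gl.getD i idP) = 1
  rw [← el_pcomp (ok_getD gl_ok i) (ok_getD gl_ok i), Nat.eq_of_beq_eq_true h.1, el_idP]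

/-- An equation `g_i g_j g_i⁻¹ g_j⁻¹ = g_k` from a check. -/
theorem comm_eq {i j k : ℕ} (h : Nat.beq (pcomp (gl.getD i idP) (gl.getD j idP))
    (pcomp (gl.getD k idP) (pcomp (gl.getD j idP) (gl.getD i idP))) = true) : ⁅g i, g j⁆ = g k := by
  have h1 := congrArg el (Nat.eq_of_beq_eq_true h)
  rw [el_pcomp (ok_getD gl_ok i) (ok_getD gl_ok j),
    el_pcomp (ok_getD gl_ok k) (ok_pcomp (ok_getD gl_ok j) (ok_getD gl_ok i)),
    el_pcomp (ok_getD gl_ok j) (ok_getD gl_ok i)] at h1
  rw [commutatorElement_def]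
  show el (gl.getD i idP) * el (gl.getD j idP) * (el (gl.getD i idP))⁻¹ * (el (gl.getD j idP))⁻¹ =
    el (gl.getD k idP)
  rw [h1]
  group

theorem e13 : ⁅g 6, g 7⁆ = g 3 := comm_eq (by decide +kernel)
theorem e24 : ⁅g 7, g 8⁆ = g 4 := comm_eq (by decide +kernel)
theorem e35 : ⁅g 8, g 9⁆ = g 5 := comm_eq (by decide +kernel)
theorem e14 : ⁅g 3, g 8⁆ = g 1 := comm_eq (by decide +kernel)
theorem e25 : ⁅g 4, g 9⁆ = g 2 := comm_eq (by decide +kernel)
theorem e15 : ⁅g 1, g 9⁆ = g 0 := comm_eq (by decide +kernel)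
theorem e15' : ⁅g 6, g 2⁆ = g 0 := comm_eq (by decide +kernel)
theorem e16 : g 6 * g 1 = g 1 * g 6 := comm_of_beq (by decide +kernel)

theorem g0_ne : g 0 ≠ 1 := by
  intro h
  have h1 : g 0 • fin 2 = fin 2 := by rw [h, one_smul]
  have h2 : g 0 • fin 2 = fin (pimg (gl.getD 0 idP) 2) := el_smul_fin (ok_getD gl_ok 0) 2
  rw [h2] at h1
  have h3 := fin_injective (by decide +kernel) (by norm_num) h1
  revert h3
  decide +kernel

/-! ### The order -/

theorem two_pow_le_card {G X : Type*} [Group G] [Finite G] [MulAction G X] (l : List (X × G)) :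
    ∀ T : Subgroup G, (∀ p ∈ l, p.2 ∈ T) → (∀ p ∈ l, p.2 • p.1 ≠ p.1) →
      l.Pairwise (fun p q => q.2 • p.1 = p.1) → 2 ^ l.length ≤ Nat.card T := by
  induction l with
  | nil =>
    intro T _ _ _
    rw [List.length_nil, pow_zero]
    exact Nat.card_pos
  | cons p l ih =>
    intro T hT hne hpw
    rw [List.pairwise_cons] at hpw
    set T' : Subgroup G := T ⊓ MulAction.stabilizer G p.1 with hT'
    have h1 := ih T' (fun q hq => ⟨hT q (List.mem_cons_of_mem _ hq), MulAction.mem_stabilizer_iff.2 (hpw.1 q hq)⟩)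
      (fun q hq => hne q (List.mem_cons_of_mem _ hq)) hpw.2
    have hle : T' ≤ T := inf_le_left
    have hlt : T'.relIndex T ≠ 1 := by
      rw [Ne, Subgroup.relIndex_eq_one]
      intro h
      exact hne p List.mem_cons_self (MulAction.mem_stabilizer_iff.1 (h (hT p List.mem_cons_self)).2)
    have h3 : T'.relIndex T ≠ 0 := by
      show Nat.card _ ≠ 0
      exact Nat.card_pos.ne'
    have h4 : T'.relIndex T * Nat.card T' = Nat.card T := by
      rw [mul_comm]
      have h5 : Nat.card (T'.subgroupOf T) = Nat.card T' :=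
        Nat.card_congr (Subgroup.subgroupOfEquivOfLe hle).toEquiv
      rw [← h5]
      exact (T'.subgroupOf T).card_mul_index
    rw [List.length_cons, pow_succ']
    calc 2 * 2 ^ l.length ≤ T'.relIndex T * Nat.card T' := Nat.mul_le_mul (by omega) h1
      _ = Nat.card T := h4

def chkMove (p : ℕ × List ℕ) : Bool :=
  Nat.blt p.1 16777216 && Nat.blt (pimg (prodW gl p.2) p.1) 16777216 &&
    !(Nat.beq (pimg (prodW gl p.2) p.1) p.1) && (p.2.all fun a => Nat.blt a 10)

def chkFix : List (ℕ × List ℕ) → Bool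
  | [] => true
  | p :: l => (l.all fun q => Nat.beq (pimg (prodW gl q.2) p.1) p.1) && chkFix l

theorem chkMove_ok : ∀ p ∈ ch, chkMove p = true := by decide +kernel

theorem chkFix_ok : chkFix ch = true := by decide +kernel

theorem pairwise_of_chkFix {l : List (ℕ × List ℕ)} (h : chkFix l = true) :
    l.Pairwise (fun p q => pimg (prodW gl q.2) p.1 = p.1) := by
  induction l with
  | nil => exact List.Pairwise.nil
  | cons p l ih =>
    unfold chkFix at h
    rw [Bool.and_eq_true] at h
    refine List.pairwise_cons.2 ⟨fun q hq => ?_, ih h.2⟩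
    exact Nat.eq_of_beq_eq_true (List.all_eq_true.1 h.1 q hq)

theorem le_card : 2 ^ 10 ≤ Nat.card (sub gl 10) := by
  have h := two_pow_le_card (G := M24) (X := Finset GolayPt)
    (ch.map fun p => (fin p.1, el (prodW gl p.2))) (sub gl 10) ?_ ?_ ?_
  · rw [List.length_map] at h
    exact h
  · intro p hp
    obtain ⟨q, hq, rfl⟩ := List.mem_map.1 hp
    have h1 := chkMove_ok q hq
    unfold chkMove at h1
    rw [Bool.and_eq_true] at h1
    apply el_prodW_mem gl_ok
    intro a ha
    exact mem_sub (Nat.blt_eq.mp (List.all_eq_true.1 h1.2 a ha))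
  · intro p hp
    obtain ⟨q, hq, rfl⟩ := List.mem_map.1 hp
    have h1 := chkMove_ok q hq
    unfold chkMove at h1
    rw [Bool.and_eq_true, Bool.and_eq_true, Bool.and_eq_true] at h1
    obtain ⟨⟨⟨h2, h3⟩, h4⟩, -⟩ := h1
    show el (prodW gl q.2) • fin q.1 ≠ fin q.1
    rw [el_smul_fin (ok_prodW gl_ok _)]
    intro h5
    have h6 := fin_injective (Nat.blt_eq.mp h3) (Nat.blt_eq.mp h2) h5
    rw [h6] at h4
    simp at h4
  · rw [List.pairwise_map]
    refine (pairwise_of_chkFix chkFix_ok).imp ?_
    intro p q h1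
    show el (prodW gl q.2) • fin p.1 = fin p.1
    rw [el_smul_fin (ok_prodW gl_ok _), h1]

theorem isPGroup_T : IsPGroup 2 (sub gl 10) := isPGroup_sub gl_ok cc 10 cert_ok

theorem card_T : Nat.card (sub gl 10) = 2 ^ 10 := by
  obtain ⟨n, hn⟩ := isPGroup_T.exists_card_eq
  have h1 : Nat.card (sub gl 10) ∣ Nat.card M24 := Subgroup.card_subgroup_dvd_card _
  rw [hn, Cfsg.Agent.S0364.result] at h1
  have h2 := le_card
  rw [hn] at h2
  have h3 : 10 ≤ n := (Nat.pow_le_pow_iff_right (by norm_num)).1 h2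
  have h4 : n < 11 := by
    by_contra hcon
    push Not at hcon
    have h5 : 2 ^ 11 ∣ 244823040 := (pow_dvd_pow 2 hcon).trans h1
    revert h5
    norm_num
  have h5 : n = 10 := by omega
  rw [hn, h5]

/-- The Sylow 2-subgroup. -/
noncomputable def T : Sylow 2 M24 := Sylow.ofCard (sub gl 10) (by
  rw [card_T, Cfsg.Agent.S0364.result]
  congr 1
  rw [show 244823040 = 2 ^ 10 * 239085 from rfl]
  rw [Nat.factorization_mul (by norm_num) (by norm_num), Nat.factorization_pow]
  simp [Nat.Prime.factorization Nat.prime_two]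
  rw [Nat.factorization_eq_zero_of_not_dvd (by norm_num)])

theorem coe_T : (T : Subgroup M24) = sub gl 10 := rfl

end Cfsg.Agent.Schreier.MTwentyFourSyl
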