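import Mathlib
import Cfsg.Agent.Schreier.LowerCrit
import Cfsg.Agent.Schreier.MTwentyFourSyl

/-!
# Perfect groups of automorphisms of `M24` normalising a Sylow 2-subgroup centralise it
-/

set_option autoImplicit false

namespace Cfsg.Agent.Schreier.MTwentyFourTr

open Cfsg Cfsg.Agent.Schreier.Basic Cfsg.Agent.Schreier.Tools Cfsg.Agent.Schreier.LowerCrit
open Cfsg.Agent.SporadicStructure.M24El Cfsg.Agent.Schreier.MTwentyFourSyl
open scoped commutatorElement

theorem mem_T {i : ℕ} (hi : i < 10) : g i ∈ sub gl 10 := g_mem hi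

theorem comm_mem_sub {i j k : ℕ} (hi : i < 10) (hj : j < 10) (hk : j < k) (h : ⁅g i, g j⁆ ∈ sub gl k) :
    g i * g j * (g i)⁻¹ ∈ sub gl k := by
  have e : g i * g j * (g i)⁻¹ = ⁅g i, g j⁆ * g j := by rw [commutatorElement_def]; group
  rw [e]
  exact mul_mem h (g_mem hk)

theorem le_normalizer {k : ℕ} (h : ∀ i < 10, ∀ j < k, g i * g j * (g i)⁻¹ ∈ sub gl k) :
    sub gl 10 ≤ Subgroup.normalizer (sub gl k : Set M24) := by
  unfold sub
  rw [Subgroup.closure_le]
  rintro _ ⟨i, hi, rfl⟩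
  apply Subgroup.mem_normalizer_fintype
  intro x hx
  have h4 : (sub gl k).map (MulAut.conj (g i)).toMonoidHom ≤ sub gl k := by
    unfold sub
    rw [MonoidHom.map_closure, Subgroup.closure_le]
    rintro _ ⟨_, ⟨j, hj, rfl⟩, rfl⟩
    exact h i hi j hj
  exact h4 (Subgroup.mem_map_of_mem _ hx)

theorem sub_mono {j k : ℕ} (h : j ≤ k) : sub gl j ≤ sub gl k := by
  unfold sub
  apply Subgroup.closure_mono
  rintro _ ⟨i, hi, rfl⟩
  exact ⟨i, by omega, rfl⟩

theorem norm6 : sub gl 10 ≤ Subgroup.normalizer (sub gl 6 : Set M24) :=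
  le_normalizer fun i hi j hj => comm_mem_sub hi (by omega) hj
    (comm_mem_of_chk (chk6 i hi j (by omega)))

theorem norm3 : sub gl 10 ≤ Subgroup.normalizer (sub gl 3 : Set M24) :=
  le_normalizer fun i hi j hj => comm_mem_sub hi (by omega) hj (by
    have h : ⁅g j, g i⁆ ∈ sub gl 3 := comm_mem_of_chk (chk3 j (by omega) i hi)
    rw [← commutatorElement_inv]
    exact inv_mem h)

theorem commutator_T : (⁅sub gl 10, sub gl 10⁆ : Subgroup M24) ≤ sub gl 6 := by
  conv_lhs => unfold sub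
  refine commutator_closure_le norm6 norm6 ?_
  rintro _ ⟨i, hi, rfl⟩ _ ⟨j, hj, rfl⟩
  exact comm_mem_of_chk (chk6 i hi j hj)

theorem commutator_six : (⁅sub gl 6, sub gl 10⁆ : Subgroup M24) ≤ sub gl 3 := by
  conv_lhs => unfold sub
  refine commutator_closure_le ((sub_mono (by norm_num)).trans norm3) norm3 ?_
  rintro _ ⟨i, hi, rfl⟩ _ ⟨j, hj, rfl⟩
  exact comm_mem_of_chk (chk3 i hi j hj)

theorem lower_le : (⁅⁅sub gl 10, sub gl 10⁆, sub gl 10⁆ : Subgroup M24) ≤ sub gl 3 :=
  (Subgroup.commutator_mono commutator_T le_rfl).trans commutator_six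

theorem centralizes_three {i : ℕ} (hi : i < 10) (h6 : i ≠ 6) (h9 : i ≠ 9) :
    g i ∈ Subgroup.centralizer (⁅⁅sub gl 10, sub gl 10⁆, sub gl 10⁆ : Subgroup M24) := by
  refine Subgroup.centralizer_le lower_le ?_
  show g i ∈ Subgroup.centralizer ((sub gl 3 : Subgroup M24) : Set M24)
  unfold sub
  rw [Subgroup.centralizer_closure, Subgroup.mem_centralizer_iff]
  rintro _ ⟨j, hj, rfl⟩
  exact (comm3 i hi h6 h9 j hj).symm

theorem lower_self : (⁅sub gl 10, sub gl 10⁆ : Subgroup M24) ≤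
    Subgroup.centralizer (⁅⁅sub gl 10, sub gl 10⁆, sub gl 10⁆ : Subgroup M24) := by
  refine commutator_T.trans ?_
  conv_lhs => unfold sub
  rw [Subgroup.closure_le]
  rintro _ ⟨i, hi, rfl⟩
  exact centralizes_three (by omega) (by omega) (by omega)

theorem g3_mem : g 3 ∈ (⁅sub gl 10, sub gl 10⁆ : Subgroup M24) := by
  rw [← e13]; exact Subgroup.commutator_mem_commutator (mem_T (by norm_num)) (mem_T (by norm_num))

theorem g4_mem : g 4 ∈ (⁅sub gl 10, sub gl 10⁆ : Subgroup M24) := by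
  rw [← e24]; exact Subgroup.commutator_mem_commutator (mem_T (by norm_num)) (mem_T (by norm_num))

theorem g1_mem : g 1 ∈ (⁅⁅sub gl 10, sub gl 10⁆, sub gl 10⁆ : Subgroup M24) := by
  rw [← e14]; exact Subgroup.commutator_mem_commutator g3_mem (mem_T (by norm_num))

theorem g2_mem : g 2 ∈ (⁅⁅sub gl 10, sub gl 10⁆, sub gl 10⁆ : Subgroup M24) := by
  rw [← e25]; exact Subgroup.commutator_mem_commutator g4_mem (mem_T (by norm_num))

theorem ne16 : g 6 * g 2 ≠ g 2 * g 6 := by
  intro h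
  apply g0_ne
  rw [← e15', commutatorElement_def, h]
  group

theorem ne91 : g 1 * g 9 ≠ g 9 * g 1 := by
  intro h
  apply g0_ne
  rw [← e15, commutatorElement_def, h]
  group

theorem gen : sub gl 10 ≤ Subgroup.closure {x | x ∈ [g 6, g 7, g 8, g 9]} := by
  set C : Subgroup M24 := Subgroup.closure {x | x ∈ [g 6, g 7, g 8, g 9]} with hC
  have h6 : g 6 ∈ C := Subgroup.subset_closure (by simp)
  have h7 : g 7 ∈ C := Subgroup.subset_closure (by simp)
  have h8 : g 8 ∈ C := Subgroup.subset_closure (by simp)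
  have h9 : g 9 ∈ C := Subgroup.subset_closure (by simp)
  have hc : ∀ {x y : M24}, x ∈ C → y ∈ C → ⁅x, y⁆ ∈ C := by
    intro x y hx hy
    rw [commutatorElement_def]
    exact mul_mem (mul_mem (mul_mem hx hy) (inv_mem hx)) (inv_mem hy)
  have h3 : g 3 ∈ C := by rw [← e13]; exact hc h6 h7
  have h4 : g 4 ∈ C := by rw [← e24]; exact hc h7 h8
  have h5 : g 5 ∈ C := by rw [← e35]; exact hc h8 h9
  have h1 : g 1 ∈ C := by rw [← e14]; exact hc h3 h8
  have h2 : g 2 ∈ C := by rw [← e25]; exact hc h4 h9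
  have h0 : g 0 ∈ C := by rw [← e15]; exact hc h1 h9
  conv_lhs => unfold sub
  rw [Subgroup.closure_le]
  rintro _ ⟨i, hi, rfl⟩
  show g i ∈ C
  interval_cases i <;> assumption

theorem tr {D : Subgroup (MulAut M24)} (hD : ⁅D, D⁆ = D) (hT : Inv D (T : Subgroup M24)) :
    Tr D (T : Subgroup M24) := by
  rw [coe_T] at hT ⊢
  refine tr_of_lower hD isPGroup_T hT (a := g 6) (b := g 7) (c := g 8) (d := g 9) (mem_T (by norm_num))
    (mem_T (by norm_num)) (mem_T (by norm_num)) (mem_T (by norm_num)) gen ?_ lower_self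
    (centralizes_three (by norm_num) (by norm_num) (by norm_num))
    (centralizes_three (by norm_num) (by norm_num) (by norm_num)) ?_ ?_ ?_
  · intro x hx
    simp only [List.mem_cons, List.not_mem_nil, or_false] at hx
    rcases hx with rfl | rfl | rfl | rfl
    · rw [sq 6 (by norm_num)]; exact one_mem _
    · rw [sq 7 (by norm_num)]; exact one_mem _
    · rw [sq 8 (by norm_num)]; exact one_mem _
    · rw [sq 9 (by norm_num)]; exact one_mem _
  · intro h
    rw [Subgroup.mem_centralizer_iff] at h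
    exact ne16 (h _ g2_mem).symm
  · intro h
    rw [Subgroup.mem_centralizer_iff] at h
    exact ne91 (h _ g1_mem)
  · intro h
    rw [Subgroup.mem_centralizer_iff] at h
    apply ne91
    have h1 := h _ g1_mem
    -- `g 1` commutes with `g 6 * g 9` and with `g 6`
    have h2 : g 6 * (g 1 * g 9) = g 6 * (g 9 * g 1) := by
      rw [← mul_assoc, e16, mul_assoc, h1, mul_assoc]
    exact mul_left_cancel h2

end Cfsg.Agent.Schreier.MTwentyFourTr
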