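import Mathlib
import Cfsg.Agent.S0365
import Cfsg.Agent.Schreier.Crit
import Cfsg.Agent.Schreier.MTwentyFourTr

/-!
# The Schreier property of the Mathieu group `M24`
-/

set_option autoImplicit false

namespace Cfsg.Agent.Schreier.MTwentyFour

open Cfsg Cfsg.Agent.Schreier.Basic

theorem not_isMulCommutative : ¬ IsMulCommutative M24 := by
  intro h
  exact MTwentyFourTr.ne16 (h.is_comm.comm _ _)

/-- Every perfect group of automorphisms of `M24` consists of inner automorphisms. -/
theorem sch : Sch M24 := by
  have hs : IsSimpleGroup M24 := Cfsg.Agent.S0365.result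
  exact Crit.sch_of_sylow not_isMulCommutative MTwentyFourSyl.T fun _ hD hT => MTwentyFourTr.tr hD hT

end Cfsg.Agent.Schreier.MTwentyFour
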