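import Cfsg.Agent.ONType.SecondTuple
import Cfsg.Agent.HN.PC

/-!
# Relations in a Sylow 2-subgroup of the presented O'Nan group

Nine words `s 0, …, s 8` in the generators `a, b, c, d, f, g`, and the relations of a polycyclic series, checked in
the 45-dimensional representation.
-/

set_option autoImplicit false
set_option maxRecDepth 100000
set_option Elab.async false

namespace Cfsg.Agent.Schreier.ONRel

open Cfsg.Spor (ON)
open Cfsg.Spor.ON (Gen)
open Cfsg.Agent.Lib.PackMat Cfsg.Agent.SporadicB.ON45Data Cfsg.Agent.SporadicB.ON45Rels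
  Cfsg.Agent.SporadicB.ON45Word Cfsg.Agent.ONType.SecondTuple Cfsg.Agent.HN.PC

/-- the words of the polycyclic generators -/
def sw (i : ℕ) : List Gen :=
  ([[.f], [.a], [.d, .g, .d, .g], [.c, .d, .g, .c, .d, .g], [.d, .g], [.c, .d, .c, .d], [.c], [.d],
    [.b, .a, .c, .b, .d, .g, .c, .g, .b, .a, .d, .c, .b]] : List (List Gen)).getD i []

/-- the polycyclic generators -/
def s (i : ℕ) : ON := ((sw i).map on).prod

/-- concatenation of words -/
def cat (L : List ℕ) : List Gen := L.flatMap sw

theorem prod_cat (L : List ℕ) : ((cat L).map on).prod = (L.map s).prod := by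
  induction L with
  | nil => rfl
  | cons i L ih =>
    show (((sw i) ++ cat L).map on).prod = _
    rw [List.map_append, List.prod_append, ih, List.map_cons, List.prod_cons]
    rfl

/-- the squares -/
def SQ : List (List ℕ) := [[], [], [0], [], [2], [0, 1], [], [], []]

/-- the conjugates `s k * s i * (s k)⁻¹` -/
def CJ : List (List (List ℕ)) := [
  [],
  [[0]],
  [[0], [1]],
  [[0], [1], [2]],
  [[0], [1], [2], [0, 3]],
  [[0], [1], [2], [3], [0, 1, 4]],
  [[0], [1], [2], [0, 3], [0, 2, 3, 4], [0, 1, 5]],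
  [[0], [1], [0, 2], [1, 3], [1, 2, 4], [0, 1, 5], [0, 1, 5, 6]],
  [[0], [0, 1], [0, 2], [0, 3], [0, 2, 4], [0, 1, 2, 3, 5], [6], [0, 3, 4, 7]]]

def sq (k : ℕ) : List ℕ := SQ.getD k []
def cj (k i : ℕ) : List ℕ := (CJ.getD k []).getD i []

/-- the matrices of a word -/
def mats (w : List Gen) : List ℕ := w.map fun x => gens (gi x)

/-- check of a square -/
noncomputable def okSq (k : ℕ) : Bool := checkEq C45 (mats (sw k ++ sw k)) (mats (cat (sq k))) 0 45
/-- check of a conjugate -/
noncomputable def okCj (k i : ℕ) : Bool := checkEq C45 (mats (sw k ++ sw i)) (mats (cat (cj k i) ++ sw k)) 0 45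

theorem sq_ok : ∀ k < 9, okSq k = true := by decide +kernel
theorem cj_ok : ∀ k < 8, ∀ i < k, okCj k i = true := by decide +kernel
theorem cj_ok8 : ∀ i < 8, okCj 8 i = true := by decide +kernel

theorem eq_of_words (hs : IsSimpleGroup ON) {v w : List Gen} (h : checkEq C45 (mats v) (mats w) 0 45 = true) :
    (v.map on).prod = (w.map on).prod :=
  eq_of_check hs (LW.word v) (LW.word w) h

theorem s_sq (hs : IsSimpleGroup ON) {k : ℕ} (hk : k < 9) : s k * s k = ((sq k).map s).prod := by
  have h := eq_of_words hs (sq_ok k hk)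
  rw [List.map_append, List.prod_append, prod_cat] at h
  exact h

theorem s_cj (hs : IsSimpleGroup ON) {k i : ℕ} (hk : k < 9) (hi : i < k) :
    s k * s i = ((cj k i).map s).prod * s k := by
  have h : okCj k i = true := by
    rcases Nat.lt_or_ge k 8 with h8 | h8
    · exact cj_ok k h8 i hi
    · have : k = 8 := by omega
      subst this
      exact cj_ok8 i hi
  have h := eq_of_words hs h
  rw [List.map_append, List.prod_append, List.map_append, List.prod_append, prod_cat] at h
  exact h

theorem s_cj' (hs : IsSimpleGroup ON) {k i : ℕ} (hk : k < 9) (hi : i < k) :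
    s k * s i * (s k)⁻¹ = ((cj k i).map s).prod := by
  rw [s_cj hs hk hi, mul_inv_cancel_right]

theorem sq_lt : ∀ k < 9, ∀ j ∈ sq k, j < k := by decide
theorem cj_lt : ∀ k < 9, ∀ i < k, ∀ j ∈ cj k i, j < k := by decide

theorem prod_mem {B : Subgroup ON} {L : List ℕ} (h : ∀ i ∈ L, s i ∈ B) : (L.map s).prod ∈ B := by
  apply Subgroup.list_prod_mem
  intro x hx
  obtain ⟨i, hi, rfl⟩ := List.mem_map.1 hx
  exact h i hi

theorem step (hs : IsSimpleGroup ON) {k : ℕ} (hk : k < 9) : Step s k := by
  refine ⟨?_, fun i hi => ?_⟩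
  · rw [s_sq hs hk]
    exact prod_mem fun j hj => mem_Pc (sq_lt k hk j hj)
  · rw [s_cj' hs hk hi]
    exact prod_mem fun j hj => mem_Pc (cj_lt k hk i hi j hj)

/-- the word `⁅⁅c, d⁆, ⁅d, y⁆⁆` -/
def wv : List Gen := cat [6, 7, 6, 7] ++ cat [7, 8, 7, 8] ++ (cat [7, 6, 7, 6] ++ cat [8, 7, 8, 7])

theorem wv_ok : checkEq C45 (mats (cat [0, 1])) (mats wv) 0 45 = true := by decide +kernel

end Cfsg.Agent.Schreier.ONRel
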