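import Mathlib
import Cfsg.Agent.Lib.FrattiniPGroup
import Cfsg.Agent.HN.PC
import Cfsg.Agent.Schreier.Tools2

/-!
# A perfect group acting on a 2-group `T` with an invariant subgroup between `T` and `⁅T, T⁆`
-/

set_option autoImplicit false

namespace Cfsg.Agent.Schreier.ThreeGen

open Cfsg.Agent.Schreier.Basic Cfsg.Agent.Schreier.Tools Cfsg.Agent.Schreier.Tools2 Cfsg.Agent.HN.PC

open scoped commutatorElement

variable {K : Type*} [Group K]

theorem commutator_self_le (T : Subgroup K) : ⁅T, T⁆ ≤ T := by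
  rw [Subgroup.commutator_le]
  intro a ha b hb
  exact mul_mem (mul_mem (mul_mem ha hb) (inv_mem ha)) (inv_mem hb)

/-- A perfect group normalising the `p`-group `T` and an invariant subgroup `X` with `⁅T, T⁆ ≤ X ≤ T` and
`|T : X| ≤ 4`, `|X : ⁅T, T⁆| ≤ 4` centralises `T`. -/
theorem tr_of_index {D : Subgroup (MulAut K)} (hD : ⁅D, D⁆ = D) {p : ℕ} [hp : Fact p.Prime] {T X : Subgroup K}
    [Finite T] (hTp : IsPGroup p T) (hT : Inv D T) (hX : Inv D X) (hXT : X ≤ T)
    (h1 : X.relIndex T ≤ 4) (h2 : (⁅T, T⁆ : Subgroup K).relIndex X ≤ 4) : Tr D T := by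
  have hN : Inv D ⁅T, T⁆ := hT.commutator hT
  have hfX : Finite X := Finite.of_injective _ (Subgroup.inclusion_injective hXT)
  have hs1 : Group.IsSolvable T := by
    have : Group.IsNilpotent T := hTp.isNilpotent
    infer_instance
  have hs2 : Group.IsSolvable X :=
    Group.isSolvable_of_isSolvable_injective (Subgroup.inclusion_injective hXT)
  have h3 : TrMod D T X := trMod_of_relIndex_le_four hD hT hX
    (by rw [Subgroup.relIndex]; exact Subgroup.index_ne_zero_of_finite) h1
  have h4 : TrMod D X ⁅T, T⁆ := trMod_of_relIndex_le_four hD hX hN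
    (by rw [Subgroup.relIndex]; exact Subgroup.index_ne_zero_of_finite) h2
  have h5 : TrMod D T ⁅T, T⁆ := TrMod.trans hD (fun a ha c hc => by
    have h6 : a * c * a⁻¹ = ⁅a, c⁆ * c := by rw [commutatorElement_def]; group
    rw [h6]
    exact mul_mem (Subgroup.commutator_mem_commutator ha (commutator_self_le T hc)) hc) hXT hs2 h3 h4
  refine tr_of_frattini hD hTp hT ?_ h5
  rw [Subgroup.commutator_le]
  intro a ha b hb
  refine ⟨⁅(⟨a, ha⟩ : T), (⟨b, hb⟩ : T)⁆, ?_, rfl⟩
  apply Cfsg.Agent.Lib.FrattiniPGroup.commutator_le_frattini hTp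
  exact Subgroup.commutator_mem_commutator (Subgroup.mem_top _) (Subgroup.mem_top _)

/-- order bound from a polycyclic 2-series. -/
theorem card_Pc_le {s : ℕ → K} {n : ℕ} (h : ∀ k < n, Step s k) :
    Finite (Pc s n) ∧ Nat.card (Pc s n) ≤ 2 ^ n := by
  induction n with
  | zero =>
    rw [Pc_zero]
    exact ⟨inferInstance, by rw [Subgroup.card_bot, pow_zero]⟩
  | succ n ih =>
    obtain ⟨h1, h2⟩ := ih (fun k hk => h k (by omega))
    obtain ⟨h3, h4⟩ := (h n (Nat.lt_succ_self n)).card_le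
    exact ⟨h3, h4.trans (by rw [pow_succ, mul_comm]; exact Nat.mul_le_mul_right 2 h2)⟩

/-- index bound from a polycyclic 2-series. -/
theorem relIndex_Pc_le {s : ℕ → K} {k : ℕ} (h : Step s k) : (Pc s k).relIndex (Pc s (k + 1)) ≤ 2 := by
  have hsurj : Function.Surjective (fun u : Bool =>
      (QuotientGroup.mk (cond u ⟨(s k)⁻¹, inv_mem (mem_Pc (Nat.lt_succ_self k))⟩ 1 : Pc s (k + 1)) :
        Pc s (k + 1) ⧸ (Pc s k).subgroupOf (Pc s (k + 1)))) := by
    intro x
    induction x using QuotientGroup.induction_on with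
    | H g =>
      rcases h.mem (inv_mem g.2) with h1 | h1
      · refine ⟨false, ?_⟩
        rw [QuotientGroup.eq, Subgroup.mem_subgroupOf]
        simpa using inv_mem h1
      · refine ⟨true, ?_⟩
        rw [QuotientGroup.eq, Subgroup.mem_subgroupOf]
        have h2 : ((((⟨(s k)⁻¹, inv_mem (mem_Pc (Nat.lt_succ_self k))⟩ : Pc s (k + 1)))⁻¹ * g : Pc s (k + 1)) : K) =
            ((g : K)⁻¹ * (s k)⁻¹)⁻¹ := by
          push_cast
          group
        show ((((⟨(s k)⁻¹, inv_mem (mem_Pc (Nat.lt_succ_self k))⟩ : Pc s (k + 1)))⁻¹ * g : Pc s (k + 1)) : K) ∈ _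
        rw [h2]
        exact inv_mem h1
  have := Nat.card_le_card_of_surjective _ hsurj
  rwa [Nat.card_eq_fintype_card (α := Bool), Fintype.card_bool] at this

end Cfsg.Agent.Schreier.ThreeGen
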