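import Cfsg.Agent.ONType.RepCent
import Cfsg.Agent.Schreier.ONRel
import Cfsg.Agent.Schreier.ThreeGen

/-!
# A Sylow 2-subgroup of the presented O'Nan group has no perfect groups of automorphisms
-/

set_option autoImplicit false
set_option maxRecDepth 100000
set_option Elab.async false

namespace Cfsg.Agent.Schreier.ONTr

open Cfsg.Spor (ON)
open Cfsg.Spor.ON (Gen)
open Cfsg.Agent.Lib.PermNet Cfsg.Agent.Lib.PermNetOrbit Cfsg.Agent.Fischer.Fi24RepLib
  Cfsg.Agent.ONType.RepDef Cfsg.Agent.ONType.RepCent Cfsg.Agent.ONType.RepOrb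
  Cfsg.Agent.SporadicB.ON45Word Cfsg.Agent.SporadicB.ON45Data
  Cfsg.Agent.Schreier.Basic Cfsg.Agent.Schreier.Tools Cfsg.Agent.Schreier.ONRel Cfsg.Agent.Schreier.ThreeGen
  Cfsg.Agent.HN.PC

open scoped commutatorElement

/-- the 2-subgroup -/
def T : Subgroup ON := Pc s 9

/-- the words -/
def ws : List (List Gen) := [[.f], [.a], [.d, .g, .d, .g], [.c, .d, .g, .c, .d, .g], [.d, .g], [.c, .d, .c, .d], [.c],
  [.d], [.b, .a, .c, .b, .d, .g, .c, .g, .b, .a, .d, .c, .b]]

theorem ws_eq : ws = (List.range 9).map sw := rfl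

theorem m512 : mOK 512 13 ws = true := by decide +kernel
theorem l512 : lOK 13 ws = true := by decide +kernel
theorem f512 : fixAllB (Cfsg.Agent.ONType.Rep.nws ws) [] = true := rfl

theorem img (w : List Net) (hw : w ∈ Cfsg.Agent.ONType.Rep.nws ws) : ∃ g : T, (Cfsg.Agent.ONType.Rep.rho.comp T.subtype) g = wperm w := by
  obtain ⟨l, hl, rfl⟩ := List.mem_map.1 hw
  rw [ws_eq] at hl
  obtain ⟨i, hi, rfl⟩ := List.mem_map.1 hl
  exact ⟨⟨Cfsg.Agent.ONType.Rep.word (sw i), mem_Pc (List.mem_range.1 hi)⟩,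
    Cfsg.Agent.ONType.Rep.rho_word (sw i)⟩

theorem finite_T (hs : IsSimpleGroup ON) : Finite T := (card_Pc_le fun _ hk => step hs hk).1

theorem card_T (hs : IsSimpleGroup ON) : Nat.card T = 512 := by
  have hf := finite_T hs
  have h0 : Nat.card T ≤ 512 := (card_Pc_le fun _ hk => step hs hk).2
  have h1 := stepB (Cfsg.Agent.ONType.Rep.rho.comp T.subtype) [] 13 512 ws img f512 m512 l512
  have h2 : 0 < Nat.card (stabL (Cfsg.Agent.ONType.Rep.rho.comp T.subtype) [13]) := Nat.card_pos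
  have h3 : Nat.card (stabL (Cfsg.Agent.ONType.Rep.rho.comp T.subtype) []) ≤ Nat.card T := Subgroup.card_le_card_group _
  omega

theorem isPGroup_T (hs : IsSimpleGroup ON) : IsPGroup 2 T :=
  IsPGroup.of_card (n := 9) (by rw [card_T hs]; norm_num)

/-- the Sylow subgroup -/
theorem exists_sylow (hON : Cfsg.IsON ON) : ∃ P : Sylow 2 ON, (P : Subgroup ON) = T := by
  have hf := finite_of_isON hON
  have : Fact (Nat.Prime 2) := ⟨Nat.prime_two⟩
  refine ⟨Sylow.ofCard T ?_, rfl⟩
  rw [card_T hON.1, hON.2, show (460815505920 : ℕ) = 2 ^ 9 * 900030285 by norm_num,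
    Nat.factorization_mul (by norm_num) (by norm_num), Nat.Prime.factorization_pow Nat.prime_two]
  rw [Finsupp.add_apply, Finsupp.single_eq_same,
    Nat.factorization_eq_zero_of_not_dvd (by norm_num : ¬ 2 ∣ 900030285)]
  norm_num

theorem conj_mem (hs : IsSimpleGroup ON) {k j : ℕ} (hk : k < 9) (hc : ∀ i < j, i < k → ∀ l ∈ cj k i, l < j)
    : ∀ x ∈ Pc s j, s k * x * (s k)⁻¹ ∈ Pc s j := by
  by_cases hkj : k < j
  · intro x hx
    exact mul_mem (mul_mem (mem_Pc hkj) hx) (inv_mem (mem_Pc hkj))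
  · apply conj_closure
    rintro _ ⟨i, hi, rfl⟩
    have hi' : i < j := hi
    rw [s_cj' hs hk (by omega)]
    exact prod_mem fun l hl => mem_Pc (hc i hi' (by omega) l hl)

/-- conjugation by an element of a closure -/
theorem conj_of_gens {B : Subgroup ON} [Finite B] {n : ℕ} (h : ∀ k < n, ∀ x ∈ B, s k * x * (s k)⁻¹ ∈ B) :
    ∀ g ∈ Pc s n, ∀ x ∈ B, g * x * g⁻¹ ∈ B := by
  intro g hg
  induction hg using Subgroup.closure_induction with
  | mem y hy =>
    obtain ⟨k, hk, rfl⟩ := hy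
    exact h k hk
  | one => intro x hx; simpa using hx
  | mul a b _ _ ha hb =>
    intro x hx
    have : a * b * x * (a * b)⁻¹ = a * (b * x * b⁻¹) * a⁻¹ := by group
    rw [this]
    exact ha _ (hb _ hx)
  | inv a _ ha =>
    intro x hx
    -- conjugation by `a` maps the finite group `B` onto itself
    have hinj : Function.Injective (fun b : B => (⟨a * b * a⁻¹, ha b b.2⟩ : B)) := by
      intro b c hbc
      have := congrArg Subtype.val hbc
      simp only at this
      apply Subtype.ext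
      exact mul_left_cancel (mul_right_cancel this)
    obtain ⟨b, hb⟩ := (Finite.injective_iff_surjective.1 hinj) ⟨x, hx⟩
    have h1 : a * (b : ON) * a⁻¹ = x := congrArg Subtype.val hb
    have h2 : a⁻¹ * x * a⁻¹⁻¹ = b := by rw [← h1]; group
    rw [h2]
    exact b.2

theorem finite_Pc (hs : IsSimpleGroup ON) {j : ℕ} (hj : j ≤ 9) : Finite (Pc s j) :=
  (card_Pc_le fun _ hk => step hs (by omega)).1

theorem cj6 : ∀ k < 9, ∀ i < 6, i < k → ∀ l ∈ cj k i, l < 6 := by decide
theorem cj2 : ∀ k < 9, ∀ i < 2, i < k → ∀ l ∈ cj k i, l < 2 := by decide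

theorem norm6 (hs : IsSimpleGroup ON) : ∀ g ∈ T, ∀ x ∈ Pc s 6, g * x * g⁻¹ ∈ Pc s 6 := by
  have := finite_Pc hs (j := 6) (by norm_num)
  exact conj_of_gens fun k hk => conj_mem hs hk (cj6 k hk)

theorem norm2 (hs : IsSimpleGroup ON) : ∀ g ∈ T, ∀ x ∈ Pc s 2, g * x * g⁻¹ ∈ Pc s 2 := by
  have := finite_Pc hs (j := 2) (by norm_num)
  exact conj_of_gens fun k hk => conj_mem hs hk (cj2 k hk)

/-- commutators of the generators -/
theorem comm_s (hs : IsSimpleGroup ON) {k i : ℕ} (hk : k < 9) (hi : i < k) :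
    ⁅s k, s i⁆ = ((cj k i).map s).prod * (s i)⁻¹ := by
  rw [commutatorElement_def, s_cj' hs hk hi]

theorem comm_mem_of {B : Subgroup ON} {x y : ON} (h : ⁅x, y⁆ ∈ B) : ⁅y, x⁆ ∈ B := by
  rw [← commutatorElement_inv]; exact inv_mem h

/-- the images of the generators in `T / Pc s 6` commute -/
theorem comm6 (hs : IsSimpleGroup ON) {k i : ℕ} (hk : k < 9) (hi : i < k) : ⁅s k, s i⁆ ∈ Pc s 6 := by
  rcases Nat.lt_or_ge i 6 with h6 | h6
  · rw [comm_s hs hk hi]
    exact mul_mem (prod_mem fun l hl => mem_Pc (cj6 k hk i h6 hi l hl)) (inv_mem (mem_Pc h6))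
  · have h : (k = 7 ∧ i = 6) ∨ (k = 8 ∧ i = 6) ∨ (k = 8 ∧ i = 7) := by omega
    rcases h with ⟨rfl, rfl⟩ | ⟨rfl, rfl⟩ | ⟨rfl, rfl⟩
    · rw [comm_s hs (by norm_num) (by norm_num)]
      have : ((cj 7 6).map s).prod * (s 6)⁻¹ = s 0 * (s 1 * s 5) := by
        show (s 0 * (s 1 * (s 5 * (s 6 * 1)))) * (s 6)⁻¹ = _
        group
      rw [this]
      exact mul_mem (mem_Pc (by norm_num)) (mul_mem (mem_Pc (by norm_num)) (mem_Pc (by norm_num)))
    · rw [comm_s hs (by norm_num) (by norm_num)]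
      have : ((cj 8 6).map s).prod * (s 6)⁻¹ = 1 := by
        show (s 6 * 1) * (s 6)⁻¹ = _
        group
      rw [this]
      exact one_mem _
    · rw [comm_s hs (by norm_num) (by norm_num)]
      have : ((cj 8 7).map s).prod * (s 7)⁻¹ = s 0 * (s 3 * s 4) := by
        show (s 0 * (s 3 * (s 4 * (s 7 * 1)))) * (s 7)⁻¹ = _
        group
      rw [this]
      exact mul_mem (mem_Pc (by norm_num)) (mul_mem (mem_Pc (by norm_num)) (mem_Pc (by norm_num)))

theorem comm6' (hs : IsSimpleGroup ON) {k i : ℕ} (hk : k < 9) (hi : i < 9) : ⁅s k, s i⁆ ∈ Pc s 6 := by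
  rcases lt_trichotomy i k with h | h | h
  · exact comm6 hs hk h
  · rw [h, commutatorElement_self]; exact one_mem _
  · exact comm_mem_of (comm6 hs hi h)

theorem commutator_le6 (hs : IsSimpleGroup ON) : ⁅T, T⁆ ≤ Pc s 6 := by
  rw [Subgroup.commutator_le]
  apply commutator_mem_of_closure (norm6 hs) (norm6 hs)
  rintro _ ⟨k, hk, rfl⟩ _ ⟨i, hi, rfl⟩
  exact comm6' hs hk hi

theorem s_mem {k : ℕ} (hk : k < 9) : s k ∈ T := mem_Pc hk

theorem cm (hs : IsSimpleGroup ON) {k i : ℕ} (hk : k < 9) (hi : i < k) :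
    ((cj k i).map s).prod * (s i)⁻¹ ∈ ⁅T, T⁆ := by
  rw [← comm_s hs hk hi]
  exact Subgroup.commutator_mem_commutator (s_mem hk) (s_mem (hi.trans hk))

/-- the generators `s 0, …, s 5` are in the derived group -/
theorem le_commutator (hs : IsSimpleGroup ON) : Pc s 6 ≤ ⁅T, T⁆ := by
  have hc : ∀ x, s 0 * x = x * s 0 → True := fun _ _ => trivial
  have h0 : s 0 ∈ ⁅T, T⁆ := by
    have h := cm hs (k := 4) (i := 3) (by norm_num) (by norm_num)
    have e : ((cj 4 3).map s).prod * (s 3)⁻¹ = s 0 := by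
      show (s 0 * (s 3 * 1)) * (s 3)⁻¹ = _
      group
    rwa [e] at h
  have h1 : s 1 ∈ ⁅T, T⁆ := by
    have h := cm hs (k := 5) (i := 4) (by norm_num) (by norm_num)
    have e : ((cj 5 4).map s).prod * (s 4)⁻¹ = s 0 * s 1 := by
      show (s 0 * (s 1 * (s 4 * 1))) * (s 4)⁻¹ = _
      group
    rw [e] at h
    exact (Subgroup.mul_mem_cancel_left _ h0).1 h
  have h2 : s 2 ∈ ⁅T, T⁆ := by
    have h := cm hs (k := 7) (i := 4) (by norm_num) (by norm_num)
    have e : ((cj 7 4).map s).prod * (s 4)⁻¹ = s 1 * s 2 := by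
      show (s 1 * (s 2 * (s 4 * 1))) * (s 4)⁻¹ = _
      group
    rw [e] at h
    exact (Subgroup.mul_mem_cancel_left _ h1).1 h
  have h5 : s 5 ∈ ⁅T, T⁆ := by
    have h := cm hs (k := 7) (i := 6) (by norm_num) (by norm_num)
    have e : ((cj 7 6).map s).prod * (s 6)⁻¹ = s 0 * (s 1 * s 5) := by
      show (s 0 * (s 1 * (s 5 * (s 6 * 1)))) * (s 6)⁻¹ = _
      group
    rw [e] at h
    exact (Subgroup.mul_mem_cancel_left _ h1).1 ((Subgroup.mul_mem_cancel_left _ h0).1 h)
  have h3 : s 3 ∈ ⁅T, T⁆ := by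
    have h := cm hs (k := 8) (i := 5) (by norm_num) (by norm_num)
    have e : ((cj 8 5).map s).prod * (s 5)⁻¹ = s 0 * (s 1 * (s 2 * s 3)) := by
      show (s 0 * (s 1 * (s 2 * (s 3 * (s 5 * 1))))) * (s 5)⁻¹ = _
      group
    rw [e] at h
    exact (Subgroup.mul_mem_cancel_left _ h2).1 ((Subgroup.mul_mem_cancel_left _ h1).1
      ((Subgroup.mul_mem_cancel_left _ h0).1 h))
  have h4 : s 4 ∈ ⁅T, T⁆ := by
    have h := cm hs (k := 8) (i := 7) (by norm_num) (by norm_num)
    have e : ((cj 8 7).map s).prod * (s 7)⁻¹ = s 0 * (s 3 * s 4) := by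
      show (s 0 * (s 3 * (s 4 * (s 7 * 1)))) * (s 7)⁻¹ = _
      group
    rw [e] at h
    exact (Subgroup.mul_mem_cancel_left _ h3).1 ((Subgroup.mul_mem_cancel_left _ h0).1 h)
  unfold Pc
  rw [Subgroup.closure_le]
  rintro _ ⟨i, hi, rfl⟩
  have hi' : i < 6 := hi
  interval_cases i
  · exact h0
  · exact h1
  · exact h2
  · exact h3
  · exact h4
  · exact h5

theorem commutator_eq (hs : IsSimpleGroup ON) : ⁅T, T⁆ = Pc s 6 :=
  le_antisymm (commutator_le6 hs) (le_commutator hs)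

/-- the second derived group -/
theorem second_le (hs : IsSimpleGroup ON) : ⁅⁅T, T⁆, ⁅T, T⁆⁆ ≤ Pc s 2 := by
  rw [commutator_eq hs, Subgroup.commutator_le]
  have h6T : Pc s 6 ≤ T := Pc_mono (by norm_num)
  refine commutator_mem_of_closure (fun a ha => norm2 hs a (h6T ha)) (fun a ha => norm2 hs a (h6T ha)) ?_
  have key : ∀ k < 6, ∀ i < k, ⁅s k, s i⁆ ∈ Pc s 2 := by
    intro k hk i hi
    rw [comm_s hs (by omega) hi]
    have h : ((cj k i).map s).prod * (s i)⁻¹ ∈ Pc s 2 := by
      have hL : ∃ L : List ℕ, cj k i = L ++ [i] ∧ ∀ l ∈ L, l < 2 := by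
        have : k < 6 := hk
        interval_cases k <;> interval_cases i
        all_goals first
          | exact ⟨[], rfl, by simp⟩
          | exact ⟨[0], rfl, by simp⟩
          | exact ⟨[0, 1], rfl, by simp⟩
      obtain ⟨L, hL1, hL2⟩ := hL
      rw [hL1, List.map_append, List.prod_append]
      have e : ([i].map s).prod = s i := by simp
      rw [e, mul_inv_cancel_right]
      exact prod_mem fun l hl => mem_Pc (hL2 l hl)
    exact h
  rintro _ ⟨k, hk, rfl⟩ _ ⟨i, hi, rfl⟩
  have hk' : k < 6 := hk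
  have hi' : i < 6 := hi
  rcases lt_trichotomy i k with h | h | h
  · exact key k hk' i h
  · rw [h, commutatorElement_self]; exact one_mem _
  · exact comm_mem_of (key i hi' k h)

/-- `f` and `a` commute with `s 0, …, s 7` -/
theorem comm_two (hs : IsSimpleGroup ON) {k i : ℕ} (hk : k < 8) (hi : i < 2) : s k * s i = s i * s k := by
  rcases lt_trichotomy i k with h | h | h
  · rw [s_cj hs (by omega) h]
    have e : cj k i = [i] := by
      interval_cases k <;> interval_cases i <;> rfl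
    rw [e]
    simp
  · rw [h]
  · have hk0 : k = 0 := by omega
    have hi1 : i = 1 := by omega
    subst hk0 hi1
    have := s_cj hs (k := 1) (i := 0) (by norm_num) (by norm_num)
    rw [this]
    show _ = (s 0 * 1) * s 1
    rw [mul_one]

theorem le_centralizer (hs : IsSimpleGroup ON) :
    Pc s 8 ≤ Subgroup.centralizer ((⁅⁅T, T⁆, ⁅T, T⁆⁆ : Subgroup ON) : Set ON) := by
  have h1 : Subgroup.centralizer ((Pc s 2 : Subgroup ON) : Set ON) ≤
      Subgroup.centralizer ((⁅⁅T, T⁆, ⁅T, T⁆⁆ : Subgroup ON) : Set ON) :=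
    Subgroup.centralizer_le (second_le hs)
  refine le_trans ?_ h1
  unfold Pc
  rw [Subgroup.closure_le, Subgroup.centralizer_closure]
  rintro _ ⟨k, hk, rfl⟩
  have hk' : k < 8 := hk
  rw [SetLike.mem_coe, Subgroup.mem_centralizer_iff]
  rintro _ ⟨i, hi, rfl⟩
  have hi' : i < 2 := hi
  exact (comm_two hs hk' hi').symm

/-- `s 0 * s 1` is in the second derived group -/
theorem mem_second (hs : IsSimpleGroup ON) : s 0 * s 1 ∈ ⁅⁅T, T⁆, ⁅T, T⁆⁆ := by
  have hinv : ∀ {k : ℕ}, k < 9 → ONRel.sq k = [] → (s k)⁻¹ = s k := by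
    intro k hk h
    have := s_sq hs hk
    rw [h] at this
    exact inv_eq_of_mul_eq_one_left this
  have h6 := hinv (k := 6) (by norm_num) rfl
  have h7 := hinv (k := 7) (by norm_num) rfl
  have h8 := hinv (k := 8) (by norm_num) rfl
  have h := eq_of_words hs wv_ok
  rw [prod_cat] at h
  have e : ((([0, 1] : List ℕ).map s).prod : ON) = s 0 * s 1 := by simp
  rw [e] at h
  have e2 : (wv.map on).prod = ⁅⁅s 6, s 7⁆, ⁅s 7, s 8⁆⁆ := by
    unfold wv
    rw [List.map_append, List.prod_append, List.map_append, List.prod_append, List.map_append, List.prod_append,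
      prod_cat, prod_cat, prod_cat, prod_cat]
    simp only [commutatorElement_def, List.map_cons, List.map_nil, List.prod_cons, List.prod_nil, mul_one,
      mul_inv_rev, h6, h7, h8, mul_assoc]
  rw [h, e2]
  exact Subgroup.commutator_mem_commutator
    (Subgroup.commutator_mem_commutator (s_mem (by norm_num)) (s_mem (by norm_num)))
    (Subgroup.commutator_mem_commutator (s_mem (by norm_num)) (s_mem (by norm_num)))

theorem s0_ne (hs : IsSimpleGroup ON) : s 0 ≠ 1 := by
  intro h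
  have h1 : Nat.card (Pc s 1) = 1 := by
    have : Pc s 1 = ⊥ := by
      unfold Pc
      rw [Subgroup.closure_eq_bot_iff]
      rintro _ ⟨i, hi, rfl⟩
      have : i = 0 := by
        have : i < 1 := hi
        omega
      rw [this]
      exact h
    rw [this, Subgroup.card_bot]
  have h2 : ∀ j, j ≤ 8 → Nat.card (Pc s (j + 1)) ≤ 2 ^ j := by
    intro j
    induction j with
    | zero => intro _; rw [h1]; norm_num
    | succ j ih =>
      intro hj
      have := finite_Pc hs (j := j + 1) (by omega)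
      have h3 := (step hs (k := j + 1) (by omega)).card_le.2
      have h4 := ih (by omega)
      rw [pow_succ]
      omega
  have h5 := h2 8 le_rfl
  have h6 : Nat.card (Pc s 9) = 512 := card_T hs
  norm_num at h5
  omega

theorem s8_notMem (hs : IsSimpleGroup ON) :
    s 8 ∉ Subgroup.centralizer ((⁅⁅T, T⁆, ⁅T, T⁆⁆ : Subgroup ON) : Set ON) := by
  intro h
  rw [Subgroup.mem_centralizer_iff] at h
  have h1 := h _ (mem_second hs)
  have h2 : s 8 * s 0 = s 0 * s 8 := by
    have := s_cj hs (k := 8) (i := 0) (by norm_num) (by norm_num)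
    rw [this]
    show (s 0 * 1) * s 8 = _
    rw [mul_one]
  have h3 : s 8 * s 1 = s 0 * s 1 * s 8 := by
    have := s_cj hs (k := 8) (i := 1) (by norm_num) (by norm_num)
    rw [this]
    show (s 0 * (s 1 * 1)) * s 8 = _
    rw [mul_one]
  have h4 : s 8 * (s 0 * s 1) = s 0 * (s 0 * (s 1 * s 8)) := by
    rw [← mul_assoc, h2, mul_assoc, h3, mul_assoc]
  rw [h4, mul_assoc] at h1
  have h6 := mul_left_cancel h1
  exact s0_ne hs (mul_eq_right.1 h6.symm)

/-- **A perfect group of automorphisms of the O'Nan group normalising the Sylow 2-subgroup `T` centralises it.** -/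
theorem tr (hs : IsSimpleGroup ON) (D : Subgroup (MulAut ON)) (hD : ⁅D, D⁆ = D) (hT : Inv D T) : Tr D T := by
  have : Fact (Nat.Prime 2) := ⟨Nat.prime_two⟩
  have hf := finite_T hs
  have hN : Inv D ⁅T, T⁆ := hT.commutator hT
  have hX : Inv D (T ⊓ Subgroup.centralizer ((⁅⁅T, T⁆, ⁅T, T⁆⁆ : Subgroup ON) : Set ON)) :=
    hT.inf (hN.commutator hN).centralizer
  have hXeq : T ⊓ Subgroup.centralizer ((⁅⁅T, T⁆, ⁅T, T⁆⁆ : Subgroup ON) : Set ON) = Pc s 8 := by
    apply le_antisymm
    · rintro x ⟨hx1, hx2⟩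
      rcases (step hs (k := 8) (by norm_num)).mem hx1 with h | h
      · exact h
      · exfalso
        apply s8_notMem hs
        have h1 := le_centralizer hs h
        have h2 : s 8 = (x * (s 8)⁻¹)⁻¹ * x := by group
        rw [h2]
        exact mul_mem (inv_mem h1) hx2
    · exact le_inf (Pc_mono (by norm_num)) (le_centralizer hs)
  rw [hXeq] at hX
  refine tr_of_index hD (isPGroup_T hs) hT hX (Pc_mono (by norm_num)) ?_ ?_
  · exact (relIndex_Pc_le (step hs (k := 8) (by norm_num))).trans (by norm_num)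
  · rw [commutator_eq hs]
    have h1 := relIndex_Pc_le (step hs (k := 6) (by norm_num))
    have h2 := relIndex_Pc_le (step hs (k := 7) (by norm_num))
    have h3 : (Pc s 6).relIndex (Pc s 7) * (Pc s 7).relIndex (Pc s 8) = (Pc s 6).relIndex (Pc s 8) :=
      Subgroup.relIndex_mul_relIndex _ _ _ (Pc_mono (by norm_num)) (Pc_mono (by norm_num))
    rw [← h3]
    exact (Nat.mul_le_mul h1 h2)

end Cfsg.Agent.Schreier.ONTr
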