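import Cfsg.Agent.S1699
import Cfsg.Agent.Schreier.Crit
import Cfsg.Agent.Schreier.ONTr

/-!
# The Schreier property of the O'Nan group
-/

set_option autoImplicit false

namespace Cfsg.Agent.Schreier.ON

open Cfsg.Agent.Schreier.Basic Cfsg.Agent.Schreier.Tools

/-- **The Schreier property of the O'Nan group.** -/
theorem sch : Sch Cfsg.Spor.ON := by
  have hON : Cfsg.IsON Cfsg.Spor.ON := Cfsg.Agent.S1699.result
  have hs : IsSimpleGroup Cfsg.Spor.ON := hON.1
  have hfin : Finite Cfsg.Spor.ON := Cfsg.Agent.ONType.RepCent.finite_of_isON hON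
  have : Fact (Nat.Prime 2) := ⟨Nat.prime_two⟩
  have hK : ¬ IsMulCommutative Cfsg.Spor.ON := by
    intro h
    have hc : ∀ a b : Cfsg.Spor.ON, a * b = b * a := h.is_comm.comm
    let _ : CommGroup Cfsg.Spor.ON := { (inferInstance : Group Cfsg.Spor.ON) with mul_comm := hc }
    have hp : (Nat.card Cfsg.Spor.ON).Prime := IsSimpleGroup.prime_card
    rw [hON.2] at hp
    norm_num at hp
  obtain ⟨P, hP⟩ := Cfsg.Agent.Schreier.ONTr.exists_sylow hON
  refine Cfsg.Agent.Schreier.Crit.sch_of_sylow hK P fun D hD hT => ?_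
  rw [hP] at hT ⊢
  exact Cfsg.Agent.Schreier.ONTr.tr hs D hD hT

end Cfsg.Agent.Schreier.ON
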