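import Mathlib
import Cfsg.Agent.Schreier.SmallSylow
import Cfsg.Agent.S1073
import Cfsg.Agent.S1152
import Cfsg.Agent.S1157

/-!
# The small Ree groups have the Schreier property
-/

set_option autoImplicit false

namespace Cfsg.Agent.Schreier.ReeG

open Cfsg Cfsg.Agent.Schreier.Basic Cfsg.Agent.Schreier.SmallSylow

/-- `²G₂(3^(2m+1))`, `m ≥ 1`, has the Schreier property. -/
theorem sch {K : Type*} [Field K] [Fintype K] {m : ℕ} (hm : 1 ≤ m) (hK : Fintype.card K = 3 ^ (2 * m + 1)) :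
    Sch ↥(Cfsg.Lie.twistedG2 K (3 ^ m)) := by
  classical
  obtain ⟨hs, hc⟩ := Cfsg.Agent.S1073.result hm hK
  obtain ⟨a, haH, ha1, ha2⟩ := Cfsg.Agent.S1157.exists_involution hK
  obtain ⟨-, hS⟩ := Cfsg.Agent.S1152.result hK a haH ha1 ha2
  have T : Sylow 2 ↥(Cfsg.Lie.twistedG2 K (3 ^ m)) := default
  exact sch_of_card_eight hc T (hS T).1

/-- The Schreier property for the groups recognised as small Ree groups. -/
theorem schFor {G : Type*} [Group G] (h : Cfsg.Lie.IsoRee G) : Sch G := by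
  obtain ⟨K, i1, i2, m, hm, hK, ⟨e⟩⟩ := h
  exact Sch.of_equiv e.symm (sch hm hK)

end Cfsg.Agent.Schreier.ReeG
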