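import Cfsg.Agent.Schreier.RuSyl

/-!
A perfect group of automorphisms of the group of the Rudvalis graph normalising the Sylow 2-subgroup `T` centralises it.
-/

set_option autoImplicit false

namespace Cfsg.Agent.Schreier.RuTr

open Cfsg.Agent.Schreier.Basic Cfsg.Agent.Schreier.Tools Cfsg.Agent.Schreier.Tools2 Cfsg.Agent.Schreier.LowerCrit
open Cfsg.Agent.SporadicB
open scoped commutatorElement

/-- Criterion for 3-generated 2-groups: an invariant subgroup `V` centralised by `a`, `b`, `T'` but not by `c`. -/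
theorem tr_of_three {K : Type*} [Group K] {D : Subgroup (MulAut K)} (hD : ⁅D, D⁆ = D) {T : Subgroup K} [Finite T]
    (hTp : IsPGroup 2 T) (hT : Inv D T) {a b c : K}
    (hgen : T = Subgroup.closure {x | x ∈ [a, b, c]})
    (hsq : ∀ x ∈ [a, b, c], x * x ∈ ⁅T, T⁆) {V : Subgroup K} (hV : Inv D V)
    (hB : ⁅T, T⁆ ≤ Subgroup.centralizer (V : Set K))
    (haC : a ∈ Subgroup.centralizer (V : Set K)) (hbC : b ∈ Subgroup.centralizer (V : Set K))
    (hcC : c ∉ Subgroup.centralizer (V : Set K)) : Tr D T := by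
  set B : Subgroup K := ⁅T, T⁆ with hBdef
  set C : Subgroup K := Subgroup.centralizer (V : Set K) with hCdef
  have hBT : B ≤ T := by
    rw [hBdef, Subgroup.commutator_le]
    intro x hx y hy
    rw [commutatorElement_def]
    exact mul_mem (mul_mem (mul_mem hx hy) (inv_mem hx)) (inv_mem hy)
  have hlT : ∀ x ∈ [a, b, c], x ∈ T := by
    intro x hx
    rw [hgen]
    exact Subgroup.subset_closure hx
  have hBinv : Inv D B := hT.commutator hT
  have hCinv : Inv D C := hV.centralizer
  set A : Subgroup K := T ⊓ C with hA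
  have hAinv : Inv D A := hT.inf hCinv
  have hAT : A ≤ T := inf_le_left
  have hBA : B ≤ A := le_inf hBT hB
  have hconjB : ∀ y ∈ T, ∀ x ∈ B, y * x * y⁻¹ ∈ B := by
    intro y hy x hx
    have h1 : y * x * y⁻¹ = ⁅y, x⁆ * x := by rw [commutatorElement_def]; group
    rw [h1]
    exact mul_mem (Subgroup.commutator_mem_commutator hy (hBT hx)) hx
  obtain ⟨h1, h2⟩ := relIndex_le_two_pow (T := T) [c] (A := A) hAT hBA
    (by
      intro x hx
      apply hlT
      rw [List.mem_singleton] at hx
      simp [hx])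
    (by
      intro x hx
      apply hBA
      apply hsq
      rw [List.mem_singleton] at hx
      simp [hx])
    (by
      conv_lhs => rw [hgen]
      rw [Subgroup.closure_le]
      intro x hx
      have hxT := hlT x hx
      change x ∈ [a, b, c] at hx
      simp only [List.mem_cons, List.not_mem_nil, or_false] at hx
      rcases hx with rfl | rfl | rfl
      · exact Subgroup.mem_sup_left ⟨hxT, haC⟩
      · exact Subgroup.mem_sup_left ⟨hxT, hbC⟩
      · exact Subgroup.mem_sup_right (Subgroup.subset_closure (by simp)))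
  obtain ⟨h3, h4⟩ := relIndex_le_two_pow (T := T) [a, b, c] (A := B) hBT le_rfl hlT hsq
    (hgen.le.trans le_sup_right)
  have h5 : A.relIndex T ≠ 1 := by
    intro h
    rw [Subgroup.relIndex_eq_one] at h
    exact hcC (h (hlT c (by simp))).2
  have h6 := Subgroup.relIndex_mul_relIndex B A T hBA hAT
  have h7 : B.relIndex A ≠ 0 := by
    intro h
    rw [h, zero_mul] at h6
    exact h3 h6.symm
  have h8 : B.relIndex A ≤ 4 := by
    have h9 : B.relIndex A * 2 ≤ 8 := by
      calc B.relIndex A * 2 ≤ B.relIndex A * A.relIndex T := Nat.mul_le_mul_left _ (by omega)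
        _ = B.relIndex T := h6
        _ ≤ 8 := h4
    omega
  have hs : ∀ X : Subgroup K, X ≤ T → Group.IsSolvable X := by
    intro X hX
    have : Finite X := Finite.of_injective _ (Subgroup.inclusion_injective hX)
    have hp : IsPGroup 2 X := hTp.of_injective (Subgroup.inclusion hX) (Subgroup.inclusion_injective hX)
    have : Group.IsNilpotent X := hp.isNilpotent
    infer_instance
  have t1 : TrMod D T A := trMod_of_relIndex_le_four hD hT hAinv h1 (h2.trans (by norm_num))
  have t2 : TrMod D A B := trMod_of_relIndex_le_four hD hAinv hBinv h7 h8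
  have t3 : TrMod D T B := TrMod.trans hD hconjB hAT (hs A hAT) t1 t2
  refine tr_of_frattini hD hTp hT ?_ t3
  have h10 : B = (commutator T).map T.subtype := by
    rw [commutator_def, Subgroup.map_commutator, ← MonoidHom.range_eq_map, Subgroup.range_subtype]
  rw [h10]
  exact Subgroup.map_mono (Cfsg.Agent.Lib.FrattiniPGroup.commutator_le_frattini hTp)

theorem isPGroup_T : IsPGroup 2 RuSyl.T := IsPGroup.of_card (n := 14) RuSyl.card_T

theorem tr {D : Subgroup (MulAut RuOrder.H)} (hD : ⁅D, D⁆ = D) (hT : Inv D RuSyl.T) : Tr D RuSyl.T := by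
  have hU : Inv D RuSyl.U := (((((hT.commutator hT).commutator hT).commutator hT).commutator hT).commutator
    hT).commutator hT
  refine tr_of_three hD isPGroup_T hT RuSyl.T_eq ?_ hU (RuSyl.comm_le_one.trans RuSyl.N3_le)
    (RuSyl.mem_centralizer_U (by norm_num) (by norm_num)) (RuSyl.mem_centralizer_U (by norm_num) (by norm_num))
    RuSyl.c_not_mem
  intro x hx
  simp only [List.mem_cons, List.not_mem_nil, or_false] at hx
  rcases hx with rfl | rfl | rfl
  · rw [RuSyl.g_eq_L 0 (by norm_num), RuSyl.L_sq 0 (by norm_num)]; exact one_mem _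
  · rw [RuSyl.g_eq_L 1 (by norm_num), RuSyl.L_sq 1 (by norm_num)]; exact one_mem _
  · rw [RuSyl.g_eq_L 2 (by norm_num), RuSyl.L_sq 2 (by norm_num)]; exact one_mem _

/-- `T` is a Sylow 2-subgroup -/
theorem exists_sylow : ∃ P : Sylow 2 RuOrder.H, (P : Subgroup RuOrder.H) = RuSyl.T := by
  have : Fact (Nat.Prime 2) := ⟨Nat.prime_two⟩
  obtain ⟨P, hP⟩ := isPGroup_T.exists_le_sylow
  refine ⟨P, (Subgroup.eq_of_le_of_card_ge hP ?_).symm⟩
  obtain ⟨k, hk⟩ := P.isPGroup'.exists_card_eq
  have h1 : Nat.card (P : Subgroup RuOrder.H) ∣ Nat.card RuOrder.H := Subgroup.card_subgroup_dvd_card _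
  rw [hk, RuOrder.card_H] at h1
  rw [hk, RuSyl.card_T]
  apply Nat.pow_le_pow_right (by norm_num)
  by_contra hcon
  have h2 : 2 ^ 15 ∣ 2 ^ k := pow_dvd_pow 2 (by omega)
  have h3 := h2.trans h1
  revert h3
  norm_num

end Cfsg.Agent.Schreier.RuTr
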