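import Cfsg.Agent.Schreier.Crit
import Cfsg.Agent.Schreier.RuTr
import Cfsg.Agent.SporadicB.RuSimple
import Cfsg.Agent.RuLat.Main

/-!
The Schreier property of the Rudvalis group.
-/

set_option autoImplicit false

namespace Cfsg.Agent.Schreier.Ru

open Cfsg.Agent.Schreier.Basic Cfsg.Agent.SporadicB

theorem not_comm : ¬ IsMulCommutative RuOrder.H := fun h =>
  RuSyl.c_not_mem (Subgroup.mem_centralizer_iff.2 fun u _ => h.is_comm.comm u _)

theorem sch_H : Sch RuOrder.H := by
  obtain ⟨P, hP⟩ := RuTr.exists_sylow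
  have : IsSimpleGroup RuOrder.H := RuSimple.isSimpleGroup_H
  refine Crit.sch_of_sylow not_comm P ?_
  intro D hD h
  rw [hP] at h ⊢
  exact RuTr.tr hD h

theorem sch : Sch Cfsg.Spor.Ru := Sch.of_equiv RuLat.Main.equiv.symm sch_H

end Cfsg.Agent.Schreier.Ru
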