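import Mathlib
import Cfsg.Agent.Schreier.Crit
import Cfsg.Agent.Schreier.BNField
import Cfsg.Agent.LieRecognition.SzMatrix
import Cfsg.Agent.S1162
import Cfsg.Agent.S1163

/-!
# The Suzuki groups have the Schreier property
-/

set_option autoImplicit false

namespace Cfsg.Agent.Schreier.Sz

open Cfsg Cfsg.Agent.Schreier.Basic Cfsg.Agent.Schreier.Tools Cfsg.Agent.Schreier.Crit Cfsg.Agent.Schreier.BNField
open Cfsg.Agent.LieRecognition.SzMatrix

variable {F : Type*} [Field F] {θ : F →+* F} {e : ℕ}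

/-- The subgroup of the elements `u 0 b`. -/
def zen (H : Good F θ e) : Subgroup ↥(Cfsg.Lie.Sz F e) where
  carrier := {g | ∃ b : F, g = H.u 0 b}
  mul_mem' := by
    rintro _ _ ⟨b, rfl⟩ ⟨c, rfl⟩
    exact ⟨b + c, by rw [H.u_mul]; simp⟩
  one_mem' := ⟨0, H.u_zero.symm⟩
  inv_mem' := by
    rintro _ ⟨b, rfl⟩
    exact ⟨b, by rw [H.u_inv]; simp⟩

theorem mem_zen (H : Good F θ e) {g : ↥(Cfsg.Lie.Sz F e)} : g ∈ zen H ↔ ∃ b : F, g = H.u 0 b := Iff.rfl

theorem zen_le (H : Good F θ e) : zen H ≤ H.unip := by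
  rintro _ ⟨b, rfl⟩
  exact H.u_mem_unip 0 b

theorem mem_zen_iff (H : Good F θ e) {g : ↥(Cfsg.Lie.Sz F e)} : g ∈ zen H ↔ g ∈ H.unip ∧ g * g = 1 := by
  constructor
  · rintro ⟨b, rfl⟩
    refine ⟨H.u_mem_unip 0 b, ?_⟩
    rw [H.u_mul, ← H.u_zero]
    congr 1
    · simp
    · rw [zero_mul, add_zero, H.add_self]
  · rintro ⟨hg, hgg⟩
    obtain ⟨a, b, rfl⟩ := (H.mem_unip_iff g).1 hg
    rw [H.u_mul, ← H.u_zero] at hgg
    have h1 := (H.u_inj hgg).2
    rw [H.add_self, zero_add, mul_eq_zero] at h1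
    have ha : a = 0 := by
      rcases h1 with h1 | h1
      · exact h1
      · exact (map_eq_zero θ).1 h1
    subst ha
    exact ⟨b, rfl⟩

theorem inv_zen (H : Good F θ e) {D : Subgroup (MulAut ↥(Cfsg.Lie.Sz F e))} (hT : Inv D H.unip) : Inv D (zen H) := by
  refine inv_iff.2 fun φ hφ g hg => ?_
  rw [mem_zen_iff] at hg ⊢
  exact ⟨hT.apply_mem hφ hg.1, by rw [← map_mul, hg.2, map_one]⟩

theorem normalizer_unip (H : Good F θ e) (g : ↥(Cfsg.Lie.Sz F e))
    (hg : g ∈ Subgroup.normalizer (H.unip : Set ↥(Cfsg.Lie.Sz F e))) : g ∈ H.borel := by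
  by_contra hcon
  obtain ⟨s, hs, hb⟩ := H.bruhat_sz g hcon
  set b := (s * H.w)⁻¹ * g with hbdef
  -- `b` and `s` normalise, hence `w` does
  have hw : ∀ x ∈ H.unip, H.w⁻¹ * x * H.w ∈ H.unip := by
    intro x hx
    have h1 : H.w = s⁻¹ * g * b⁻¹ := by rw [hbdef]; group
    have h2 : H.w⁻¹ * x * H.w = b * (g⁻¹ * (s * x * s⁻¹) * g) * b⁻¹ := by
      rw [h1]; group
    rw [h2]
    apply H.borel_normalizes b hb
    have h3 : s * x * s⁻¹ ∈ H.unip := mul_mem (mul_mem hs hx) (inv_mem hs)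
    have h4 := (Subgroup.mem_normalizer_iff.1 (inv_mem hg) (s * x * s⁻¹)).1 h3
    rwa [inv_inv] at h4
  have h5 := H.inter_trivial (H.u 1 0) (H.u_mem_unip 1 0) (H.unip_le_borel (hw _ (H.u_mem_unip 1 0)))
  rw [← H.u_zero] at h5
  exact one_ne_zero (H.u_inj h5).1

/-- The torus parameter of an element of the Borel subgroup. -/
def kk (g : ↥(Cfsg.Lie.Sz F e)) : F := g.1.1 0 0

theorem conj_u (H : Good F θ e) (a b c d : F) (k : Fˣ) :
    H.u a b * H.d k * H.u c d * (H.u a b * H.d k)⁻¹ =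
      H.u (c * k ^ 2 * (θ k)⁻¹) (d * θ k + a * θ (c * k ^ 2 * (θ k)⁻¹) + (c * k ^ 2 * (θ k)⁻¹) * θ a) := by
  rw [mul_inv_eq_iff_eq_mul, mul_assoc, H.d_mul_u, ← mul_assoc, ← mul_assoc, H.u_mul, H.u_mul]
  congr 2
  · ring
  · linear_combination (-(c * (k : F) ^ 2 * (θ k)⁻¹ * θ a)) * H.two


theorem kk_eq (H : Good F θ e) (a b : F) (k : Fˣ) : kk (H.u a b * H.d k) = (k : F) :=
  (H.U_mul_D_apply a b k).1

theorem u_mul_zero (H : Good F θ e) (t _s b : F) : (H.u t 0)⁻¹ * H.u t b = H.u 0 b := by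
  rw [inv_mul_eq_iff_eq_mul, H.u_mul]
  congr 1
  · simp
  · simp

theorem theta_surjective [Finite F] (θ : F →+* F) : Function.Surjective θ :=
  Finite.surjective_of_injective θ.injective

/-- The map `k ↦ k² / θ(k)` is onto. -/
theorem exists_sq_div [Finite F] (H : Good F θ e) {c : F} (hc : c ≠ 0) :
    ∃ k : Fˣ, (k : F) ^ 2 * (θ k)⁻¹ = c := by
  have hne : ∀ k : Fˣ, (k : F) ^ 2 * (θ k)⁻¹ ≠ 0 := fun k =>
    mul_ne_zero (pow_ne_zero _ k.ne_zero) (inv_ne_zero (theta_ne_zero θ k))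
  let f : Fˣ →* Fˣ :=
    { toFun := fun k => Units.mk0 _ (hne k)
      map_one' := by
        apply Units.ext
        simp
      map_mul' := fun k l => by
        apply Units.ext
        simp only [Units.val_mul, Units.val_mk0, map_mul, mul_inv]
        ring }
  have hf : Function.Injective f := by
    rw [injective_iff_map_eq_one]
    intro k hk
    have h1 : (k : F) ^ 2 * (θ k)⁻¹ = 1 := congrArg Units.val hk
    rw [mul_inv_eq_one₀ (theta_ne_zero θ k)] at h1
    -- `k² = θ k`, so `θ(k)² = θ(θ k) = k²`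
    have h2 : θ (k : F) ^ 2 = θ (k : F) := by
      rw [← map_pow, h1, H.sq, h1]
    have h3 : θ (k : F) = 1 := by
      have h4 := theta_ne_zero θ k
      have h5 : θ (k : F) * θ (k : F) = 1 * θ (k : F) := by rw [← pow_two, h2, one_mul]
      exact mul_right_cancel₀ h4 h5
    apply Units.ext
    exact θ.injective (by rw [h3, Units.val_one, map_one])
  have hfs : Function.Surjective f := Finite.surjective_of_injective hf
  obtain ⟨k, hk⟩ := hfs (Units.mk0 c hc)
  exact ⟨k, congrArg Units.val hk⟩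

theorem closure_eq_top (S : Set F) (h : ∀ c : F, c ≠ 0 → c ∈ S) : AddSubgroup.closure S = ⊤ := by
  rw [AddSubgroup.eq_top_iff']
  intro c
  by_cases hc : c = 0
  · rw [hc]; exact zero_mem _
  · exact AddSubgroup.subset_closure (h c hc)

/-- A perfect group of automorphisms leaving `unip` invariant acts trivially on it. -/
theorem tr_unip [Finite F] (H : Good F θ e) {D : Subgroup (MulAut ↥(Cfsg.Lie.Sz F e))} (hD : ⁅D, D⁆ = D)
    (hT : Inv D H.unip) : Tr D H.unip := by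
  have hZ := inv_zen H hT
  have hB : Inv D (Subgroup.normalizer (H.unip : Set ↥(Cfsg.Lie.Sz F e))) := hT.normalizer
  have hBb : ∀ g ∈ Subgroup.normalizer (H.unip : Set ↥(Cfsg.Lie.Sz F e)), ∃ (a b : F) (k : Fˣ), g = H.u a b * H.d k :=
    fun g hg => (H.mem_borel_iff' g).1 (normalizer_unip H g hg)
  have hborel : ∀ g ∈ H.borel, g ∈ Subgroup.normalizer (H.unip : Set ↥(Cfsg.Lie.Sz F e)) := by
    intro g hg
    rw [Subgroup.mem_normalizer_iff]
    intro x
    constructor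
    · intro hx; exact H.borel_normalizes g hg x hx
    · intro hx
      have := H.borel_normalizes g⁻¹ (inv_mem hg) _ hx
      have h2 : g⁻¹ * (g * x * g⁻¹) * g⁻¹⁻¹ = x := by group
      rwa [h2] at this
  have hconjZ : ∀ b ∈ Subgroup.normalizer (H.unip : Set ↥(Cfsg.Lie.Sz F e)), ∀ y ∈ zen H, b * y * b⁻¹ ∈ zen H := by
    intro b hb y hy
    obtain ⟨a, b', k, rfl⟩ := hBb b hb
    obtain ⟨d, rfl⟩ := hy
    rw [conj_u]
    refine ⟨d * θ k, ?_⟩
    congr 1
    · simp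
    · simp
  have hunip : ∀ g ∈ H.unip, g ∈ Subgroup.normalizer (H.unip : Set ↥(Cfsg.Lie.Sz F e)) := fun g hg =>
    hborel g (H.unip_le_borel hg)
  -- the section `T / Z`
  have h1 : TrMod D H.unip (zen H) := by
    refine trMod_of_field hD hB hT hZ (zen_le H) (fun u hu y hy => hconjZ u (hunip u hu) y hy) hconjZ
      (fun t => H.u t 0) (fun t => H.u_mem_unip t 0) ?_ ?_ ?_
      (fun g => kk g ^ 2 * (θ (kk g))⁻¹) ?_ ?_
    · intro t₁ t₂
      rw [H.u_mul, u_mul_zero H _ 0]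
      exact ⟨_, rfl⟩
    · rintro t ⟨b, hb⟩
      exact (H.u_inj hb).1
    · intro u hu
      obtain ⟨a, b, rfl⟩ := (H.mem_unip_iff u).1 hu
      exact ⟨a, b, u_mul_zero H _ 0 _⟩
    · intro g hg t
      obtain ⟨a, b, k, rfl⟩ := hBb g hg
      rw [kk_eq, conj_u]
      have h2 : (k : F) ^ 2 * (θ k)⁻¹ * t = t * k ^ 2 * (θ k)⁻¹ := by ring
      rw [h2]
      exact ⟨_, u_mul_zero H _ 0 _⟩
    · apply closure_eq_top
      intro c hc
      obtain ⟨k, hk⟩ := exists_sq_div H hc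
      refine ⟨H.u 0 0 * H.d k, hborel _ (H.mem_borel_iff' _ |>.2 ⟨_, _, _, rfl⟩), ?_⟩
      simp only [kk_eq]
      exact hk
  -- the section `Z`
  have h2 : TrMod D (zen H) ⊥ := by
    refine trMod_of_field hD hB hZ (inv_bot D) bot_le ?_ ?_
      (fun t => H.u 0 t) (fun t => ⟨t, rfl⟩) ?_ ?_ ?_
      (fun g => θ (kk g)) ?_ ?_
    · intro u _ y hy
      rw [Subgroup.mem_bot] at hy ⊢
      rw [hy]; group
    · intro u _ y hy
      rw [Subgroup.mem_bot] at hy ⊢
      rw [hy]; group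
    · intro t₁ t₂
      rw [H.u_mul, Subgroup.mem_bot, inv_mul_eq_one]
      congr 1
      · simp
      · simp
    · intro t ht
      rw [Subgroup.mem_bot, ← H.u_zero] at ht
      exact (H.u_inj ht).2
    · rintro u ⟨b, rfl⟩
      exact ⟨b, by rw [inv_mul_cancel]; exact one_mem _⟩
    · intro g hg t
      obtain ⟨a, b, k, rfl⟩ := hBb g hg
      rw [kk_eq, conj_u, Subgroup.mem_bot, inv_mul_eq_one]
      congr 1
      · simp
      · simp [mul_comm]
    · apply closure_eq_top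
      intro c hc
      obtain ⟨k, hk⟩ := theta_surjective θ c
      have hk0 : k ≠ 0 := by
        rintro rfl
        rw [map_zero] at hk
        exact hc hk.symm
      refine ⟨H.u 0 0 * H.d (Units.mk0 k hk0), hborel _ (H.mem_borel_iff' _ |>.2 ⟨_, _, _, rfl⟩), ?_⟩
      simp only [kk_eq]
      exact hk
  refine tr_of_trMod hD ?_ (trMod_bot.1 h2) h1
  apply Group.isSolvable_of_comm
  rintro ⟨_, a, rfl⟩ ⟨_, b, rfl⟩
  apply Subtype.ext
  show H.u 0 a * H.u 0 b = H.u 0 b * H.u 0 a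
  rw [H.u_mul, H.u_mul]
  congr 1
  simp [add_comm]

/-- `Sz(2^(2m+1))`, `m ≥ 1`, has the Schreier property. -/
theorem sch [Fintype F] {m : ℕ} (hm : 1 ≤ m) (hF : Fintype.card F = 2 ^ (2 * m + 1)) :
    Sch ↥(Cfsg.Lie.Sz F (2 ^ (m + 1))) := by
  classical
  have H := good hF
  have hs : IsSimpleGroup ↥(Cfsg.Lie.Sz F (2 ^ (m + 1))) := Cfsg.Agent.S1162.result hm hF
  have hcardU := H.card_unip
  rw [Nat.card_eq_fintype_card (α := F), hF] at hcardU
  have hp : IsPGroup 2 H.unip := IsPGroup.of_card (n := (2 * m + 1) * 2) (by rw [hcardU, ← pow_mul])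
  have hcard := (Cfsg.Agent.S1163.result hm hF).1
  have hF8 : 1 ≤ 2 ^ (2 * m) := Nat.one_le_two_pow
  have hpow : 2 ^ (2 * m + 1) = 2 * 2 ^ (2 * m) := by rw [pow_succ, mul_comm]
  have hidx : ¬ 2 ∣ H.unip.index := by
    have h1 := Subgroup.card_mul_index H.unip
    rw [hcard, hcardU, mul_assoc] at h1
    have h2 := Nat.eq_of_mul_eq_mul_left (by positivity) h1
    rw [h2, ← even_iff_two_dvd, Nat.not_even_iff_odd, hpow]
    apply Odd.mul
    · exact ⟨2 ^ (2 * m) - 1, by omega⟩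
    · exact ⟨2 * (2 ^ (2 * m) * 2 ^ (2 * m)), by ring⟩
  have hnc : ¬ IsMulCommutative ↥(Cfsg.Lie.Sz F (2 ^ (m + 1))) := by
    intro h
    have h0 : (1 : F) ≠ 0 := one_ne_zero
    have h1 : H.w * H.u 1 0 = H.u 1 0 * H.w := IsMulCommutative.is_comm.comm _ _
    have h2 : H.w⁻¹ * H.u 1 0 * H.w = H.u 1 0 := by
      rw [mul_assoc, ← h1]
      group
    have h3 := H.inter_trivial (H.u 1 0) (H.u_mem_unip 1 0) (by rw [h2]; exact H.u_mem_borel 1 0)
    rw [← H.u_zero] at h3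
    exact one_ne_zero (H.u_inj h3).1
  refine sch_of_sylow hnc (hp.toSylow hidx) fun D hD hI => ?_
  exact tr_unip H hD hI

/-- The Schreier property for the groups recognised as Suzuki groups. -/
theorem schFor {G : Type*} [Group G] (h : Cfsg.Lie.IsoSuzuki G) : Sch G := by
  obtain ⟨K, i1, i2, m, hm, hK, ⟨e⟩⟩ := h
  exact Sch.of_equiv e.symm (sch hm hK)

end Cfsg.Agent.Schreier.Sz
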