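import Mathlib
import Cfsg.Agent.StandardComponent.AltAut
import Cfsg.Agent.Schreier.Basic

/-!
# The Schreier property of the alternating groups of degree at least 7
-/

set_option autoImplicit false

namespace Cfsg.Agent.Schreier.AltSeven

open Cfsg.Agent.Schreier.Basic

/-- The alternating groups of degree at least 7 have the Schreier property. -/
theorem sch (n : ℕ) (hn : 7 ≤ n) : Sch (alternatingGroup (Fin n)) := by
  intro C hC e he
  obtain ⟨ψ, hψ⟩ := Cfsg.Agent.StandardComponent.AltAut.exists_autHom n hn
  have h1 : (Equiv.Perm.sign.comp ψ) e = 1 := apply_eq_one_of_perfect _ hC he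
  refine ⟨⟨ψ e, Equiv.Perm.mem_alternatingGroup.2 h1⟩, ?_⟩
  apply MulEquiv.ext
  intro x
  rw [MulAut.conj_apply]
  apply Subtype.ext
  exact (hψ e x).symm

end Cfsg.Agent.Schreier.AltSeven
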