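import Mathlib
import Cfsg.Agent.Schreier.Tools

/-!
# Perfect groups acting on abelian sections and commuting with operators

Let `D` be a perfect group of automorphisms, `Z ≤ Q` invariant subgroups with `[Q, Q] ≤ Z`.
* `trMod_of_cyclic`: if `D` commutes (modulo a group acting trivially) with a set `S` of pairwise commuting operators
  and `Q / Z` is generated by one element as a module for `S`, then `D` acts trivially on `Q / Z`.
* `trMod_of_orbit`: if `D` fixes `c Z` and `Q / Z` is generated by the `S`-conjugates of `c`, the same.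
-/

set_option autoImplicit false

namespace Cfsg.Agent.Schreier.CyclicMod

open Cfsg.Agent.Schreier.Basic Cfsg.Agent.Schreier.Tools

variable {K : Type*} [Group K]

open scoped commutatorElement

/-- Elements of an additive group generated as a module by one element: an endomorphism commuting with the (pairwise
commuting) operators lies in the ring generated by them. -/
theorem mem_closure_of_commute {M : Type*} [AddCommGroup M] (X : Set (AddMonoid.End M))
    (c : M) (hc : ∀ N : AddSubgroup M, c ∈ N → (∀ x ∈ X, ∀ n ∈ N, x n ∈ N) → N = ⊤)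
    (f : AddMonoid.End M) (hf : ∀ x ∈ X, f * x = x * f) (hX : ∀ x ∈ X, ∀ y ∈ X, x * y = y * x) :
    f ∈ Subring.closure X := by
  -- every element of `M` is `P c`
  have h1 : ∀ m : M, ∃ P ∈ Subring.closure X, P c = m := by
    let N : AddSubgroup M :=
      { carrier := {m | ∃ P ∈ Subring.closure X, P c = m}
        zero_mem' := ⟨0, zero_mem _, rfl⟩
        add_mem' := by
          rintro _ _ ⟨P, hP, rfl⟩ ⟨R, hR, rfl⟩
          exact ⟨P + R, add_mem hP hR, rfl⟩
        neg_mem' := by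
          rintro _ ⟨P, hP, rfl⟩
          exact ⟨-P, neg_mem hP, rfl⟩ }
    have hN : N = ⊤ := by
      apply hc
      · exact ⟨1, one_mem _, rfl⟩
      · rintro x hx _ ⟨P, hP, rfl⟩
        exact ⟨x * P, mul_mem (Subring.subset_closure hx) hP, rfl⟩
    intro m
    have : m ∈ N := by rw [hN]; trivial
    exact this
  obtain ⟨P, hP, hPc⟩ := h1 (f c)
  -- elements of the closure commute with `x`
  have h2 : ∀ R ∈ Subring.closure X, ∀ x ∈ X, R * x = x * R := by
    intro R hR x hx
    induction hR using Subring.closure_induction with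
    | mem y hy => exact hX y hy x hx
    | zero => rw [zero_mul, mul_zero]
    | one => rw [one_mul, mul_one]
    | add a b _ _ ha hb => rw [add_mul, mul_add, ha, hb]
    | neg a _ ha => rw [neg_mul, mul_neg, ha]
    | mul a b _ _ ha hb => rw [mul_assoc, hb, ← mul_assoc, ha, mul_assoc]
  have h3 : f = P := by
    let N : AddSubgroup M :=
      { carrier := {m | f m = P m}
        zero_mem' := by simp
        add_mem' := by
          intro a b ha hb
          simp only [Set.mem_setOf_eq, map_add] at ha hb ⊢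
          rw [ha, hb]
        neg_mem' := by
          intro a ha
          simp only [Set.mem_setOf_eq, map_neg] at ha ⊢
          rw [ha] }
    have hN : N = ⊤ := by
      apply hc
      · exact hPc.symm
      · intro x hx n hn
        have hn' : f n = P n := hn
        show f (x n) = P (x n)
        have e1 : f (x n) = x (f n) := DFunLike.congr_fun (hf x hx) n
        have e2 : P (x n) = x (P n) := DFunLike.congr_fun (h2 P hP x hx) n
        rw [e1, e2, hn']
    ext m
    have : m ∈ N := by rw [hN]; trivial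
    exact this
  rw [h3]
  exact hP

/-- the ring generated by pairwise commuting elements is commutative -/
theorem closure_comm {R : Type*} [Ring R] (X : Set R) (hX : ∀ x ∈ X, ∀ y ∈ X, x * y = y * x) :
    ∀ a ∈ Subring.closure X, ∀ b ∈ Subring.closure X, a * b = b * a := by
  have h2 : ∀ a ∈ Subring.closure X, ∀ x ∈ X, a * x = x * a := by
    intro R hR x hx
    induction hR using Subring.closure_induction with
    | mem y hy => exact hX y hy x hx
    | zero => rw [zero_mul, mul_zero]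
    | one => rw [one_mul, mul_one]
    | add a b _ _ ha hb => rw [add_mul, mul_add, ha, hb]
    | neg a _ ha => rw [neg_mul, mul_neg, ha]
    | mul a b _ _ ha hb => rw [mul_assoc, hb, ← mul_assoc, ha, mul_assoc]
  intro a ha b hb
  induction hb using Subring.closure_induction with
  | mem y hy => exact h2 a ha y hy
  | zero => rw [zero_mul, mul_zero]
  | one => rw [one_mul, mul_one]
  | add u v _ _ hu hv => rw [mul_add, add_mul, hu, hv]
  | neg u _ hu => rw [mul_neg, neg_mul, hu]
  | mul u v _ _ hu hv => rw [← mul_assoc, hu, mul_assoc, hv, mul_assoc]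

/-- The cyclic module lemma. -/
theorem trMod_of_cyclic {D : Subgroup (MulAut K)} (hD : ⁅D, D⁆ = D) {Q Z R : Subgroup K} (hQ : Inv D Q)
    (hZ : Inv D Z) (hZQ : Z ≤ Q) (hab : ⁅Q, Q⁆ ≤ Z)
    (hRQ : ∀ r ∈ R, ∀ q ∈ Q, q⁻¹ * (r * q * r⁻¹) ∈ Z)
    (S : Set K) (hSQ : ∀ s ∈ S, ∀ q ∈ Q, s * q * s⁻¹ ∈ Q) (hSZ : ∀ s ∈ S, ∀ z ∈ Z, s * z * s⁻¹ ∈ Z)
    (hSD : ∀ φ ∈ D, ∀ s ∈ S, s⁻¹ * φ s ∈ R) (hSS : ∀ s ∈ S, ∀ t ∈ S, (s * t)⁻¹ * (t * s) ∈ R)
    (c : K) (hc : c ∈ Q)
    (hgen : ∀ N : Subgroup K, Z ≤ N → c ∈ N → (∀ s ∈ S, ∀ n ∈ N, n ∈ Q → s * n * s⁻¹ ∈ N) → Q ≤ N) :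
    TrMod D Q Z := by
  classical
  have hZn : (Z.subgroupOf Q).Normal := by
    constructor
    intro z hz q
    rw [Subgroup.mem_subgroupOf] at hz ⊢
    have h1 : ⁅(q : K), (z : K)⁆ ∈ Z := hab (Subgroup.commutator_mem_commutator q.2 z.2)
    have h2 : ((q * z * q⁻¹ : Q) : K) = ⁅(q : K), (z : K)⁆ * z := by
      simp [commutatorElement_def]
    rw [h2]
    exact mul_mem h1 hz
  let W := Q ⧸ Z.subgroupOf Q
  have hcomm : ∀ a b : W, a * b = b * a := by
    intro a b
    induction a using QuotientGroup.induction_on with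
    | H a =>
      induction b using QuotientGroup.induction_on with
      | H b =>
        rw [← QuotientGroup.mk_mul, ← QuotientGroup.mk_mul, QuotientGroup.eq, Subgroup.mem_subgroupOf]
        have h1 : ⁅(b : K)⁻¹, (a : K)⁻¹⁆ ∈ Z :=
          hab (Subgroup.commutator_mem_commutator (inv_mem b.2) (inv_mem a.2))
        have h2 : (((a * b)⁻¹ * (b * a) : Q) : K) = ⁅(b : K)⁻¹, (a : K)⁻¹⁆ := by
          simp [commutatorElement_def, mul_assoc]
        rw [h2]
        exact h1
  letI : CommGroup W := { (inferInstance : Group W) with mul_comm := hcomm }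
  -- operators
  have hop : ∀ (f : K →* K) (h1 : ∀ q ∈ Q, f q ∈ Q) (h2 : ∀ z ∈ Z, f z ∈ Z),
      ∃ g : W →* W, ∀ q : Q, g (QuotientGroup.mk q) = QuotientGroup.mk (⟨f q, h1 q q.2⟩ : Q) := by
    intro f h1 h2
    let f' : Q →* Q :=
      { toFun := fun q => ⟨f q, h1 q q.2⟩
        map_one' := Subtype.ext (map_one f)
        map_mul' := fun a b => Subtype.ext (map_mul f _ _) }
    refine ⟨QuotientGroup.map (Z.subgroupOf Q) (Z.subgroupOf Q) f' ?_, fun q => rfl⟩
    intro z hz
    rw [Subgroup.mem_comap, Subgroup.mem_subgroupOf]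
    exact h2 _ hz
  have hopD : ∀ φ : D, ∃ g : W →* W, ∀ q : Q, g (QuotientGroup.mk q) =
      QuotientGroup.mk (⟨(φ : MulAut K) q, hQ.apply_mem φ.2 q.2⟩ : Q) := fun φ =>
    hop ((φ : MulAut K) : K ≃* K).toMonoidHom (fun q hq => hQ.apply_mem φ.2 hq) (fun z hz => hZ.apply_mem φ.2 hz)
  choose F hF using hopD
  have hopS : ∀ s : S, ∃ g : W →* W, ∀ q : Q, g (QuotientGroup.mk q) =
      QuotientGroup.mk (⟨(s : K) * q * (s : K)⁻¹, hSQ s s.2 q q.2⟩ : Q) := fun s =>
    hop (MulAut.conj (s : K)).toMonoidHom (fun q hq => hSQ s s.2 q hq) (fun z hz => hSZ s s.2 z hz)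
  choose X hX using hopS
  -- equality in W
  have heq : ∀ (a b : Q), (a : K)⁻¹ * b ∈ Z → (QuotientGroup.mk a : W) = QuotientGroup.mk b := by
    intro a b h
    rw [QuotientGroup.eq, Subgroup.mem_subgroupOf]
    exact h
  -- conjugation by an element of `R` is trivial on `W`; `u r` and `u` act in the same way
  have hRact : ∀ (u r q : K), r ∈ R → q ∈ Q → (∀ z ∈ Z, u * z * u⁻¹ ∈ Z) →
      (u * q * u⁻¹)⁻¹ * ((u * r) * q * (u * r)⁻¹) ∈ Z := by
    intro u r q hr hq hu
    have h1 := hu _ (hRQ r hr q hq)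
    have h2 : (u * q * u⁻¹)⁻¹ * ((u * r) * q * (u * r)⁻¹) = u * (q⁻¹ * (r * q * r⁻¹)) * u⁻¹ := by group
    rw [h2]
    exact h1
  -- the operators commute
  have hFX : ∀ (φ : D) (s : S) (w : W), F φ (X s w) = X s (F φ w) := by
    intro φ s w
    induction w using QuotientGroup.induction_on with
    | H q =>
      rw [hX, hF, hF, hX]
      symm
      apply heq
      show ((s : K) * ((φ : MulAut K) q) * (s : K)⁻¹)⁻¹ * (φ : MulAut K) ((s : K) * q * (s : K)⁻¹) ∈ Z
      have hr := hSD φ φ.2 s s.2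
      have h1 := hRact s _ ((φ : MulAut K) q) hr (hQ.apply_mem φ.2 q.2) (hSZ s s.2)
      have h2 : (s : K) * ((s : K)⁻¹ * (φ : MulAut K) s) = (φ : MulAut K) s := by group
      rw [h2] at h1
      rw [map_mul, map_mul, map_inv]
      exact h1
  have hXX : ∀ (s t : S) (w : W), X s (X t w) = X t (X s w) := by
    intro s t w
    induction w using QuotientGroup.induction_on with
    | H q =>
      rw [hX, hX, hX, hX]
      apply heq
      show ((s : K) * ((t : K) * q * (t : K)⁻¹) * (s : K)⁻¹)⁻¹ *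
        ((t : K) * ((s : K) * q * (s : K)⁻¹) * (t : K)⁻¹) ∈ Z
      have hr := hSS s s.2 t t.2
      have h1 := hRact ((s : K) * t) _ q hr q.2 (by
        intro z hz
        have h3 := hSZ s s.2 _ (hSZ t t.2 z hz)
        have h4 : (s : K) * (t : K) * z * ((s : K) * (t : K))⁻¹ = (s : K) * ((t : K) * z * (t : K)⁻¹) * (s : K)⁻¹ := by group
        rw [h4]; exact h3)
      have h2 : (s : K) * (t : K) * (((s : K) * (t : K))⁻¹ * ((t : K) * (s : K))) = (t : K) * (s : K) := by group
      rw [h2] at h1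
      have h3 : ((s : K) * ((t : K) * q * (t : K)⁻¹) * (s : K)⁻¹) = (s : K) * t * q * ((s : K) * t)⁻¹ := by group
      have h4 : ((t : K) * ((s : K) * q * (s : K)⁻¹) * (t : K)⁻¹) = (t : K) * s * q * ((t : K) * s)⁻¹ := by group
      rw [h3, h4]
      exact h1
  -- additive versions
  let toEnd : (W →* W) → AddMonoid.End (Additive W) := fun g => MonoidHom.toAdditive g
  let XS : Set (AddMonoid.End (Additive W)) := Set.range fun s : S => toEnd (X s)
  have hXScomm : ∀ x ∈ XS, ∀ y ∈ XS, x * y = y * x := by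
    rintro _ ⟨s, rfl⟩ _ ⟨t, rfl⟩
    ext w
    exact congrArg Additive.ofMul (hXX s t w.toMul)
  have hmem : ∀ φ : D, toEnd (F φ) ∈ Subring.closure XS := by
    intro φ
    refine mem_closure_of_commute XS (Additive.ofMul (QuotientGroup.mk (⟨c, hc⟩ : Q))) ?_ _ ?_ hXScomm
    · intro N hcN hN
      -- the preimage of `N` in `K`
      let P : Subgroup K :=
        { carrier := {k | ∃ hk : k ∈ Q, Additive.ofMul (QuotientGroup.mk (⟨k, hk⟩ : Q) : W) ∈ N}
          one_mem' := ⟨one_mem _, by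
            have : (QuotientGroup.mk (⟨1, one_mem Q⟩ : Q) : W) = 1 := rfl
            rw [this]
            exact zero_mem N⟩
          mul_mem' := by
            rintro a b ⟨ha, ha'⟩ ⟨hb, hb'⟩
            exact ⟨mul_mem ha hb, add_mem ha' hb'⟩
          inv_mem' := by
            rintro a ⟨ha, ha'⟩
            exact ⟨inv_mem ha, neg_mem ha'⟩ }
      have hP := hgen P ?_ ⟨hc, hcN⟩ ?_
      · rw [AddSubgroup.eq_top_iff']
        intro w
        obtain ⟨q, hq⟩ := QuotientGroup.mk_surjective w.toMul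
        obtain ⟨hk, hk'⟩ := hP q.2
        have : (Additive.ofMul (QuotientGroup.mk (⟨(q : K), hk⟩ : Q) : W)) = w := by
          rw [show (⟨(q : K), hk⟩ : Q) = q from rfl, hq]
          rfl
        rw [← this]
        exact hk'
      · intro z hz
        refine ⟨hZQ hz, ?_⟩
        have : (QuotientGroup.mk (⟨z, hZQ hz⟩ : Q) : W) = 1 := by
          rw [QuotientGroup.eq_one_iff, Subgroup.mem_subgroupOf]
          exact hz
        rw [this]
        exact zero_mem N
      · rintro s hs n ⟨hn, hn'⟩ _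
        refine ⟨hSQ s hs n hn, ?_⟩
        have h1 := hN _ ⟨⟨s, hs⟩, rfl⟩ _ hn'
        have h2 : toEnd (X ⟨s, hs⟩) (Additive.ofMul (QuotientGroup.mk (⟨n, hn⟩ : Q) : W)) =
            Additive.ofMul (QuotientGroup.mk (⟨s * n * s⁻¹, hSQ s hs n hn⟩ : Q) : W) :=
          congrArg Additive.ofMul (hX ⟨s, hs⟩ ⟨n, hn⟩)
        rw [h2] at h1
        exact h1
    · rintro _ ⟨s, rfl⟩
      ext w
      exact congrArg Additive.ofMul (hFX φ s w.toMul)
  have hcommF : ∀ (φ ψ : D) (w : W), F φ (F ψ w) = F ψ (F φ w) := by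
    intro φ ψ w
    have h1 := closure_comm XS hXScomm _ (hmem φ) _ (hmem ψ)
    exact congrArg Additive.toMul (DFunLike.congr_fun h1 (Additive.ofMul w))
  -- now the homomorphism
  have hFmul : ∀ (φ ψ : D) (w : W), F (φ * ψ) w = F φ (F ψ w) := by
    intro φ ψ w
    induction w using QuotientGroup.induction_on with
    | H q => rw [hF, hF, hF]; rfl
  have hF1 : ∀ w : W, F 1 w = w := by
    intro w
    induction w using QuotientGroup.induction_on with
    | H q => rw [hF]; rfl
  let f : D →* Equiv.Perm W :=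
    { toFun := fun φ =>
        { toFun := F φ
          invFun := F φ⁻¹
          left_inv := fun w => by rw [← hFmul, inv_mul_cancel, hF1]
          right_inv := fun w => by rw [← hFmul, mul_inv_cancel, hF1] }
      map_one' := by
        ext w
        exact hF1 w
      map_mul' := fun φ ψ => by
        ext w
        exact hFmul φ ψ w }
  have hcomm' : ∀ a b : f.range, a * b = b * a := by
    rintro ⟨_, φ, rfl⟩ ⟨_, ψ, rfl⟩
    apply Subtype.ext
    ext w
    exact hcommF φ ψ w
  have hsol : Group.IsSolvable f.range := by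
    letI : CommGroup f.range := { (inferInstance : Group f.range) with mul_comm := hcomm' }
    exact Group.isSolvable_of_comm hcomm'
  intro φ hφ q hq
  have h1 := hom_eq_one hD f.rangeRestrict ⟨φ, hφ⟩
  have h2 : f ⟨φ, hφ⟩ (QuotientGroup.mk (⟨q, hq⟩ : Q)) = QuotientGroup.mk (⟨q, hq⟩ : Q) := by
    have := congrArg (fun x : f.range => (x : Equiv.Perm W) (QuotientGroup.mk (⟨q, hq⟩ : Q))) h1
    exact this
  have h3 : (QuotientGroup.mk (⟨φ q, hQ.apply_mem hφ hq⟩ : Q) : W) = QuotientGroup.mk (⟨q, hq⟩ : Q) := by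
    rw [← h2]
    exact (hF ⟨φ, hφ⟩ ⟨q, hq⟩).symm
  have h4 := h3.symm
  rw [QuotientGroup.eq, Subgroup.mem_subgroupOf] at h4
  exact h4

/-- The orbit lemma: no perfectness needed. -/
theorem trMod_of_orbit {D : Subgroup (MulAut K)} {Q Z R : Subgroup K} (hQ : Inv D Q) (hZ : Inv D Z)
    (hab : ⁅Q, Q⁆ ≤ Z) (hZQ : Z ≤ Q)
    (hRQ : ∀ r ∈ R, ∀ q ∈ Q, q⁻¹ * (r * q * r⁻¹) ∈ Z)
    (S : Set K) (hSQ : ∀ s ∈ S, ∀ q ∈ Q, s * q * s⁻¹ ∈ Q) (hSZ : ∀ s ∈ S, ∀ z ∈ Z, s * z * s⁻¹ ∈ Z)
    (hSD : ∀ φ ∈ D, ∀ s ∈ S, s⁻¹ * φ s ∈ R)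
    (C : Set K) (hC : ∀ c ∈ C, c ∈ Q ∧ ∀ φ ∈ D, c⁻¹ * φ c ∈ Z)
    (hgen : ∀ N : Subgroup K, Z ≤ N → C ⊆ N → (∀ s ∈ S, ∀ n ∈ N, n ∈ Q → s * n * s⁻¹ ∈ N) → Q ≤ N) :
    TrMod D Q Z := by
  have hZn : ∀ q ∈ Q, ∀ z ∈ Z, q * z * q⁻¹ ∈ Z := by
    intro q hq z hz
    have h1 : ⁅q, z⁆ ∈ Z := hab (Subgroup.commutator_mem_commutator hq (hZQ hz))
    have h2 : q * z * q⁻¹ = ⁅q, z⁆ * z := by simp [commutatorElement_def]
    rw [h2]
    exact mul_mem h1 hz
  let P : Subgroup K :=
    { carrier := {k | k ∈ Q ∧ ∀ φ ∈ D, k⁻¹ * φ k ∈ Z}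
      one_mem' := ⟨one_mem _, fun φ _ => by simp⟩
      mul_mem' := by
        rintro a b ⟨ha, ha'⟩ ⟨hb, hb'⟩
        refine ⟨mul_mem ha hb, fun φ hφ => ?_⟩
        have h1 := hZn _ (inv_mem hb) _ (ha' φ hφ)
        have h2 := mul_mem h1 (hb' φ hφ)
        rw [map_mul]
        convert h2 using 1
        group
      inv_mem' := by
        rintro a ⟨ha, ha'⟩
        refine ⟨inv_mem ha, fun φ hφ => ?_⟩
        have h1 := hZn _ ha _ (inv_mem (ha' φ hφ))
        rw [map_inv]
        convert h1 using 1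
        group }
  have hP : Q ≤ P := by
    apply hgen P
    · intro z hz
      exact ⟨hZQ hz, fun φ hφ => mul_mem (inv_mem hz) (hZ.apply_mem hφ hz)⟩
    · intro c hc
      exact hC c hc
    · rintro s hs n ⟨hn, hn'⟩ _
      refine ⟨hSQ s hs n hn, fun φ hφ => ?_⟩
      -- `(s n s⁻¹)⁻¹ φ(s) φ(n) φ(s)⁻¹`
      have hr := hSD φ hφ s hs
      set r := s⁻¹ * φ s with hrdef
      have hφs : φ s = s * r := by rw [hrdef]; group
      have h1 := hRQ r hr (φ n) (hQ.apply_mem hφ hn)
      have h2 := hSZ s hs _ (mul_mem (hn' φ hφ) h1)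
      have h3 : (s * n * s⁻¹)⁻¹ * φ (s * n * s⁻¹) =
          s * (n⁻¹ * φ n * ((φ n)⁻¹ * (r * φ n * r⁻¹))) * s⁻¹ := by
        rw [map_mul, map_mul, map_inv, hφs]
        group
      rw [h3]
      exact h2
  intro φ hφ q hq
  exact (hP hq).2 φ hφ

end Cfsg.Agent.Schreier.CyclicMod
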