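import Mathlib
import Cfsg.Agent.Schreier.Tools
import Cfsg.Agent.Schreier.Tools3

/-!
# A perfect group acting on a section with the Schreier property and normalising a Sylow 2-subgroup
-/

set_option autoImplicit false

namespace Cfsg.Agent.Schreier.Section

open Cfsg.Agent.Schreier.Basic Cfsg.Agent.Schreier.Tools Cfsg.Agent.Schreier.Tools3

variable {K : Type*} [Group K]

/-- The action of `D` on the section `H / N`. -/
theorem exists_section_hom {D : Subgroup (MulAut K)} {H N : Subgroup K} (hH : Inv D H) (hN : Inv D N)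
    [hn : (N.subgroupOf H).Normal] :
    ∃ f : D →* MulAut (H ⧸ N.subgroupOf H), ∀ (φ : D) (h : H), f φ (QuotientGroup.mk h) =
      QuotientGroup.mk (⟨(φ : MulAut K) h, hH.apply_mem φ.2 h.2⟩ : H) := by
  have h1 : ∀ φ : D, (N.subgroupOf H).map (hH.res φ).toMonoidHom = N.subgroupOf H := by
    intro φ
    ext x
    constructor
    · rintro ⟨n, hn', rfl⟩
      exact hN.apply_mem φ.2 hn'
    · intro hx
      refine ⟨⟨(φ : MulAut K)⁻¹ x, hH.apply_mem (inv_mem φ.2) x.2⟩, hN.apply_mem (inv_mem φ.2) hx, ?_⟩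
      exact Subtype.ext (MulAut.apply_inv_self _ (φ : MulAut K) x)
  refine ⟨{ toFun := fun φ => QuotientGroup.congr _ _ (hH.res φ) (h1 φ)
            map_one' := ?_, map_mul' := ?_ }, ?_⟩
  · ext x
    induction x using QuotientGroup.induction_on with
    | H a => rfl
  · intro φ ψ
    ext x
    induction x using QuotientGroup.induction_on with
    | H a => rfl
  · intro φ h
    rfl

/-- **Section lemma**: a perfect group of automorphisms leaving invariant `N ⊴ H` and a Sylow 2-subgroup `S` of `H` acts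
trivially on `H / N` if `H / N` has the Schreier property. -/
theorem trMod_of_sch [Finite K] {D : Subgroup (MulAut K)} (hD : ⁅D, D⁆ = D) {H N S : Subgroup K} (hH : Inv D H)
    (hN : Inv D N) (hS : Inv D S) (hSp : IsPGroup 2 S) (hodd : Odd (S.relIndex H))
    [hn : (N.subgroupOf H).Normal] (hs : Sch (H ⧸ N.subgroupOf H)) : TrMod D H N := by
  obtain ⟨f, hf⟩ := exists_section_hom hH hN
  set C := f.range with hC
  have hCp : ⁅C, C⁆ = C := by
    rw [hC, MonoidHom.range_eq_map, ← Subgroup.map_commutator, top_perfect hD]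
  have h1 := hs C hCp
  -- the Sylow subgroup of the quotient
  let q : H →* H ⧸ N.subgroupOf H := QuotientGroup.mk' _
  have hq : Function.Surjective q := QuotientGroup.mk'_surjective _
  set P : Subgroup (H ⧸ N.subgroupOf H) := (S.subgroupOf H).map q with hP
  have hPp : IsPGroup 2 P := (hSp.comap_subtype (K := H)).map q
  have hPi : Odd P.index := Odd.of_dvd_nat hodd (Subgroup.index_map_dvd _ hq)
  have hsol := isSolvable_normalizer P hPp hPi
  have hinvP : ∀ (φ : D), ∀ x ∈ P, f φ x ∈ P := by
    rintro φ _ ⟨t, ht, rfl⟩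
    refine ⟨⟨(φ : MulAut K) t, hH.apply_mem φ.2 t.2⟩, ?_, ?_⟩
    · exact hS.apply_mem φ.2 ht
    · exact (hf φ t).symm
  have hCN : C ≤ (Subgroup.normalizer (P : Set (H ⧸ N.subgroupOf H))).map
      (MulAut.conj : (H ⧸ N.subgroupOf H) →* MulAut (H ⧸ N.subgroupOf H)) := by
    intro c hc
    obtain ⟨x, hx⟩ := h1 hc
    refine ⟨x, ?_, hx⟩
    obtain ⟨φ, rfl⟩ := hc
    rw [SetLike.mem_coe, Subgroup.mem_normalizer_iff]
    intro y
    constructor
    · intro hy
      have := hinvP φ y hy
      rw [← hx] at this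
      exact this
    · intro hy
      have h2 := hinvP φ⁻¹ _ hy
      have h3 : f φ⁻¹ (x * y * x⁻¹) = y := by
        have h4 : x * y * x⁻¹ = f φ y := by rw [← hx]; rfl
        rw [h4, map_inv]
        exact MulAut.inv_apply_self _ _ _
      rwa [h3] at h2
  have hCs : Group.IsSolvable C := by
    have h2 : Group.IsSolvable ((Subgroup.normalizer (P : Set (H ⧸ N.subgroupOf H))).map
        (MulAut.conj : (H ⧸ N.subgroupOf H) →* MulAut (H ⧸ N.subgroupOf H))) := by
      have := hsol
      exact Group.isSolvable_of_surjective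
        ((MulAut.conj : (H ⧸ N.subgroupOf H) →* MulAut (H ⧸ N.subgroupOf H)).subgroupMap_surjective _)
    exact Group.isSolvable_of_isSolvable_injective (Subgroup.inclusion_injective hCN)
  intro φ hφ a ha
  have h5 := hom_eq_one hD f.rangeRestrict ⟨φ, hφ⟩
  have h6 : f ⟨φ, hφ⟩ (QuotientGroup.mk (⟨a, ha⟩ : H)) = QuotientGroup.mk (⟨a, ha⟩ : H) := by
    have := congrArg (fun x : f.range => (x : MulAut (H ⧸ N.subgroupOf H)) (QuotientGroup.mk (⟨a, ha⟩ : H))) h5
    exact this
  rw [hf] at h6
  have h7 := h6.symm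
  rw [QuotientGroup.eq, Subgroup.mem_subgroupOf] at h7
  exact h7

/-- Version with an isomorphism (or epimorphism) `H → L` with kernel `N`. -/
theorem trMod_of_sch_of_surjective [Finite K] {D : Subgroup (MulAut K)} (hD : ⁅D, D⁆ = D) {H N S : Subgroup K}
    (hH : Inv D H) (hN : Inv D N) (hS : Inv D S) (hSp : IsPGroup 2 S) (hodd : Odd (S.relIndex H))
    {L : Type*} [Group L] (f : H →* L) (hf : Function.Surjective f) (hker : f.ker = N.subgroupOf H) (hs : Sch L) :
    TrMod D H N := by
  have hn : (N.subgroupOf H).Normal := by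
    rw [← hker]; infer_instance
  have e : (H ⧸ N.subgroupOf H) ≃* L :=
    (QuotientGroup.quotientMulEquivOfEq hker.symm).trans (QuotientGroup.quotientKerEquivOfSurjective f hf)
  exact trMod_of_sch hD hH hN hS hSp hodd (hs.of_equiv e.symm)

end Cfsg.Agent.Schreier.Section
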