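import Mathlib
import Cfsg.Agent.Th.NineExtra
import Cfsg.Agent.Schreier.Basic
import Cfsg.Agent.Schreier.Tools
import Cfsg.Agent.Schreier.CyclicMod
import Cfsg.Agent.Schreier.Section

/-!
# Perfect groups of automorphisms and an involution centraliser `2^{1+8}.L` with nine anticommuting involutions

`tr_of_nine`: `C = C_K(a)` has the normal extraspecial subgroup `Q = ⟨a, c_0, ..., c_8⟩` (`c_i` involutions with
`[c_i, c_j] = a`) permuted cyclically by an element of `C`, the quotient `C / Q` is simple with the Schreier property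
and `T ≤ C` is a Sylow 2-subgroup of `C`; then a perfect group of automorphisms of `K` normalising `T`
centralises `T`.
-/

set_option autoImplicit false

namespace Cfsg.Agent.Schreier.ThNine

open Cfsg.Agent.Schreier.Basic Cfsg.Agent.Schreier.Tools Cfsg.Agent.Th

open scoped commutatorElement

variable {K : Type*} [Group K]

/-- the extraspecial subgroup -/
def Q (a : K) (c : Fin 9 → K) : Subgroup K := Subgroup.closure (insert a (Set.range c))

section

variable {a : K} {c : Fin 9 → K} (hd : NineExtra.Data a c)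
include hd

theorem isSolvable_zpowers : Group.IsSolvable (Subgroup.zpowers a) := by
  apply Group.isSolvable_of_comm
  rintro ⟨_, m, rfl⟩ ⟨_, n, rfl⟩
  exact Subtype.ext ((Commute.refl a).zpow_zpow m n)

theorem mem_zpowers_iff (y : K) : y ∈ Subgroup.zpowers a ↔ y = 1 ∨ y = a := by
  constructor
  · rintro ⟨n, rfl⟩
    show a ^ n = 1 ∨ a ^ n = a
    rcases Int.even_or_odd' n with ⟨k, rfl | rfl⟩
    · left
      rw [zpow_mul, zpow_two, hd.aa, one_zpow]
    · right
      rw [zpow_add, zpow_mul, zpow_two, hd.aa, one_zpow, one_mul, zpow_one]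
  · rintro (rfl | rfl)
    · exact one_mem _
    · exact Subgroup.mem_zpowers _

theorem a_mem : a ∈ Q a c := Subgroup.subset_closure (Or.inl rfl)

theorem c_mem (i : Fin 9) : c i ∈ Q a c := Subgroup.subset_closure (Or.inr ⟨i, rfl⟩)

theorem center_le (hcard : Nat.card (Q a c) = 512) {y : Q a c} (hy : y ∈ Subgroup.center (Q a c)) :
    (y : K) ∈ Subgroup.zpowers a := by
  have hex : Cfsg.IsExtraspecial 2 (Q a c) := NineExtra.isExtraspecial hd hcard
  have hfin : Finite (Q a c) := Nat.finite_of_card_ne_zero (by rw [hcard]; norm_num)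
  have hac : (⟨a, a_mem hd⟩ : Q a c) ∈ Subgroup.center (Q a c) := by
    rw [Subgroup.mem_center_iff]
    intro g
    exact Subtype.ext (NineExtra.comm_a hd g.2).symm
  have hle : Subgroup.zpowers (⟨a, a_mem hd⟩ : Q a c) ≤ Subgroup.center (Q a c) := by
    rw [Subgroup.zpowers_le]; exact hac
  have ho : Nat.card (Subgroup.zpowers (⟨a, a_mem hd⟩ : Q a c)) = 2 := by
    rw [Nat.card_zpowers]
    apply orderOf_eq_prime
    · exact Subtype.ext (by rw [pow_two]; exact hd.aa)
    · intro h
      exact hd.a1 (congrArg Subtype.val h)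
  have heq := Subgroup.eq_of_le_of_card_ge hle (by rw [hex.2, ho])
  rw [← heq] at hy
  obtain ⟨n, hn⟩ := hy
  refine ⟨n, ?_⟩
  have := congrArg Subtype.val hn
  exact this

theorem commutator_le (hcard : Nat.card (Q a c) = 512) : ⁅Q a c, Q a c⁆ ≤ Subgroup.zpowers a := by
  have hex : Cfsg.IsExtraspecial 2 (Q a c) := NineExtra.isExtraspecial hd hcard
  have h1 : ⁅Q a c, Q a c⁆ = (commutator (Q a c)).map (Q a c).subtype := by
    rw [commutator_def, Subgroup.map_commutator, ← MonoidHom.range_eq_map, Subgroup.range_subtype]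
  rw [h1, hex.1.2.2]
  rintro _ ⟨y, hy, rfl⟩
  exact center_le hd hcard hy

end

/-- A 2-subgroup normalised by a subgroup of odd index is contained in it. -/
theorem le_of_odd [Finite K] {T C R : Subgroup K} (hT : IsPGroup 2 T) (hR : IsPGroup 2 R) (hTC : T ≤ C)
    (hRC : R ≤ C) (hn : T ≤ Subgroup.normalizer (R : Set K)) (hodd : Odd (T.relIndex C)) : R ≤ T := by
  have h1 : IsPGroup 2 (T ⊔ R : Subgroup K) := hT.to_sup_of_normal_right' hR hn
  have h2 : T.relIndex (T ⊔ R) * (T ⊔ R).relIndex C = T.relIndex C :=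
    Subgroup.relIndex_mul_relIndex T (T ⊔ R) C le_sup_left (sup_le hTC hRC)
  have h3 : Odd (T.relIndex (T ⊔ R)) := Odd.of_dvd_nat hodd (Dvd.intro _ h2)
  obtain ⟨n, hn⟩ := h1.exists_card_eq
  have h4 : T.relIndex (T ⊔ R) ∣ 2 ^ n := by
    rw [← hn]
    exact Subgroup.relIndex_dvd_card _ _
  obtain ⟨k, -, hk⟩ := (Nat.dvd_prime_pow Nat.prime_two).1 h4
  have h5 : T.relIndex (T ⊔ R) = 1 := by
    rcases Nat.eq_zero_or_pos k with h | h
    · rw [hk, h, pow_zero]
    · exfalso
      rw [hk] at h3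
      have : Even (2 ^ k) := (even_two).pow_of_ne_zero (by omega)
      exact (Nat.not_even_iff_odd.2 h3) this
  have h6 := Subgroup.relIndex_eq_one.1 h5
  exact le_sup_right.trans h6

/-- **The criterion.** -/
theorem tr_of_nine [Finite K] {D : Subgroup (MulAut K)} (hD : ⁅D, D⁆ = D) {T : Subgroup K} (hTp : IsPGroup 2 T)
    (hT : Inv D T) {a : K} {c : Fin 9 → K} (hd : NineExtra.Data a c) (hcard : Nat.card (Q a c) = 512)
    {C : Subgroup K} (hC : C = Subgroup.centralizer ({a} : Set K)) (hTC : T ≤ C) (hodd : Odd (T.relIndex C))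
    {L : Type*} [Group L] [IsSimpleGroup L] (f : C →* L) (hf : Function.Surjective f)
    (hker : f.ker = (Q a c).subgroupOf C) (hL : Sch L) (hL2 : ¬ IsPGroup 2 L) {x : K} (hxC : x ∈ C)
    (σ : Fin 9 → Fin 9) (hx : ∀ i, x * c i * x⁻¹ = c (σ i)) (hσ : ∀ i, ∃ k, σ^[k] 0 = i) : Tr D T := by
  have hmemC : ∀ y, y ∈ C ↔ y * a = a * y := fun y => by
    rw [hC, Subgroup.mem_centralizer_singleton_iff]
  have hQC : Q a c ≤ C := fun y hy => (hmemC y).2 (NineExtra.comm_a hd hy).symm
  have hfq : ∀ y : C, f y = 1 ↔ (y : K) ∈ Q a c := fun y => by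
    rw [← MonoidHom.mem_ker, hker, Subgroup.mem_subgroupOf]
  have hQn : ∀ y ∈ C, ∀ q ∈ Q a c, y * q * y⁻¹ ∈ Q a c := by
    intro y hy q hq
    have h1 : f (⟨y, hy⟩ * ⟨q, hQC hq⟩ * (⟨y, hy⟩)⁻¹) = 1 := by
      rw [map_mul, map_mul, map_inv, (hfq ⟨q, hQC hq⟩).2 hq, mul_one, mul_inv_cancel]
    exact (hfq _).1 h1
  have hCN : C ≤ Subgroup.normalizer (Q a c : Set K) := by
    intro y hy
    rw [Subgroup.mem_normalizer_iff]
    intro q
    constructor
    · exact hQn y hy q
    · intro h
      have := hQn y⁻¹ (inv_mem hy) _ h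
      have e : y⁻¹ * (y * q * y⁻¹) * y⁻¹⁻¹ = q := by group
      rwa [e] at this
  have hQp : IsPGroup 2 (Q a c) := IsPGroup.of_card (n := 9) (by rw [hcard]; norm_num)
  have hQT : Q a c ≤ T := le_of_odd hTp hQp hTC hQC (hTC.trans hCN) hodd
  -- `σ 0 ≠ 0`
  have hσ0 : σ 0 ≠ 0 := by
    intro h
    obtain ⟨k, hk⟩ := hσ 1
    have : σ^[k] 0 = 0 := Function.iterate_fixed h k
    rw [this] at hk
    exact absurd hk (by decide)
  -- `C_C(Q) = ⟨a⟩`
  have hCQ : ∀ y ∈ C, (∀ q ∈ Q a c, q * y = y * q) → y ∈ Subgroup.zpowers a := by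
    intro y hy hyq
    set Y : Subgroup C := Subgroup.centralizer (((Q a c).subgroupOf C : Subgroup C) : Set C) with hY
    have hQnorm : ((Q a c).subgroupOf C).Normal := by rw [← hker]; infer_instance
    have hYn : Y.Normal := inferInstance
    have hN : (Y.map f).Normal := hYn.map f hf
    have hyY : (⟨y, hy⟩ : C) ∈ Y := by
      rw [hY, Subgroup.mem_centralizer_iff]
      rintro q hq
      exact Subtype.ext (hyq q hq)
    rcases hN.eq_bot_or_eq_top with h | h
    · have h1 : f ⟨y, hy⟩ = 1 := by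
        rw [← Subgroup.mem_bot, ← h]
        exact ⟨_, hyY, rfl⟩
      have h2 : y ∈ Q a c := (hfq _).1 h1
      have h3 : (⟨y, h2⟩ : Q a c) ∈ Subgroup.center (Q a c) := by
        rw [Subgroup.mem_center_iff]
        intro q
        exact Subtype.ext (hyq q q.2)
      exact center_le hd hcard h3
    · exfalso
      have h1 : f ⟨x, hxC⟩ ∈ Y.map f := by rw [h]; exact Subgroup.mem_top _
      obtain ⟨w, hw, hwx⟩ := h1
      have h2 : f (w⁻¹ * ⟨x, hxC⟩) = 1 := by rw [map_mul, map_inv, hwx, inv_mul_cancel]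
      have h3 : (w : K)⁻¹ * x ∈ Q a c := (hfq _).1 h2
      set q : K := (w : K)⁻¹ * x with hq
      have hxq : x = w * q := by rw [hq]; group
      have h4 : q * c 0 * q⁻¹ ∈ Q a c := hQn q (hQC h3) _ (c_mem hd 0)
      have h5 : (w : K) * (q * c 0 * q⁻¹) = (q * c 0 * q⁻¹) * w := by
        rw [SetLike.mem_coe, hY, Subgroup.mem_centralizer_iff] at hw
        have := hw ⟨q * c 0 * q⁻¹, hQC h4⟩ h4
        exact (congrArg Subtype.val this).symm
      have h6 : c (σ 0) = q * c 0 * q⁻¹ := by
        rw [← hx 0, hxq]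
        calc (w : K) * q * c 0 * ((w : K) * q)⁻¹ = (w : K) * (q * c 0 * q⁻¹) * (w : K)⁻¹ := by group
          _ = q * c 0 * q⁻¹ := by rw [h5, mul_inv_cancel_right]
      have hcom := hd.com (σ 0) 0 hσ0
      rcases NineExtra.comm_c hd 0 h3 with h7 | h7
      · rw [h7, mul_inv_cancel_right] at h6
        rw [h6, hd.cc] at hcom
        exact hd.a1 (by simpa using hcom.symm)
      · have h8 : c (σ 0) = a * c 0 := by
          rw [h6, h7]; group
        rw [h8] at hcom
        have e1 : a * c 0 * c 0 = a := by rw [mul_assoc, hd.cc, mul_one]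
        have e2 : a * (c 0 * (a * c 0)) = 1 := by
          have : c 0 * (a * c 0) = a := by rw [← mul_assoc, ← hd.ac, mul_assoc, hd.cc, mul_one]
          rw [this, hd.aa]
        rw [e1, e2] at hcom
        exact hd.a1 hcom
  have haZ : ∀ y ∈ Subgroup.zpowers a, ∀ w ∈ C, w * y * w⁻¹ = y := by
    intro y hy w hw
    rcases (mem_zpowers_iff hd y).1 hy with rfl | rfl
    · simp
    · rw [(hmemC w).1 hw, mul_inv_cancel_right]
  have hZQ : Subgroup.zpowers a ≤ Q a c := by
    rw [Subgroup.zpowers_le]; exact a_mem hd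
  -- `D` fixes `a`
  have hfix : ∀ φ ∈ D, φ a = a := by
    intro φ hφ
    have h1 := (hT.center).apply_mem hφ (a := a) (Subgroup.mem_inf.2 ⟨hQT (a_mem hd), by
      rw [Subgroup.mem_centralizer_iff]
      intro t ht
      exact (hmemC t).1 (hTC ht)⟩)
    have h2 : φ a ∈ Subgroup.zpowers a := by
      apply hCQ _ (hTC h1.1)
      intro q hq
      exact Subgroup.mem_centralizer_iff.1 h1.2 q (hQT hq)
    rcases (mem_zpowers_iff hd _).1 h2 with h3 | h3
    · exact absurd ((map_eq_one_iff φ φ.injective).1 h3) hd.a1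
    · exact h3
  have hTrZ : Tr D (Subgroup.zpowers a) := by
    intro φ hφ y hy
    rcases (mem_zpowers_iff hd y).1 hy with rfl | rfl
    · exact map_one φ
    · exact hfix φ hφ
  have hZinv : Inv D (Subgroup.zpowers a) := inv_iff.2 fun φ hφ y hy => by
    rw [hTrZ φ hφ y hy]; exact hy
  have hCinv : Inv D C := inv_iff.2 fun φ hφ y hy => by
    rw [hmemC] at hy ⊢
    have := congrArg φ hy
    rwa [map_mul, map_mul, hfix φ hφ] at this
  -- `Q` is invariant
  have hQinv : Inv D (Q a c) := inv_iff.2 fun φ hφ q hq => by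
    set ψ : MulAut C := hCinv.res ⟨φ, hφ⟩ with hψ
    have hQnorm : ((Q a c).subgroupOf C).Normal := by rw [← hker]; infer_instance
    have hM : (((Q a c).subgroupOf C).map ψ.toMonoidHom).Normal := hQnorm.map _ ψ.surjective
    have hMf : ((((Q a c).subgroupOf C).map ψ.toMonoidHom).map f).Normal := hM.map f hf
    have hMp : IsPGroup 2 ((((Q a c).subgroupOf C).map ψ.toMonoidHom).map f) :=
      ((hQp.comap_subtype (K := C)).map _).map _
    rcases hMf.eq_bot_or_eq_top with h | h
    · have h1 : f (ψ ⟨q, hQC hq⟩) = 1 := by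
        rw [← Subgroup.mem_bot, ← h]
        exact ⟨_, ⟨⟨q, hQC hq⟩, hq, rfl⟩, rfl⟩
      exact (hfq _).1 h1
    · exfalso
      rw [h] at hMp
      exact hL2 (hMp.of_equiv Subgroup.topEquiv)
  -- `D` is trivial on `C / Q`
  have hmod : TrMod D C (Q a c) :=
    Section.trMod_of_sch_of_surjective hD hCinv hQinv hT hTp hodd f hf hker hL
  -- `D` is trivial on `Q / ⟨a⟩`
  have hab := commutator_le hd hcard
  have hQZ : TrMod D (Q a c) (Subgroup.zpowers a) := by
    refine CyclicMod.trMod_of_cyclic hD (R := Q a c) hQinv hZinv hZQ hab ?_ {x} ?_ ?_ ?_ ?_ (c 0)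
      (c_mem hd 0) ?_
    · intro r hr q hq
      have h1 : ⁅q⁻¹, r⁆ ∈ Subgroup.zpowers a := hab (Subgroup.commutator_mem_commutator (inv_mem hq) hr)
      have h2 : q⁻¹ * (r * q * r⁻¹) = ⁅q⁻¹, r⁆ := by rw [commutatorElement_def]; group
      rw [h2]; exact h1
    · rintro s rfl q hq
      exact hQn _ hxC q hq
    · rintro s rfl z hz
      rw [haZ z hz _ hxC]; exact hz
    · rintro φ hφ s rfl
      exact hmod φ hφ _ hxC
    · rintro s rfl t rfl
      have : (t * t)⁻¹ * (t * t) = 1 := by group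
      rw [this]; exact one_mem _
    · intro N hZN h0 hN
      have h1 : ∀ k : ℕ, c (σ^[k] 0) ∈ N := by
        intro k
        induction k with
        | zero => exact h0
        | succ k ih =>
          rw [Function.iterate_succ_apply', ← hx]
          exact hN x rfl _ ih (c_mem hd _)
      unfold Q
      rw [Subgroup.closure_le]
      rintro y (rfl | ⟨i, rfl⟩)
      · exact hZN (Subgroup.mem_zpowers _)
      · obtain ⟨k, hk⟩ := hσ i
        rw [← hk]; exact h1 k
  have hTrQ : Tr D (Q a c) := tr_of_trMod hD (isSolvable_zpowers hd) hTrZ hQZ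
  refine tr_of_centralizer_le hD hT (hTC.trans hCN) hTrQ ?_ ?_
  · have : Group.IsNilpotent (Q a c) := hQp.isNilpotent
    infer_instance
  · intro y hy
    apply hZQ
    refine hCQ y (hTC hy.1) ?_
    intro q hq
    exact Subgroup.mem_centralizer_iff.1 hy.2 q hq

end Cfsg.Agent.Schreier.ThNine
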