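import Mathlib
import Cfsg.Agent.Th.CStruct
import Cfsg.Agent.Schreier.ThNine
import Cfsg.Agent.Schreier.AltSeven

/-!
# The Thompson group: perfect groups of automorphisms normalising a Sylow 2-subgroup
-/

set_option autoImplicit false
set_option maxRecDepth 100000

namespace Cfsg.Agent.Schreier.ThGlue

open Cfsg.Agent.Schreier.Basic Cfsg.Agent.Schreier.Tools
open Cfsg.Agent.Th.Base Cfsg.Agent.Th.Word Cfsg.Agent.Th.RelWords Cfsg.Agent.Th.PermTab
  Cfsg.Agent.Th.KOracle Cfsg.Agent.Th.KPerm Cfsg.Agent.Th.NineAct Cfsg.Agent.Th.CStruct Cfsg.Agent.Th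

universe u

variable {G : Type u} [Group G] {γ : ℕ → G}

/-- the kernel of the homomorphism to `A9` is `Q0` -/
theorem ker_eq (hγ : InvCompat γ) (hK : RelK (γ 1) (γ 2) (γ 3) (γ 4) (γ 5) (γ 6) (γ 8))
    (hcardK : Nat.card (sub γ isK) = 634023936) (hcardC : Nat.card (sub γ isC) = 92897280)
    {φ : sub γ isC →* Equiv.Perm (Fin 9)} (hφ : φ.range = alternatingGroup (Fin 9))
    (hφ2 : ∀ (w : List ℕ) (hw : ∀ x ∈ w, isC x = true), φ ⟨ev γ w, ev_mem_sub hw⟩ = ev (rho isTab9) w) :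
    φ.ker = (Q0 γ).subgroupOf (sub γ isC) ∧ Nat.card (Q0 γ) = 512 := by
  have hfinC : Finite (sub γ isC) := Nat.finite_of_card_ne_zero (by rw [hcardC]; norm_num)
  have hBC : sub γ isB ≤ sub γ isC := by
    unfold sub
    apply Subgroup.closure_mono
    rintro g ⟨x, hx, rfl⟩
    exact ⟨x, isC_of_isB hx, rfl⟩
  have hQC : Q0 γ ≤ sub γ isC := Q0_le_B.trans hBC
  -- order of the kernel
  have hker : Nat.card φ.ker = 512 := by
    have h1 := Subgroup.card_mul_index φ.ker
    have h2 : φ.ker.index = 181440 := by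
      rw [Subgroup.index_ker, hφ, nat_card_alternatingGroup, Nat.card_eq_fintype_card, Fintype.card_fin]
      decide
    rw [h2, hcardC] at h1
    omega
  have hle : (Q0 γ).subgroupOf (sub γ isC) ≤ φ.ker := by
    rintro ⟨y, hy⟩ hyQ
    rw [Subgroup.mem_subgroupOf] at hyQ
    have hyQ : y ∈ Q0 γ := hyQ
    have h1 : Q0 γ ≤ φ.ker.map (sub γ isC).subtype := by
      unfold Q0
      rw [Subgroup.closure_le]
      have key : ∀ (w : List ℕ) (hw : ∀ x ∈ w, isC x = true), (∀ p < 9, tr act9 w p = p) →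
          ev γ w ∈ φ.ker.map (sub γ isC).subtype := by
        intro w hw hp
        refine ⟨⟨ev γ w, ev_mem_sub hw⟩, ?_, rfl⟩
        rw [SetLike.mem_coe, MonoidHom.mem_ker, hφ2 w hw]
        exact ev_rho_eq_one isTab9 hw hp
      rintro z (rfl | ⟨i, rfl⟩)
      · have := key [1] (by decide +kernel) (by decide +kernel)
        rwa [ev_singleton] at this
      · refine key (wc i) (fun x hx => isC_of_isB ((allL_iff _ _).mp ((allB_iff _ _).mp K_check i i.2) x hx)) ?_
        intro p hp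
        exact Nat.eq_of_beq_eq_true ((allB_iff _ _).mp ((allB_iff _ _).mp nine_check i i.2) p hp)
    obtain ⟨z, hz, hzy⟩ := h1 hyQ
    have : (⟨y, hy⟩ : sub γ isC) = z := Subtype.ext hzy.symm
    rw [this]; exact hz
  have hcQ : Nat.card ((Q0 γ).subgroupOf (sub γ isC)) = Nat.card (Q0 γ) :=
    Nat.card_congr (Subgroup.subgroupOfEquivOfLe hQC).toEquiv
  have hge := card_Q0_ge hγ hK hcardK
  have heq : (Q0 γ).subgroupOf (sub γ isC) = φ.ker := by
    apply Subgroup.eq_of_le_of_card_ge hle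
    rw [hker, hcQ]; exact hge
  exact ⟨heq.symm, by rw [← hcQ, heq, hker]⟩

/-- the cyclic permutation of the nine points induced by `(d e s)⁻¹` -/
def sg (i : Fin 9) : Fin 9 := ⟨tr act9 [4, 5, 6] i % 9, Nat.mod_lt _ (by norm_num)⟩

theorem sg_val (i : Fin 9) : ((sg i : Fin 9) : ℕ) = tr act9 [4, 5, 6] i := by
  revert i; decide +kernel

theorem sg_iterate : ∀ i : Fin 9, ∃ k, sg^[k] 0 = i := by
  have h : ∀ i : Fin 9, ∃ k : Fin 9, sg^[(k : ℕ)] 0 = i := by decide +kernel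
  intro i
  obtain ⟨k, hk⟩ := h i
  exact ⟨k, hk⟩

theorem step_mem {x i : ℕ} (hx : x ∈ [4, 5, 6]) (hi : i < 9) : act9 x i < 9 := by
  have h : ∀ x ∈ [4, 5, 6], ∀ i < 9, act9 x i < 9 := by decide +kernel
  exact h x hx i hi

theorem cc_cyc (hγ : InvCompat γ) (hK : RelK (γ 1) (γ 2) (γ 3) (γ 4) (γ 5) (γ 6) (γ 8)) (i : Fin 9) :
    (ev γ [4, 5, 6])⁻¹ * cc γ i * (ev γ [4, 5, 6])⁻¹⁻¹ = cc γ (sg i) := by
  have h1 := cc_conj hγ hK i (x := 4) (by decide) ⟨act9 4 i, step_mem (by decide) i.2⟩ rfl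
  have h2 := cc_conj hγ hK ⟨act9 4 i, step_mem (by decide) i.2⟩ (x := 5) (by decide)
    ⟨act9 5 (act9 4 i), step_mem (by decide) (step_mem (by decide) i.2)⟩ rfl
  have h3 := cc_conj hγ hK ⟨act9 5 (act9 4 i), step_mem (by decide) (step_mem (by decide) i.2)⟩ (x := 6)
    (by decide) (sg i) (sg_val i)
  rw [← h3, ← h2, ← h1]
  simp only [ev_cons, ev_nil, mul_one]
  group

/-- a perfect group of automorphisms normalising a Sylow 2-subgroup of `C(a)` centralises it -/
theorem tr [Finite G] (hγ : InvCompat γ) (hK : RelK (γ 1) (γ 2) (γ 3) (γ 4) (γ 5) (γ 6) (γ 8))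
    (hC : RelC (γ 1) (γ 3) (γ 4) (γ 5) (γ 6) (γ 8) (γ 10))
    (hcardK : Nat.card (sub γ isK) = 634023936) (hcardC : Nat.card (sub γ isC) = 92897280)
    (ha : γ 1 ≠ 1) (hcen : sub γ isC = Subgroup.centralizer ({γ 1} : Set G))
    {D : Subgroup (MulAut G)} (hD : ⁅D, D⁆ = D) {T : Subgroup G} (hTp : IsPGroup 2 T) (hT : Inv D T)
    (hTC : T ≤ sub γ isC) (hodd : Odd (T.relIndex (sub γ isC))) : Tr D T := by
  obtain ⟨φ, hφ, hφ2⟩ := exists_hom9 hγ hC hcardC
  obtain ⟨hker, hcQ⟩ := ker_eq hγ hK hcardK hcardC hφ hφ2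
  let f : sub γ isC →* alternatingGroup (Fin 9) :=
    (MulEquiv.subgroupCongr hφ).toMonoidHom.comp φ.rangeRestrict
  have hf : Function.Surjective f :=
    (MulEquiv.subgroupCongr hφ).surjective.comp φ.rangeRestrict_surjective
  have hfker : f.ker = (Q0 γ).subgroupOf (sub γ isC) := by
    rw [← hker]
    ext y
    rw [MonoidHom.mem_ker, MonoidHom.mem_ker]
    constructor
    · intro h
      exact congrArg (fun z : alternatingGroup (Fin 9) => (z : Equiv.Perm (Fin 9))) h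
    · intro h
      exact Subtype.ext h
  have hs : IsSimpleGroup (alternatingGroup (Fin 9)) := alternatingGroup.isSimpleGroup (by simp)
  refine ThNine.tr_of_nine hD hTp hT (nineData hγ hK ha) hcQ hcen hTC hodd f hf hfker
    (AltSeven.sch 9 (by norm_num)) ?_ (x := (ev γ [4, 5, 6])⁻¹) ?_ sg (cc_cyc hγ hK) sg_iterate
  · intro h
    obtain ⟨n, hn⟩ := h.exists_card_eq
    have h1 : Nat.card (alternatingGroup (Fin 9)) = 181440 := by
      rw [nat_card_alternatingGroup, Nat.card_eq_fintype_card, Fintype.card_fin]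
      decide
    have h2 : 3 ∣ 2 ^ n := by
      rw [← hn, h1]
      norm_num
    have := Nat.prime_three.dvd_of_dvd_pow h2
    norm_num at this
  · apply inv_mem
    apply ev_mem_sub
    decide

end Cfsg.Agent.Schreier.ThGlue
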