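import Mathlib
import Cfsg.Agent.Th.Main1700
import Cfsg.Agent.Th.CentTh
import Cfsg.Agent.Th.Main475
import Cfsg.Agent.Schreier.ThGlue
import Cfsg.Agent.Schreier.Crit

/-!
# The Schreier property of the Thompson group
-/

set_option autoImplicit false

namespace Cfsg.Agent.Schreier.Thompson

open Cfsg.Agent.Schreier.Basic Cfsg.Agent.Schreier.Tools
open Cfsg.Agent.Th.Base Cfsg.Agent.Th.Word Cfsg.Agent.Th.KOracle Cfsg.Agent.Th.COracleDef
  Cfsg.Agent.Th.IndexUpper Cfsg.Agent.Th.FlagCover Cfsg.Agent.Th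

/-- The Thompson group has the Schreier property. -/
theorem sch : Sch Cfsg.Spor.Th := by
  obtain ⟨g, hcx⟩ := Main475.exists_cx
  obtain ⟨hfin, hcard, h1, h2⟩ := Main1700.final
  have hs : IsSimpleGroup Cfsg.Spor.Th := Main1700.isTh.1
  have ha := Main475.a_ne_one
  have hcen := CentTh.centralizer_eq hcx h2 h1 hs ha
  have hcC := CentTh.card_C hcx h2 h1
  set C := sub gTh isC with hCdef
  -- a Sylow 2-subgroup of `C`
  obtain ⟨S⟩ : Nonempty (Sylow 2 C) := inferInstance
  set T : Subgroup Cfsg.Spor.Th := (S : Subgroup C).map C.subtype with hT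
  have hTp : IsPGroup 2 T := S.2.map _
  have hTC : T ≤ C := Subgroup.map_subtype_le _
  have hodd : Odd (T.relIndex C) := by
    have h3 : T.subgroupOf C = (S : Subgroup C) := Subgroup.comap_map_eq_self_of_injective C.subtype_injective _
    rw [Subgroup.relIndex, h3, ← Nat.not_even_iff_odd, even_iff_two_dvd]
    exact S.not_dvd_index
  have hCi : C.index = 90745943887872000 / 92897280 := by
    have h3 := Subgroup.card_mul_index C
    rw [hcC, hcard] at h3
    omega
  have hTi : ¬ 2 ∣ T.index := by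
    have h3 := Subgroup.relIndex_mul_index hTC
    rw [← h3, hCi, Nat.prime_two.dvd_mul, not_or]
    refine ⟨?_, by norm_num⟩
    rw [← even_iff_two_dvd, Nat.not_even_iff_odd]
    exact hodd
  let P : Sylow 2 Cfsg.Spor.Th := hTp.toSylow hTi
  have hK : ¬ IsMulCommutative Cfsg.Spor.Th := by
    intro hK
    have h3 : Subgroup.center Cfsg.Spor.Th = ⊤ := by
      rw [Subgroup.eq_top_iff']
      intro x
      rw [Subgroup.mem_center_iff]
      intro y
      exact hK.is_comm.comm y x
    rw [Main1700.center_eq_bot] at h3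
    exact bot_ne_top h3
  refine Crit.sch_of_sylow hK P ?_
  intro D hD hDP
  exact ThGlue.tr gTh_inv gTh_relK rel_th.C h1 hcC ha hcen.symm hD hTp hDP hTC hodd

end Cfsg.Agent.Schreier.Thompson
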