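import Mathlib
import Cfsg.Prelude.Def_Classification2
import Cfsg.Agent.Schreier.Basic
import Cfsg.Agent.Schreier.Cases
import Cfsg.Agent.Schreier.Alt
import Cfsg.Agent.Schreier.ClassAll
import Cfsg.Agent.Schreier.PSU
import Cfsg.Agent.Schreier.TwESix
import Cfsg.Agent.Schreier.ThreeD4
import Cfsg.Agent.Schreier.TwFFour
import Cfsg.Agent.Schreier.Tits
import Cfsg.Agent.Schreier.Sz
import Cfsg.Agent.Schreier.ReeG
import Cfsg.Agent.Schreier.MEleven
import Cfsg.Agent.Schreier.MTwelve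
import Cfsg.Agent.Schreier.MTwentyTwo
import Cfsg.Agent.Schreier.MTwentyThree
import Cfsg.Agent.Schreier.MTwentyFour
import Cfsg.Agent.Schreier.JOne
import Cfsg.Agent.Schreier.JTwo
import Cfsg.Agent.Schreier.JThree
import Cfsg.Agent.Schreier.J4
import Cfsg.Agent.Schreier.HS
import Cfsg.Agent.Schreier.Ly
import Cfsg.Agent.Schreier.He
import Cfsg.Agent.Schreier.Ru
import Cfsg.Agent.Schreier.ON
import Cfsg.Agent.Schreier.Co1
import Cfsg.Agent.Schreier.ConwayTwo
import Cfsg.Agent.Schreier.CoThree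
import Cfsg.Agent.Schreier.McLaughlin
import Cfsg.Agent.Schreier.Suz
import Cfsg.Agent.Schreier.HN
import Cfsg.Agent.Schreier.Thompson
import Cfsg.Agent.Schreier.FiTwentyTwo
import Cfsg.Agent.Schreier.FiTwentyFour
import Cfsg.Agent.Schreier.BabyMonster
import Cfsg.Agent.Schreier.ChevIso

/-!
# The Schreier property of the known simple groups: the parts of `Pieces`
-/

set_option autoImplicit false

namespace Cfsg.Agent.Schreier.Parts

open Cfsg Cfsg.Agent.Schreier.Basic Cfsg.Agent.Schreier.Cases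

universe u

theorem alt : SchFor.{u} @IsAlternating := fun _ _ _ _ _ h => Alt.sch_of_isAlternating h

theorem psl : SchFor.{u} @IsPSL := fun _ _ _ _ _ h => ClassAll.sch_psl h

theorem psp : SchFor.{u} @IsPSp := fun _ _ _ _ _ h => ClassAll.sch_psp h

theorem psu : SchFor.{u} @IsPSU := fun _ _ _ _ _ h => PSU.sch_of_isPSU h

theorem pOmegaOdd : SchFor.{u} @IsPOmegaOdd := fun _ _ _ _ _ h => ClassAll.sch_pomegaOdd h

theorem pOmegaPlus : SchFor.{u} @IsPOmegaPlus := fun _ _ _ _ _ h => ClassAll.sch_pomegaPlus h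

theorem pOmegaMinus : SchFor.{u} @IsPOmegaMinus := fun _ _ _ _ _ h => ClassAll.sch_pomegaMinus h

theorem twistedE6 : SchFor.{u} @Lie.Iso2E6 := fun _ _ _ _ _ h => TwESix.sch_of_iso2E6 h

theorem twistedD4 : SchFor.{u} @Lie.Iso3D4 := fun _ _ _ _ _ h => ThreeD4.sch_of_iso h

theorem twistedF4 : SchFor.{u} @Lie.Iso2F4 := by
  rintro G _ _ _ _ ⟨K, _, _, m, _, hK, ⟨e⟩⟩
  exact Sch.of_equiv e.symm (TwFFour.sch hK)

theorem tits : SchFor.{u} @Lie.IsoTits := fun _ _ _ _ hK h => of_model (fun _ _ _ => Tits.sch) _ hK h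

theorem suzuki : SchFor.{u} @Lie.IsoSuzuki := fun _ _ _ _ _ h => Sz.schFor h

theorem ree : SchFor.{u} @Lie.IsoRee := fun _ _ _ _ _ h => ReeG.schFor h

theorem m11 : SchFor.{u} @Spor.IsoM11 := fun _ _ _ _ hK h => of_model (fun _ _ _ => MEleven.sch) _ hK h

theorem m12 : SchFor.{u} @Spor.IsoM12 := fun _ _ _ _ hK h => of_model (fun _ _ _ => MTwelve.sch) _ hK h

theorem m22 : SchFor.{u} @Spor.IsoM22 := fun _ _ _ _ hK h => of_model (fun _ _ _ => MTwentyTwo.sch) _ hK h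

theorem m23 : SchFor.{u} @Spor.IsoM23 := fun _ _ _ _ hK h => of_model (fun _ _ _ => MTwentyThree.sch) _ hK h

theorem m24 : SchFor.{u} @Spor.IsoM24 := fun _ _ _ _ hK h => of_model (fun _ _ _ => MTwentyFour.sch) _ hK h

theorem j1 : SchFor.{u} @Spor.IsoJ1 := fun _ _ _ _ hK h => of_model (fun _ _ _ => JOne.sch) _ hK h

theorem j2 : SchFor.{u} @Spor.IsoJ2 := fun _ _ _ _ hK h => of_model (fun _ _ _ => JTwo.sch) _ hK h

theorem j3 : SchFor.{u} @Spor.IsoJ3 := fun _ _ _ _ _ h => JThree.sch_of_isoJ3 h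

theorem j4 : SchFor.{u} @Spor.IsoJ4 := fun _ _ _ _ hK h => of_model (fun _ _ _ => J4.sch) _ hK h

theorem co3 : SchFor.{u} @Spor.IsoCo3 := fun _ _ _ _ hK h => of_model (fun _ _ _ => CoThree.sch) _ hK h

theorem hS : SchFor.{u} @Spor.IsoHS := fun _ _ _ _ hK h => of_model (fun _ _ _ => HS.sch) _ hK h

theorem he : SchFor.{u} @Spor.IsoHe := fun _ _ _ _ _ h => He.sch_of_iso h

theorem ru : SchFor.{u} @Spor.IsoRu := fun _ _ _ _ hK h => of_model (fun _ _ _ => Ru.sch) _ hK h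

theorem oN : SchFor.{u} @Spor.IsoON := fun _ _ _ _ hK h => of_model (fun _ _ _ => ON.sch) _ hK h

theorem ly : SchFor.{u} @Spor.IsoLy := fun _ _ _ _ hK h => of_model (fun _ _ _ => Ly.sch) _ hK h

theorem co1 : SchFor.{u} @Spor.IsoCo1 := fun _ _ _ _ hK h => of_model (fun _ _ _ => Co1.sch) _ hK h

theorem co2 : SchFor.{u} @Spor.IsoCo2 := fun _ _ _ _ hK h =>
  of_model (fun _ _ h3 => ConwayTwo.sch h3) _ hK h

theorem mcL : SchFor.{u} @Spor.IsoMcL := fun _ _ _ _ hK h => of_model (fun _ _ _ => McLaughlin.sch) _ hK h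

theorem suz : SchFor.{u} @Spor.IsoSuz := fun _ _ _ _ hK h => of_model (fun _ _ _ => Suz.sch) _ hK h

theorem fi22 : SchFor.{u} @Spor.IsoFi22 := fun _ _ _ _ hK h =>
  of_model (fun _ _ _ => FiTwentyTwo.sch) _ hK h

theorem fi24' : SchFor.{u} @Spor.IsoFi24' := fun _ _ _ _ hK h =>
  of_model (fun _ _ _ => FiTwentyFour.sch) _ hK h

theorem hN : SchFor.{u} @Spor.IsoHN := fun _ _ _ _ hK h => of_model (fun _ _ _ => HN.sch) _ hK h

theorem th : SchFor.{u} @Spor.IsoTh := fun _ _ _ _ hK h => of_model (fun _ _ _ => Thompson.sch) _ hK h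

theorem b : SchFor.{u} @Spor.IsoB := fun _ _ _ _ hK h => of_model (fun _ _ _ => BabyMonster.sch) _ hK h

/-- All the pieces, from the remaining ones. -/
theorem pieces_of (fi23 : SchFor.{u} @Spor.IsoFi23) (m : SchFor.{u} @Spor.IsoM) : Pieces.{u} where
  alt := alt
  psl := psl
  psp := psp
  psu := psu
  pOmegaOdd := pOmegaOdd
  pOmegaPlus := pOmegaPlus
  pOmegaMinus := pOmegaMinus
  chevG2 := ChevIso.chevG2
  f4 := ChevIso.f4
  e6 := ChevIso.e6
  e7 := ChevIso.e7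
  e8 := ChevIso.e8
  twistedE6 := twistedE6
  twistedD4 := twistedD4
  suzuki := suzuki
  ree := ree
  twistedF4 := twistedF4
  tits := tits
  m11 := m11
  m12 := m12
  m22 := m22
  m23 := m23
  m24 := m24
  j1 := j1
  j2 := j2
  j3 := j3
  j4 := j4
  co1 := co1
  co2 := co2
  co3 := co3
  mcL := mcL
  hS := hS
  suz := suz
  he := he
  ru := ru
  oN := oN
  ly := ly
  fi22 := fi22
  fi23 := fi23
  fi24' := fi24'
  hN := hN
  th := th
  b := b
  m := m

end Cfsg.Agent.Schreier.Parts
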