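import Mathlib
import Cfsg.Prelude.Def_Classification2
import Cfsg.Agent.Schreier.Basic
import Cfsg.Agent.Schreier.Cases
import Cfsg.Agent.Schreier.Parts
import Cfsg.Agent.Schreier.FiTwentyThree
import Cfsg.Agent.Schreier.MonsterFinal

/-!
# The Schreier property of the known finite simple groups

`known`: every perfect group of automorphisms of a finite non-abelian simple group on the list of known simple groups
consists of inner automorphisms.
-/

set_option autoImplicit false

namespace Cfsg.Agent.Schreier.Assembly

open Cfsg Cfsg.Agent.Schreier.Basic Cfsg.Agent.Schreier.Cases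

universe u

theorem fi23 : SchFor.{u} @Spor.IsoFi23 := fun _ _ _ _ hK h =>
  of_model (fun _ _ _ => FiTwentyThree.sch) _ hK h

theorem m : SchFor.{u} @Spor.IsoM := fun _ _ _ _ hK h =>
  of_model (fun _ _ _ => MonsterFinal.sch) _ hK h

/-- **The Schreier property of the known finite simple groups.** -/
theorem known : SchFor.{u} @IsKnownSimple' := Cases.known (Parts.pieces_of fi23 m)

end Cfsg.Agent.Schreier.Assembly
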