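import Mathlib
import Cfsg.Agent.Schreier.Basic

/-!
# The Schreier property and solvability of the outer automorphism group
-/

set_option autoImplicit false

namespace Cfsg.Agent.Schreier.Bridge

open Cfsg.Agent.Schreier.Basic

/-- If `Aut K / Inn K` is solvable (in the form of a normal subgroup `I` of `MulAut K` contained in the inner
automorphisms with solvable quotient) then `K` has the Schreier property. -/
theorem sch_of_quotient {K : Type*} [Group K] (I : Subgroup (MulAut K)) [I.Normal]
    (hI : I ≤ (MulAut.conj : K →* MulAut K).range) (hs : Group.IsSolvable (MulAut K ⧸ I)) : Sch K := by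
  intro C hC
  have h1 : Group.IsSolvable (C.map (QuotientGroup.mk' I)) := by
    have := hs
    infer_instance
  have h2 := le_ker_of_perfect (QuotientGroup.mk' I) hC h1
  rw [QuotientGroup.ker_mk'] at h2
  exact h2.trans hI

/-- For finite `K`, the Schreier property says that `Out K` is solvable. -/
theorem sch_iff {K : Type*} [Group K] [Finite K] (hn : ((MulAut.conj : K →* MulAut K).range).Normal) :
    Sch K ↔ Group.IsSolvable (MulAut K ⧸ (MulAut.conj : K →* MulAut K).range) := by
  constructor
  · intro h
    obtain ⟨D, -, h2, h3⟩ := exists_perfect_residual (⊤ : Subgroup (MulAut K))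
    -- work in the quotient
    have hfin : Finite (MulAut K ⧸ (MulAut.conj : K →* MulAut K).range) := inferInstance
    obtain ⟨E, -, hE2, hE3⟩ := exists_perfect_residual
      (⊤ : Subgroup (MulAut K ⧸ (MulAut.conj : K →* MulAut K).range))
    have hE : E = ⊥ := by
      -- a perfect subgroup of the quotient is the image of a perfect subgroup
      set q := QuotientGroup.mk' (MulAut.conj : K →* MulAut K).range with hq
      obtain ⟨P, hP1, hP2, hP3⟩ := exists_perfect_residual (E.comap q)
      -- the image of `P`
      have hPE : P.map q ≤ E := Subgroup.map_le_iff_le_comap.2 hP1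
      have hPI : P.map q = ⊥ := by
        rw [Subgroup.map_eq_bot_iff, hq, QuotientGroup.ker_mk']
        exact h P hP2
      -- the derived series of the preimage becomes perfect
      by_contra hne
      -- every term of the derived series of the preimage maps onto `E`
      have hall : ∀ n : ℕ, ((derivedSeries (E.comap q) n).map (E.comap q).subtype).map q = E := by
        intro n
        induction n with
        | zero =>
          rw [derivedSeries_zero, ← MonoidHom.range_eq_map, Subgroup.range_subtype,
            Subgroup.map_comap_eq_self_of_surjective (QuotientGroup.mk'_surjective _)]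
        | succ n ih =>
          rw [derivedSeries_succ, Subgroup.map_commutator, Subgroup.map_commutator, ih, hE2]
      -- but the perfect residual is a term of the derived series
      have hanti : Antitone (derivedSeries (E.comap q)) := derivedSeries_antitone _
      have hst : ∃ n, derivedSeries (E.comap q) (n + 1) = derivedSeries (E.comap q) n := by
        by_contra hcon
        push Not at hcon
        have hlt : ∀ n, derivedSeries (E.comap q) (n + 1) < derivedSeries (E.comap q) n := fun n =>
          lt_of_le_of_ne (hanti (Nat.le_succ n)) (hcon n)
        exact not_injective_infinite_finite _ (strictAnti_nat_of_succ_lt hlt).injective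
      obtain ⟨n, hn'⟩ := hst
      set P' : Subgroup (MulAut K) := (derivedSeries (E.comap q) n).map (E.comap q).subtype with hP'
      have hP'p : ⁅P', P'⁆ = P' := by
        rw [hP', ← Subgroup.map_commutator, ← derivedSeries_succ, hn']
      have h5 : P'.map q = ⊥ := by
        rw [Subgroup.map_eq_bot_iff, hq, QuotientGroup.ker_mk']
        exact h P' hP'p
      exact hne ((hall n).symm.trans h5)
    have h6 := hE3 hE
    exact Group.isSolvable_of_surjective (f := (⊤ : Subgroup (MulAut K ⧸ (MulAut.conj : K →* MulAut K).range)).subtype)
      (fun x => ⟨⟨x, Subgroup.mem_top x⟩, rfl⟩)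
  · intro hs
    exact sch_of_quotient _ le_rfl hs

/-- The Schreier property of a finite group from solvability of `Out`. -/
theorem sch_of_isSolvable_out {K : Type*} [Group K] [((MulAut.conj : K →* MulAut K).range).Normal]
    (hs : Group.IsSolvable (MulAut K ⧸ (MulAut.conj : K →* MulAut K).range)) : Sch K :=
  sch_of_quotient _ le_rfl hs

end Cfsg.Agent.Schreier.Bridge
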