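import Cfsg.Agent.Schreier.Basic
import Cfsg.Agent.Schreier.Tools

/-!
# A criterion for the Schreier property from the centraliser of an element
-/

set_option autoImplicit false

namespace Cfsg.Agent.Schreier.CentCrit

open Cfsg.Agent.Schreier.Basic Cfsg.Agent.Schreier.Tools

/-- A perfect subgroup of the image of `N` is the image of a perfect subgroup of `N`. -/
theorem exists_perfect_lift {A B : Type*} [Group A] [Group B] [Finite A] (f : A →* B) (N : Subgroup A)
    {D : Subgroup B} (hD : ⁅D, D⁆ = D) (hDN : D ≤ N.map f) : ∃ P : Subgroup A, P ≤ N ∧ ⁅P, P⁆ = P ∧ P.map f = D := by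
  -- choose `P ≤ N` with `P.map f = D` of minimal order
  have hex : ∃ n : ℕ, ∃ P : Subgroup A, P ≤ N ∧ P.map f = D ∧ Nat.card P = n := by
    refine ⟨_, N ⊓ D.comap f, inf_le_left, ?_, rfl⟩
    apply le_antisymm
    · rintro _ ⟨a, ha, rfl⟩
      exact ha.2
    · intro d hd
      obtain ⟨a, ha, rfl⟩ := hDN hd
      exact ⟨a, ⟨ha, hd⟩, rfl⟩
  classical
  obtain ⟨P, hPN, hPD, hcard⟩ := Nat.find_spec hex
  refine ⟨P, hPN, ?_, hPD⟩
  have hle : ⁅P, P⁆ ≤ P := Subgroup.commutator_le.mpr fun a ha b hb => by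
    rw [commutatorElement_def]
    exact mul_mem (mul_mem (mul_mem ha hb) (inv_mem ha)) (inv_mem hb)
  by_contra hne
  have hlt : ⁅P, P⁆ < P := lt_of_le_of_ne hle hne
  have h1 : Nat.card (⁅P, P⁆ : Subgroup A) < Nat.find hex := by
    rw [← hcard]
    exact Set.Finite.card_lt_card (Set.toFinite _) hlt
  refine Nat.find_min hex h1 ⟨⁅P, P⁆, hle.trans hPN, ?_, rfl⟩
  rw [Subgroup.map_commutator, hPD, hD]

variable {K : Type*} [Group K]

/-- **Centraliser criterion.**  The class of `t` is stable under perfect groups of automorphisms, the centraliser `H` of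
`t` has the Schreier property, and no non-trivial perfect group of automorphisms fixes `H` pointwise. -/
theorem sch_of_centralizer [Finite K] (t : K) (H : Subgroup K) (hH : H = Subgroup.centralizer {t})
    (hst : ∀ C : Subgroup (MulAut K), ⁅C, C⁆ = C → ∀ φ ∈ C, IsConj (φ t) t)
    (hSch : Sch H)
    (hfix : ∀ R : Subgroup (MulAut K), ⁅R, R⁆ = R → Tr R H → R = ⊥) : Sch K := by
  intro C hC
  have hI := conj_range_normal K
  set I : Subgroup (MulAut K) := (MulAut.conj : K →* MulAut K).range with hIdef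
  -- the stabiliser of `t`
  let N : Subgroup (MulAut K) :=
    { carrier := {φ | φ t = t}
      one_mem' := rfl
      mul_mem' := fun {φ ψ} hφ hψ => by
        show φ (ψ t) = t
        rw [show ψ t = t from hψ, show φ t = t from hφ]
      inv_mem' := fun {φ} hφ => by
        have h1 : φ t = t := hφ
        show φ⁻¹ t = t
        calc φ⁻¹ t = φ⁻¹ (φ t) := by rw [h1]
          _ = t := MulAut.inv_apply_self _ φ t }
  have hNH : ∀ φ ∈ N, ∀ h ∈ H, φ h ∈ H := by
    intro φ hφ h hh
    rw [hH, Subgroup.mem_centralizer_singleton_iff] at hh ⊢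
    have h1 : φ t = t := hφ
    have h2 := congrArg φ hh
    rwa [map_mul, map_mul, h1] at h2
  -- `C ≤ I N`
  have hCN : C ≤ I ⊔ N := by
    intro c hc
    obtain ⟨k, hk⟩ := isConj_iff.mp (hst C hC c hc)
    have h1 : MulAut.conj k * c ∈ N := by
      show (MulAut.conj k) (c t) = t
      rw [MulAut.conj_apply, hk]
    have h2 : c = (MulAut.conj k)⁻¹ * (MulAut.conj k * c) := by group
    rw [h2]
    exact mul_mem (Subgroup.mem_sup_left (inv_mem ⟨k, rfl⟩)) (Subgroup.mem_sup_right h1)
  have h1 : C.map (QuotientGroup.mk' I) ≤ N.map (QuotientGroup.mk' I) := by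
    have h2 : C.map (QuotientGroup.mk' I) ≤ (I ⊔ N).map (QuotientGroup.mk' I) := Subgroup.map_mono hCN
    rw [Subgroup.map_sup] at h2
    have h3 : I.map (QuotientGroup.mk' I) = ⊥ := by
      rw [Subgroup.map_eq_bot_iff, QuotientGroup.ker_mk']
    rwa [h3, bot_sup_eq] at h2
  -- the image of `N` is solvable
  have hsolN : Group.IsSolvable (N.map (QuotientGroup.mk' I)) := by
    apply isSolvable_of_perfect_eq_bot
    intro D hDN hD
    obtain ⟨P, hPN, hP, hPD⟩ := exists_perfect_lift (QuotientGroup.mk' I) N hD hDN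
    -- `P` acts on `H` by inner automorphisms
    have hPH : Inv P H := inv_iff.2 fun φ hφ h hh => hNH φ (hPN hφ) h hh
    have hrange : ⁅hPH.res.range, hPH.res.range⁆ = hPH.res.range := by
      rw [MonoidHom.range_eq_map, ← Subgroup.map_commutator, top_perfect hP]
    have hinner := hSch _ hrange
    -- `M1` = fixer of `H`
    let M1 : Subgroup (MulAut K) :=
      { carrier := {φ | ∀ h ∈ H, φ h = h}
        one_mem' := fun _ _ => rfl
        mul_mem' := fun {φ ψ} hφ hψ h hh => by
          rw [MulAut.mul_apply, hψ h hh, hφ h hh]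
        inv_mem' := fun {φ} hφ h hh => by
          have h1 := hφ h hh
          calc φ⁻¹ h = φ⁻¹ (φ h) := by rw [h1]
            _ = h := MulAut.inv_apply_self _ φ h }
    have hM1 : Group.IsSolvable M1 := by
      apply isSolvable_of_perfect_eq_bot
      intro R hRM hR
      exact hfix R hR fun φ hφ h hh => hRM hφ h hh
    have hPM : P ≤ I ⊔ M1 := by
      intro φ hφ
      obtain ⟨h, hh⟩ := hinner ⟨⟨φ, hφ⟩, rfl⟩
      have h3 : (MulAut.conj (h : K))⁻¹ * φ ∈ M1 := by
        intro a ha
        have h4 := congrArg (fun ψ : MulAut H => ((ψ ⟨a, ha⟩ : H) : K)) hh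
        have h5 : (h : K) * a * (h : K)⁻¹ = φ a := h4
        show (MulAut.conj (h : K))⁻¹ (φ a) = a
        rw [← h5, ← MulAut.conj_apply]
        exact MulAut.inv_apply_self _ (MulAut.conj (h : K)) a
      have h4 : φ = MulAut.conj (h : K) * ((MulAut.conj (h : K))⁻¹ * φ) := by group
      rw [h4]
      exact mul_mem (Subgroup.mem_sup_left ⟨(h : K), rfl⟩) (Subgroup.mem_sup_right h3)
    have h5 : P.map (QuotientGroup.mk' I) ≤ M1.map (QuotientGroup.mk' I) := by
      have h2 : P.map (QuotientGroup.mk' I) ≤ (I ⊔ M1).map (QuotientGroup.mk' I) := Subgroup.map_mono hPM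
      rw [Subgroup.map_sup] at h2
      have h3 : I.map (QuotientGroup.mk' I) = ⊥ := by
        rw [Subgroup.map_eq_bot_iff, QuotientGroup.ker_mk']
      rwa [h3, bot_sup_eq] at h2
    have hsolM : Group.IsSolvable (M1.map (QuotientGroup.mk' I)) :=
      Group.isSolvable_of_surjective (f := (QuotientGroup.mk' I).subgroupMap M1)
        ((QuotientGroup.mk' I).subgroupMap_surjective M1)
    rw [hPD] at h5
    exact eq_bot_of_perfect_of_solvable hD
      (Group.isSolvable_of_isSolvable_injective (Subgroup.inclusion_injective h5))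
  have hsolC : Group.IsSolvable (C.map (QuotientGroup.mk' I)) :=
    Group.isSolvable_of_isSolvable_injective (Subgroup.inclusion_injective h1)
  have := le_ker_of_perfect (QuotientGroup.mk' I) hC hsolC
  rwa [QuotientGroup.ker_mk'] at this

end Cfsg.Agent.Schreier.CentCrit
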