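import Mathlib
import Cfsg.Agent.Schreier.SylowCrit

/-!
# Growing a centralised 2-subgroup

`K` finite simple nonabelian, `H ≤ K`, `R` a Sylow 2-subgroup of `H` with `C_K(R) ≤ H` (for example `H = C_K(z)` for a
2-element `z ≠ 1`; `H` need not contain a Sylow 2-subgroup of `K`).  If modulo inner automorphisms every perfect group of
automorphisms centralises `R`, then `K` has the Schreier property.
-/

set_option autoImplicit false

namespace Cfsg.Agent.Schreier.CentricTwo

open Cfsg.Agent.Schreier.Basic Cfsg.Agent.Schreier.Tools Cfsg.Agent.Schreier.SylowCrit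


open scoped Pointwise

variable {K : Type*} [Group K]

/-- If a perfect group `C` is contained in `I F` (`I` normal) then it is contained in `I D` for a perfect `D ≤ F`. -/
theorem exists_perfect_le_sup {A : Type*} [Group A] [Finite A] {I F C : Subgroup A} [hI : I.Normal]
    (hC : ⁅C, C⁆ = C) (hCF : C ≤ I ⊔ F) : ∃ D : Subgroup A, D ≤ F ∧ ⁅D, D⁆ = D ∧ C ≤ I ⊔ D := by
  -- the derived series of `F`
  let d : ℕ → Subgroup A := fun n => (derivedSeries F n).map F.subtype
  have hd0 : d 0 = F := by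
    simp only [d, derivedSeries_zero]
    rw [← MonoidHom.range_eq_map, Subgroup.range_subtype]
  have hds : ∀ n, d (n + 1) = ⁅d n, d n⁆ := by
    intro n
    simp only [d]
    rw [derivedSeries_succ, Subgroup.map_commutator]
  have hmap : ∀ n, C.map (QuotientGroup.mk' I) ≤ (d n).map (QuotientGroup.mk' I) := by
    intro n
    induction n with
    | zero =>
      rw [hd0]
      have h2 : C.map (QuotientGroup.mk' I) ≤ (I ⊔ F).map (QuotientGroup.mk' I) := Subgroup.map_mono hCF
      rw [Subgroup.map_sup] at h2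
      have h3 : I.map (QuotientGroup.mk' I) = ⊥ := by
        rw [Subgroup.map_eq_bot_iff, QuotientGroup.ker_mk']
      rwa [h3, bot_sup_eq] at h2
    | succ n ih =>
      rw [hds, Subgroup.map_commutator, ← map_perfect (QuotientGroup.mk' I) hC]
      exact Subgroup.commutator_mono ih ih
  have hanti : Antitone (derivedSeries F) := derivedSeries_antitone F
  have hst : ∃ n, derivedSeries F (n + 1) = derivedSeries F n := by
    by_contra hcon
    push Not at hcon
    have hlt : ∀ n, derivedSeries F (n + 1) < derivedSeries F n := fun n =>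
      lt_of_le_of_ne (hanti (Nat.le_succ n)) (hcon n)
    have hsa : StrictAnti (derivedSeries F) := strictAnti_nat_of_succ_lt hlt
    exact not_injective_infinite_finite _ hsa.injective
  obtain ⟨n, hn⟩ := hst
  refine ⟨d n, Subgroup.map_subtype_le _, ?_, ?_⟩
  · rw [← hds]
    simp only [d]
    rw [hn]
  · intro c hc
    obtain ⟨e, he, hec⟩ := hmap n ⟨c, hc, rfl⟩
    have h1 : e⁻¹ * c ∈ I := by
      have : (QuotientGroup.mk' I) e = (QuotientGroup.mk' I) c := hec
      rw [QuotientGroup.mk'_apply, QuotientGroup.mk'_apply, QuotientGroup.eq] at this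
      exact this
    have h2 : c = e * (e⁻¹ * c) := by group
    rw [h2]
    exact mul_mem (Subgroup.mem_sup_right he) (Subgroup.mem_sup_left h1)

/-- `C_K(R)` has a normal 2-complement `O` and Sylow 2-subgroup `C_R(R)`. -/
def CentricMod (R : Subgroup K) : Prop :=
  ∃ O : Subgroup K, O ≤ Subgroup.centralizer (R : Set K) ∧ Odd (Nat.card O) ∧
    (∀ c ∈ Subgroup.centralizer (R : Set K), ∀ o ∈ O, c * o * c⁻¹ ∈ O) ∧
    ∀ c ∈ Subgroup.centralizer (R : Set K), ∃ r ∈ R, ∃ o ∈ O, c = r * o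

/-- The normal 2-complement consists of the elements of odd order in `C_K(R)`. -/
theorem mem_compl_iff {R : Subgroup K} [Finite K] (hR : IsPGroup 2 R) {O : Subgroup K}
    (hO1 : O ≤ Subgroup.centralizer (R : Set K)) (hO2 : Odd (Nat.card O))
    (hO4 : ∀ c ∈ Subgroup.centralizer (R : Set K), ∃ r ∈ R, ∃ o ∈ O, c = r * o) {c : K}
    (hc : c ∈ Subgroup.centralizer (R : Set K)) : c ∈ O ↔ Odd (orderOf c) := by
  constructor
  · intro h
    refine Odd.of_dvd_nat hO2 ?_
    have := orderOf_dvd_natCard (⟨c, h⟩ : O)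
    rwa [Subgroup.orderOf_mk] at this
  · intro h
    obtain ⟨r, hr, o, ho, rfl⟩ := hO4 c hc
    -- `r` commutes with `o`
    have hcomm : Commute r o := (Subgroup.mem_centralizer_iff.1 (hO1 ho) r hr)
    -- `(r o)^n = 1` with `n` odd, so `r^(n m) = 1`, `m = |O|`
    have h1 : (r * o) ^ (orderOf (r * o) * Nat.card O) = 1 := by
      rw [pow_mul, pow_orderOf_eq_one, one_pow]
    have h2 : o ^ (orderOf (r * o) * Nat.card O) = 1 := by
      have h3 : o ^ Nat.card O = 1 := by
        have h4 := pow_card_eq_one' (x := (⟨o, ho⟩ : O))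
        exact congrArg Subtype.val h4
      rw [mul_comm, pow_mul, h3, one_pow]
    rw [hcomm.mul_pow, h2, mul_one] at h1
    have h3 : orderOf r ∣ orderOf (r * o) * Nat.card O := orderOf_dvd_of_pow_eq_one h1
    obtain ⟨k, hk⟩ := (hR ⟨r, hr⟩)
    have h4 : r ^ 2 ^ k = 1 := by simpa using congrArg Subtype.val hk
    have h5 : orderOf r ∣ 2 ^ k := orderOf_dvd_of_pow_eq_one h4
    have h6 : Nat.Coprime (2 ^ k) (orderOf (r * o) * Nat.card O) :=
      Nat.Coprime.pow_left k ((h.mul hO2).coprime_two_left)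
    have h7 : orderOf r = 1 := Nat.eq_one_of_dvd_coprimes h6 h5 h3
    rw [orderOf_eq_one_iff] at h7
    rw [h7, one_mul]
    exact ho

/-- **One step.** -/
theorem step [Finite K] {R : Subgroup K} (hR : IsPGroup 2 R) (hc : CentricMod R)
    {D : Subgroup (MulAut K)} (hD : ⁅D, D⁆ = D) (hDR : Tr D R) :
    ∀ T : Sylow 2 (Subgroup.normalizer (R : Set K)), D ≤ (MulAut.conj : K →* MulAut K).range ⊔
      fixer ((T : Subgroup (Subgroup.normalizer (R : Set K))).map (Subgroup.normalizer (R : Set K)).subtype) := by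
  obtain ⟨O, hO1, hO2, hO3, hO4⟩ := hc
  have hInvR : Inv D R := inv_iff.2 fun φ hφ r hr => by rw [hDR φ hφ r hr]; exact hr
  set N : Subgroup K := Subgroup.normalizer (R : Set K) with hN
  set Cc : Subgroup K := Subgroup.centralizer (R : Set K) with hCc
  have hInvN : Inv D N := hInvR.normalizer
  have hInvC : Inv D Cc := hInvR.centralizer
  have hInvO : Inv D O := inv_iff.2 fun φ hφ o ho => by
    have h1 : φ o ∈ Cc := hInvC.apply_mem hφ (hO1 ho)
    rw [mem_compl_iff hR hO1 hO2 hO4 h1]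
    have h2 : orderOf (φ o) = orderOf o := orderOf_injective φ.toMonoidHom φ.injective o
    rw [h2]
    exact (mem_compl_iff hR hO1 hO2 hO4 (hO1 ho)).1 ho
  have hRN : R ≤ N := Subgroup.le_normalizer
  -- `O` is normalised by `N`
  have hON : ∀ n ∈ N, ∀ o ∈ O, n * o * n⁻¹ ∈ O := by
    intro n hn o ho
    have h1 : n * o * n⁻¹ ∈ Cc := by
      rw [Subgroup.mem_centralizer_iff]
      intro r hr
      have h2 : n⁻¹ * r * n ∈ R := by
        rw [Subgroup.mem_normalizer_iff.1 hn]
        simpa [mul_assoc] using hr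
      have h3 := Subgroup.mem_centralizer_iff.1 (hO1 ho) _ h2
      calc r * (n * o * n⁻¹) = n * ((n⁻¹ * r * n) * o) * n⁻¹ := by group
        _ = n * (o * (n⁻¹ * r * n)) * n⁻¹ := by rw [h3]
        _ = n * o * n⁻¹ * r := by group
    rw [mem_compl_iff hR hO1 hO2 hO4 h1]
    have h2 : orderOf (n * o * n⁻¹) = orderOf o := by
      have := orderOf_injective (MulAut.conj n).toMonoidHom (MulAut.conj n).injective o
      simpa [MulAut.conj_apply] using this
    rw [h2]
    exact (mem_compl_iff hR hO1 hO2 hO4 (hO1 ho)).1 ho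
  -- `D` acts trivially on `Cc / O`
  have hCO : ∀ φ ∈ D, ∀ c ∈ Cc, c⁻¹ * φ c ∈ O := by
    intro φ hφ c hc
    obtain ⟨r, hr, o, ho, rfl⟩ := hO4 c hc
    rw [map_mul, hDR φ hφ r hr]
    have : (r * o)⁻¹ * (r * φ o) = o⁻¹ * φ o := by group
    rw [this]
    exact mul_mem (inv_mem ho) (hInvO.apply_mem hφ ho)
  -- `[N, D] ≤ Cc`
  have hNC : ∀ φ ∈ D, ∀ n ∈ N, n⁻¹ * φ n ∈ Cc := by
    intro φ hφ n hn
    rw [Subgroup.mem_centralizer_iff]
    intro r hr
    have h1 : n * r * n⁻¹ ∈ R := (Subgroup.mem_normalizer_iff.1 hn r).1 hr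
    have h2 := hDR φ hφ _ h1
    rw [map_mul, map_mul, map_inv, hDR φ hφ r hr] at h2
    calc r * (n⁻¹ * φ n) = n⁻¹ * (n * r * n⁻¹) * φ n := by group
      _ = n⁻¹ * (φ n * r * (φ n)⁻¹) * φ n := by rw [h2]
      _ = n⁻¹ * φ n * r := by group
  -- `D` acts trivially on `N / O`
  have hNO : TrMod D N O := by
    intro φ hφ n hn
    have hnorm : (O.subgroupOf Cc).Normal := by
      constructor
      intro o ho c
      rw [Subgroup.mem_subgroupOf] at ho ⊢
      exact hO3 _ c.2 _ ho
    -- `Cc / O` is solvable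
    have hsol : Group.IsSolvable (Cc ⧸ O.subgroupOf Cc) := by
      have hRC : Group.IsSolvable (R.subgroupOf Cc) := by
        have hp : IsPGroup 2 (R.subgroupOf Cc) := hR.comap_subtype
        have : Group.IsNilpotent (R.subgroupOf Cc) := hp.isNilpotent
        infer_instance
      let g : R.subgroupOf Cc →* Cc ⧸ O.subgroupOf Cc := (QuotientGroup.mk' _).comp (R.subgroupOf Cc).subtype
      refine Group.isSolvable_of_surjective (f := g) ?_
      intro x
      induction x using QuotientGroup.induction_on with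
      | H c =>
        obtain ⟨r, hr, o, ho, hroc⟩ := hO4 c c.2
        have hrC : r ∈ Cc := by
          have : r = c * o⁻¹ := by rw [hroc]; group
          rw [this]
          exact mul_mem c.2 (inv_mem (hO1 ho))
        refine ⟨⟨⟨r, hrC⟩, Subgroup.mem_subgroupOf.2 hr⟩, ?_⟩
        show QuotientGroup.mk (⟨r, hrC⟩ : Cc) = QuotientGroup.mk c
        rw [QuotientGroup.eq, Subgroup.mem_subgroupOf]
        show r⁻¹ * (c : K) ∈ O
        rw [hroc]
        simpa using ho
    let f : D →* Cc ⧸ O.subgroupOf Cc :=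
      { toFun := fun φ => QuotientGroup.mk ⟨n⁻¹ * (φ : MulAut K) n, hNC φ φ.2 n hn⟩
        map_one' := by
          have : (⟨n⁻¹ * (1 : MulAut K) n, hNC 1 (one_mem D) n hn⟩ : Cc) = 1 := by
            apply Subtype.ext; simp
          show QuotientGroup.mk (⟨n⁻¹ * (1 : MulAut K) n, _⟩ : Cc) = _
          rw [this]; rfl
        map_mul' := fun φ ψ => by
          show QuotientGroup.mk (⟨n⁻¹ * ((φ : MulAut K) * (ψ : MulAut K)) n, _⟩ : Cc) =
            QuotientGroup.mk ((⟨n⁻¹ * (φ : MulAut K) n, hNC φ φ.2 n hn⟩ : Cc) *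
              ⟨n⁻¹ * (ψ : MulAut K) n, hNC ψ ψ.2 n hn⟩)
          rw [QuotientGroup.eq, Subgroup.mem_subgroupOf]
          show (n⁻¹ * ((φ : MulAut K) * (ψ : MulAut K)) n)⁻¹ *
            (n⁻¹ * (φ : MulAut K) n * (n⁻¹ * (ψ : MulAut K) n)) ∈ O
          set u := n⁻¹ * (ψ : MulAut K) n with hu
          have huB : u ∈ Cc := hNC ψ ψ.2 n hn
          have h3 : u⁻¹ * (φ : MulAut K) u ∈ O := hCO φ φ.2 u huB
          have h4 : ((φ : MulAut K) * (ψ : MulAut K)) n = (φ : MulAut K) n * (φ : MulAut K) u := by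
            rw [hu, MulAut.mul_apply, ← map_mul]
            congr 1
            group
          rw [h4]
          have h5 : (n⁻¹ * ((φ : MulAut K) n * (φ : MulAut K) u))⁻¹ * (n⁻¹ * (φ : MulAut K) n * u) =
              (u⁻¹ * (φ : MulAut K) u)⁻¹ := by group
          rw [h5]
          exact inv_mem h3 }
    have h6 := hom_eq_one hD f ⟨φ, hφ⟩
    have h7 : (QuotientGroup.mk (⟨n⁻¹ * φ n, hNC φ hφ n hn⟩ : Cc) : Cc ⧸ O.subgroupOf Cc) = 1 := h6
    rw [QuotientGroup.eq_one_iff, Subgroup.mem_subgroupOf] at h7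
    exact h7
  -- Sylow argument in `O T`
  intro T φ hφ
  set Tk : Subgroup K := (T : Subgroup N).map N.subtype with hTk
  have hTN : Tk ≤ N := Subgroup.map_subtype_le _
  have hTp : IsPGroup 2 Tk := T.2.map _
  -- the subgroup `M = O T`
  let M : Subgroup K := O ⊔ Tk
  have hTM : Tk ≤ M := le_sup_right
  have hOM : O ≤ M := le_sup_left
  have hMn : ∀ m ∈ M, ∀ o ∈ O, m * o * m⁻¹ ∈ O := by
    intro m hm o ho
    have hON' : O ≤ N := hO1.trans (by
      intro x hx
      exact Subgroup.centralizer_le_normalizer _ hx)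
    exact hON m ((sup_le hON' hTN) hm) o ho
  have hOn : (O.subgroupOf M).Normal := by
    constructor
    intro o ho m
    rw [Subgroup.mem_subgroupOf] at ho ⊢
    exact hMn _ m.2 _ ho
  have hprod : ∀ m ∈ M, ∃ o ∈ O, ∃ t ∈ Tk, m = o * t := by
    have hcl : M = Subgroup.closure ((O : Set K) ∪ (Tk : Set K)) := Subgroup.sup_eq_closure O Tk
    intro m hm
    have hm' : m ∈ O ⊔ Tk := hm
    rw [hcl.symm.le.antisymm hcl.le] at hcl
    -- use the normality
    refine Subgroup.closure_induction (p := fun m _ => ∃ o ∈ O, ∃ t ∈ Tk, m = o * t)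
      ?_ ?_ ?_ ?_ (show m ∈ Subgroup.closure ((O : Set K) ∪ (Tk : Set K)) from by
        rw [← Subgroup.sup_eq_closure]; exact hm')
    · rintro x (hx | hx)
      · exact ⟨x, hx, 1, one_mem _, by group⟩
      · exact ⟨1, one_mem _, x, hx, by group⟩
    · exact ⟨1, one_mem _, 1, one_mem _, by group⟩
    · rintro x y _ _ ⟨o, ho, t, ht, rfl⟩ ⟨o', ho', t', ht', rfl⟩
      refine ⟨o * (t * o' * t⁻¹), mul_mem ho (hON t (hTN ht) o' ho'), t * t', mul_mem ht ht', by group⟩
    · rintro x _ ⟨o, ho, t, ht, rfl⟩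
      refine ⟨t⁻¹ * o⁻¹ * t⁻¹⁻¹, hON _ (inv_mem (hTN ht)) _ (inv_mem ho), t⁻¹, inv_mem ht, by group⟩
  -- `T` is a Sylow 2-subgroup of `M`
  have hMN : M ≤ N := by
    refine sup_le (hO1.trans ?_) hTN
    intro x hx
    exact Subgroup.centralizer_le_normalizer _ hx
  let T₁ : Sylow 2 M := Sylow.ofCard (Tk.subgroupOf M) (by
    have h1 : Nat.card (Tk.subgroupOf M) = Nat.card Tk :=
      Nat.card_congr (Subgroup.subgroupOfEquivOfLe hTM).toEquiv
    rw [h1]
    obtain ⟨k, hk⟩ := hTp.exists_card_eq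
    rw [hk]
    -- `|M| = |O| |T|`
    have h2 : Nat.card M ∣ Nat.card O * Nat.card Tk := by
      have h3 : Nat.card M = Nat.card (O.subgroupOf M) * (O.subgroupOf M).index :=
        (Subgroup.card_mul_index _).symm
      have h4 : Nat.card (O.subgroupOf M) = Nat.card O :=
        Nat.card_congr (Subgroup.subgroupOfEquivOfLe hOM).toEquiv
      have h5 : (O.subgroupOf M).index ∣ Nat.card Tk := by
        -- surjection `T → M / O`
        let g : Tk →* M ⧸ O.subgroupOf M := (QuotientGroup.mk' _).comp (Subgroup.inclusion hTM)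
        have hg : Function.Surjective g := by
          intro x
          induction x using QuotientGroup.induction_on with
          | H m =>
            obtain ⟨o, ho, t, ht, hm⟩ := hprod m m.2
            refine ⟨⟨t, ht⟩, ?_⟩
            show QuotientGroup.mk (⟨t, hTM ht⟩ : M) = QuotientGroup.mk m
            rw [QuotientGroup.eq, Subgroup.mem_subgroupOf]
            show t⁻¹ * (m : K) ∈ O
            rw [hm]
            have := hON t⁻¹ (inv_mem (hTN ht)) o ho
            simpa [mul_assoc] using this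
        have := Subgroup.card_dvd_of_surjective g hg
        rwa [← Subgroup.index_eq_card] at this
      rw [h3, h4]
      exact Nat.mul_dvd_mul_left _ h5
    have h3 : Nat.card Tk ∣ Nat.card M := Subgroup.card_dvd_of_le hTM
    rw [hk] at h2 h3
    have hpos : Nat.card M ≠ 0 := Nat.card_pos.ne'
    have h4 : (Nat.card M).factorization 2 ≤ k := by
      have h5 : (Nat.card M).factorization 2 ≤ (Nat.card O * 2 ^ k).factorization 2 :=
        (Nat.factorization_le_iff_dvd hpos (mul_ne_zero Nat.card_pos.ne' (by positivity))).2 h2 2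
      rw [Nat.factorization_mul Nat.card_pos.ne' (by positivity), Finsupp.add_apply,
        Nat.Prime.factorization_pow Nat.prime_two, Finsupp.single_eq_same,
        Nat.factorization_eq_zero_of_not_dvd hO2.not_two_dvd_nat, zero_add] at h5
      exact h5
    have h5 : k ≤ (Nat.card M).factorization 2 :=
      (Nat.Prime.pow_dvd_iff_le_factorization Nat.prime_two hpos).1 h3
    rw [le_antisymm h5 h4])
  -- `φ T ≤ M`
  have hφT : ∀ t ∈ Tk, φ t ∈ M := by
    intro t ht
    have h1 := hNO φ hφ t (hTN ht)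
    have h2 : φ t = t * (t⁻¹ * φ t) := by group
    rw [h2]
    exact mul_mem (hTM ht) (hOM h1)
  have hφTM : Tk.map φ.toMonoidHom ≤ M := by
    rintro _ ⟨t, ht, rfl⟩
    exact hφT t ht
  have hp3 : IsPGroup 2 ((Tk.map φ.toMonoidHom).subgroupOf M) := (hTp.map _).comap_subtype
  obtain ⟨T₂, hT₂⟩ := hp3.exists_le_sylow
  obtain ⟨m, hm⟩ := MulAction.exists_smul_eq M T₁ T₂
  obtain ⟨o, ho, t₀, ht₀, hmot⟩ := hprod m m.2
  -- `φ T ≤ o T o⁻¹`
  have h8 : ∀ t ∈ Tk, o⁻¹ * φ t * o ∈ Tk := by
    intro t ht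
    have h9 : (⟨φ t, hφT t ht⟩ : M) ∈ (T₂ : Subgroup M) := hT₂ (Subgroup.mem_subgroupOf.2 ⟨t, ht, rfl⟩)
    rw [← hm] at h9
    have h10 : (⟨φ t, hφT t ht⟩ : M) ∈ (MulAut.conj m • (T₁ : Subgroup M) : Subgroup M) := h9
    rw [Subgroup.mem_pointwise_smul_iff_inv_smul_mem] at h10
    have h11 : (m : K)⁻¹ * φ t * (m : K) ∈ Tk := by
      have := Subgroup.mem_subgroupOf.1 h10
      simpa [MulAut.smul_def, mul_assoc] using this
    have h12 : o⁻¹ * φ t * o = t₀ * ((m : K)⁻¹ * φ t * (m : K)) * t₀⁻¹ := by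
      rw [hmot]; group
    rw [h12]
    exact mul_mem (mul_mem ht₀ h11) (inv_mem ht₀)
  -- `conj o⁻¹ * φ` fixes `T`
  have hfix : (MulAut.conj o)⁻¹ * φ ∈ fixer Tk := by
    intro t ht
    have h1 : ((MulAut.conj o)⁻¹ * φ) t = o⁻¹ * φ t * o := by
      rw [MulAut.mul_apply, ← map_inv, MulAut.conj_apply]
      group
    rw [h1]
    have h2 : t⁻¹ * (o⁻¹ * φ t * o) ∈ Tk := mul_mem (inv_mem ht) (h8 t ht)
    have h3 : t⁻¹ * (o⁻¹ * φ t * o) ∈ O := by
      have h4 : t⁻¹ * (o⁻¹ * φ t * o) = (t⁻¹ * o⁻¹ * t⁻¹⁻¹) * (t⁻¹ * φ t) * o := by group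
      rw [h4]
      exact mul_mem (mul_mem (hON _ (inv_mem (hTN ht)) _ (inv_mem ho)) (hNO φ hφ t (hTN ht))) ho
    have h4 : t⁻¹ * (o⁻¹ * φ t * o) = 1 := by
      obtain ⟨k, hk⟩ := hTp ⟨_, h2⟩
      have hk' : (t⁻¹ * (o⁻¹ * φ t * o)) ^ 2 ^ k = 1 := by simpa using congrArg Subtype.val hk
      have h5 : orderOf (t⁻¹ * (o⁻¹ * φ t * o)) ∣ 2 ^ k := orderOf_dvd_of_pow_eq_one hk'
      have h6 : orderOf (t⁻¹ * (o⁻¹ * φ t * o)) ∣ Nat.card O := by
        have := orderOf_dvd_natCard (⟨_, h3⟩ : O)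
        rwa [Subgroup.orderOf_mk] at this
      have h7 : Nat.Coprime (2 ^ k) (Nat.card O) := Nat.Coprime.pow_left k hO2.coprime_two_left
      exact orderOf_eq_one_iff.1 (Nat.eq_one_of_dvd_coprimes h7 h5 h6)
    rw [inv_mul_eq_one] at h4
    exact h4.symm
  have hfin : φ = MulAut.conj o * ((MulAut.conj o)⁻¹ * φ) := by group
  rw [hfin]
  exact mul_mem (Subgroup.mem_sup_left ⟨o, rfl⟩) (Subgroup.mem_sup_right hfix)

theorem CentricMod.grow [Finite K] {R T : Subgroup K} (hR : IsPGroup 2 R) (hc : CentricMod R) (hRT : R ≤ T)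
    (hTN : T ≤ Subgroup.normalizer (R : Set K)) : CentricMod T := by
  obtain ⟨O, hO1, hO2, hO3, hO4⟩ := hc
  have hle : Subgroup.centralizer (T : Set K) ≤ Subgroup.centralizer (R : Set K) :=
    Subgroup.centralizer_le (fun x hx => hRT hx)
  have hON : ∀ n ∈ Subgroup.normalizer (R : Set K), ∀ o ∈ O, n * o * n⁻¹ ∈ O := by
    intro n hn o ho
    have h1 : n * o * n⁻¹ ∈ Subgroup.centralizer (R : Set K) := by
      rw [Subgroup.mem_centralizer_iff]
      intro r hr
      have h2 : n⁻¹ * r * n ∈ R := by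
        rw [Subgroup.mem_normalizer_iff.1 hn]
        simpa [mul_assoc] using hr
      have h3 := Subgroup.mem_centralizer_iff.1 (hO1 ho) _ h2
      calc r * (n * o * n⁻¹) = n * ((n⁻¹ * r * n) * o) * n⁻¹ := by group
        _ = n * (o * (n⁻¹ * r * n)) * n⁻¹ := by rw [h3]
        _ = n * o * n⁻¹ * r := by group
    rw [mem_compl_iff hR hO1 hO2 hO4 h1]
    have h2 : orderOf (n * o * n⁻¹) = orderOf o := by
      have := orderOf_injective (MulAut.conj n).toMonoidHom (MulAut.conj n).injective o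
      simpa [MulAut.conj_apply] using this
    rw [h2]
    exact (mem_compl_iff hR hO1 hO2 hO4 (hO1 ho)).1 ho
  have hRO : ∀ x ∈ R, x ∈ O → x = 1 := by
    intro x hx hxO
    obtain ⟨k, hk⟩ := hR ⟨x, hx⟩
    have hk' : x ^ 2 ^ k = 1 := by simpa using congrArg Subtype.val hk
    have h5 : orderOf x ∣ 2 ^ k := orderOf_dvd_of_pow_eq_one hk'
    have h6 : orderOf x ∣ Nat.card O := by
      have := orderOf_dvd_natCard (⟨_, hxO⟩ : O)
      rwa [Subgroup.orderOf_mk] at this
    have h7 : Nat.Coprime (2 ^ k) (Nat.card O) := Nat.Coprime.pow_left k hO2.coprime_two_left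
    exact orderOf_eq_one_iff.1 (Nat.eq_one_of_dvd_coprimes h7 h5 h6)
  refine ⟨O ⊓ Subgroup.centralizer (T : Set K), inf_le_right, ?_, ?_, ?_⟩
  · exact hO2.of_dvd_nat (Subgroup.card_dvd_of_le inf_le_left)
  · intro c hc o ho
    exact Subgroup.mem_inf.2 ⟨hO3 c (hle hc) o (Subgroup.mem_inf.1 ho).1,
      mul_mem (mul_mem hc (Subgroup.mem_inf.1 ho).2) (inv_mem hc)⟩
  · intro c hc
    obtain ⟨r, hr, o, ho, rfl⟩ := hO4 c (hle hc)
    refine ⟨r, hRT hr, o, Subgroup.mem_inf.2 ⟨ho, ?_⟩, rfl⟩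
    rw [Subgroup.mem_centralizer_iff]
    intro t ht
    have h1 : t * (r * o) = r * o * t := Subgroup.mem_centralizer_iff.1 hc t ht
    have h2 : t * r * t⁻¹ ∈ R := (Subgroup.mem_normalizer_iff.1 (hTN ht) r).1 hr
    have h3 : t * o * t⁻¹ ∈ O := hON t (hTN ht) o ho
    have h4 : r⁻¹ * (t * r * t⁻¹) = o * (t * o * t⁻¹)⁻¹ := by
      have h5 : (t * r * t⁻¹) * (t * o * t⁻¹) = r * o := by
        calc (t * r * t⁻¹) * (t * o * t⁻¹) = (t * (r * o)) * t⁻¹ := by group
          _ = (r * o * t) * t⁻¹ := by rw [h1]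
          _ = r * o := by group
      rw [eq_mul_inv_iff_mul_eq, mul_assoc, h5]
      group
    have h5 : r⁻¹ * (t * r * t⁻¹) = 1 := by
      apply hRO
      · exact mul_mem (inv_mem hr) h2
      · rw [h4]; exact mul_mem ho (inv_mem h3)
    rw [h5] at h4
    have h6 : t * o * t⁻¹ = o := by
      have := h4.symm
      rw [mul_inv_eq_one] at this
      exact this.symm
    calc t * o = (t * o * t⁻¹) * t := by group
      _ = o * t := by rw [h6]

/-- **Growing.** -/
theorem le_of_le_sup_fixer [Finite K] (hfix : ∀ T : Sylow 2 K, Group.IsSolvable (fixer (T : Subgroup K)))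
    {C : Subgroup (MulAut K)} (hC : ⁅C, C⁆ = C) :
    ∀ (n : ℕ) (R : Subgroup K), Nat.card K - Nat.card R = n → IsPGroup 2 R → CentricMod R →
      C ≤ (MulAut.conj : K →* MulAut K).range ⊔ fixer R → C ≤ (MulAut.conj : K →* MulAut K).range := by
  have hI := conj_range_normal K
  intro n
  induction n using Nat.strong_induction_on with
  | _ n ih =>
    intro R hn hR hcm hCR
    obtain ⟨D, hDF, hD, hCD⟩ := exists_perfect_le_sup hC hCR
    obtain ⟨P, hP⟩ := hR.exists_le_sylow
    by_cases hRP : R = P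
    · -- `R` is a Sylow 2-subgroup
      have h1 : Group.IsSolvable D := by
        have := hfix P
        rw [← hRP] at this
        exact Group.isSolvable_of_isSolvable_injective (Subgroup.inclusion_injective hDF)
      have h2 : D = ⊥ := eq_bot_of_perfect_of_solvable hD h1
      rw [h2, sup_bot_eq] at hCD
      exact hCD
    · have hlt : R < P := lt_of_le_of_ne hP hRP
      -- the normaliser of `R` in `P` is larger
      have hnil : Group.IsNilpotent P := P.2.isNilpotent
      have hcond : NormalizerCondition P := Group.normalizerCondition_of_isNilpotent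
      have h1 : R.subgroupOf P < ⊤ := by
        rw [lt_top_iff_ne_top]
        intro h
        rw [Subgroup.subgroupOf_eq_top] at h
        exact hRP (le_antisymm hP h)
      have h2 := hcond _ h1
      obtain ⟨x, hx1, hx2⟩ := SetLike.exists_of_lt h2
      have hxR : (x : K) ∉ R := fun h => hx2 (Subgroup.mem_subgroupOf.2 h)
      have hxN : (x : K) ∈ Subgroup.normalizer (R : Set K) := by
        rw [Subgroup.mem_normalizer_iff]
        intro r
        constructor
        · intro hr
          have h3 := (Subgroup.mem_normalizer_iff.1 hx1 ⟨r, hP hr⟩).1 (Subgroup.mem_subgroupOf.2 hr)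
          exact Subgroup.mem_subgroupOf.1 h3
        · intro hr
          have h5 : (x : K) * r * (x : K)⁻¹ ∈ (P : Subgroup K) := hP hr
          have h6 : r ∈ (P : Subgroup K) := by
            have : r = (x : K)⁻¹ * ((x : K) * r * (x : K)⁻¹) * x := by group
            rw [this]
            exact mul_mem (mul_mem (inv_mem x.2) h5) x.2
          have h3 := (Subgroup.mem_normalizer_iff.1 hx1 ⟨r, h6⟩).2 (Subgroup.mem_subgroupOf.2 hr)
          exact Subgroup.mem_subgroupOf.1 h3
      -- a Sylow 2-subgroup of `N(R)` containing `P ∩ N(R)`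
      have hp0 : IsPGroup 2 ((P : Subgroup K) ⊓ Subgroup.normalizer (R : Set K) : Subgroup K) :=
        P.2.to_inf_left
      have hp1 : IsPGroup 2 (((P : Subgroup K) ⊓ Subgroup.normalizer (R : Set K)).subgroupOf
          (Subgroup.normalizer (R : Set K))) := hp0.comap_subtype
      obtain ⟨T, hT⟩ := hp1.exists_le_sylow
      set Tk : Subgroup K := (T : Subgroup (Subgroup.normalizer (R : Set K))).map
        (Subgroup.normalizer (R : Set K)).subtype with hTk
      have hTN : Tk ≤ Subgroup.normalizer (R : Set K) := Subgroup.map_subtype_le _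
      have hRT : R ≤ Tk := by
        intro r hr
        have h3 : r ∈ Subgroup.normalizer (R : Set K) := Subgroup.le_normalizer hr
        exact ⟨⟨r, h3⟩, hT (Subgroup.mem_subgroupOf.2 ⟨hP hr, h3⟩), rfl⟩
      have hxT : (x : K) ∈ Tk := ⟨⟨x, hxN⟩, hT (Subgroup.mem_subgroupOf.2 ⟨x.2, hxN⟩), rfl⟩
      have hTp : IsPGroup 2 Tk := T.2.map _
      have hlt2 : R < Tk := lt_of_le_of_ne hRT (fun h => hxR (h ▸ hxT))
      have hcard : Nat.card R < Nat.card Tk := by
        apply Nat.lt_of_le_of_ne (Subgroup.card_le_of_le hRT)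
        intro h
        exact hlt2.ne (Subgroup.eq_of_le_of_card_ge hRT h.ge)
      have hcardK : Nat.card Tk ≤ Nat.card K := Subgroup.card_le_card_group Tk
      have hstep := step hR hcm hD (fun φ hφ => hDF hφ) T
      refine ih (Nat.card K - Nat.card Tk) (by omega) Tk rfl hTp (hcm.grow hR hRT hTN) ?_
      exact hCD.trans (sup_le le_sup_left hstep)

/-- `C_K(R)` is 2-nilpotent with central Sylow 2-subgroup when `R` is a Sylow 2-subgroup of a subgroup containing
`C_K(R)`. -/
theorem centricMod_of_sylow [Finite K] {H : Subgroup K} (R : Sylow 2 H)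
    (hCH : Subgroup.centralizer (((R : Subgroup H).map H.subtype : Subgroup K) : Set K) ≤ H) :
    CentricMod ((R : Subgroup H).map H.subtype) := by
  set Rk : Subgroup K := (R : Subgroup H).map H.subtype with hRk
  set Y : Subgroup K := Subgroup.centralizer (Rk : Set K) with hY
  have hRkp : IsPGroup 2 Rk := R.2.map _
  obtain ⟨Q⟩ : Nonempty (Sylow 2 Y) := inferInstance
  -- the Sylow 2-subgroup of `Y` lies in `R`
  have hQR : (Q : Subgroup Y).map Y.subtype ≤ Rk := by
    set Qk : Subgroup K := (Q : Subgroup Y).map Y.subtype with hQk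
    have hQkY : Qk ≤ Y := Subgroup.map_subtype_le _
    have hp : IsPGroup 2 (Qk ⊔ Rk : Subgroup K) := by
      apply IsPGroup.to_sup_of_normal_right' (Q.2.map _) hRkp
      exact hQkY.trans (Subgroup.centralizer_le_normalizer _)
    have hle : Qk ⊔ Rk ≤ H := sup_le (hQkY.trans hCH) (Subgroup.map_subtype_le _)
    have hp2 : IsPGroup 2 ((Qk ⊔ Rk : Subgroup K).subgroupOf H) := hp.comap_subtype
    have h1 : (R : Subgroup H) ≤ (Qk ⊔ Rk : Subgroup K).subgroupOf H := by
      intro r hr
      exact Subgroup.mem_subgroupOf.2 (Subgroup.mem_sup_right ⟨r, hr, rfl⟩)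
    have h2 := R.3 hp2 h1
    intro q hq
    have hqH : q ∈ H := hle (Subgroup.mem_sup_left hq)
    have h3 : (⟨q, hqH⟩ : H) ∈ (R : Subgroup H) := by
      rw [← h2]
      exact Subgroup.mem_subgroupOf.2 (Subgroup.mem_sup_left hq)
    exact ⟨⟨q, hqH⟩, h3, rfl⟩
  -- it is central in `Y`
  have hcen : ∀ q ∈ (Q : Subgroup Y), ∀ y : Y, y * q = q * y := by
    intro q hq y
    apply Subtype.ext
    have h1 : (q : K) ∈ Rk := hQR ⟨q, hq, rfl⟩
    exact (Subgroup.mem_centralizer_iff.1 y.2 _ h1).symm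
  have hNC : Subgroup.normalizer ((Q : Subgroup Y) : Set Y) ≤ Subgroup.centralizer ((Q : Subgroup Y) : Set Y) := by
    intro y _
    rw [Subgroup.mem_centralizer_iff]
    intro q hq
    exact (hcen q hq y).symm
  have hcomp := MonoidHom.ker_transferSylow_isComplement' Q hNC
  set N : Subgroup Y := (MonoidHom.transferSylow Q hNC).ker with hN
  have hodd : Odd (Nat.card N) := by
    rw [← Nat.not_even_iff_odd, even_iff_two_dvd]
    exact MonoidHom.not_dvd_card_ker_transferSylow Q hNC
  refine ⟨N.map Y.subtype, Subgroup.map_subtype_le _, ?_, ?_, ?_⟩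
  · have : Nat.card (N.map Y.subtype) = Nat.card N :=
      Nat.card_congr (N.equivMapOfInjective _ Y.subtype_injective).symm.toEquiv
    rw [this]
    exact hodd
  · rintro c hc _ ⟨o, ho, rfl⟩
    refine ⟨(⟨c, hc⟩ : Y) * o * (⟨c, hc⟩ : Y)⁻¹, ?_, rfl⟩
    have : N.Normal := by rw [hN]; infer_instance
    exact this.conj_mem o ho ⟨c, hc⟩
  · intro c hc
    have h1 : ((N : Subgroup Y) : Set Y) * ((Q : Subgroup Y) : Set Y) = Set.univ := hcomp.mul_eq
    have h2 : (⟨c, hc⟩ : Y) ∈ ((N : Subgroup Y) : Set Y) * ((Q : Subgroup Y) : Set Y) := by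
      rw [h1]; exact Set.mem_univ _
    obtain ⟨o, ho, q, hq, hoq⟩ := h2
    refine ⟨q, hQR ⟨q, hq, rfl⟩, o, ⟨o, ho, rfl⟩, ?_⟩
    have h3 : c = (o : K) * (q : K) := (congrArg Subtype.val hoq).symm
    have h4 : (o : K) * q = q * o := congrArg Subtype.val (hcen q hq o)
    rw [h3, h4]

/-- **Frattini.** -/
theorem le_sup_stab [Finite K] {H : Subgroup K} (R : Sylow 2 H) {B : Subgroup (MulAut K)} (hB : Inv B H)
    (hH : ∀ h ∈ H, MulAut.conj h ∈ B) :
    B ≤ (MulAut.conj : K →* MulAut K).range ⊔ (B ⊓ stab ((R : Subgroup H).map H.subtype)) := by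
  intro b hb
  set Rk : Subgroup K := (R : Subgroup H).map H.subtype with hRk
  have hRH : Rk ≤ H := Subgroup.map_subtype_le _
  have hT0 : Nat.card (Rk.map b.toMonoidHom) = Nat.card Rk :=
    Nat.card_congr (Rk.equivMapOfInjective b.toMonoidHom b.injective).symm.toEquiv
  have hle : Rk.map b.toMonoidHom ≤ H := by
    rintro _ ⟨r, hr, rfl⟩
    exact hB.apply_mem hb (hRH hr)
  have hp3 : IsPGroup 2 ((Rk.map b.toMonoidHom).subgroupOf H) := ((R.2.map _).map _).comap_subtype
  obtain ⟨T₂, hT₂⟩ := hp3.exists_le_sylow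
  obtain ⟨n, hn⟩ := MulAction.exists_smul_eq H R T₂
  have h7 : Rk.map b.toMonoidHom ≤ Rk.map (MulAut.conj (n : K)).toMonoidHom := by
    intro x hx
    have hxH : x ∈ H := hle hx
    have h8 : (⟨x, hxH⟩ : H) ∈ (T₂ : Subgroup H) := hT₂ (Subgroup.mem_subgroupOf.2 hx)
    rw [← hn] at h8
    have h9 : (⟨x, hxH⟩ : H) ∈ (MulAut.conj n • (R : Subgroup H) : Subgroup H) := h8
    rw [Subgroup.mem_pointwise_smul_iff_inv_smul_mem] at h9
    have h10 : n⁻¹ * ⟨x, hxH⟩ * n ∈ (R : Subgroup H) := by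
      simpa [MulAut.smul_def, mul_assoc] using h9
    refine ⟨(n : K)⁻¹ * x * (n : K), ⟨_, h10, rfl⟩, ?_⟩
    show (MulAut.conj (n : K)) ((n : K)⁻¹ * x * (n : K)) = x
    rw [MulAut.conj_apply]; group
  have h11 : Rk.map b.toMonoidHom = Rk.map (MulAut.conj (n : K)).toMonoidHom := by
    apply Subgroup.eq_of_le_of_card_ge h7
    rw [hT0]
    exact le_of_eq (Nat.card_congr (Rk.equivMapOfInjective (MulAut.conj (n : K)).toMonoidHom
      (MulAut.conj (n : K)).injective).symm.toEquiv)
  set c₂ : MulAut K := (MulAut.conj (n : K))⁻¹ * b with hc₂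
  have h12 : c₂ ∈ B ⊓ stab Rk := by
    refine Subgroup.mem_inf.2 ⟨?_, ?_⟩
    · exact mul_mem (inv_mem (hH n n.2)) hb
    · show Rk.map c₂.toMonoidHom = Rk
      have h2 : ∀ A : Subgroup K, A.map c₂.toMonoidHom =
          (A.map b.toMonoidHom).map ((MulAut.conj (n : K))⁻¹).toMonoidHom := by
        intro A
        rw [Subgroup.map_map]; rfl
      rw [h2, h11, Subgroup.map_map]
      have : ((MulAut.conj (n : K))⁻¹).toMonoidHom.comp (MulAut.conj (n : K)).toMonoidHom = MonoidHom.id K := by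
        ext x
        exact MulAut.inv_apply_self _ (MulAut.conj (n : K)) x
      rw [this, Subgroup.map_id]
  have h13 : b = MulAut.conj (n : K) * c₂ := by rw [hc₂]; group
  rw [h13]
  exact mul_mem (Subgroup.mem_sup_left ⟨(n : K), rfl⟩) (Subgroup.mem_sup_right h12)

/-- **Criterion with a stable subgroup `H`, `C_K(R) ≤ H` for a Sylow 2-subgroup `R` of `H`.** -/
theorem sch_of_subgroup [Finite K] (hfix : ∀ T : Sylow 2 K, Group.IsSolvable (fixer (T : Subgroup K)))
    (H : Subgroup K) (R : Sylow 2 H)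
    (hCH : Subgroup.centralizer (((R : Subgroup H).map H.subtype : Subgroup K) : Set K) ≤ H)
    (hst : ∀ C : Subgroup (MulAut K), ⁅C, C⁆ = C → ∀ φ ∈ C, ∃ k : K,
      H.map φ.toMonoidHom = H.map (MulAut.conj k).toMonoidHom)
    (h : ∀ D : Subgroup (MulAut K), ⁅D, D⁆ = D → Inv D H → Inv D ((R : Subgroup H).map H.subtype) →
      Tr D ((R : Subgroup H).map H.subtype)) : Sch K := by
  have hI := conj_range_normal K
  intro C hC
  refine le_of_le_sup_fixer hfix hC _ _ rfl (R.2.map _) (centricMod_of_sylow R hCH) ?_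
  -- `C ≤ I ⊔ stab H`
  have h1 : C ≤ (MulAut.conj : K →* MulAut K).range ⊔ stab H := by
    intro φ hφ
    obtain ⟨k, hk⟩ := hst C hC φ hφ
    have h2 : (MulAut.conj k)⁻¹ * φ ∈ stab H := by
      show H.map ((MulAut.conj k)⁻¹ * φ).toMonoidHom = H
      have h3 : H.map ((MulAut.conj k)⁻¹ * φ).toMonoidHom =
          (H.map φ.toMonoidHom).map ((MulAut.conj k)⁻¹).toMonoidHom := by
        rw [Subgroup.map_map]; rfl
      rw [h3, hk, Subgroup.map_map]
      have : ((MulAut.conj k)⁻¹).toMonoidHom.comp (MulAut.conj k).toMonoidHom = MonoidHom.id K := by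
        ext x
        exact MulAut.inv_apply_self _ (MulAut.conj k) x
      rw [this, Subgroup.map_id]
    have h3 : φ = MulAut.conj k * ((MulAut.conj k)⁻¹ * φ) := by group
    rw [h3]
    exact mul_mem (Subgroup.mem_sup_left ⟨k, rfl⟩) (Subgroup.mem_sup_right h2)
  have h2 : stab H ≤ (MulAut.conj : K →* MulAut K).range ⊔ (stab H ⊓ stab ((R : Subgroup H).map H.subtype)) :=
    le_sup_stab R (fun φ hφ => hφ) (fun x hx => map_conj_eq_of_mem_normalizer (Subgroup.le_normalizer hx))
  have h3 : C ≤ (MulAut.conj : K →* MulAut K).range ⊔ (stab H ⊓ stab ((R : Subgroup H).map H.subtype)) :=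
    h1.trans (sup_le le_sup_left h2)
  obtain ⟨D, hDN, hD, hCD⟩ := exists_perfect_le_sup hC h3
  refine hCD.trans (sup_le le_sup_left (le_trans ?_ le_sup_right))
  exact fun φ hφ => h D hD (fun φ hφ => (hDN hφ).1) (fun φ hφ => (hDN hφ).2) φ hφ

/-- The automorphisms fixing `z`. -/
def fixPt (z : K) : Subgroup (MulAut K) where
  carrier := {φ | φ z = z}
  one_mem' := rfl
  mul_mem' := fun {φ ψ} hφ hψ => by
    show (φ * ψ) z = z
    rw [MulAut.mul_apply, show ψ z = z from hψ, show φ z = z from hφ]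
  inv_mem' := fun {φ} hφ => by
    show φ⁻¹ z = z
    calc φ⁻¹ z = φ⁻¹ (φ z) := by rw [show φ z = z from hφ]
      _ = z := MulAut.inv_apply_self _ φ z

theorem mem_fixPt {z : K} {φ : MulAut K} : φ ∈ fixPt z ↔ φ z = z := Iff.rfl

/-- Auxiliary form with `H = C_K(z)` as a variable. -/
theorem sch_of_two_element_aux [Finite K] (hfix : ∀ T : Sylow 2 K, Group.IsSolvable (fixer (T : Subgroup K)))
    (z : K) {k : ℕ} (hz : z ^ 2 ^ k = 1) (H : Subgroup K) (hH : H = Subgroup.centralizer ({z} : Set K))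
    (R : Sylow 2 H)
    (hst : ∀ C : Subgroup (MulAut K), ⁅C, C⁆ = C → ∀ φ ∈ C, ∃ k : K, φ z = k * z * k⁻¹)
    (h : ∀ D : Subgroup (MulAut K), ⁅D, D⁆ = D → (∀ φ ∈ D, φ z = z) →
      Inv D ((R : Subgroup H).map H.subtype) → Tr D ((R : Subgroup H).map H.subtype)) :
    Sch K := by
  have hI := conj_range_normal K
  have hzH : z ∈ H := by
    rw [hH, Subgroup.mem_centralizer_singleton_iff]
  -- `z ∈ R`
  have hzR : (⟨z, hzH⟩ : H) ∈ (R : Subgroup H) := by
    have hzc : ∀ x : H, x * ⟨z, hzH⟩ = ⟨z, hzH⟩ * x := by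
      intro x
      apply Subtype.ext
      have h1 : (x : K) ∈ Subgroup.centralizer ({z} : Set K) := hH ▸ x.2
      rw [Subgroup.mem_centralizer_singleton_iff] at h1
      exact h1
    have hpz : IsPGroup 2 (Subgroup.zpowers (⟨z, hzH⟩ : H)) := by
      apply IsPGroup.of_card (n := (Nat.card (Subgroup.zpowers (⟨z, hzH⟩ : H))).factorization 2)
      rw [Nat.card_zpowers]
      have h1 : orderOf (⟨z, hzH⟩ : H) ∣ 2 ^ k := by
        apply orderOf_dvd_of_pow_eq_one
        apply Subtype.ext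
        simpa using hz
      obtain ⟨j, _, hj⟩ := (Nat.dvd_prime_pow Nat.prime_two).1 h1
      rw [hj, Nat.Prime.factorization_pow Nat.prime_two, Finsupp.single_eq_same]
    have hp : IsPGroup 2 (Subgroup.zpowers (⟨z, hzH⟩ : H) ⊔ (R : Subgroup H) : Subgroup H) := by
      apply IsPGroup.to_sup_of_normal_right' hpz R.2
      rw [Subgroup.zpowers_le]
      apply Subgroup.centralizer_le_normalizer
      rw [Subgroup.mem_centralizer_iff]
      intro x _
      exact hzc x
    have h2 := R.3 hp le_sup_right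
    rw [← h2]
    exact Subgroup.mem_sup_left (Subgroup.mem_zpowers _)
  have hCH : Subgroup.centralizer (((R : Subgroup H).map H.subtype : Subgroup K) : Set K) ≤ H := by
    intro x hx
    rw [hH, Subgroup.mem_centralizer_singleton_iff]
    exact (Subgroup.mem_centralizer_iff.1 hx z ⟨⟨z, hzH⟩, hzR, rfl⟩).symm
  intro C hC
  refine le_of_le_sup_fixer hfix hC _ _ rfl (R.2.map _) (centricMod_of_sylow R hCH) ?_
  have h1 : C ≤ (MulAut.conj : K →* MulAut K).range ⊔ fixPt z := by
    intro φ hφ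
    obtain ⟨k, hk⟩ := hst C hC φ hφ
    have h2 : (MulAut.conj k)⁻¹ * φ ∈ fixPt z := by
      show ((MulAut.conj k)⁻¹ * φ) z = z
      rw [MulAut.mul_apply, hk, ← map_inv, MulAut.conj_apply]
      group
    have h3 : φ = MulAut.conj k * ((MulAut.conj k)⁻¹ * φ) := by group
    rw [h3]
    exact mul_mem (Subgroup.mem_sup_left ⟨k, rfl⟩) (Subgroup.mem_sup_right h2)
  have hInvH : Inv (fixPt z) H := inv_iff.2 fun φ hφ x hx => by
    rw [hH, Subgroup.mem_centralizer_singleton_iff] at hx ⊢
    have h2 := congrArg φ hx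
    rw [map_mul, map_mul, mem_fixPt.1 hφ] at h2
    exact h2
  have h2 : fixPt z ≤ (MulAut.conj : K →* MulAut K).range ⊔ (fixPt z ⊓ stab ((R : Subgroup H).map H.subtype)) := by
    refine le_sup_stab R hInvH (fun x hx => ?_)
    rw [mem_fixPt, MulAut.conj_apply]
    rw [hH, Subgroup.mem_centralizer_singleton_iff] at hx
    rw [hx]
    group
  have h3 : C ≤ (MulAut.conj : K →* MulAut K).range ⊔ (fixPt z ⊓ stab ((R : Subgroup H).map H.subtype)) :=
    h1.trans (sup_le le_sup_left h2)
  obtain ⟨D, hDN, hD, hCD⟩ := exists_perfect_le_sup hC h3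
  refine hCD.trans (sup_le le_sup_left (le_trans ?_ le_sup_right))
  exact fun φ hφ => h D hD (fun φ hφ => (hDN hφ).1) (fun φ hφ => (hDN hφ).2) φ hφ

/-- **Criterion with a stable class of 2-elements**: `z` a 2-element whose class is stable, `R` a Sylow 2-subgroup of
`C_K(z)` (NOT necessarily of `K`); every perfect `D` fixing `z` and normalising `R` centralises `R`. -/
theorem sch_of_two_element [Finite K] (hfix : ∀ T : Sylow 2 K, Group.IsSolvable (fixer (T : Subgroup K)))
    (z : K) {k : ℕ} (hz : z ^ 2 ^ k = 1) (R : Sylow 2 (Subgroup.centralizer ({z} : Set K)))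
    (hst : ∀ C : Subgroup (MulAut K), ⁅C, C⁆ = C → ∀ φ ∈ C, ∃ k : K, φ z = k * z * k⁻¹)
    (h : ∀ D : Subgroup (MulAut K), ⁅D, D⁆ = D → (∀ φ ∈ D, φ z = z) →
      Inv D ((R : Subgroup (Subgroup.centralizer ({z} : Set K))).map (Subgroup.centralizer ({z} : Set K)).subtype) →
      Tr D ((R : Subgroup (Subgroup.centralizer ({z} : Set K))).map (Subgroup.centralizer ({z} : Set K)).subtype)) :
    Sch K :=
  sch_of_two_element_aux hfix z hz _ rfl R hst h

end Cfsg.Agent.Schreier.CentricTwo
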