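import Mathlib
import Cfsg.Agent.Schreier.Basic
import Cfsg.Agent.Schreier.Tools
import Cfsg.Agent.Schreier.SylowCrit
import Cfsg.Agent.Schreier.Crit

/-!
# Frattini chains: reduction to perfect groups of automorphisms fixing a chain of Sylow subgroups of centralisers
-/

set_option autoImplicit false

namespace Cfsg.Agent.Schreier.Chain

open Cfsg.Agent.Schreier.Basic Cfsg.Agent.Schreier.Tools Cfsg.Agent.Schreier.SylowCrit

open scoped Pointwise commutatorElement

/-! ### Perfect subgroups of a product with a normal subgroup -/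

section Abstract

variable {A : Type*} [Group A]

theorem commutator_sup_le (I : Subgroup A) [I.Normal] (B : Subgroup A) :
    ⁅I ⊔ B, I ⊔ B⁆ ≤ I ⊔ ⁅B, B⁆ := by
  have h1 : (⁅I ⊔ B, I ⊔ B⁆).map (QuotientGroup.mk' I) ≤ (⁅B, B⁆).map (QuotientGroup.mk' I) := by
    rw [Subgroup.map_commutator, Subgroup.map_commutator, Subgroup.map_sup]
    have h2 : I.map (QuotientGroup.mk' I) = ⊥ := by
      rw [Subgroup.map_eq_bot_iff, QuotientGroup.ker_mk']
    rw [h2, bot_sup_eq]
  have h3 := Subgroup.map_le_iff_le_comap.1 h1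
  rw [Subgroup.comap_map_eq, QuotientGroup.ker_mk'] at h3
  rw [sup_comm I ⁅B, B⁆]
  exact h3

/-- A perfect subgroup of `I N`, `I` normal, is contained in `I N⁽ⁿ⁾`. -/
theorem le_sup_derivedSeries (I : Subgroup A) [I.Normal] (N : Subgroup A) {C : Subgroup A}
    (hC : ⁅C, C⁆ = C) (h : C ≤ I ⊔ N) (n : ℕ) : C ≤ I ⊔ (derivedSeries N n).map N.subtype := by
  induction n with
  | zero =>
    rw [derivedSeries_zero, ← MonoidHom.range_eq_map, Subgroup.range_subtype]
    exact h
  | succ n ih =>
    rw [derivedSeries_succ, Subgroup.map_commutator]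
    calc C = ⁅C, C⁆ := hC.symm
      _ ≤ _ := Subgroup.commutator_mono ih ih
      _ ≤ _ := commutator_sup_le I _

/-- A perfect subgroup of `I N`, `I` normal, lies in `I ker f` for every homomorphism `f` of `N` to a solvable
group. -/
theorem le_sup_ker (I : Subgroup A) [I.Normal] (N : Subgroup A) {C : Subgroup A}
    (hC : ⁅C, C⁆ = C) (h : C ≤ I ⊔ N) {B : Type*} [Group B] [hB : Group.IsSolvable B] (f : N →* B) :
    C ≤ I ⊔ f.ker.map N.subtype := by
  obtain ⟨n, hn⟩ := hB.solvable
  refine (le_sup_derivedSeries I N hC h n).trans (sup_le_sup_left (Subgroup.map_mono ?_) _)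
  rw [← Subgroup.map_eq_bot_iff, eq_bot_iff, ← hn]
  exact map_derivedSeries_le_derivedSeries f n

end Abstract

variable {K : Type*} [Group K]

/-- Every perfect group of automorphisms lies in the product of the inner automorphism group and `B`. -/
def Cov (B : Subgroup (MulAut K)) : Prop :=
  ∀ C : Subgroup (MulAut K), ⁅C, C⁆ = C → C ≤ (MulAut.conj : K →* MulAut K).range ⊔ B

theorem cov_top : Cov (⊤ : Subgroup (MulAut K)) := fun _ _ => le_sup_of_le_right le_top

theorem cov_bot : Cov (fixer (⊥ : Subgroup K)) := by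
  have : fixer (⊥ : Subgroup K) = ⊤ := by
    rw [eq_top_iff]
    intro φ _ t ht
    rw [Subgroup.mem_bot] at ht
    rw [ht, map_one]
  rw [this]
  exact cov_top

theorem conj_mem_fixer {T : Subgroup K} {c : K} (hc : c ∈ Subgroup.centralizer (T : Set K)) :
    MulAut.conj c ∈ fixer T := by
  intro t ht
  rw [MulAut.conj_apply, ← Subgroup.mem_centralizer_iff.1 hc t ht, mul_inv_cancel_right]

/-- An automorphism fixing `T` pointwise maps `C_K(T)` onto itself. -/
theorem apply_mem_centralizer {T : Subgroup K} {φ : MulAut K} (hφ : φ ∈ fixer T) {c : K}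
    (hc : c ∈ Subgroup.centralizer (T : Set K)) : φ c ∈ Subgroup.centralizer (T : Set K) := by
  rw [Subgroup.mem_centralizer_iff]
  intro t ht
  have h1 := Subgroup.mem_centralizer_iff.1 hc t ht
  have h2 := congrArg φ h1
  rw [map_mul, map_mul, hφ t ht] at h2
  exact h2

theorem fixer_sup (T R : Subgroup K) : fixer (T ⊔ R) = fixer T ⊓ fixer R := by
  apply le_antisymm
  · exact le_inf (fun φ hφ t ht => hφ t (Subgroup.mem_sup_left ht))
      (fun φ hφ t ht => hφ t (Subgroup.mem_sup_right ht))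
  · intro φ hφ
    have h1 : T ⊔ R ≤ (MulEquiv.toMonoidHom φ).eqLocus (MonoidHom.id K) :=
      sup_le (fun t ht => hφ.1 t ht) (fun t ht => hφ.2 t ht)
    exact fun t ht => h1 ht

/-- Restriction of the automorphisms stabilising `R` to `R`. -/
def resStab (N : Subgroup (MulAut K)) (R : Subgroup K) (h : ∀ φ ∈ N, ∀ r ∈ R, φ r ∈ R) : N →* MulAut R where
  toFun φ :=
    { toFun := fun a => ⟨(φ : MulAut K) a, h φ φ.2 a a.2⟩
      invFun := fun a => ⟨(φ : MulAut K)⁻¹ a, h _ (inv_mem φ.2) a a.2⟩
      left_inv := fun a => Subtype.ext (MulAut.inv_apply_self _ (φ : MulAut K) a)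
      right_inv := fun a => Subtype.ext (MulAut.apply_inv_self _ (φ : MulAut K) a)
      map_mul' := fun a b => Subtype.ext (map_mul (φ : MulAut K) _ _) }
  map_one' := by ext a; rfl
  map_mul' φ ψ := by ext a; rfl

/-- **Frattini step.** If perfect groups of automorphisms are covered by the fixer of `T` and `R` is a Sylow
`p`-subgroup of `C_K(T)` with solvable automorphism group, then they are covered by the fixer of `T R`. -/
theorem cov_step [Finite K] {T : Subgroup K} (hT : Cov (fixer T)) {p : ℕ} [hp : Fact p.Prime] (R : Subgroup K)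
    (hRc : R ≤ Subgroup.centralizer (T : Set K)) (hRp : IsPGroup p R)
    (hRi : ¬ p ∣ R.relIndex (Subgroup.centralizer (T : Set K))) (hs : Group.IsSolvable (MulAut R)) :
    Cov (fixer (T ⊔ R)) := by
  intro C hC
  have hI := conj_range_normal K
  set I : Subgroup (MulAut K) := (MulAut.conj : K →* MulAut K).range with hIdef
  set H : Subgroup K := Subgroup.centralizer (T : Set K) with hH
  set N : Subgroup (MulAut K) := fixer T ⊓ stab R with hN
  -- the Frattini argument
  have h1 : fixer T ≤ I ⊔ N := by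
    intro φ hφ
    let R₁ : Sylow p H := (hRp.comap_subtype (K := H)).toSylow (P := R.subgroupOf H) hRi
    have h2 : R.map φ.toMonoidHom ≤ H := by
      rintro _ ⟨r, hr, rfl⟩
      exact apply_mem_centralizer hφ (hRc hr)
    have hp2 : IsPGroup p ((R.map φ.toMonoidHom).subgroupOf H) := (hRp.map _).comap_subtype
    obtain ⟨R₂, hR₂⟩ := hp2.exists_le_sylow
    obtain ⟨n, hn⟩ := MulAction.exists_smul_eq H R₁ R₂
    have h7 : R.map φ.toMonoidHom ≤ R.map (MulAut.conj (n : K)).toMonoidHom := by
      intro x hx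
      have hxH : x ∈ H := h2 hx
      have h8 : (⟨x, hxH⟩ : H) ∈ (R₂ : Subgroup H) := hR₂ (Subgroup.mem_subgroupOf.2 hx)
      rw [← hn] at h8
      have h9 : (⟨x, hxH⟩ : H) ∈ (MulAut.conj n • (R₁ : Subgroup H) : Subgroup H) := h8
      rw [Subgroup.mem_pointwise_smul_iff_inv_smul_mem] at h9
      have h10 : (n : K)⁻¹ * x * (n : K) ∈ R := by
        have := Subgroup.mem_subgroupOf.1 h9
        simpa [MulAut.smul_def, mul_assoc] using this
      refine ⟨_, h10, ?_⟩
      show (MulAut.conj (n : K)) ((n : K)⁻¹ * x * (n : K)) = x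
      rw [MulAut.conj_apply]; group
    have h11 : R.map φ.toMonoidHom = R.map (MulAut.conj (n : K)).toMonoidHom := by
      apply Subgroup.eq_of_le_of_card_ge h7
      rw [Nat.card_congr (R.equivMapOfInjective φ.toMonoidHom φ.injective).symm.toEquiv,
        Nat.card_congr (R.equivMapOfInjective (MulAut.conj (n : K)).toMonoidHom
        (MulAut.conj (n : K)).injective).symm.toEquiv]
    have hn' : MulAut.conj (n : K) ∈ fixer T := conj_mem_fixer n.2
    set c₂ : MulAut K := (MulAut.conj (n : K))⁻¹ * φ with hc₂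
    have h12 : c₂ ∈ N := by
      have hc₂T : c₂ ∈ fixer T := mul_mem (inv_mem hn') hφ
      refine ⟨hc₂T, ?_⟩
      show R.map c₂.toMonoidHom = R
      have h2 : R.map c₂.toMonoidHom =
          (R.map φ.toMonoidHom).map ((MulAut.conj (n : K))⁻¹).toMonoidHom := by
        rw [Subgroup.map_map]; rfl
      rw [h2, h11, Subgroup.map_map]
      have : ((MulAut.conj (n : K))⁻¹).toMonoidHom.comp (MulAut.conj (n : K)).toMonoidHom = MonoidHom.id K := by
        ext x
        exact MulAut.inv_apply_self _ (MulAut.conj (n : K)) x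
      rw [this, Subgroup.map_id]
    have h13 : φ = MulAut.conj (n : K) * c₂ := by rw [hc₂]; group
    rw [h13]
    exact mul_mem (Subgroup.mem_sup_left ⟨(n : K), rfl⟩) (Subgroup.mem_sup_right h12)
  have h2 : C ≤ I ⊔ N := (hT C hC).trans (sup_le le_sup_left h1)
  have hst : ∀ φ ∈ N, ∀ r ∈ R, φ r ∈ R := by
    intro φ hφ r hr
    have h3 : R.map φ.toMonoidHom = R := hφ.2
    rw [← h3]
    exact ⟨r, hr, rfl⟩
  refine (le_sup_ker I N hC h2 (resStab N R hst)).trans (sup_le_sup_left ?_ _)
  rintro _ ⟨φ, hφ, rfl⟩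
  rw [fixer_sup]
  refine ⟨φ.2.1, fun r hr => ?_⟩
  have h4 : resStab N R hst φ = 1 := hφ
  have h5 := congrArg (fun ψ : MulAut R => ((ψ ⟨r, hr⟩ : R) : K)) h4
  exact h5

/-- The first step: a Sylow subgroup of `K` with solvable automorphism group. -/
theorem cov_sylow [Finite K] {p : ℕ} [hp : Fact p.Prime] (R : Subgroup K)
    (hRp : IsPGroup p R) (hRi : ¬ p ∣ R.index) (hs : Group.IsSolvable (MulAut R)) :
    Cov (fixer R) := by
  have h1 := cov_step (K := K) cov_bot (p := p) R (by
    intro x _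
    rw [Subgroup.mem_centralizer_iff]
    intro t ht
    have : t = 1 := ht
    rw [this, one_mul, mul_one]) hRp (by
    have : Subgroup.centralizer ((⊥ : Subgroup K) : Set K) = ⊤ := by
      rw [eq_top_iff]
      intro x _
      rw [Subgroup.mem_centralizer_iff]
      intro t ht
      have : t = 1 := ht
      rw [this, one_mul, mul_one]
    rw [this, Subgroup.relIndex_top_right]
    exact hRi) hs
  rwa [bot_sup_eq] at h1

/-- Conclusion of a chain: if perfect groups fixing `T` pointwise are inner then `K` has the Schreier property. -/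
theorem sch_of_cov [Finite K] {B : Subgroup (MulAut K)} (hB : Cov B)
    (h : ∀ D : Subgroup (MulAut K), ⁅D, D⁆ = D → D ≤ B → D ≤ (MulAut.conj : K →* MulAut K).range) : Sch K := by
  intro C hC
  have hI := conj_range_normal K
  have hanti : Antitone (derivedSeries B) := derivedSeries_antitone B
  have hst : ∃ n, derivedSeries B (n + 1) = derivedSeries B n := by
    by_contra hcon
    push Not at hcon
    have hlt : ∀ n, derivedSeries B (n + 1) < derivedSeries B n := fun n =>
      lt_of_le_of_ne (hanti (Nat.le_succ n)) (hcon n)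
    have hsa : StrictAnti (derivedSeries B) := strictAnti_nat_of_succ_lt hlt
    exact not_injective_infinite_finite _ hsa.injective
  obtain ⟨n, hn⟩ := hst
  refine (le_sup_derivedSeries _ B hC (hB C hC) n).trans (sup_le le_rfl ?_)
  refine h _ ?_ (Subgroup.map_subtype_le _)
  rw [← Subgroup.map_commutator, ← derivedSeries_succ, hn]

/-! ### Growth of the fixed point group -/

/-- A perfect group fixing `W` and `C_K(W)` pointwise fixes `N_K(W)` pointwise. -/
theorem tr_normalizer {D : Subgroup (MulAut K)} (hD : ⁅D, D⁆ = D) {W : Subgroup K} (hW : Tr D W)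
    (hC : Tr D (Subgroup.centralizer (W : Set K))) : Tr D (Subgroup.normalizer (W : Set K)) := by
  intro φ₀ hφ₀ n hn
  set Z : Subgroup K := Subgroup.centralizer (W : Set K) with hZ
  have hnZ : ∀ c ∈ Z, n * c * n⁻¹ ∈ Z := by
    intro c hc
    rw [hZ, Subgroup.mem_centralizer_iff]
    intro w hw
    have h1 : n⁻¹ * w * n ∈ W := by
      have := (Subgroup.mem_normalizer_iff.1 (inv_mem hn) w).1 hw
      rwa [inv_inv] at this
    have h2 := Subgroup.mem_centralizer_iff.1 hc _ h1
    calc w * (n * c * n⁻¹) = n * ((n⁻¹ * w * n) * c) * n⁻¹ := by group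
      _ = n * (c * (n⁻¹ * w * n)) * n⁻¹ := by rw [h2]
      _ = n * c * n⁻¹ * w := by group
  have key : ∀ φ ∈ D, ∀ w : K, φ w = w → φ (n * w * n⁻¹) = n * w * n⁻¹ → w * (n⁻¹ * φ n) = (n⁻¹ * φ n) * w := by
    intro φ _ w h1 h2
    rw [map_mul, map_mul, h1, map_inv] at h2
    calc w * (n⁻¹ * φ n) = n⁻¹ * (n * w * n⁻¹) * φ n := by group
      _ = n⁻¹ * (φ n * w * (φ n)⁻¹) * φ n := by rw [h2]
      _ = (n⁻¹ * φ n) * w := by group
  have hc : ∀ φ ∈ D, n⁻¹ * φ n ∈ Z := by
    intro φ hφ
    rw [hZ, Subgroup.mem_centralizer_iff]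
    intro w hw
    exact key φ hφ w (hW φ hφ w hw) (hW φ hφ _ ((Subgroup.mem_normalizer_iff.1 hn w).1 hw))
  let f : D →* Subgroup.center Z :=
    { toFun := fun φ => ⟨⟨n⁻¹ * (φ : MulAut K) n, hc φ φ.2⟩, by
        rw [Subgroup.mem_center_iff]
        intro c
        apply Subtype.ext
        exact key φ φ.2 c (hC φ φ.2 c c.2) (hC φ φ.2 _ (hnZ c c.2))⟩
      map_one' := by
        apply Subtype.ext; apply Subtype.ext
        show n⁻¹ * (1 : MulAut K) n = 1
        rw [MulAut.one_apply, inv_mul_cancel]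
      map_mul' := fun φ ψ => by
        apply Subtype.ext; apply Subtype.ext
        show n⁻¹ * ((φ : MulAut K) * (ψ : MulAut K)) n = (n⁻¹ * (φ : MulAut K) n) * (n⁻¹ * (ψ : MulAut K) n)
        have h1 : (φ : MulAut K) (n⁻¹ * (ψ : MulAut K) n) = n⁻¹ * (ψ : MulAut K) n :=
          hC φ φ.2 _ (hc ψ ψ.2)
        rw [MulAut.mul_apply]
        have h2 : (φ : MulAut K) ((ψ : MulAut K) n) = (φ : MulAut K) n * (n⁻¹ * (ψ : MulAut K) n) := by
          rw [← h1, ← map_mul]
          congr 1
          group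
        rw [h2]; group }
  have hsolZ : Group.IsSolvable (Subgroup.center Z) := Group.isSolvable_of_comm fun a b =>
    Subtype.ext (Subgroup.mem_center_iff.1 b.2 a)
  have h1 := hom_eq_one hD f ⟨φ₀, hφ₀⟩
  have h2 : n⁻¹ * φ₀ n = 1 := congrArg (fun z : Subgroup.center Z => ((z : Z) : K)) h1
  calc φ₀ n = n * (n⁻¹ * φ₀ n) := by group
    _ = n := by rw [h2, mul_one]

/-- A perfect group fixing pointwise a `p`-subgroup `X` and its centraliser fixes a Sylow `p`-subgroup pointwise. -/
theorem exists_sylow_tr [Finite K] {D : Subgroup (MulAut K)} (hD : ⁅D, D⁆ = D) {p : ℕ} [hp : Fact p.Prime]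
    {X : Subgroup K} (hXp : IsPGroup p X) (hX : Tr D X) (hC : Tr D (Subgroup.centralizer (X : Set K))) :
    ∃ S : Sylow p K, X ≤ S ∧ Tr D (S : Subgroup K) := by
  classical
  -- a maximal fixed `p`-subgroup containing `X`
  have hfin : (Set.Finite {Y : Subgroup K | X ≤ Y ∧ IsPGroup p Y ∧ Tr D Y}) := Set.toFinite _
  obtain ⟨S, hXS, hSmax⟩ := hfin.exists_le_maximal (show X ∈ {Y : Subgroup K | X ≤ Y ∧ IsPGroup p Y ∧ Tr D Y} from
    ⟨le_rfl, hXp, hX⟩)
  have hS := hSmax.prop
  have hcent : Tr D (Subgroup.centralizer (S : Set K)) := hC.mono (Subgroup.centralizer_le hS.1)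
  have hnorm : Tr D (Subgroup.normalizer (S : Set K)) := tr_normalizer hD hS.2.2 hcent
  obtain ⟨P, hP⟩ := hS.2.1.exists_le_sylow
  refine ⟨P, hS.1.trans hP, ?_⟩
  by_cases heq : (P : Subgroup K) ≤ S
  · exact hS.2.2.mono heq
  · exfalso
    have hlt : S < (P : Subgroup K) := lt_of_le_not_ge hP heq
    -- normalisers grow in `P`
    have hnil : Group.IsNilpotent P := P.2.isNilpotent
    have hne : S.subgroupOf (P : Subgroup K) < ⊤ := by
      rw [lt_top_iff_ne_top]
      intro h
      exact heq (Subgroup.subgroupOf_eq_top.1 h)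
    have hgrow := Group.normalizerCondition_of_isNilpotent (S.subgroupOf (P : Subgroup K)) hne
    obtain ⟨x, hx1, hx2⟩ := SetLike.exists_of_lt hgrow
    -- `Y = P ∩ N(S)`
    have hY : (P : Subgroup K) ⊓ Subgroup.normalizer (S : Set K) ≤ S := by
      have h1 : (P : Subgroup K) ⊓ Subgroup.normalizer (S : Set K) ∈
          {Y : Subgroup K | X ≤ Y ∧ IsPGroup p Y ∧ Tr D Y} := by
        refine ⟨hS.1.trans (le_inf hP Subgroup.le_normalizer), P.2.to_le inf_le_left, hnorm.mono inf_le_right⟩
      exact hSmax.le_of_ge h1 (le_inf hP Subgroup.le_normalizer)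
    apply hx2
    rw [Subgroup.mem_subgroupOf]
    apply hY
    refine ⟨x.2, ?_⟩
    show (x : K) ∈ Subgroup.normalizer (S : Set K)
    rw [Subgroup.mem_normalizer_iff]
    intro s
    constructor
    · intro hs
      have h3 := (Subgroup.mem_normalizer_iff.1 hx1 ⟨s, hP hs⟩).1 (Subgroup.mem_subgroupOf.2 hs)
      exact Subgroup.mem_subgroupOf.1 h3
    · intro hs
      have h4 : (x : K)⁻¹ * (x * s * (x : K)⁻¹) * x = s := by group
      have h5 : s ∈ (P : Subgroup K) := by
        rw [← h4]
        exact mul_mem (mul_mem (inv_mem x.2) (hP hs)) x.2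
      have h3 := (Subgroup.mem_normalizer_iff.1 hx1 ⟨s, h5⟩).2 (Subgroup.mem_subgroupOf.2 hs)
      exact Subgroup.mem_subgroupOf.1 h3

/-- **Climbing criterion.** In a finite non-abelian simple group a perfect group of automorphisms fixing pointwise a
2-subgroup and its centraliser is trivial. -/
theorem eq_bot_of_tr [Finite K] [IsSimpleGroup K] (hK : ¬ IsMulCommutative K) {D : Subgroup (MulAut K)}
    (hD : ⁅D, D⁆ = D) {X : Subgroup K} (hXp : IsPGroup 2 X) (hX : Tr D X)
    (hC : Tr D (Subgroup.centralizer (X : Set K))) : D = ⊥ := by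
  have h2 : Fact (Nat.Prime 2) := ⟨Nat.prime_two⟩
  obtain ⟨S, -, hS⟩ := exists_sylow_tr hD hXp hX hC
  have h3 : D ≤ fixer (S : Subgroup K) := fun φ hφ => hS φ hφ
  have h4 := Crit.isSolvable_fixer hK S
  exact eq_bot_of_perfect_of_solvable hD
    (Group.isSolvable_of_isSolvable_injective (Subgroup.inclusion_injective h3))

end Cfsg.Agent.Schreier.Chain
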