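import Cfsg.Agent.Schreier.ChevGen

/-!
# The Schreier property of the Chevalley groups of type E₆, E₇, E₈

`SL D` : the datum is simply laced, in the form `w_i w_j(p_i) = p_j` for bonded nodes.  `perm_of_diagram`: perfect groups
of automorphisms normalising `B` fix the minimal parabolic subgroups, if the diagram has at most four nodes of
valency `v` from which every node can be reached.
-/

set_option autoImplicit false

namespace Cfsg.Agent.Schreier.ChevE

open Cfsg.Lie Cfsg.Agent.ChevalleyStructure Cfsg.Agent.ChevalleyStructure.Elts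
  Cfsg.Agent.ChevalleyStructure.NConj Cfsg.Agent.ChevalleyStructure.BNChev
open Cfsg.Agent.Schreier.Basic Cfsg.Agent.Schreier.Tools Cfsg.Agent.Schreier.BNSch Cfsg.Agent.Schreier.BNUse

universe u

/-- bonded nodes of the Dynkin diagram -/
def Bond (D : ChevalleyDatum) (i j : Fin D.rank) : Prop := i ≠ j ∧ D.cartan i (D.simple j) ≠ 0

instance (D : ChevalleyDatum) : DecidableRel (Bond D) := fun i j =>
  inferInstanceAs (Decidable (i ≠ j ∧ D.cartan i (D.simple j) ≠ 0))

/-- the datum is simply laced -/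
def SL (D : ChevalleyDatum) : Prop := ∀ i j : Fin D.rank, Bond D i j →
  D.reflectRoot i (D.reflectRoot j (D.simple i)) = D.simple j

instance (D : ChevalleyDatum) : Decidable (SL D) :=
  inferInstanceAs (Decidable (∀ i j : Fin D.rank, Bond D i j →
    D.reflectRoot i (D.reflectRoot j (D.simple i)) = D.simple j))

section

variable {D : ChevalleyDatum} (hD : InList D) {F : Type u} [Field F]

/-- orthogonal fundamental roots: the commutator of `n_i` and `n_j` is in `H` -/
theorem comm_mem_diagonal {i j : ℕ} (hi : i < D.rank) (hj : j < D.rank) (h0 : D.cartan i (D.simple j) = 0) :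
    nS hD F i * nS hD F j * (nS hD F i)⁻¹ * (nS hD F j)⁻¹ ∈ D.diagonalSubgroup F := by
  have hlt := Cfsg.Agent.S1042.simple_lt hD hj
  have hr : D.reflectRoot i (D.simple j) = D.simple j :=
    ((RootComb.good_of_mem hD).reflect_eq_iff hi hlt).2 h0
  obtain ⟨η, hη, -, -, h3⟩ := conj_n (F := F) hD hi hlt
  have h4 := h3 1
  rw [hr, mul_one] at h4
  have h5 : nS hD F i * nS hD F j * (nS hD F i)⁻¹ * (nS hD F j)⁻¹ = hG hD (D.simple j) η := by
    rw [hG_eq, ← h4]
  rw [h5]
  exact hG_mem_diagonal hD hlt (sign_ne_zero hη)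

/-- bonded fundamental roots: the commutator of `n_i` and `n_j` is not in `B` -/
theorem comm_not_mem_borel {i j : ℕ} (hi : i < D.rank) (hj : j < D.rank) (hij : i ≠ j)
    (h0 : D.reflectRoot i (D.reflectRoot j (D.simple i)) = D.simple j) :
    nS hD F i * nS hD F j * (nS hD F i)⁻¹ * (nS hD F j)⁻¹ ∉ D.borelSubgroup F := by
  intro hmem
  have hG := RootComb.good_of_mem hD
  have hlti := Cfsg.Agent.S1042.simple_lt hD hi
  have hltj := Cfsg.Agent.S1042.simple_lt hD hj
  have hne : D.simple j ≠ D.simple i := by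
    intro e
    have h1 := hG.co_simple hi hi
    have h2 := hG.co_simple hj hi
    rw [← e, h2, if_neg (fun e => hij e.symm), if_pos rfl] at h1
    exact zero_ne_one h1
  -- the action of the commutator
  obtain ⟨t1, e1⟩ : ∃ t, (nS hD F j)⁻¹ * xG hD (D.simple i) 1 * ((nS hD F j)⁻¹)⁻¹ =
      xG hD (D.reflectRoot j (D.simple i)) t := by
    obtain ⟨η, hη, h1, -⟩ := conj_x (F := F) hD hj (Reach.reflect_lt hD hj hlti)
    rw [Reach.reflect_reflect hD hj hlti] at h1
    refine ⟨η * 1, ?_⟩
    have h2 := h1 (η * 1)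
    rw [← mul_assoc, sign_mul_self hη, one_mul] at h2
    rw [← h2]
    group
  obtain ⟨t2, e2⟩ : ∃ t, (nS hD F i)⁻¹ * xG hD (D.reflectRoot j (D.simple i)) t1 * ((nS hD F i)⁻¹)⁻¹ =
      xG hD (D.simple j) t := by
    have hlt := Reach.reflect_lt hD hj hlti
    obtain ⟨η, hη, h1, -⟩ := conj_x (F := F) hD hi (Reach.reflect_lt hD hi hlt)
    rw [Reach.reflect_reflect hD hi hlt, h0] at h1
    refine ⟨η * t1, ?_⟩
    have h2 := h1 (η * t1)
    rw [← mul_assoc, sign_mul_self hη, one_mul] at h2
    rw [← h2]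
    group
  obtain ⟨η3, -, h3, -⟩ := conj_x (F := F) hD hj hltj
  have e3 := h3 t2
  rw [hG.reflect_simple hj] at e3
  obtain ⟨η4, -, -, h4⟩ := conj_x (F := F) hD hi hltj
  have e4 := h4 (η3 * t2)
  have e5 : nS hD F i * nS hD F j * (nS hD F i)⁻¹ * (nS hD F j)⁻¹ * xG hD (D.simple i) 1 *
      (nS hD F i * nS hD F j * (nS hD F i)⁻¹ * (nS hD F j)⁻¹)⁻¹ =
      xG hD (D.neg (D.reflectRoot i (D.simple j))) (η4 * (η3 * t2)) := by
    rw [← e4, ← e3, ← e2, ← e1]
    group
  have hx : xG hD (D.simple i) (1 : F) ∈ D.borelSubgroup F :=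
    (le_sup_left : D.posUnipotent F ≤ D.borelSubgroup F)
      (xG_mem_posUnipotent hD (Cfsg.Agent.S1042.simple_pos hD hi) 1)
  have h6 : xG hD (D.neg (D.reflectRoot i (D.simple j))) (η4 * (η3 * t2)) ∈ D.borelSubgroup F := by
    rw [← e5]
    exact mul_mem (mul_mem hmem hx) (inv_mem hmem)
  have hpos : D.IsPosRoot (D.reflectRoot i (D.simple j)) :=
    hG.reflect_pos hi (Cfsg.Agent.S1042.simple_pos hD hj) hne
  have hneg : D.IsNegRoot (D.neg (D.reflectRoot i (D.simple j))) := by
    rw [hG.isPosRoot_iff] at hpos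
    rw [hG.isNegRoot_iff]
    have e1 := Reach.neg_eq hD hpos.2
    have e2 := hG.nroots_eq
    omega
  have h7 := Cfsg.Agent.S1042.one_of_mem_borel_of_mem_neg (F := F) h6 (xG_mem_negUnipotent hD hneg _) hD
  rw [← e5] at h7
  have h8 : xG hD (D.simple i) (1 : F) = 1 := by
    rw [mul_inv_eq_one] at h7
    exact mul_eq_left.1 h7
  exact one_ne_zero ((xG_eq_one_iff hD hlti 1).1 h8)

/-- Perfect groups of automorphisms normalising `B` fix the minimal parabolic subgroups, if the diagram is simply laced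
and has at most four nodes of valency `v`, from which every node can be reached. -/
theorem perm_of_diagram [Finite F] (hsl : SL D) (v : ℕ)
    (hv : (Finset.univ.filter fun i => (Finset.univ.filter fun j => Bond D i j).card = v).card ≤ 4)
    (h4 : ∀ i, (Finset.univ.filter fun j => Bond D i j).card ≤ 4)
    (rk : Fin D.rank → ℕ)
    (hrk : ∀ i, (Finset.univ.filter fun j => Bond D i j).card = v ∨ ∃ j, Bond D j i ∧ rk j < rk i) :
    ∀ Δ : Subgroup (MulAut ↥(D.group F)), ⁅Δ, Δ⁆ = Δ → Inv Δ (Cfsg.Agent.S1042.rootData hD F).bnPair.B →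
      ∀ s ∈ (Cfsg.Agent.S1042.rootData hD F).bnPair.S,
        Inv Δ ((Cfsg.Agent.S1042.rootData hD F).bnPair.parabolic {s}) := by
  have : Fintype F := Fintype.ofFinite F
  have hfin : Finite (GL D.Idx F) := inferInstance
  have hfinG : Finite ↥(D.group F) := inferInstance
  have hPB : (Cfsg.Agent.S1042.rootData hD F).bnPair.B = (D.borelSubgroup F).subgroupOf (D.group F) :=
    Cfsg.Agent.S1042.sup_subgroupOf hD F
  refine BNGraph.perm_of_graph _ (Cfsg.Agent.S1042.nn hD F) rfl ?_ (Bond D) ?_ ?_ v hv h4 rk hrk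
  · intro i j h
    apply Fin.ext
    refine Cfsg.Agent.S1042.eq_of_inv_mul_mem (F := F) hD i.2 j.2 ?_
    have h1 : nS hD F i = nS hD F j := congrArg Subtype.val h
    rw [h1, inv_mul_cancel]
    exact one_mem _
  · intro i h
    exact h.1 rfl
  · intro i j hij
    rw [hPB, Subgroup.mem_subgroupOf]
    show Bond D i j ↔ nS hD F i * nS hD F j * (nS hD F i)⁻¹ * (nS hD F j)⁻¹ ∉ D.borelSubgroup F
    constructor
    · intro hb
      exact comm_not_mem_borel hD i.2 j.2 (fun e => hij (Fin.ext e)) (hsl i j hb)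
    · intro hn
      refine ⟨hij, fun h0 => hn ?_⟩
      exact (le_sup_right : D.diagonalSubgroup F ≤ D.borelSubgroup F) (comm_mem_diagonal hD i.2 j.2 h0)

end

/-- distances to the branching node -/
def rkE (i : ℕ) : ℕ := [2, 1, 1, 0, 1, 2, 3, 4].getD i 0

theorem sl_E6 : SL chevE6 := by decide +kernel
theorem sl_E7 : SL chevE7 := by decide +kernel
theorem sl_E8 : SL chevE8 := by decide +kernel

section

variable {F : Type u} [Field F] [Finite F]

theorem sch_E6 (hsimple : IsSimpleGroup ↥(chevE6.group F)) (hna : ¬ IsMulCommutative ↥(chevE6.group F)) :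
    Sch ↥(chevE6.group F) := by
  have hD : InList chevE6 := by simp [InList]
  exact ChevGen.sch_of_perm hD hsimple hna
    (perm_of_diagram hD sl_E6 3 (by decide +kernel) (by decide +kernel) (fun i => rkE i) (by decide +kernel))

theorem sch_E7 (hsimple : IsSimpleGroup ↥(chevE7.group F)) (hna : ¬ IsMulCommutative ↥(chevE7.group F)) :
    Sch ↥(chevE7.group F) := by
  have hD : InList chevE7 := by simp [InList]
  exact ChevGen.sch_of_perm hD hsimple hna
    (perm_of_diagram hD sl_E7 3 (by decide +kernel) (by decide +kernel) (fun i => rkE i) (by decide +kernel))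

theorem sch_E8 (hsimple : IsSimpleGroup ↥(chevE8.group F)) (hna : ¬ IsMulCommutative ↥(chevE8.group F)) :
    Sch ↥(chevE8.group F) := by
  have hD : InList chevE8 := by simp [InList]
  exact ChevGen.sch_of_perm hD hsimple hna
    (perm_of_diagram hD sl_E8 3 (by decide +kernel) (by decide +kernel) (fun i => rkE i) (by decide +kernel))

theorem sch_F4 (hsimple : IsSimpleGroup ↥(chevF4.group F)) (hna : ¬ IsMulCommutative ↥(chevF4.group F)) :
    Sch ↥(chevF4.group F) := by
  have hD : InList chevF4 := by simp [InList]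
  exact ChevGen.sch_of_rank_le_four hD (by decide +kernel) hsimple hna

theorem sch_G2 (hsimple : IsSimpleGroup ↥(chevG2.group F)) (hna : ¬ IsMulCommutative ↥(chevG2.group F)) :
    Sch ↥(chevG2.group F) := by
  have hD : InList chevG2 := by simp [InList]
  exact ChevGen.sch_of_rank_le_four hD (by decide +kernel) hsimple hna

end

end Cfsg.Agent.Schreier.ChevE
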