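import Mathlib
import Cfsg.Prelude.Def_LieChev
import Cfsg.Agent.S1042
import Cfsg.Agent.S1027
import Cfsg.Agent.S1032
import Cfsg.Agent.S1045
import Cfsg.Agent.Schreier.Basic
import Cfsg.Agent.Schreier.Tools
import Cfsg.Agent.Schreier.BNUse
import Cfsg.Agent.Schreier.BNGraph

/-!
# The Schreier property of the untwisted exceptional groups of Lie type

`sch`: for every datum `D` of the list (G₂, B₂, D₄, F₄, E₆, E₇, E₈) the Schreier property of a simple group
`D.group F`, provided that perfect groups of automorphisms normalising `B` fix the minimal parabolic subgroups.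
That hypothesis is automatic in rank at most four; for E₆, E₇, E₈ it is obtained from the Dynkin diagram.
-/

set_option autoImplicit false

namespace Cfsg.Agent.Schreier.ChevGen

open Cfsg.Lie Cfsg.Agent.ChevalleyStructure Cfsg.Agent.ChevalleyStructure.Elts
  Cfsg.Agent.ChevalleyStructure.NConj Cfsg.Agent.ChevalleyStructure.BNChev
open Cfsg.Agent.Schreier.Basic Cfsg.Agent.Schreier.Tools Cfsg.Agent.Schreier.BNSch Cfsg.Agent.Schreier.BNUse

universe u

section

variable {D : ChevalleyDatum} (hD : InList D) {F : Type u} [Field F]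

/-- the complement of the root subgroup of a fundamental root is contained in `U` -/
theorem comp_le_pos (i : ℕ) : Cfsg.Agent.S1042.comp D F i ≤ D.posUnipotent F := by
  refine (Subgroup.closure_le _).2 ?_
  rintro g ⟨s, t, hs, -, hg⟩
  exact Subgroup.subset_closure ⟨s, t, hs, hg⟩

include hD in
/-- `x_{±p}(t)` normalises the complement -/
theorem conj_comp_of_mem {i : ℕ} (hi : i < D.rank) {g : GL D.Idx F}
    (hg : g ∈ D.rootSubgroup F (D.simple i) ⊔ D.rootSubgroup F (D.neg (D.simple i))) {v : GL D.Idx F}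
    (hv : v ∈ Cfsg.Agent.S1042.comp D F i) : g * v * g⁻¹ ∈ Cfsg.Agent.S1042.comp D F i := by
  have h1 := (Cfsg.Agent.S1045.result (F := F) D hD i hi).1 hg
  exact (Subgroup.mem_normalizer_iff.1 h1 v).1 hv

theorem nS_mem_sup {i : ℕ} : nS hD F i ∈
    D.rootSubgroup F (D.simple i) ⊔ D.rootSubgroup F (D.neg (D.simple i)) := by
  show nG hD (D.simple i) 1 ∈ _
  rw [nG_def]
  exact mul_mem (Subgroup.mem_sup_left (xG_mem_rootSubgroup hD _ _))
    (mul_mem (Subgroup.mem_sup_right (xG_mem_rootSubgroup hD _ _)) (Subgroup.mem_sup_left (xG_mem_rootSubgroup hD _ _)))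

include hD in
/-- the diagonal subgroup normalises the complement -/
theorem diag_conj_comp {i : ℕ} {h : GL D.Idx F} (hh : h ∈ D.diagonalSubgroup F) {v : GL D.Idx F}
    (hv : v ∈ Cfsg.Agent.S1042.comp D F i) : h * v * h⁻¹ ∈ Cfsg.Agent.S1042.comp D F i := by
  have hle : Cfsg.Agent.S1042.comp D F i ≤
      (Cfsg.Agent.S1042.comp D F i).comap (MulAut.conj h).toMonoidHom := by
    refine (Subgroup.closure_le _).2 ?_
    rintro g ⟨s, t, hs, hne, hg⟩
    obtain ⟨c, -, hc⟩ := diagonal_conj hD hh (s := s) hs.1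
    rw [(eq_xG_iff hD g s t).2 hg]
    show h * xG hD s t * h⁻¹ ∈ Cfsg.Agent.S1042.comp D F i
    rw [hc]
    exact Subgroup.subset_closure ⟨s, c * t, hs, hne, (eq_xG_iff hD _ s (c * t)).1 rfl⟩
  exact hle hv

/-- `n_p⁻¹ x_p(t) n_p ∈ B` only for `t = 0` -/
theorem eq_zero_of_mem {i : ℕ} (hi : i < D.rank) {t : F}
    (h : (nS hD F i)⁻¹ * xG hD (D.simple i) t * nS hD F i ∈ D.borelSubgroup F) : t = 0 := by
  obtain ⟨u, hu⟩ := Cfsg.Agent.S1042.conj_inv_simple (F := F) hD hi t
  rw [hu] at h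
  have hu0 : u = 0 := by
    by_contra hu0
    exact Cfsg.Agent.S1042.neg_not_mem_borel hD hi hu0 h
  rw [hu0, xG_zero] at hu
  have h2 : xG hD (D.simple i) t = 1 := by
    have h3 : xG hD (D.simple i) t =
        nS hD F i * ((nS hD F i)⁻¹ * xG hD (D.simple i) t * nS hD F i) * (nS hD F i)⁻¹ := by group
    rw [h3, hu, mul_one, mul_inv_cancel]
  exact (xG_eq_one_iff hD (Cfsg.Agent.S1042.simple_lt hD hi) t).1 h2

/-- `h_p(c) x_p(1) h_p(c)⁻¹ = x_p(c²)` -/
theorem h_conj {i : ℕ} (hi : i < D.rank) {c : F} (hc : c ≠ 0) :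
    hG hD (D.simple i) c * xG hD (D.simple i) 1 * (hG hD (D.simple i) c)⁻¹ = xG hD (D.simple i) (c ^ 2) := by
  have h1 := Cfsg.Agent.S1032.result D hD i (D.simple i) hi (Cfsg.Agent.S1042.simple_lt hD hi) c hc 1
  rw [(RootComb.good_of_mem hD).cartan_simple hi, mul_one, zpow_ofNat] at h1
  rw [mul_inv_eq_iff_eq_mul]
  refine Units.ext ?_
  rw [Units.val_mul, Units.val_mul, coe_hG, coe_xG, coe_xG]
  exact h1

/-- powers of a diagonal element act by powers of the scalars -/
theorem pow_conj {h : GL D.Idx F} {s : ℕ} {c : F} (hc : ∀ t : F, h * xG hD s t * h⁻¹ = xG hD s (c * t)) (n : ℕ)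
    (t : F) : h ^ n * xG hD s t * (h ^ n)⁻¹ = xG hD s (c ^ n * t) := by
  induction n generalizing t with
  | zero => rw [pow_zero, pow_zero, one_mul, one_mul, inv_one, mul_one]
  | succ n ih =>
    have e : h ^ (n + 1) * xG hD s t * (h ^ (n + 1))⁻¹ = h ^ n * (h * xG hD s t * h⁻¹) * (h ^ n)⁻¹ := by
      rw [pow_succ]; group
    rw [e, hc, ih, pow_succ, mul_assoc]

include hD in
/-- `h ^ (|F| - 1)` centralises `D.group F` -/
theorem pow_card_comm [Finite F] {h : GL D.Idx F} (hh : h ∈ D.diagonalSubgroup F) {g : GL D.Idx F}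
    (hg : g ∈ D.group F) : h ^ (Nat.card F - 1) * g = g * h ^ (Nat.card F - 1) := by
  have hle : D.group F ≤ Subgroup.centralizer {h ^ (Nat.card F - 1)} := by
    rw [group_le_iff hD]
    intro r hr t
    rw [Subgroup.mem_centralizer_singleton_iff]
    obtain ⟨c, hc0, hc⟩ := diagonal_conj hD hh hr
    have h1 := pow_conj hD hc (Nat.card F - 1) t
    have h2 : c ^ (Nat.card F - 1) = 1 := by
      have : Fintype F := Fintype.ofFinite F
      rw [Nat.card_eq_fintype_card]
      exact FiniteField.pow_card_sub_one_eq_one c hc0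
    rw [h2, one_mul] at h1
    rw [mul_inv_eq_iff_eq_mul] at h1
    exact h1.symm
  have := hle hg
  rw [Subgroup.mem_centralizer_singleton_iff] at this
  exact this.symm

/-- **The Schreier property of the untwisted groups**, up to the permutation of the minimal parabolic subgroups. -/
theorem sch_of_perm [Finite F] (hsimple : IsSimpleGroup ↥(D.group F)) (hna : ¬ IsMulCommutative ↥(D.group F))
    (hperm : ∀ Δ : Subgroup (MulAut ↥(D.group F)), ⁅Δ, Δ⁆ = Δ → Inv Δ (Cfsg.Agent.S1042.rootData hD F).bnPair.B →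
      ∀ s ∈ (Cfsg.Agent.S1042.rootData hD F).bnPair.S, Inv Δ ((Cfsg.Agent.S1042.rootData hD F).bnPair.parabolic {s})) :
    Sch ↥(D.group F) := by
  classical
  have : Fintype F := Fintype.ofFinite F
  have hfin : Finite (GL D.Idx F) := inferInstance
  have hfinG : Finite ↥(D.group F) := inferInstance
  set P := (Cfsg.Agent.S1042.rootData hD F).bnPair with hP
  let U : Subgroup ↥(D.group F) := (D.posUnipotent F).subgroupOf (D.group F)
  let H : Subgroup ↥(D.group F) := (D.diagonalSubgroup F).subgroupOf (D.group F)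
  have hPB : P.B = (D.borelSubgroup F).subgroupOf (D.group F) := Cfsg.Agent.S1042.sup_subgroupOf hD F
  have memB : ∀ g : ↥(D.group F), g ∈ P.B ↔ (g : GL D.Idx F) ∈ D.borelSubgroup F := by
    intro g
    rw [hPB, Subgroup.mem_subgroupOf]
  have hPS : P.S = Set.range (Cfsg.Agent.S1042.nn hD F) := rfl
  have hBUH : ∀ b ∈ P.B, ∃ u ∈ U, ∃ h ∈ H, b = u * h := fun b hb =>
    ((Cfsg.Agent.S1042.rootData hD F).mem_B_iff b).1 hb
  have hUB : U ≤ P.B := (Cfsg.Agent.S1042.rootData hD F).U_le_B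
  have hHB : H ≤ P.B := (Cfsg.Agent.S1042.rootData hD F).H_le_B
  have hHN : H ≤ P.N := (Cfsg.Agent.S1042.rootData hD F).H_le_N
  have hHU : ∀ h ∈ H, ∀ u ∈ U, h * u * h⁻¹ ∈ U := fun h hh u hu =>
    (Cfsg.Agent.S1042.rootData hD F).conj_H_U h hh u hu
  have hBU : ∀ b ∈ P.B, ∀ u ∈ U, b * u * b⁻¹ ∈ U := by
    intro b hb u hu
    obtain ⟨v, hv, h, hh, rfl⟩ := hBUH b hb
    have e : v * h * u * (v * h)⁻¹ = v * (h * u * h⁻¹) * v⁻¹ := by group
    rw [e]
    exact mul_mem (mul_mem hv (hHU h hh u hu)) (inv_mem hv)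
  have hrank : 0 < D.rank := (RootComb.good_of_mem hD).rank_pos
  -- the characteristic
  obtain ⟨p, n, hp, hn, hcard⟩ : ∃ p n : ℕ, p.Prime ∧ 0 < n ∧ Fintype.card F = p ^ n := by
    obtain ⟨p, hc⟩ := CharP.exists F
    obtain ⟨n, hp, hn⟩ := FiniteField.card F p
    exact ⟨p, n, hp, n.pos, hn⟩
  have : Fact p.Prime := ⟨hp⟩
  have hUp : IsPGroup p U := by
    have h1 : Nat.card U = Nat.card (D.posUnipotent F) :=
      Nat.card_congr (Subgroup.subgroupOfEquivOfLe (posUnipotent_le_group hD F)).toEquiv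
    have h2 : Nat.card U = p ^ (n * (D.nroots / 2)) := by
      rw [h1, Cfsg.Agent.S1027.result D hD, hcard, pow_mul]
    exact IsPGroup.of_card h2
  have hcop : ¬ p ∣ Nat.card F - 1 := by
    rw [Nat.card_eq_fintype_card, hcard]
    intro h
    have h2 : p ∣ p ^ n := dvd_pow_self p (by omega)
    have h3 : p ∣ 1 := by
      have h4 : 1 ≤ p ^ n := Nat.one_le_pow _ _ hp.pos
      have := (Nat.dvd_sub h2 h)
      rwa [Nat.sub_sub_self h4] at this
    exact hp.one_lt.ne' (Nat.dvd_one.1 h3)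
  refine sch_of_bn' P U hUp (core_eq_bot P ⟨_, by rw [hPS]; exact ⟨⟨0, hrank⟩, rfl⟩⟩) hUB hBU ?_
    (Nat.card F - 1) hcop ?_ hperm ?_
  · intro b hb
    obtain ⟨u, hu, h, hh, rfl⟩ := hBUH b hb
    refine ⟨u, hu, ?_⟩
    rw [inv_mul_cancel_left]
    exact hHN hh
  · intro h hh hn
    have h1 : h ∈ H := (Cfsg.Agent.S1042.rootData hD F).mem_inf h hh hn
    have h2 : h ^ (Nat.card F - 1) ∈ Subgroup.center ↥(D.group F) := by
      rw [Subgroup.mem_center_iff]
      intro g
      apply Subtype.ext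
      have := pow_card_comm hD (h := (h : GL D.Idx F)) h1 g.2
      rw [Subgroup.coe_mul, Subgroup.coe_mul, Subgroup.coe_pow]
      exact this.symm
    rcases (inferInstance : (Subgroup.center ↥(D.group F)).Normal).eq_bot_or_eq_top with h3 | h3
    · rw [h3, Subgroup.mem_bot] at h2
      exact h2
    · exfalso
      apply hna
      refine ⟨⟨fun a b => ?_⟩⟩
      have : b ∈ Subgroup.center ↥(D.group F) := by rw [h3]; exact Subgroup.mem_top b
      rw [Subgroup.mem_center_iff] at this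
      exact this a
  · rintro s ⟨i, rfl⟩
    have hi := i.2
    have hlt := Cfsg.Agent.S1042.simple_lt hD hi
    refine loc_of_field P U H ((Cfsg.Agent.S1042.comp D F i).subgroupOf (D.group F))
      (Cfsg.Agent.S1042.nn hD F i) hBUH hHB
      (F := F) (fun t => ⟨xG hD (D.simple i) t, xG_mem_group hD _ t⟩) ?_ ?_ ?_ ?_ ?_ ?_ ?_ ?_ ?_ ?_ ?_
    · intro t
      exact xG_mem_posUnipotent hD (Cfsg.Agent.S1042.simple_pos hD hi) t
    · intro t t'
      apply Subtype.ext
      exact (xG_add hD (D.simple i) t t').symm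
    · intro v hv
      exact comp_le_pos (i : ℕ) hv
    · intro u hu
      obtain ⟨v, hv, t, e⟩ := Cfsg.Agent.S1042.decomp hD hi (g := (u : GL D.Idx F)) hu
      exact ⟨⟨v, Cfsg.Agent.S1042.comp_le hD i hv⟩, hv, t, Subtype.ext e⟩
    · intro t v hv
      exact conj_comp_of_mem hD hi (Subgroup.mem_sup_left (xG_mem_rootSubgroup hD _ t)) hv
    · intro h hh v hv
      exact diag_conj_comp hD hh hv
    · intro v hv
      have := conj_comp_of_mem hD hi (inv_mem (nS_mem_sup (F := F) hD (i := (i : ℕ)))) hv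
      rw [inv_inv] at this
      exact this
    · intro v hv
      exact hUB (comp_le_pos (i : ℕ) hv)
    · intro t ht
      exact eq_zero_of_mem hD hi ((memB _).1 ht)
    · intro h hh
      obtain ⟨c, -, e⟩ := diagonal_conj hD hh hlt
      exact ⟨c, fun t => Subtype.ext (e t)⟩
    · intro c hc
      refine ⟨⟨hG hD (D.simple i) c, hG_mem_group hD _ _⟩, hG_mem_diagonal hD hlt hc, Subtype.ext ?_⟩
      exact h_conj hD hi hc

include hD in
/-- Rank at most four. -/
theorem sch_of_rank_le_four [Finite F] (hr : D.rank ≤ 4) (hsimple : IsSimpleGroup ↥(D.group F))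
    (hna : ¬ IsMulCommutative ↥(D.group F)) : Sch ↥(D.group F) := by
  have : Fintype F := Fintype.ofFinite F
  refine sch_of_perm hD hsimple hna (perm_of_card_le_four _ ?_)
  have h1 : (Cfsg.Agent.S1042.rootData hD F).bnPair.S = Set.range (Cfsg.Agent.S1042.nn hD F) := rfl
  rw [h1]
  refine le_trans (Finite.card_range_le _) ?_
  rw [Nat.card_eq_fintype_card, Fintype.card_fin]
  exact hr

end

end Cfsg.Agent.Schreier.ChevGen
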