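import Cfsg.Agent.S1035
import Cfsg.Agent.S1027
import Cfsg.Agent.S1042
import Cfsg.Agent.LieExceptional.BNPairCore

/-!
# Local facts about the Chevalley groups, in the form used for the Schreier property

For a tabulated datum `D`, `K = D.group F`:

* `U` is a Sylow subgroup of `K` and `B` is its normaliser;
* for every fundamental root `p` the complement `U_p` of `X_p` in `U` is normalised by `B` and by `n_p`, contains
  every `u ∈ U` with `n_p⁻¹ u n_p ∈ B`, `U = X_p U_p`, and `B` contains, for every `c ≠ 0`, an element inducing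
  `x_p(t) ↦ x_p(c² t)` on `X_p`.
-/

set_option autoImplicit false

namespace Cfsg.Agent.Schreier.ChevLocal

open scoped Pointwise
open Cfsg Cfsg.Lie Cfsg.Agent.ChevalleyStructure Cfsg.Agent.ChevalleyStructure.Elts
  Cfsg.Agent.ChevalleyStructure.NConj Cfsg.Agent.ChevalleyStructure.BNChev Cfsg.Agent.S1042

universe u

variable {D : ChevalleyDatum} (hD : InList D) (F : Type u) [Field F]

/-- `U` as a subgroup of the Chevalley group. -/
abbrev UU (D : ChevalleyDatum) (F : Type u) [Field F] : Subgroup ↥(D.group F) :=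
  (D.posUnipotent F).subgroupOf (D.group F)

/-- `B` as a subgroup of the Chevalley group. -/
abbrev BB (D : ChevalleyDatum) (F : Type u) [Field F] : Subgroup ↥(D.group F) :=
  (D.borelSubgroup F).subgroupOf (D.group F)

/-- `H` as a subgroup of the Chevalley group. -/
abbrev HH (D : ChevalleyDatum) (F : Type u) [Field F] : Subgroup ↥(D.group F) :=
  (D.diagonalSubgroup F).subgroupOf (D.group F)

/-- `U_p` as a subgroup of the Chevalley group. -/
abbrev VV (D : ChevalleyDatum) (F : Type u) [Field F] (i : ℕ) : Subgroup ↥(D.group F) :=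
  (comp D F i).subgroupOf (D.group F)

variable {F}

/-- `x_p(t)` as an element of the Chevalley group. -/
def xx (i : ℕ) (t : F) : ↥(D.group F) := ⟨xG hD (D.simple i) t, xG_mem_group hD _ t⟩

theorem coe_xx (i : ℕ) (t : F) : ((xx hD i t : ↥(D.group F)) : GL D.Idx F) = xG hD (D.simple i) t := rfl

theorem xx_add (i : ℕ) (a b : F) : xx hD i (a + b) = xx hD i a * xx hD i b :=
  Subtype.ext (xG_add hD _ a b).symm

theorem le_normalizer_of_conj {G : Type*} [Group G] {H V : Subgroup G} (h : ∀ g ∈ H, ∀ v ∈ V, g * v * g⁻¹ ∈ V) :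
    H ≤ Subgroup.normalizer (V : Set G) := by
  intro g hg
  rw [Subgroup.mem_normalizer_iff]
  intro v
  refine ⟨fun hv => h g hg v hv, fun hv => ?_⟩
  have := h g⁻¹ (inv_mem hg) _ hv
  have e : g⁻¹ * (g * v * g⁻¹) * g⁻¹⁻¹ = v := by group
  rwa [e] at this

variable (F)

theorem comp_le_pos (i : ℕ) : comp D F i ≤ D.posUnipotent F := by
  refine (Subgroup.closure_le _).2 ?_
  rintro g ⟨s, t, hs, -, hg⟩
  exact Subgroup.subset_closure ⟨s, t, hs, hg⟩

theorem VV_le (i : ℕ) : VV D F i ≤ UU D F := fun _ hg => comp_le_pos F i hg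

theorem UU_le : UU D F ≤ BB D F := fun _ hg => Subgroup.mem_sup_left hg

/-- `B` normalises `U_p`. -/
theorem borel_le_normalizer (hD : InList D) {i : ℕ} (hi : i < D.rank) :
    D.borelSubgroup F ≤ Subgroup.normalizer (comp D F i : Set (GL D.Idx F)) := by
  obtain ⟨h1, h2⟩ := S1045.result (F := F) D hD i hi
  refine sup_le ?_ ?_
  · have h3 : comp D F i ⊔ D.rootSubgroup F (D.simple i) = D.posUnipotent F := h2
    rw [← h3]
    exact sup_le Subgroup.le_normalizer (le_sup_left.trans h1)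
  · apply le_normalizer_of_conj
    intro h hh v hv
    have hle : comp D F i ≤ (comp D F i).comap (MulAut.conj h).toMonoidHom := by
      refine (Subgroup.closure_le _).2 ?_
      rintro g ⟨s, t, hs, hne, hg⟩
      obtain ⟨c, -, hc⟩ := diagonal_conj hD hh hs.1
      rw [(eq_xG_iff hD g s t).2 hg]
      show h * xG hD s t * h⁻¹ ∈ comp D F i
      rw [hc t]
      exact Subgroup.subset_closure ⟨s, c * t, hs, hne, rfl⟩
    exact hle hv

/-- `n_p` normalises `U_p`. -/
theorem nS_mem_normalizer (hD : InList D) {i : ℕ} (hi : i < D.rank) :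
    nS hD F i ∈ Subgroup.normalizer (comp D F i : Set (GL D.Idx F)) := by
  obtain ⟨h1, -⟩ := S1045.result (F := F) D hD i hi
  apply h1
  rw [show nS hD F i = nG hD (D.simple i) 1 from rfl, nG_def]
  exact mul_mem (Subgroup.mem_sup_left (xG_mem_rootSubgroup hD _ _))
    (mul_mem (Subgroup.mem_sup_right (xG_mem_rootSubgroup hD _ _))
      (Subgroup.mem_sup_left (xG_mem_rootSubgroup hD _ _)))

theorem subgroupOf_normalizer {G : Type*} [Group G] {H V L : Subgroup G}
    (h : H ≤ Subgroup.normalizer (V : Set G)) :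
    H.subgroupOf L ≤ Subgroup.normalizer ((V.subgroupOf L : Subgroup L) : Set L) := by
  intro g hg
  rw [Subgroup.mem_normalizer_iff]
  intro v
  exact Subgroup.mem_normalizer_iff.1 (h hg) v

theorem BB_le_normalizer (hD : InList D) {i : ℕ} (hi : i < D.rank) :
    BB D F ≤ Subgroup.normalizer ((VV D F i : Subgroup ↥(D.group F)) : Set ↥(D.group F)) :=
  subgroupOf_normalizer (borel_le_normalizer F hD hi)

theorem nn_mem_normalizer (i : Fin D.rank) :
    nn hD F i ∈ Subgroup.normalizer ((VV D F i : Subgroup ↥(D.group F)) : Set ↥(D.group F)) := by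
  rw [Subgroup.mem_normalizer_iff]
  intro v
  exact Subgroup.mem_normalizer_iff.1 (nS_mem_normalizer F hD i.2) v

variable {F}

/-- Every element of `U` is congruent to some `x_p(t)` modulo `U_p`. -/
theorem exists_xx (i : Fin D.rank) {u : ↥(D.group F)} (hu : u ∈ UU D F) :
    ∃ t : F, (xx hD i t)⁻¹ * u ∈ VV D F i := by
  obtain ⟨v, hv, t, he⟩ := decomp hD i.2 (g := (u : GL D.Idx F)) hu
  refine ⟨t, ?_⟩
  show (xG hD (D.simple i) t)⁻¹ * (u : GL D.Idx F) ∈ comp D F i
  rw [he]
  have h1 : (xG hD (D.simple i) t)⁻¹ ∈ Subgroup.normalizer (comp D F i : Set (GL D.Idx F)) := by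
    apply inv_mem
    exact borel_le_normalizer F hD i.2 (Subgroup.mem_sup_left (xG_mem_posUnipotent hD (simple_pos hD i.2) t))
  have h2 := (Subgroup.mem_normalizer_iff.1 h1 v).1 hv
  rw [inv_inv, mul_assoc] at h2
  exact h2

/-- `U_p` contains the elements of `U` conjugated into `B` by `n_p`. -/
theorem mem_VV_of_conj (i : Fin D.rank) {u : ↥(D.group F)} (hu : u ∈ UU D F)
    (h : (nn hD F i)⁻¹ * u * nn hD F i ∈ BB D F) : u ∈ VV D F i := by
  obtain ⟨v, hv, t, he⟩ := decomp hD i.2 (g := (u : GL D.Idx F)) hu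
  obtain ⟨c, hc⟩ := conj_inv_simple (F := F) hD i.2 t
  have h1 : (nS hD F i)⁻¹ * (u : GL D.Idx F) * nS hD F i ∈ D.borelSubgroup F := h
  have h2 : (nS hD F i)⁻¹ * v * nS hD F i ∈ comp D F i := by
    have h3 := inv_mem (nS_mem_normalizer F hD i.2)
    have h4 := (Subgroup.mem_normalizer_iff.1 h3 v).1 hv
    rwa [inv_inv] at h4
  have h5 : (nS hD F i)⁻¹ * (u : GL D.Idx F) * nS hD F i =
      ((nS hD F i)⁻¹ * v * nS hD F i) * ((nS hD F i)⁻¹ * xG hD (D.simple i) t * nS hD F i) := by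
    rw [he]; group
  rw [h5, hc] at h1
  have h6 : xG hD (D.neg (D.simple i)) c ∈ D.borelSubgroup F := by
    have h7 := mul_mem (inv_mem ((le_sup_left : D.posUnipotent F ≤ D.borelSubgroup F) (comp_le_pos F i h2))) h1
    rwa [← mul_assoc, inv_mul_cancel, one_mul] at h7
  have hc0 : c = 0 := by
    by_contra hne
    exact neg_not_mem_borel hD i.2 hne h6
  have h8 : xG hD (D.simple i) t = 1 := by
    rw [hc0, xG_zero] at hc
    have h9 := congrArg (fun g => nS hD F i * g * (nS hD F i)⁻¹) hc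
    simp only [mul_one, mul_inv_cancel] at h9
    rw [← h9]; group
  show (u : GL D.Idx F) ∈ comp D F i
  rw [he, h8, mul_one]
  exact hv

/-- `x_p(t) ∈ U_p` only for `t = 0`. -/
theorem eq_zero_of_xx_mem (i : Fin D.rank) {t : F} (h : xx hD i t ∈ VV D F i) : t = 0 := by
  have h1 : xG hD (D.simple i) t ∈ comp D F i := h
  have h2 := conj_comp hD i.2 h1
  obtain ⟨η, hη, h3⟩ := conj_simple (F := F) hD i.2 t
  rw [h3] at h2
  by_contra hne
  exact neg_not_mem_borel hD i.2 (mul_ne_zero (sign_ne_zero hη) hne)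
    ((le_sup_left : D.posUnipotent F ≤ D.borelSubgroup F) h2)

/-- `B` acts on `U / U_p` by multiplications. -/
theorem exists_char (i : Fin D.rank) {b : ↥(D.group F)} (hb : b ∈ BB D F) :
    ∃ c : F, c ≠ 0 ∧ ∀ t : F, (xx hD i (c * t))⁻¹ * (b * xx hD i t * b⁻¹) ∈ VV D F i := by
  have hs := simple_lt hD i.2
  -- `b = u h`
  have hb' : (b : GL D.Idx F) ∈ D.posUnipotent F ⊔ D.diagonalSubgroup F := hb
  have hset : ((D.posUnipotent F ⊔ D.diagonalSubgroup F : Subgroup (GL D.Idx F)) : Set (GL D.Idx F)) =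
      (D.posUnipotent F : Set (GL D.Idx F)) * (D.diagonalSubgroup F : Set (GL D.Idx F)) :=
    Subgroup.coe_mul_of_right_le_normalizer_left _ _ (S1036.result (F := F) D hD).1
  have hb2 : (b : GL D.Idx F) ∈
    ((D.posUnipotent F ⊔ D.diagonalSubgroup F : Subgroup (GL D.Idx F)) : Set (GL D.Idx F)) := hb'
  rw [hset] at hb2
  obtain ⟨w, hw, h, hh, he⟩ := hb2
  obtain ⟨c, hc, hct⟩ := diagonal_conj hD hh hs
  refine ⟨c, hc, fun t => ?_⟩
  show (xG hD (D.simple i) (c * t))⁻¹ * ((b : GL D.Idx F) * xG hD (D.simple i) t * (b : GL D.Idx F)⁻¹) ∈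
    comp D F i
  have he' : (b : GL D.Idx F) = w * h := he.symm
  -- `w = v x_p(a)`
  obtain ⟨v, hv, a, rfl⟩ := decomp hD i.2 hw
  have h1 : (b : GL D.Idx F) * xG hD (D.simple i) t * (b : GL D.Idx F)⁻¹ =
      v * xG hD (D.simple i) (c * t) * v⁻¹ := by
    rw [he']
    have e1 : v * xG hD (D.simple i) a * h * xG hD (D.simple i) t * (v * xG hD (D.simple i) a * h)⁻¹ =
        v * (xG hD (D.simple i) a * (h * xG hD (D.simple i) t * h⁻¹) * (xG hD (D.simple i) a)⁻¹) * v⁻¹ := by
      group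
    rw [e1, hct, xG_inv, xG_add, xG_add]
    congr 3
    ring
  rw [h1]
  have h2 : (xG hD (D.simple i) (c * t))⁻¹ * (v * xG hD (D.simple i) (c * t) * v⁻¹) =
      ((xG hD (D.simple i) (c * t))⁻¹ * v * xG hD (D.simple i) (c * t)) * v⁻¹ := by group
  rw [h2]
  refine mul_mem ?_ (inv_mem hv)
  have h3 : (xG hD (D.simple i) (c * t))⁻¹ ∈ Subgroup.normalizer (comp D F i : Set (GL D.Idx F)) := by
    apply inv_mem
    exact borel_le_normalizer F hD i.2 (Subgroup.mem_sup_left (xG_mem_posUnipotent hD (simple_pos hD i.2) _))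
  have h4 := (Subgroup.mem_normalizer_iff.1 h3 v).1 hv
  rwa [inv_inv] at h4

/-- For every `c ≠ 0` some element of `B` induces `x_p(t) ↦ x_p(c² t)`. -/
theorem exists_square (i : Fin D.rank) {c : F} (hc : c ≠ 0) :
    ∃ b ∈ BB D F, ∀ t : F, b * xx hD i t * b⁻¹ = xx hD i (c ^ 2 * t) := by
  refine ⟨⟨hG hD (D.simple i) c, hG_mem_group hD _ _⟩,
    Subgroup.mem_sup_right (hG_mem_diagonal hD (simple_lt hD i.2) hc), fun t => ?_⟩
  apply Subtype.ext
  show hG hD (D.simple i) c * xG hD (D.simple i) t * (hG hD (D.simple i) c)⁻¹ = xG hD (D.simple i) (c ^ 2 * t)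
  rw [mul_inv_eq_iff_eq_mul]
  refine Units.ext ?_
  rw [Units.val_mul, Units.val_mul, coe_xG, coe_xG, coe_hG]
  have h1 := S1032.result D hD i (D.simple i) i.2 (simple_lt hD i.2) c hc t
  rw [(RootComb.good_of_mem hD).cartan_simple i.2] at h1
  exact_mod_cast h1

end Cfsg.Agent.Schreier.ChevLocal
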