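import Cfsg.Agent.Schreier.Basic
import Cfsg.Agent.Schreier.Tools
import Cfsg.Agent.Schreier.Step
import Cfsg.Agent.Schreier.SubCrit
import Cfsg.Agent.Schreier.CoThreeCent

/-!
# The Schreier property of Conway's group Co3

Rigidity criterion: `x` generates a self-centralising Sylow subgroup of prime order, `y` normalises it, the centraliser
of `y` consists of the elements `y^k`, `y^k d` with an involution `d`, and `x, y, d` generate the group.
-/

set_option autoImplicit false

namespace Cfsg.Agent.Schreier.CoThree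

open Cfsg.Agent.Schreier.Basic Cfsg.Agent.Schreier.Tools Cfsg.Agent.Schreier.Step Cfsg.Agent.Schreier.SubCrit

variable {K : Type*} [Group K]

/-- The automorphism group of a cyclic group is solvable. -/
theorem isSolvable_mulAut_zpowers (x : K) : Group.IsSolvable (MulAut (Subgroup.zpowers x)) := by
  apply Group.isSolvable_of_comm
  intro φ ψ
  have hgen : ∀ a : Subgroup.zpowers x, ∃ n : ℤ, (⟨x, Subgroup.mem_zpowers x⟩ : Subgroup.zpowers x) ^ n = a := by
    rintro ⟨a, n, rfl⟩
    exact ⟨n, rfl⟩
  obtain ⟨i, hi⟩ := hgen (φ ⟨x, Subgroup.mem_zpowers x⟩)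
  obtain ⟨j, hj⟩ := hgen (ψ ⟨x, Subgroup.mem_zpowers x⟩)
  apply MulEquiv.ext
  intro a
  obtain ⟨n, rfl⟩ := hgen a
  rw [map_zpow, map_zpow]
  congr 1
  rw [MulAut.mul_apply, MulAut.mul_apply, ← hi, ← hj, map_zpow, map_zpow, ← hi, ← hj, ← zpow_mul, ← zpow_mul,
    mul_comm]

/-- **Rigidity criterion** (self-centralising Sylow subgroup of prime order, small centraliser, generation). -/
theorem sch_of_rigid [Finite K] {p : ℕ} [Fact p.Prime] {x y d : K} (hx : orderOf x = p)
    (hp : ¬ p ^ 2 ∣ Nat.card K) (hcx : ∀ g : K, Commute g x → g ∈ Subgroup.zpowers x)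
    (hy : y * x * y⁻¹ ∈ Subgroup.zpowers x) {n : ℕ} (hn : y ^ (2 * n + 1) = 1)
    (hcy : ∀ g : K, Commute g y → ∃ k : ℕ, g = y ^ k ∨ g = y ^ k * d) (hdy : d * y = y * d) (hd : d * d = 1)
    (hd1 : d ≠ 1) (hgen : Subgroup.closure {x, y, d} = ⊤) : Sch K := by
  -- the Sylow subgroup
  have hcard : Nat.card (Subgroup.zpowers x) = p := by rw [Nat.card_zpowers, hx]
  have hmax : ∃ P : Sylow p K, (P : Subgroup K) = Subgroup.zpowers x := by
    have h1 : IsPGroup p (Subgroup.zpowers x) := IsPGroup.of_card (n := 1) (by rw [hcard, pow_one])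
    obtain ⟨P, hP⟩ := h1.exists_le_sylow
    refine ⟨P, (Subgroup.eq_of_le_of_card_ge hP ?_).symm⟩
    rw [hcard]
    obtain ⟨k, hk⟩ := (IsPGroup.iff_card.1 P.isPGroup')
    rw [hk]
    have h2 : k ≤ 1 := by
      by_contra hk2
      apply hp
      exact (pow_dvd_pow p (by omega)).trans (hk ▸ Subgroup.card_subgroup_dvd_card _)
    calc p ^ k ≤ p ^ 1 := Nat.pow_le_pow_right (Fact.out : p.Prime).pos h2
      _ = p := pow_one p
  obtain ⟨P, hP⟩ := hmax
  refine sch_of_stable_inner (Subgroup.zpowers x) ?_ ?_
  · intro _ _ φ _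
    -- Sylow
    have h1 : Nat.card ((P : Subgroup K).map φ.toMonoidHom) = Nat.card P :=
      (Nat.card_congr ((P : Subgroup K).equivMapOfInjective φ.toMonoidHom φ.injective).toEquiv).symm
    let Q : Sylow p K := Sylow.ofCard ((P : Subgroup K).map φ.toMonoidHom) (by rw [h1]; exact P.card_eq_multiplicity)
    obtain ⟨k, hk⟩ := MulAction.exists_smul_eq K P Q
    refine ⟨k, ?_⟩
    have h2 : ((k • P : Sylow p K) : Subgroup K) = (Q : Subgroup K) := by rw [hk]
    have h3 : (Q : Subgroup K) = (P : Subgroup K).map φ.toMonoidHom := rfl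
    have h4 : ((k • P : Sylow p K) : Subgroup K) = (P : Subgroup K).map (MulAut.conj k).toMonoidHom := rfl
    rw [← hP, ← h3, ← h2, h4]
  · intro D hD hinv
    have : D = ⊥ := by
      apply eq_bot_of_tr_top
      -- `D` acts trivially on `⟨x⟩`
      have := isSolvable_mulAut_zpowers x
      have htx : Tr D (Subgroup.zpowers x) := tr_of_solvable_mulAut hD hinv
      have hxx : ∀ φ ∈ D, φ x = x := fun φ hφ => htx φ hφ x (Subgroup.mem_zpowers x)
      -- `D` fixes `y`
      have hyy : ∀ φ ∈ D, φ y = y := by
        have h1 : TrMod D (Subgroup.normalizer (Subgroup.zpowers x : Set K)) (Subgroup.zpowers x) := by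
          intro φ hφ a ha
          apply hcx
          have h2 : a * x * a⁻¹ ∈ Subgroup.zpowers x :=
            (Subgroup.mem_normalizer_iff.1 ha x).1 (Subgroup.mem_zpowers x)
          have h3 : φ (a * x * a⁻¹) = a * x * a⁻¹ := htx φ hφ _ h2
          rw [map_mul, map_mul, map_inv, hxx φ hφ] at h3
          show a⁻¹ * φ a * x = x * (a⁻¹ * φ a)
          calc a⁻¹ * φ a * x = a⁻¹ * (φ a * x * (φ a)⁻¹) * φ a := by group
            _ = a⁻¹ * (a * x * a⁻¹) * φ a := by rw [h3]
            _ = x * (a⁻¹ * φ a) := by group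
        have h2 : Tr D (Subgroup.normalizer (Subgroup.zpowers x : Set K)) :=
          tr_of_trMod hD (isSolvable_zpowers x) htx h1
        intro φ hφ
        apply h2 φ hφ
        -- `y` normalises `⟨x⟩`
        have h3 : (Subgroup.zpowers x).map (MulAut.conj y).toMonoidHom = Subgroup.zpowers x := by
          apply Subgroup.eq_of_le_of_card_ge
          · rw [MonoidHom.map_zpowers, Subgroup.zpowers_le]
            exact hy
          · exact (Nat.card_congr ((Subgroup.zpowers x).equivMapOfInjective (MulAut.conj y).toMonoidHom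
              (MulAut.conj y).injective).toEquiv).le
        rw [Subgroup.mem_normalizer_iff]
        intro a
        constructor
        · intro ha
          rw [← h3]
          exact ⟨a, ha, rfl⟩
        · intro ha
          rw [← h3] at ha
          obtain ⟨b, hb, hab⟩ := ha
          have : b = a := (MulAut.conj y).injective hab
          rwa [← this]
      -- `D` fixes `d`
      have hdd : ∀ φ ∈ D, φ d = d := by
        intro φ hφ
        have h1 : Commute (φ d) y := by
          have := congrArg φ hdy
          rw [map_mul, map_mul, hyy φ hφ] at this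
          exact this
        have h2 : φ d * φ d = 1 := by rw [← map_mul, hd, map_one]
        have hodd : ∀ k : ℕ, y ^ k * y ^ k = 1 → y ^ k = 1 := by
          intro k hk
          have h3 : (y ^ k) ^ (2 * n + 1) = 1 := by rw [← pow_mul, mul_comm, pow_mul, hn, one_pow]
          rw [pow_succ, pow_mul, pow_two, hk, one_pow, one_mul] at h3
          exact h3
        obtain ⟨k, hk | hk⟩ := hcy _ h1
        · exfalso
          rw [hk] at h2
          have h3 := hodd k h2
          rw [h3] at hk
          apply hd1
          apply φ.injective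
          rw [hk, map_one]
        · have h3 : y ^ k * y ^ k = 1 := by
            have hc : Commute d (y ^ k) := (show Commute d y from hdy).pow_right k
            rw [hk] at h2
            calc y ^ k * y ^ k = y ^ k * y ^ k * (d * d) := by rw [hd, mul_one]
              _ = y ^ k * (y ^ k * d) * d := by group
              _ = y ^ k * (d * y ^ k) * d := by rw [hc.eq]
              _ = y ^ k * d * (y ^ k * d) := by group
              _ = 1 := h2
          rw [hk, hodd k h3, one_mul]
      intro φ hφ a _
      have h1 : Subgroup.closure {x, y, d} ≤ (φ.toMonoidHom).eqLocus (MonoidHom.id K) := by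
        rw [Subgroup.closure_le]
        rintro z (rfl | rfl | rfl)
        · exact hxx φ hφ
        · exact hyy φ hφ
        · exact hdd φ hφ
      rw [hgen] at h1
      exact h1 (Subgroup.mem_top a)
    rw [this]
    exact bot_le

open CoThreeCent Cfsg.Agent.LeechPack.X552

theorem sch_G3 : Sch G3 := by
  have : Fact (Nat.Prime 23) := ⟨by norm_num⟩
  refine sch_of_rigid (p := 23) (x := gx) (y := gy) (d := gd) (n := 5) orderOf_gx ?_ (fun g hg => mem_zpowers_gx hg)
    ?_ gy_pow (fun g hg => cent_gy hg) gd_mul_gy gd_mul_gd gd_ne_one closure_eq_top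
  · rw [card_G3]; norm_num
  · rw [gy_mul_gx, mul_inv_cancel_right]
    exact mul_mem (Subgroup.mem_zpowers _) (Subgroup.mem_zpowers _)

/-- **The Schreier property of Co3.** -/
theorem sch : Sch Cfsg.Spor.Co3 := by
  obtain ⟨e⟩ := isoCo3_G3
  exact sch_G3.of_equiv e

/-- The Schreier property for every group isomorphic to Co3. -/
theorem sch_of_iso {G : Type*} [Group G] (h : Cfsg.Spor.IsoCo3 G) : Sch G := by
  obtain ⟨e⟩ := h
  exact sch.of_equiv e.symm

end Cfsg.Agent.Schreier.CoThree
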