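import Cfsg.Agent.Schreier.CocodeSmall
import Cfsg.Agent.Schreier.Crit
import Cfsg.Agent.S0366
import Cfsg.Agent.S0364

/-!
# The Schreier property from an even Golay cocode `2^11` with `M24` on top (R20, helper552)

`sch_of_cocode`.
-/

set_option autoImplicit false

namespace Cfsg.Agent.Schreier.Cocode

open Cfsg Cfsg.Agent.J4Type.DuadStab Cfsg.Agent.J4Type.ClosingCocode
  Cfsg.Agent.Schreier.CocodeSmall Cfsg.Agent.Schreier.Basic Cfsg.Agent.Schreier.Tools

variable {K : Type*} [Group K] {A : Type*} [CommGroup A] {e : GolayPt → A}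

/-- The subgroup `E = ι.range` of `T` is the even cocode, `T / E` is contained in `M24`. -/
structure Data (P : Pres e) (ι : A →* K) (T : Subgroup K) where
  inj : Function.Injective ι
  le : ι.range ≤ T
  f : T →* M24
  act : ∀ (t : T) (a : A), (t : K) * ι a * (t : K)⁻¹ = ι (actE P (f t) a)
  ker : ∀ t : T, f t = 1 → (t : K) ∈ ι.range

section

variable {P : Pres e} {ι : A →* K} {T : Subgroup K}

theorem f_mem (H : Data P ι T) {t : T} (ht : (t : K) ∈ ι.range) : H.f t = 1 := by
  apply actE_inj P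
  intro a
  apply H.inj
  rw [← H.act, actE_one]
  obtain ⟨b, hb⟩ := ht
  rw [← hb, ← map_inv, ← map_mul, ← map_mul, mul_comm b a, mul_assoc, mul_inv_cancel, mul_one]

/-- **Uniqueness**: `E` is the only elementary abelian subgroup of order `2^11` of `T` normalised by
`E`. -/
theorem uniq [Finite A] (H : Data P ι T) (hA : Nat.card A = 2 ^ 11) (A' : Subgroup K)
    (hT : A' ≤ T) (hsq : ∀ x ∈ A', x * x = 1) (hcard : Nat.card A' = 2 ^ 11)
    (hn : ∀ x ∈ ι.range, ∀ y ∈ A', x * y * x⁻¹ ∈ A') : A' = ι.range := by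
  have hfin : Finite A' := Nat.finite_of_card_ne_zero (by rw [hcard]; norm_num)
  have hcomm : ∀ x ∈ A', ∀ y ∈ A', x * y = y * x := by
    intro x hx y hy
    have h1 := hsq _ (A'.mul_mem hx hy)
    calc x * y = (x * y)⁻¹ := eq_inv_of_mul_eq_one_left h1
      _ = y⁻¹ * x⁻¹ := mul_inv_rev _ _
      _ = y * x := by
        rw [inv_eq_of_mul_eq_one_left (hsq x hx), inv_eq_of_mul_eq_one_left (hsq y hy)]
  -- the map `A' → M24`
  let g : A' →* M24 := H.f.comp (Subgroup.inclusion hT)
  let B : Subgroup M24 := g.range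
  let A0 : Subgroup A := A'.comap ι
  -- the order of the kernel
  have hker : Nat.card g.ker = Nat.card A0 := by
    symm
    refine Nat.card_congr (Equiv.ofBijective
      (fun a : A0 => (⟨⟨ι a, a.2⟩, ?_⟩ : g.ker)) ⟨?_, ?_⟩)
    · rw [MonoidHom.mem_ker]
      exact f_mem H ⟨(a : A), rfl⟩
    · intro a b hab
      have h1 : ι (a : A) = ι (b : A) := congrArg (fun x : g.ker => ((x : A') : K)) hab
      exact Subtype.ext (H.inj h1)
    · rintro ⟨⟨y, hy⟩, hy'⟩
      rw [MonoidHom.mem_ker] at hy'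
      obtain ⟨a, ha⟩ := H.ker _ hy'
      have ha' : ι a = y := ha
      refine ⟨⟨a, ?_⟩, ?_⟩
      · show ι a ∈ A'
        rw [ha']; exact hy
      · exact Subtype.ext (Subtype.ext ha')
  have hmul : Nat.card A0 * Nat.card B = 2 ^ 11 := by
    rw [← hker, ← hcard, ← Subgroup.index_ker, Subgroup.card_mul_index]
  have hB1 : B = ⊥ := by
    by_contra hne
    have h1 := small P hA B (by
      rintro _ ⟨x, rfl⟩
      rw [← map_mul]
      have : x * x = 1 := Subtype.ext (hsq x x.2)
      rw [this, map_one]) hne A0 (by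
      rintro _ ⟨x, rfl⟩ a ha
      apply H.inj
      have h2 := H.act (Subgroup.inclusion hT x) a
      have h3 : H.f (Subgroup.inclusion hT x) = g x := rfl
      rw [h3] at h2
      rw [← h2]
      show (x : K) * ι a * (x : K)⁻¹ = ι a
      rw [hcomm x x.2 _ ha, mul_inv_cancel_right]) (by
      rintro _ ⟨x, rfl⟩ a
      show ι (actE P (g x) a * a) ∈ A'
      have h2 := H.act (Subgroup.inclusion hT x) a
      have h3 : H.f (Subgroup.inclusion hT x) = g x := rfl
      rw [h3] at h2
      rw [map_mul, ← h2]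
      show (x : K) * ι a * (x : K)⁻¹ * ι a ∈ A'
      have h4 : ι a = (ι a)⁻¹ := by
        rw [← map_inv]; congr 1
        exact eq_inv_of_mul_eq_one_left (sq P a)
      have h5 := hn (ι a) ⟨a, rfl⟩ _ (A'.inv_mem x.2)
      have h6 : (x : K) * ι a * (x : K)⁻¹ * ι a = (x : K) * (ι a * (x : K)⁻¹ * (ι a)⁻¹) := by
        rw [← h4]; group
      rw [h6]
      exact A'.mul_mem x.2 h5)
    omega
  have hle : A' ≤ ι.range := by
    intro y hy
    apply H.ker ⟨y, hT hy⟩
    have h1 : g ⟨y, hy⟩ ∈ B := ⟨_, rfl⟩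
    rw [hB1, Subgroup.mem_bot] at h1
    exact h1
  have hcr : Nat.card ι.range = 2 ^ 11 := by
    rw [← hA]; exact (Nat.card_congr (MonoidHom.ofInjective H.inj).toEquiv).symm
  have hfr : Finite ι.range := Nat.finite_of_card_ne_zero (by rw [hcr]; norm_num)
  exact Subgroup.eq_of_le_of_card_ge hle (by rw [hcard, hcr])

/-- `E` is invariant under automorphisms normalising `T`. -/
theorem inv_range [Finite A] (H : Data P ι T) (hA : Nat.card A = 2 ^ 11) {D : Subgroup (MulAut K)}
    (hT : Inv D T) : Inv D ι.range := by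
  intro φ hφ
  have hcard : Nat.card ι.range = 2 ^ 11 := by
    rw [← hA]; exact (Nat.card_congr (MonoidHom.ofInjective H.inj).toEquiv).symm
  apply uniq H hA
  · rintro _ ⟨x, hx, rfl⟩
    exact hT.apply_mem hφ (H.le hx)
  · rintro _ ⟨_, ⟨a, rfl⟩, rfl⟩
    show φ (ι a) * φ (ι a) = 1
    rw [← map_mul, ← map_mul, sq P, map_one, map_one]
  · rw [← hcard]
    exact (Nat.card_congr (Subgroup.equivMapOfInjective _ _ φ.injective).toEquiv).symm
  · -- normalised by `T`
    rintro x hx _ ⟨_, ⟨a, rfl⟩, rfl⟩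
    have hx' : φ⁻¹ x ∈ T := hT.apply_mem (inv_mem hφ) (H.le hx)
    refine ⟨φ⁻¹ x * ι a * (φ⁻¹ x)⁻¹, ⟨_, (H.act ⟨φ⁻¹ x, hx'⟩ a).symm⟩, ?_⟩
    show φ (φ⁻¹ x * ι a * (φ⁻¹ x)⁻¹) = x * φ (ι a) * x⁻¹
    rw [map_mul, map_mul, map_inv]
    have : φ (φ⁻¹ x) = x := MulAut.apply_inv_self _ φ x
    rw [this]

/-- The action of `D` on the cocode. -/
noncomputable def dHom (H : Data P ι T) {D : Subgroup (MulAut K)} (hE : Inv D ι.range) :
    D →* MulAut A :=
  (MulAut.congr (MonoidHom.ofInjective H.inj).symm).toMonoidHom.comp hE.res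

theorem dHom_apply (H : Data P ι T) {D : Subgroup (MulAut K)} (hE : Inv D ι.range) (φ : D) (a : A) :
    ι (dHom H hE φ a) = (φ : MulAut K) (ι a) := by
  have h1 : ∀ x : ι.range, ι ((MonoidHom.ofInjective H.inj).symm x) = (x : K) := by
    intro x
    exact MonoidHom.apply_ofInjective_symm H.inj x
  show ι ((MonoidHom.ofInjective H.inj).symm
    (hE.res φ ((MonoidHom.ofInjective H.inj).symm.symm a))) = _
  rw [h1, Inv.res_apply]
  rfl

/-- **The main step.** -/
theorem tr_range [Finite A] (H : Data P ι T) (hA : Nat.card A = 2 ^ 11)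
    (hTc : Nat.card T = 2 ^ 21) {D : Subgroup (MulAut K)}
    (hD : ⁅D, D⁆ = D) (hT : Inv D T)
    (hduad : ∀ φ ∈ D, ∀ i j : GolayPt, i ≠ j →
      ∃ k l : GolayPt, k ≠ l ∧ φ (ι (e i * e j)) = ι (e k * e l)) : Tr D ι.range := by
  have hE := inv_range H hA hT
  let _ : MulDistribMulAction D A := MulDistribMulAction.compHom A (dHom H hE)
  have hsm : ∀ (φ : D) (a : A), ι (φ • a) = (φ : MulAut K) (ι a) := dHom_apply H hE
  obtain ⟨g, hg, -⟩ := P.he.exists_hom (X := D) P.hgen (by
    intro φ i j hij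
    obtain ⟨k, l, hkl, h⟩ := hduad φ φ.2 i j hij
    refine ⟨k, l, hkl, H.inj ?_⟩
    rw [hsm, h])
  have hg' : ∀ (φ : D) (a : A), φ • a = actE P (g φ) a := by
    intro φ a
    obtain ⟨S, hS, rfl⟩ := P.hgen a
    rw [hg φ S hS, actE_prod P _ hS]
  -- `S` = image of `T`
  let S : Subgroup M24 := H.f.range
  have hScard : Nat.card S = 2 ^ 10 := by
    have h1 : Nat.card H.f.ker = 2 ^ 11 := by
      rw [← hA]
      refine Nat.card_congr (Equiv.ofBijective (fun t : H.f.ker =>
        ((MonoidHom.ofInjective H.inj).symm ⟨((t : T) : K), H.ker _ t.2⟩ : A)) ⟨?_, ?_⟩)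
      · intro t t' h
        have h1 := (MonoidHom.ofInjective H.inj).symm.injective h
        have h2 : ((t : T) : K) = ((t' : T) : K) := congrArg (fun x : ι.range => (x : K)) h1
        exact Subtype.ext (Subtype.ext h2)
      · intro a
        refine ⟨⟨⟨ι a, H.le ⟨a, rfl⟩⟩, f_mem H ⟨a, rfl⟩⟩, ?_⟩
        apply H.inj
        exact MonoidHom.apply_ofInjective_symm H.inj _
    have h2 : Nat.card H.f.ker * Nat.card S = 2 ^ 21 := by
      rw [← hTc, ← Subgroup.index_ker, Subgroup.card_mul_index]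
    rw [h1] at h2
    have h3 : (2 : ℕ) ^ 21 = 2 ^ 11 * 2 ^ 10 := by norm_num
    rw [h3] at h2
    exact Nat.eq_of_mul_eq_mul_left (by positivity) h2
  -- the image of `D` normalises `S`
  have hconj : ∀ (φ : D) (t : T), ∃ t' : T, g φ * H.f t * (g φ)⁻¹ = H.f t' := by
    intro φ t
    refine ⟨⟨(φ : MulAut K) t, hT.apply_mem φ.2 t.2⟩, ?_⟩
    rw [mul_inv_eq_iff_eq_mul]
    apply actE_inj P
    intro a
    rw [actE_mul, actE_mul]
    apply H.inj
    rw [← hg', hsm, ← H.act, ← H.act, ← hg', hsm, map_mul, map_mul, map_inv]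
  have hSn : ∀ φ : D, g φ ∈ Subgroup.normalizer (S : Set M24) := by
    intro φ
    rw [Subgroup.mem_normalizer_iff]
    intro s
    constructor
    · rintro ⟨t, rfl⟩
      obtain ⟨t', h⟩ := hconj φ t
      exact ⟨t', h.symm⟩
    · rintro ⟨t, h⟩
      obtain ⟨t', h'⟩ := hconj φ⁻¹ t
      refine ⟨t', ?_⟩
      rw [← h', h, map_inv]
      group
  -- the normaliser of `S` is solvable
  have hsol : Group.IsSolvable (Subgroup.normalizer (S : Set M24)) := by
    have hle : S ≤ Subgroup.normalizer (S : Set M24) := Subgroup.le_normalizer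
    have hnorm : (S.subgroupOf (Subgroup.normalizer (S : Set M24))).Normal :=
      Subgroup.normal_in_normalizer
    rw [Group.isSolvable_iff_subgroup_quotient (S.subgroupOf (Subgroup.normalizer (S : Set M24)))]
    have hc : Nat.card (S.subgroupOf (Subgroup.normalizer (S : Set M24))) = 2 ^ 10 := by
      rw [← hScard]
      exact Nat.card_congr (Subgroup.subgroupOfEquivOfLe hle).toEquiv
    have : Fact (Nat.Prime 2) := ⟨Nat.prime_two⟩
    constructor
    · have hp : IsPGroup 2 (S.subgroupOf (Subgroup.normalizer (S : Set M24))) := IsPGroup.of_card hc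
      have := hp.isNilpotent
      infer_instance
    · apply Cfsg.Agent.S0205.result
      have h1 : Nat.card (Subgroup.normalizer (S : Set M24)) ∣ 244823040 := by
        rw [← Cfsg.Agent.S0364.result]
        exact Subgroup.card_subgroup_dvd_card _
      rw [← Subgroup.card_mul_index (S.subgroupOf (Subgroup.normalizer (S : Set M24))), hc] at h1
      have h2 : (244823040 : ℕ) = 2 ^ 10 * 239085 := by norm_num
      rw [h2] at h1
      have h3 := Nat.dvd_of_mul_dvd_mul_left (by positivity) h1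
      exact Odd.of_dvd_nat (by decide) h3
  have hg1 : ∀ φ : D, g φ = 1 := by
    intro φ
    have h1 := hom_eq_one hD (g.codRestrict (Subgroup.normalizer (S : Set M24)) hSn) φ
    exact congrArg Subtype.val h1
  rintro φ hφ _ ⟨a, rfl⟩
  rw [← hsm ⟨φ, hφ⟩, hg', hg1, actE_one]

/-- `D` centralises `T`. -/
theorem tr_data [Finite A] (H : Data P ι T) (hA : Nat.card A = 2 ^ 11)
    (hTc : Nat.card T = 2 ^ 21) {D : Subgroup (MulAut K)}
    (hD : ⁅D, D⁆ = D) (hT : Inv D T)
    (hduad : ∀ φ ∈ D, ∀ i j : GolayPt, i ≠ j →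
      ∃ k l : GolayPt, k ≠ l ∧ φ (ι (e i * e j)) = ι (e k * e l)) : Tr D T := by
  refine tr_of_centralizer_le hD hT (E := ι.range) ?_ (tr_range H hA hTc hD hT hduad) ?_ ?_
  · intro t ht
    rw [Subgroup.mem_normalizer_iff]
    intro x
    constructor
    · rintro ⟨a, rfl⟩
      exact ⟨_, (H.act ⟨t, ht⟩ a).symm⟩
    · intro hx
      obtain ⟨a, ha⟩ := hx
      have h1 := H.act (⟨t, ht⟩⁻¹ : T) a
      refine ⟨actE P (H.f (⟨t, ht⟩⁻¹ : T)) a, ?_⟩
      rw [← h1, ha]
      show t⁻¹ * (t * x * t⁻¹) * (t⁻¹)⁻¹ = x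
      group
  · have : IsMulCommutative ι.range := by
      refine ⟨⟨?_⟩⟩
      rintro ⟨_, a, rfl⟩ ⟨_, b, rfl⟩
      apply Subtype.ext
      show ι a * ι b = ι b * ι a
      rw [← map_mul, mul_comm, map_mul]
    exact Group.isSolvable_of_comm fun a b => this.is_comm.comm a b
  · intro t ht
    obtain ⟨ht1, ht2⟩ := Subgroup.mem_inf.1 ht
    apply H.ker ⟨t, ht1⟩
    apply actE_inj P
    intro a
    apply H.inj
    rw [← H.act, actE_one]
    have h1 := Subgroup.mem_centralizer_iff.1 ht2 (ι a) ⟨a, rfl⟩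
    show t * ι a * t⁻¹ = ι a
    rw [← h1, mul_inv_cancel_right]

end

/-! ### Classes of involutions -/

/-- A perfect group of automorphisms fixes the classes of involutions if there are at most four. -/
theorem isConj_of_classes {D : Subgroup (MulAut K)} (hD : ⁅D, D⁆ = D) (R : Fin 4 → K)
    (hR : ∀ u : K, u * u = 1 → u ≠ 1 → ∃ i, IsConj u (R i)) {φ : MulAut K} (hφ : φ ∈ D) {u : K}
    (hu : u * u = 1) (hu1 : u ≠ 1) : IsConj u (φ u) := by
  classical
  let α := {c : ConjClasses K // ∃ u : K, u * u = 1 ∧ u ≠ 1 ∧ c = ConjClasses.mk u}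
  have hinjf : ∀ c : α, ∃ i, c.1 = ConjClasses.mk (R i) := by
    rintro ⟨c, u, h1, h2, rfl⟩
    obtain ⟨i, hi⟩ := hR u h1 h2
    exact ⟨i, ConjClasses.mk_eq_mk_iff_isConj.2 hi⟩
  choose F hF using hinjf
  have hF' : Function.Injective F := by
    intro c c' h
    apply Subtype.ext
    rw [hF c, hF c', h]
  have hfin : Finite α := Finite.of_injective F hF'
  have h4 : Nat.card α ≤ 4 := by
    have := Nat.card_le_card_of_injective F hF'
    rwa [Nat.card_eq_fintype_card (α := Fin 4), Fintype.card_fin] at this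
  let m : MulAut K → α → α := fun φ c => ⟨ConjClasses.map (φ.toMonoidHom) c.1, by
    obtain ⟨u, h1, h2, h3⟩ := c.2
    refine ⟨φ u, ?_, ?_, ?_⟩
    · rw [← map_mul, h1, map_one]
    · intro h
      exact h2 (φ.injective (h.trans (map_one φ).symm))
    · rw [h3]; rfl⟩
  have hm1 : ∀ c, m 1 c = c := by
    intro c
    apply Subtype.ext
    obtain ⟨u, h1, h2, h3⟩ := c.2
    show ConjClasses.map _ c.1 = c.1
    rw [h3]
    rfl
  have hmm : ∀ φ ψ c, m (φ * ψ) c = m φ (m ψ c) := by
    intro φ ψ c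
    apply Subtype.ext
    obtain ⟨u, h1, h2, h3⟩ := c.2
    show ConjClasses.map _ c.1 = ConjClasses.map _ (ConjClasses.map _ c.1)
    rw [h3]
    rfl
  let f : D →* Equiv.Perm α :=
    { toFun := fun φ =>
        { toFun := m φ
          invFun := m (φ : MulAut K)⁻¹
          left_inv := fun c => by rw [← hmm, inv_mul_cancel, hm1]
          right_inv := fun c => by rw [← hmm, mul_inv_cancel, hm1] }
      map_one' := by
        apply Equiv.ext
        intro c
        exact hm1 c
      map_mul' := fun φ ψ => by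
        apply Equiv.ext
        intro c
        exact hmm φ ψ c }
  have h1 := perm_eq_one hD h4 f ⟨φ, hφ⟩ ⟨ConjClasses.mk u, u, hu, hu1, rfl⟩
  have h2 : ConjClasses.mk (φ u) = ConjClasses.mk u := congrArg Subtype.val h1
  exact (ConjClasses.mk_eq_mk_iff_isConj.1 h2).symm

/-! ### The criterion -/

theorem factorization_eq {n k : ℕ} (h0 : n ≠ 0) (h1 : 2 ^ k ∣ n) (h2 : ¬ 2 ^ (k + 1) ∣ n) :
    n.factorization 2 = k := by
  rw [Nat.prime_two.pow_dvd_iff_le_factorization h0] at h1 h2
  omega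

/-- **The criterion.** -/
theorem sch_of_cocode [Finite K] [IsSimpleGroup K] (hK : ¬ IsMulCommutative K) [Finite A]
    (P : Pres e) (ι : A →* K) (inj : Function.Injective ι) (hA : Nat.card A = 2 ^ 11)
    (h22 : ¬ 2 ^ 22 ∣ Nat.card K)
    (hfull : ∀ m : M24, ∃ n : K, ∀ a : A, n * ι a * n⁻¹ = ι (actE P m a))
    (hfus : ∀ i j : GolayPt, i ≠ j → ∀ a : A, IsConj (ι (e i * e j)) (ι a) →
      ∃ k l : GolayPt, k ≠ l ∧ a = e k * e l)
    (R : Fin 4 → K) (hR : ∀ u : K, u * u = 1 → u ≠ 1 → ∃ i, IsConj u (R i)) : Sch K := by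
  classical
  have : Fact (Nat.Prime 2) := ⟨Nat.prime_two⟩
  have hcr : Nat.card ι.range = 2 ^ 11 := by
    rw [← hA]; exact (Nat.card_congr (MonoidHom.ofInjective inj).toEquiv).symm
  let N : Subgroup K := Subgroup.normalizer (ι.range : Set K)
  let hom : N →* MulAut A :=
    (MulAut.congr (MonoidHom.ofInjective inj).symm).toMonoidHom.comp (ι.range).normalizerMonoidHom
  have hhom : ∀ (n : N) (a : A), ι (hom n a) = (n : K) * ι a * (n : K)⁻¹ := by
    intro n a
    show ι ((MonoidHom.ofInjective inj).symm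
      ((ι.range).normalizerMonoidHom n ((MonoidHom.ofInjective inj).symm.symm a))) = _
    rw [MonoidHom.apply_ofInjective_symm]
    rfl
  let _ : MulDistribMulAction N A := MulDistribMulAction.compHom A hom
  have hsm : ∀ (n : N) (a : A), ι (n • a) = (n : K) * ι a * (n : K)⁻¹ := hhom
  obtain ⟨f0, hf0, -⟩ := P.he.exists_hom (X := N) P.hgen (by
    intro n i j hij
    obtain ⟨k, l, hkl, h⟩ := hfus i j hij (n • (e i * e j)) (by
      rw [hsm]; exact isConj_iff.2 ⟨n, rfl⟩)
    exact ⟨k, l, hkl, h⟩)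
  have hact : ∀ (n : N) (a : A), n • a = actE P (f0 n) a := by
    intro n a
    obtain ⟨S, hS, rfl⟩ := P.hgen a
    rw [hf0 n S hS, actE_prod P _ hS]
  have hsurj : Function.Surjective f0 := by
    intro m
    obtain ⟨n, hn⟩ := hfull m
    have hnN : n ∈ N := by
      rw [Subgroup.mem_normalizer_iff]
      intro x
      constructor
      · rintro ⟨a, rfl⟩
        exact ⟨_, (hn a).symm⟩
      · rintro ⟨a, ha⟩
        refine ⟨actE P m⁻¹ a, ?_⟩
        have h1 := hn (actE P m⁻¹ a)
        rw [← actE_mul, mul_inv_cancel, actE_one, ha] at h1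
        have h2 := mul_right_cancel h1
        exact mul_left_cancel h2
    refine ⟨⟨n, hnN⟩, ?_⟩
    apply actE_inj P
    intro a
    rw [← hact]
    apply inj
    rw [hsm]
    exact hn a
  have hrN : ι.range ≤ N := Subgroup.le_normalizer
  have hnormal : (ι.range.subgroupOf N).Normal := Subgroup.normal_in_normalizer
  have hcN : Nat.card (ι.range.subgroupOf N) = 2 ^ 11 := by
    rw [← hcr]; exact Nat.card_congr (Subgroup.subgroupOfEquivOfLe hrN).toEquiv
  have hrker : ι.range.subgroupOf N ≤ f0.ker := by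
    rintro ⟨x, hx⟩ hx'
    obtain ⟨b, rfl⟩ := Subgroup.mem_subgroupOf.1 hx'
    rw [MonoidHom.mem_ker]
    apply actE_inj P
    intro a
    rw [← hact, actE_one]
    apply inj
    rw [hsm]
    show ι b * ι a * (ι b)⁻¹ = ι a
    rw [← map_mul, mul_comm b a, map_mul, mul_inv_cancel_right]
  have h21 : 2 ^ 21 ∣ Nat.card N := by
    rw [← Subgroup.card_mul_index f0.ker, Subgroup.index_ker,
      MonoidHom.range_eq_top.2 hsurj, Subgroup.card_top, Cfsg.Agent.S0364.result]
    have h1 : 2 ^ 11 ∣ Nat.card f0.ker := by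
      rw [← hcN]; exact Subgroup.card_dvd_of_le hrker
    have h2 : (2 : ℕ) ^ 21 = 2 ^ 11 * 2 ^ 10 := by norm_num
    rw [h2]
    exact Nat.mul_dvd_mul h1 (by norm_num)
  have hNK : Nat.card N ∣ Nat.card K := Subgroup.card_subgroup_dvd_card _
  have hfN : (Nat.card N).factorization 2 = 21 :=
    factorization_eq Nat.card_pos.ne' h21 (fun h => h22 (h.trans hNK))
  have hfK : (Nat.card K).factorization 2 = 21 :=
    factorization_eq Nat.card_pos.ne' (h21.trans hNK) h22
  -- the Sylow subgroup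
  let S0 : Sylow 2 N := default
  let T0 : Subgroup K := (S0 : Subgroup N).map N.subtype
  have hS0 : Nat.card S0 = 2 ^ 21 := by rw [S0.card_eq_multiplicity, hfN]
  have hT0c : Nat.card T0 = 2 ^ 21 := by
    rw [← hS0]
    exact (Nat.card_congr (Subgroup.equivMapOfInjective _ N.subtype N.subtype_injective).toEquiv).symm
  have hT0N : T0 ≤ N := Subgroup.map_subtype_le _
  let T : Sylow 2 K := Sylow.ofCard T0 (by rw [hT0c, hfK])
  have hTT0 : (T : Subgroup K) = T0 := rfl
  have hrT : ι.range ≤ T0 := by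
    have hp : IsPGroup 2 (ι.range.subgroupOf N) := IsPGroup.of_card hcN
    have h1 : ι.range.subgroupOf N ≤ (S0 : Subgroup N) := hp.le_sylow_of_normal S0
    intro x hx
    exact ⟨⟨x, hrN hx⟩, h1 (Subgroup.mem_subgroupOf.2 hx), rfl⟩
  let f : T0 →* M24 := f0.comp (Subgroup.inclusion hT0N)
  -- the image of `f` has order `2^10`
  have hfr : Nat.card f.range = 2 ^ 10 := by
    have h1 : f.range = (S0 : Subgroup N).map f0 := by
      ext m
      constructor
      · rintro ⟨⟨_, n, hn, rfl⟩, rfl⟩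
        exact ⟨n, hn, rfl⟩
      · rintro ⟨n, hn, rfl⟩
        exact ⟨⟨_, n, hn, rfl⟩, rfl⟩
    have h2 := (S0.mapSurjective hsurj).card_eq_multiplicity
    rw [Cfsg.Agent.S0364.result, factorization_eq (k := 10) (by norm_num) (by norm_num)
      (by norm_num)] at h2
    rw [h1]
    exact h2
  have hfk : Nat.card f.ker = 2 ^ 11 := by
    have h1 : Nat.card f.ker * Nat.card f.range = 2 ^ 21 := by
      rw [← Subgroup.index_ker, Subgroup.card_mul_index, hT0c]
    rw [hfr, show (2 : ℕ) ^ 21 = 2 ^ 11 * 2 ^ 10 by norm_num] at h1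
    exact Nat.eq_of_mul_eq_mul_right (by positivity) h1
  have hfker : ι.range.subgroupOf T0 = f.ker := by
    apply Subgroup.eq_of_le_of_card_ge
    · intro t ht
      have h1 : Subgroup.inclusion hT0N t ∈ f0.ker :=
        hrker (Subgroup.mem_subgroupOf.2 (Subgroup.mem_subgroupOf.1 ht))
      exact h1
    · rw [hfk, ← hcr]
      exact le_of_eq (Nat.card_congr (Subgroup.subgroupOfEquivOfLe hrT).toEquiv).symm
  let H : Data P ι T0 :=
    { inj := inj
      le := hrT
      f := f
      act := fun t a => by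
        have h1 := hsm (Subgroup.inclusion hT0N t) a
        rw [hact] at h1
        exact h1.symm
      ker := fun t ht => by
        have h1 : t ∈ f.ker := ht
        rw [← hfker] at h1
        exact Subgroup.mem_subgroupOf.1 h1 }
  apply Cfsg.Agent.Schreier.Crit.sch_of_sylow hK T
  intro D hD hT
  have hT' : Inv D T0 := hT
  have hE := inv_range H hA hT'
  apply tr_data H hA hT0c hD hT'
  intro φ hφ i j hij
  obtain ⟨a, ha⟩ := hE.apply_mem hφ ⟨e i * e j, rfl⟩
  have h1 : IsConj (ι (e i * e j)) (φ (ι (e i * e j))) := by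
    apply isConj_of_classes hD R hR hφ
    · rw [← map_mul, sq P, map_one]
    · intro h
      exact pair_ne_one P hij (inj (h.trans (map_one ι).symm))
  rw [← ha] at h1
  obtain ⟨k, l, hkl, h2⟩ := hfus i j hij a h1
  exact ⟨k, l, hkl, by rw [← ha, h2]⟩

end Cfsg.Agent.Schreier.Cocode
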