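import Cfsg.Agent.Schreier.Cocode
import Cfsg.Agent.S0358

/-!
# The Schreier property from an even Golay cocode: orbit form (R20, helper128)

`sch_of_cocode_orbit`: as `Cocode.sch_of_cocode`, but instead of the classes of involutions only `¬ 89 ∣ |K|` is
used: the normaliser of `E = 2^11` has two orbits on the non-trivial elements of `E` (duads and sextets), because
`|E| - 1 = 2047 = 23 * 89`; they are interchanged by no automorphism, because there are more sextets than duads.
-/

set_option autoImplicit false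

namespace Cfsg.Agent.Schreier.CocodeOrbit

open Cfsg Cfsg.Agent.J4Type.DuadStab Cfsg.Agent.J4Type.ClosingCocode
  Cfsg.Agent.Schreier.CocodeSmall Cfsg.Agent.Schreier.Basic Cfsg.Agent.Schreier.Tools
  Cfsg.Agent.Schreier.Cocode

/-! ### Transitivity of `M24` -/

theorem card_pt : Nat.card GolayPt = 24 := by
  rw [Nat.card_eq_fintype_card]; decide +kernel

theorem exists_map_emb {n : ℕ} (hn : n ≤ 5) (x y : Fin n ↪ GolayPt) :
    ∃ m : M24, ∀ i, (m : Equiv.Perm GolayPt) (x i) = y i := by
  have h5 : MulAction.IsMultiplyPretransitive M24 GolayPt 5 := Cfsg.Agent.S0366.result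
  have h : MulAction.IsMultiplyPretransitive M24 GolayPt n :=
    MulAction.isMultiplyPretransitive_of_le (n := 5) hn (by rw [card_pt]; norm_num)
  obtain ⟨m, hm⟩ := h.exists_smul_eq x y
  exact ⟨m, fun i => DFunLike.congr_fun hm i⟩

theorem exists_map_pair {i j k l : GolayPt} (hij : i ≠ j) (hkl : k ≠ l) :
    ∃ m : M24, (m : Equiv.Perm GolayPt) i = k ∧ (m : Equiv.Perm GolayPt) j = l := by
  obtain ⟨m, hm⟩ := exists_map_emb (n := 2) (by norm_num)
    ⟨![i, j], by intro a b; fin_cases a <;> fin_cases b <;> simp [hij, hij.symm]⟩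
    ⟨![k, l], by intro a b; fin_cases a <;> fin_cases b <;> simp [hkl, hkl.symm]⟩
  exact ⟨m, hm 0, hm 1⟩

theorem exists_map_card {S T : Finset GolayPt} (h5 : S.card ≤ 5) (h : S.card = T.card) :
    ∃ m : M24, S.map (m : Equiv.Perm GolayPt).toEmbedding = T := by
  let eS : Fin S.card ≃ S := (Finset.equivFin S).symm
  let eT : Fin S.card ≃ T := (Finset.equivFinOfCardEq h.symm).symm
  obtain ⟨m, hm⟩ := exists_map_emb h5 (eS.toEmbedding.trans (Function.Embedding.subtype _))
    (eT.toEmbedding.trans (Function.Embedding.subtype _))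
  refine ⟨m, ?_⟩
  apply Finset.eq_of_subset_of_card_le
  · intro p hp
    obtain ⟨q, hq, rfl⟩ := Finset.mem_map.1 hp
    have h1 := hm (eS.symm ⟨q, hq⟩)
    simp only [Function.Embedding.trans_apply, Equiv.toEmbedding_apply, Equiv.apply_symm_apply,
      Function.Embedding.subtype_apply] at h1
    show (m : Equiv.Perm GolayPt) q ∈ T
    rw [h1]
    exact Subtype.coe_prop _
  · rw [Finset.card_map, h]

/-! ### Duads and sextets -/

variable {K : Type*} [Group K] {A : Type*} [CommGroup A] {e : GolayPt → A}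

theorem exists_act_sextet (P : Pres e) {a b : A} (ha : IsSextet e a) (hb : IsSextet e b) :
    ∃ m : M24, actE P m a = b := by
  obtain ⟨S, hS, rfl⟩ := ha
  obtain ⟨T, hT, rfl⟩ := hb
  obtain ⟨m, hm⟩ := exists_map_card (S := S) (T := T) (by omega) (by omega)
  refine ⟨m, ?_⟩
  rw [actE_prod P m (by rw [hS]; decide), ← hm, Finset.prod_map]
  rfl

theorem exists_act_duad (P : Pres e) {i j k l : GolayPt} (hij : i ≠ j) (hkl : k ≠ l) :
    ∃ m : M24, actE P m (e i * e j) = e k * e l := by
  obtain ⟨m, h1, h2⟩ := exists_map_pair hij hkl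
  exact ⟨m, by rw [actE_pair P m hij, h1, h2]⟩

theorem mem_normalizer_of_full (P : Pres e) {ι : A →* K} {m : M24} {n : K}
    (hn : ∀ a : A, n * ι a * n⁻¹ = ι (actE P m a)) :
    n ∈ Subgroup.normalizer (ι.range : Set K) := by
  rw [Subgroup.mem_normalizer_iff]
  intro x
  constructor
  · rintro ⟨a, rfl⟩
    exact ⟨_, (hn a).symm⟩
  · rintro ⟨a, ha⟩
    refine ⟨actE P m⁻¹ a, ?_⟩
    have h1 := hn (actE P m⁻¹ a)
    rw [← actE_mul, mul_inv_cancel, actE_one, ha] at h1
    have h2 := mul_right_cancel h1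
    exact mul_left_cancel h2

/-- The normaliser of `E` preserves the duads. -/
theorem duad_of_normalizer [Finite K] [Finite A] (P : Pres e) (ι : A →* K) (inj : Function.Injective ι)
    (hA : Nat.card A = 2 ^ 11) (h89 : ¬ 89 ∣ Nat.card K)
    (hfull : ∀ m : M24, ∃ n : K, ∀ a : A, n * ι a * n⁻¹ = ι (actE P m a))
    {n : K} (hn : n ∈ Subgroup.normalizer (ι.range : Set K)) {i j : GolayPt} (hij : i ≠ j) :
    ∃ k l : GolayPt, k ≠ l ∧ n * ι (e i * e j) * n⁻¹ = ι (e k * e l) := by
  classical
  by_contra hcon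
  push Not at hcon
  let N : Subgroup K := Subgroup.normalizer (ι.range : Set K)
  let hom : N →* MulAut A :=
    (MulAut.congr (MonoidHom.ofInjective inj).symm).toMonoidHom.comp (ι.range).normalizerMonoidHom
  have hhom : ∀ (n : N) (a : A), ι (hom n a) = (n : K) * ι a * (n : K)⁻¹ := by
    intro n a
    show ι ((MonoidHom.ofInjective inj).symm
      ((ι.range).normalizerMonoidHom n ((MonoidHom.ofInjective inj).symm.symm a))) = _
    rw [MonoidHom.apply_ofInjective_symm]
    rfl
  let _ : MulDistribMulAction N A := MulDistribMulAction.compHom A hom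
  have hsm : ∀ (n : N) (a : A), ι (n • a) = (n : K) * ι a * (n : K)⁻¹ := hhom
  -- the image of the duad is a sextet
  have hs0 : IsSextet e ((⟨n, hn⟩ : N) • (e i * e j)) := by
    rcases trichotomy P.he P.hgen ((⟨n, hn⟩ : N) • (e i * e j)) with h | h | h
    · exfalso
      have h1 : (e i * e j) = 1 := by
        have h2 := congrArg (fun a => (⟨n, hn⟩ : N)⁻¹ • a) h
        simpa using h2
      exact pair_ne_one P hij h1
    · exfalso
      obtain ⟨k, l, hkl, h⟩ := h
      apply hcon k l hkl
      rw [← h, hsm]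
    · exact h
  -- the orbit of the duad
  have horb : ∀ a : A, a ≠ 1 → a ∈ MulAction.orbit N (e i * e j) := by
    intro a ha
    rcases trichotomy P.he P.hgen a with h | h | h
    · exact absurd h ha
    · obtain ⟨k, l, hkl, rfl⟩ := h
      obtain ⟨m, hm⟩ := exists_act_duad P hij hkl
      obtain ⟨n', hn'⟩ := hfull m
      refine ⟨⟨n', mem_normalizer_of_full P hn'⟩, ?_⟩
      apply inj
      show ι ((⟨n', mem_normalizer_of_full P hn'⟩ : N) • (e i * e j)) = _
      rw [hsm]
      show n' * _ * n'⁻¹ = _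
      rw [hn', hm]
    · obtain ⟨m, hm⟩ := exists_act_sextet P hs0 h
      obtain ⟨n', hn'⟩ := hfull m
      refine ⟨⟨n', mem_normalizer_of_full P hn'⟩ * ⟨n, hn⟩, ?_⟩
      apply inj
      show ι (((⟨n', mem_normalizer_of_full P hn'⟩ : N) * ⟨n, hn⟩) • (e i * e j)) = _
      rw [mul_smul, hsm]
      show n' * _ * n'⁻¹ = _
      rw [hn', hm]
  have horb1 : MulAction.orbit N (e i * e j) = {a : A | a ≠ 1} := by
    ext a
    constructor
    · rintro ⟨n', rfl⟩ h
      have h1 : (e i * e j) = 1 := by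
        have h2 := congrArg (fun a => n'⁻¹ • a) h
        simpa using h2
      exact pair_ne_one P hij h1
    · exact horb a
  have hcard : Nat.card (MulAction.orbit N (e i * e j)) = 2047 := by
    rw [horb1, Nat.card_coe_set_eq]
    have h1 : {a : A | a ≠ 1} = ({1} : Set A)ᶜ := by ext a; simp
    rw [h1, Set.ncard_compl, Set.ncard_singleton, hA]
    norm_num
  have hdvd : Nat.card (MulAction.orbit N (e i * e j)) ∣ Nat.card N := by
    rw [Nat.card_congr (MulAction.orbitEquivQuotientStabilizer N (e i * e j))]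
    exact Subgroup.card_quotient_dvd_card _
  apply h89
  have h1 : (89 : ℕ) ∣ 2047 := by norm_num
  rw [hcard] at hdvd
  exact (h1.trans hdvd).trans (Subgroup.card_subgroup_dvd_card N)

/-- Automorphisms normalising `E` preserve the duads. -/
theorem duad_of_inv [Finite K] [Finite A] (P : Pres e) (ι : A →* K) (inj : Function.Injective ι)
    (hA : Nat.card A = 2 ^ 11)
    (hfull : ∀ m : M24, ∃ n : K, ∀ a : A, n * ι a * n⁻¹ = ι (actE P m a))
    (hN : ∀ n ∈ Subgroup.normalizer (ι.range : Set K), ∀ i j : GolayPt, i ≠ j →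
      ∃ k l : GolayPt, k ≠ l ∧ n * ι (e i * e j) * n⁻¹ = ι (e k * e l))
    {D : Subgroup (MulAut K)} (hE : Inv D ι.range) {φ : MulAut K} (hφ : φ ∈ D)
    {i j : GolayPt} (hij : i ≠ j) :
    ∃ k l : GolayPt, k ≠ l ∧ φ (ι (e i * e j)) = ι (e k * e l) := by
  classical
  by_contra hcon
  push Not at hcon
  have himg : ∀ p : GolayPt × GolayPt, ∃ b : A, ι b = φ (ι (e p.1 * e p.2)) := by
    intro p
    obtain ⟨b, hb⟩ := hE.apply_mem hφ (⟨e p.1 * e p.2, rfl⟩ : ι (e p.1 * e p.2) ∈ ι.range)
    exact ⟨b, hb⟩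
  choose h hh using himg
  have ha0 : IsSextet e (h (i, j)) := by
    rcases trichotomy P.he P.hgen (h (i, j)) with h1 | h1 | h1
    · exfalso
      have h2 := hh (i, j)
      rw [h1, map_one] at h2
      have h3 : ι (e i * e j) = 1 := φ.injective (h2.symm.trans (map_one φ).symm)
      exact pair_ne_one P hij (inj (h3.trans (map_one ι).symm))
    · exfalso
      obtain ⟨k, l, hkl, h2⟩ := h1
      apply hcon k l hkl
      rw [← h2, hh]
    · exact h1
  -- every sextet is in the range of `h`
  have hsx : ∀ a : A, IsSextet e a → a ∈ Set.range h := by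
    intro a ha
    obtain ⟨m, hm⟩ := exists_act_sextet P ha0 ha
    obtain ⟨n, hn⟩ := hfull m
    have hnN := mem_normalizer_of_full P hn
    have hnN' : φ⁻¹ n ∈ Subgroup.normalizer (ι.range : Set K) :=
      (Inv.normalizer hE).apply_mem (inv_mem hφ) hnN
    obtain ⟨k, l, hkl, h1⟩ := hN _ hnN' i j hij
    refine ⟨(k, l), ?_⟩
    apply inj
    rw [hh]
    show φ (ι (e k * e l)) = ι a
    rw [← h1, map_mul, map_mul, map_inv]
    have h2 : φ (φ⁻¹ n) = n := MulAut.apply_inv_self _ φ n
    have h3 := hh (i, j)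
    rw [h2]
    show n * φ (ι (e i * e j)) * n⁻¹ = ι a
    rw [← h3, hn, hm]
  -- counting
  have hun : (Set.univ : Set A) ⊆ insert 1 (Set.range (fun p : GolayPt × GolayPt => e p.1 * e p.2) ∪
      Set.range h) := by
    intro a _
    rcases trichotomy P.he P.hgen a with h1 | h1 | h1
    · exact Or.inl h1
    · obtain ⟨k, l, -, rfl⟩ := h1
      exact Or.inr (Or.inl ⟨(k, l), rfl⟩)
    · exact Or.inr (Or.inr (hsx a h1))
  have hr : ∀ f : GolayPt × GolayPt → A, (Set.range f).ncard ≤ 576 := by
    intro f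
    rw [← Set.image_univ]
    refine (Set.ncard_image_le (Set.toFinite _)).trans ?_
    rw [Set.ncard_univ, Nat.card_prod, card_pt]
  have h1 := Set.ncard_le_ncard hun (Set.toFinite _)
  rw [Set.ncard_univ, hA] at h1
  have h2 := Set.ncard_insert_le (1 : A) (Set.range (fun p : GolayPt × GolayPt => e p.1 * e p.2) ∪
      Set.range h)
  have h3 := Set.ncard_union_le (Set.range (fun p : GolayPt × GolayPt => e p.1 * e p.2)) (Set.range h)
  have h4 := hr (fun p : GolayPt × GolayPt => e p.1 * e p.2)
  have h5 := hr h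
  norm_num at h1
  omega

/-- **The criterion, orbit form.** -/
theorem sch_of_cocode_orbit [Finite K] [IsSimpleGroup K] (hK : ¬ IsMulCommutative K) [Finite A]
    (P : Pres e) (ι : A →* K) (inj : Function.Injective ι) (hA : Nat.card A = 2 ^ 11)
    (h22 : ¬ 2 ^ 22 ∣ Nat.card K) (h89 : ¬ 89 ∣ Nat.card K)
    (hfull : ∀ m : M24, ∃ n : K, ∀ a : A, n * ι a * n⁻¹ = ι (actE P m a)) : Sch K := by
  classical
  have : Fact (Nat.Prime 2) := ⟨Nat.prime_two⟩
  have hdN := fun (n : K) (hn : n ∈ Subgroup.normalizer (ι.range : Set K)) (i j : GolayPt) (hij : i ≠ j) =>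
    duad_of_normalizer P ι inj hA h89 hfull hn hij
  have hcr : Nat.card ι.range = 2 ^ 11 := by
    rw [← hA]; exact (Nat.card_congr (MonoidHom.ofInjective inj).toEquiv).symm
  let N : Subgroup K := Subgroup.normalizer (ι.range : Set K)
  let hom : N →* MulAut A :=
    (MulAut.congr (MonoidHom.ofInjective inj).symm).toMonoidHom.comp (ι.range).normalizerMonoidHom
  have hhom : ∀ (n : N) (a : A), ι (hom n a) = (n : K) * ι a * (n : K)⁻¹ := by
    intro n a
    show ι ((MonoidHom.ofInjective inj).symm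
      ((ι.range).normalizerMonoidHom n ((MonoidHom.ofInjective inj).symm.symm a))) = _
    rw [MonoidHom.apply_ofInjective_symm]
    rfl
  let _ : MulDistribMulAction N A := MulDistribMulAction.compHom A hom
  have hsm : ∀ (n : N) (a : A), ι (n • a) = (n : K) * ι a * (n : K)⁻¹ := hhom
  obtain ⟨f0, hf0, -⟩ := P.he.exists_hom (X := N) P.hgen (by
    intro n i j hij
    obtain ⟨k, l, hkl, h⟩ := hdN n n.2 i j hij
    exact ⟨k, l, hkl, inj (by rw [hsm]; exact h)⟩)
  have hact : ∀ (n : N) (a : A), n • a = actE P (f0 n) a := by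
    intro n a
    obtain ⟨S, hS, rfl⟩ := P.hgen a
    rw [hf0 n S hS, actE_prod P _ hS]
  have hsurj : Function.Surjective f0 := by
    intro m
    obtain ⟨n, hn⟩ := hfull m
    have hnN : n ∈ N := mem_normalizer_of_full P hn
    refine ⟨⟨n, hnN⟩, ?_⟩
    apply actE_inj P
    intro a
    rw [← hact]
    apply inj
    rw [hsm]
    exact hn a
  have hrN : ι.range ≤ N := Subgroup.le_normalizer
  have hnormal : (ι.range.subgroupOf N).Normal := Subgroup.normal_in_normalizer
  have hcN : Nat.card (ι.range.subgroupOf N) = 2 ^ 11 := by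
    rw [← hcr]; exact Nat.card_congr (Subgroup.subgroupOfEquivOfLe hrN).toEquiv
  have hrker : ι.range.subgroupOf N ≤ f0.ker := by
    rintro ⟨x, hx⟩ hx'
    obtain ⟨b, rfl⟩ := Subgroup.mem_subgroupOf.1 hx'
    rw [MonoidHom.mem_ker]
    apply actE_inj P
    intro a
    rw [← hact, actE_one]
    apply inj
    rw [hsm]
    show ι b * ι a * (ι b)⁻¹ = ι a
    rw [← map_mul, mul_comm b a, map_mul, mul_inv_cancel_right]
  have h21 : 2 ^ 21 ∣ Nat.card N := by
    rw [← Subgroup.card_mul_index f0.ker, Subgroup.index_ker,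
      MonoidHom.range_eq_top.2 hsurj, Subgroup.card_top, Cfsg.Agent.S0364.result]
    have h1 : 2 ^ 11 ∣ Nat.card f0.ker := by
      rw [← hcN]; exact Subgroup.card_dvd_of_le hrker
    have h2 : (2 : ℕ) ^ 21 = 2 ^ 11 * 2 ^ 10 := by norm_num
    rw [h2]
    exact Nat.mul_dvd_mul h1 (by norm_num)
  have hNK : Nat.card N ∣ Nat.card K := Subgroup.card_subgroup_dvd_card _
  have hfN : (Nat.card N).factorization 2 = 21 :=
    factorization_eq Nat.card_pos.ne' h21 (fun h => h22 (h.trans hNK))
  have hfK : (Nat.card K).factorization 2 = 21 :=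
    factorization_eq Nat.card_pos.ne' (h21.trans hNK) h22
  -- the Sylow subgroup
  let S0 : Sylow 2 N := default
  let T0 : Subgroup K := (S0 : Subgroup N).map N.subtype
  have hS0 : Nat.card S0 = 2 ^ 21 := by rw [S0.card_eq_multiplicity, hfN]
  have hT0c : Nat.card T0 = 2 ^ 21 := by
    rw [← hS0]
    exact (Nat.card_congr (Subgroup.equivMapOfInjective _ N.subtype N.subtype_injective).toEquiv).symm
  have hT0N : T0 ≤ N := Subgroup.map_subtype_le _
  let T : Sylow 2 K := Sylow.ofCard T0 (by rw [hT0c, hfK])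
  have hTT0 : (T : Subgroup K) = T0 := rfl
  have hrT : ι.range ≤ T0 := by
    have hp : IsPGroup 2 (ι.range.subgroupOf N) := IsPGroup.of_card hcN
    have h1 : ι.range.subgroupOf N ≤ (S0 : Subgroup N) := hp.le_sylow_of_normal S0
    intro x hx
    exact ⟨⟨x, hrN hx⟩, h1 (Subgroup.mem_subgroupOf.2 hx), rfl⟩
  let f : T0 →* M24 := f0.comp (Subgroup.inclusion hT0N)
  -- the image of `f` has order `2^10`
  have hfr : Nat.card f.range = 2 ^ 10 := by
    have h1 : f.range = (S0 : Subgroup N).map f0 := by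
      ext m
      constructor
      · rintro ⟨⟨_, n, hn, rfl⟩, rfl⟩
        exact ⟨n, hn, rfl⟩
      · rintro ⟨n, hn, rfl⟩
        exact ⟨⟨_, n, hn, rfl⟩, rfl⟩
    have h2 := (S0.mapSurjective hsurj).card_eq_multiplicity
    rw [Cfsg.Agent.S0364.result, factorization_eq (k := 10) (by norm_num) (by norm_num)
      (by norm_num)] at h2
    rw [h1]
    exact h2
  have hfk : Nat.card f.ker = 2 ^ 11 := by
    have h1 : Nat.card f.ker * Nat.card f.range = 2 ^ 21 := by
      rw [← Subgroup.index_ker, Subgroup.card_mul_index, hT0c]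
    rw [hfr, show (2 : ℕ) ^ 21 = 2 ^ 11 * 2 ^ 10 by norm_num] at h1
    exact Nat.eq_of_mul_eq_mul_right (by positivity) h1
  have hfker : ι.range.subgroupOf T0 = f.ker := by
    apply Subgroup.eq_of_le_of_card_ge
    · intro t ht
      have h1 : Subgroup.inclusion hT0N t ∈ f0.ker :=
        hrker (Subgroup.mem_subgroupOf.2 (Subgroup.mem_subgroupOf.1 ht))
      exact h1
    · rw [hfk, ← hcr]
      exact le_of_eq (Nat.card_congr (Subgroup.subgroupOfEquivOfLe hrT).toEquiv).symm
  let H : Data P ι T0 :=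
    { inj := inj
      le := hrT
      f := f
      act := fun t a => by
        have h1 := hsm (Subgroup.inclusion hT0N t) a
        rw [hact] at h1
        exact h1.symm
      ker := fun t ht => by
        have h1 : t ∈ f.ker := ht
        rw [← hfker] at h1
        exact Subgroup.mem_subgroupOf.1 h1 }
  apply Cfsg.Agent.Schreier.Crit.sch_of_sylow hK T
  intro D hD hT
  have hT' : Inv D T0 := hT
  have hE := inv_range H hA hT'
  apply tr_data H hA hT0c hD hT'
  intro φ hφ i j hij
  exact duad_of_inv P ι inj hA hfull hdN hE hφ hij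

end Cfsg.Agent.Schreier.CocodeOrbit
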