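import Cfsg.Agent.Schreier.CocodeOrbit
import Cfsg.Agent.SporadicA.OctadSpan
import Cfsg.Agent.S0367

/-!
# The Schreier property from 24 commuting elements permuted by `M24` (R20, helper128)

`Sys e`: `e p` plays the role of `d_p * d_none`, where the `d_p` are 24 commuting involutions permuted by `M24`,
the product over an octad being trivial.  `sch_of_sys`.
-/

set_option autoImplicit false

namespace Cfsg.Agent.Schreier.CocodeSys

open Cfsg Cfsg.Agent.J4Type.DuadStab Cfsg.Agent.J4Type.ClosingCocode
  Cfsg.Agent.Schreier.CocodeSmall Cfsg.Agent.Schreier.Basic Cfsg.Agent.Schreier.Tools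
  Cfsg.Agent.Schreier.Cocode Cfsg.Agent.Schreier.CocodeOrbit

/-- A system of 24 commuting elements of square one. -/
structure Sys {K : Type*} [Group K] (e : GolayPt → K) : Prop where
  sq : ∀ p, e p * e p = 1
  comm : ∀ p q, e p * e q = e q * e p
  zero : e Option.none = 1
  inj : Function.Injective e
  full : ∀ m : M24, ∃ n : K, ∀ p, n * e p * n⁻¹ =
    e ((m : Equiv.Perm GolayPt) p) * e ((m : Equiv.Perm GolayPt) Option.none)
  oct : ∃ l : List GolayPt, l.Nodup ∧ l.toFinset ∈ octads ∧ (l.map e).prod = 1

section comm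

variable {A : Type*} [CommGroup A] {e : GolayPt → A}

/-- The product of the elements over the support of a word. -/
def fw (e : GolayPt → A) (w : GolayPt → ZMod 2) : A := ∏ p ∈ support₂ w, e p

theorem support₂_add (v w : GolayPt → ZMod 2) : support₂ (v + w) = symmDiff (support₂ v) (support₂ w) := by
  ext p
  rw [Finset.mem_symmDiff]
  simp only [support₂, Finset.mem_filter, Finset.mem_univ, true_and, Pi.add_apply]
  generalize v p = a
  generalize w p = b
  revert a b
  decide

theorem fw_add (hsq : ∀ i, e i * e i = 1) (v w : GolayPt → ZMod 2) : fw e (v + w) = fw e v * fw e w := by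
  unfold fw
  rw [support₂_add, prod_symmDiff hsq]

theorem fw_zero : fw e 0 = 1 := by
  unfold fw
  have : support₂ (0 : GolayPt → ZMod 2) = ∅ := by
    ext p; simp [support₂]
  rw [this, Finset.prod_empty]

theorem fw_code (hsq : ∀ i, e i * e i = 1) (ho : ∀ O ∈ octads, ∏ p ∈ O, e p = 1) {w : GolayPt → ZMod 2}
    (hw : w ∈ golayCode) : fw e w = 1 := by
  rw [SporadicA.OctadSpan.golayCode_eq_span_octads] at hw
  induction hw using Submodule.span_induction with
  | mem x hx => exact ho _ hx
  | zero => exact fw_zero
  | add x y _ _ hx hy => rw [fw_add hsq, hx, hy, mul_one]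
  | smul a x _ hx =>
    rcases (by decide : ∀ a : ZMod 2, a = 0 ∨ a = 1) a with rfl | rfl
    · rw [zero_smul]; exact fw_zero
    · rw [one_smul]; exact hx

/-- Reduction of even sets modulo the code. -/
theorem exists_red (S : Finset GolayPt) (hS : Even S.card) :
    ∃ T : Finset GolayPt, (T.card = 0 ∨ T.card = 2 ∨ T.card = 4) ∧
      symmDiff S T ∈ supports (golayCode : Set (GolayPt → ZMod 2)) := by
  classical
  have key : ∀ n : ℕ, ∀ S : Finset GolayPt, S.card ≤ n → Even S.card →
      ∃ T : Finset GolayPt, (T.card = 0 ∨ T.card = 2 ∨ T.card = 4) ∧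
        symmDiff S T ∈ supports (golayCode : Set (GolayPt → ZMod 2)) := by
    have h0 : (∅ : Finset GolayPt) ∈ supports (golayCode : Set (GolayPt → ZMod 2)) := by
      refine ⟨0, zero_mem golayCode, ?_⟩
      ext p; simp [support₂]
    intro n
    induction n with
    | zero =>
      intro S h1 _
      exact ⟨S, Or.inl (by omega), by rw [symmDiff_self]; exact h0⟩
    | succ n ih =>
      intro S hn hev
      by_cases h5 : S.card < 5
      · refine ⟨S, ?_, by rw [symmDiff_self]; exact h0⟩
        rw [Nat.even_iff] at hev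
        omega
      push Not at h5
      obtain ⟨T, hTS, hT5⟩ := Finset.exists_subset_card_eq h5
      obtain ⟨O, ⟨hO, hTO⟩, -⟩ := Cfsg.Agent.S0363.result.2 T hT5
      have hO8 : O.card = 8 := Cfsg.Agent.S0363.result.1 O hO
      have hOs : O ∈ supports (golayCode : Set (GolayPt → ZMod 2)) := hO.1
      have hcard : (symmDiff S O).card + 2 * (S ∩ O).card = S.card + O.card := by
        have h6 := Finset.card_sdiff_add_card_inter S O
        have h7 := Finset.card_sdiff_add_card_inter O S
        rw [Finset.inter_comm O S] at h7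
        have h8 : (symmDiff S O).card = (S \ O).card + (O \ S).card := by
          rw [symmDiff_def, Finset.sup_eq_union, Finset.card_union_of_disjoint
            disjoint_sdiff_sdiff]
        omega
      have hint : 5 ≤ (S ∩ O).card := by
        rw [← hT5]
        exact Finset.card_le_card (Finset.subset_inter hTS hTO)
      obtain ⟨T', hT', hp⟩ := ih (symmDiff S O) (by omega) (by
        rw [Nat.even_iff] at hev ⊢
        rw [card_symmDiff_parity, Nat.add_mod, hev, hO8])
      refine ⟨T', hT', ?_⟩
      have h9 := SporadicA.GolayBase.symmDiff_mem_supports hp hOs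
      have h10 : symmDiff (symmDiff (symmDiff S O) T') O = symmDiff S T' := by
        rw [symmDiff_comm S O, symmDiff_assoc O S T', symmDiff_comm O (symmDiff S T'), symmDiff_assoc,
          symmDiff_self, Finset.bot_eq_empty]
        exact symmDiff_bot _
      rwa [h10] at h9
  exact key _ S le_rfl hS

/-- Criterion for `IsCocode`: the even products over the code are trivial, and no product over a 2-set or a 4-set
is trivial. -/
theorem isCocode_of (hsq : ∀ i, e i * e i = 1) (ho : ∀ O ∈ octads, ∏ p ∈ O, e p = 1)
    (h24 : ∀ T : Finset GolayPt, T.card = 2 ∨ T.card = 4 → ∏ p ∈ T, e p ≠ 1) : IsCocode e := by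
  have hcode : ∀ S ∈ supports (golayCode : Set (GolayPt → ZMod 2)), ∏ p ∈ S, e p = 1 := by
    rintro _ ⟨w, hw, rfl⟩
    exact fw_code hsq ho hw
  refine ⟨hsq, fun S hS => ⟨fun h => ?_, hcode S⟩⟩
  obtain ⟨T, hT, h1⟩ := exists_red S hS
  have h2 := hcode _ h1
  rw [prod_symmDiff hsq, h, one_mul] at h2
  rcases hT with h3 | h3 | h3
  · rw [Finset.card_eq_zero.1 h3] at h1
    have h4 : symmDiff S (∅ : Finset GolayPt) = S := symmDiff_bot S
    rwa [h4] at h1
  · exact absurd h2 (h24 T (Or.inl h3))
  · exact absurd h2 (h24 T (Or.inr h3))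

/-- The order of the even cocode. -/
theorem card_of_pres (P : Pres e) : Nat.card A = 2 ^ 11 := by
  classical
  -- the sum map
  let s : (GolayPt → ZMod 2) →+ ZMod 2 :=
    { toFun := fun w => ∑ p, w p
      map_zero' := by simp
      map_add' := fun v w => by simp [Finset.sum_add_distrib] }
  have hs : Function.Surjective s := by
    intro a
    refine ⟨Pi.single Option.none a, ?_⟩
    show ∑ p, (Pi.single Option.none a : GolayPt → ZMod 2) p = a
    rw [Finset.sum_pi_single']
    simp
  have hev : ∀ w : GolayPt → ZMod 2, s w = 0 ↔ Even (support₂ w).card := by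
    intro w
    have h1 : s w = ((support₂ w).card : ZMod 2) := by
      show ∑ p, w p = _
      rw [Finset.card_eq_sum_ones, Nat.cast_sum]
      have h2 : ∑ p, w p = ∑ p ∈ support₂ w, w p := by
        symm
        apply Finset.sum_subset (Finset.subset_univ _)
        intro p _ hp
        by_contra hne
        exact hp (by simp [support₂, hne])
      rw [h2]
      apply Finset.sum_congr rfl
      intro p hp
      have h3 : w p ≠ 0 := by simpa [support₂] using hp
      rcases (by decide : ∀ a : ZMod 2, a = 0 ∨ a = 1) (w p) with h | h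
      · exact absurd h h3
      · rw [h]; simp
    rw [h1, ZMod.natCast_eq_zero_iff_even]
  have hV : Nat.card (GolayPt → ZMod 2) = 2 ^ 24 := by
    rw [Nat.card_pi]
    simp [Nat.card_eq_fintype_card, ZMod.card]
  have hV0 : Nat.card s.ker = 2 ^ 23 := by
    have h1 := AddSubgroup.card_mul_index s.ker
    rw [AddSubgroup.index_ker, AddMonoidHom.range_eq_top.2 hs, AddSubgroup.card_top, Nat.card_zmod, hV] at h1
    have : (2 : ℕ) ^ 24 = 2 ^ 23 * 2 := by norm_num
    omega
  -- the map onto `A`
  let ψ : Multiplicative s.ker →* A :=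
    { toFun := fun w => fw e ((Multiplicative.toAdd w : s.ker) : GolayPt → ZMod 2)
      map_one' := fw_zero
      map_mul' := fun v w => fw_add P.he.sq _ _ }
  have hψ : Function.Surjective ψ := by
    intro a
    obtain ⟨S, hS, rfl⟩ := P.hgen a
    let w : GolayPt → ZMod 2 := fun p => if p ∈ S then 1 else 0
    have hw : support₂ w = S := by
      ext p; simp [support₂, w]
    have hw0 : w ∈ s.ker := by
      rw [AddMonoidHom.mem_ker, hev, hw]; exact hS
    refine ⟨Multiplicative.ofAdd ⟨w, hw0⟩, ?_⟩
    show fw e w = _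
    rw [fw, hw]
  have hker : Nat.card ψ.ker = 2 ^ 12 := by
    have h1 : Nat.card golayCode = 4096 := Cfsg.Agent.S0358.card_golayCode
    have h2 : Nat.card ψ.ker = Nat.card golayCode := by
      symm
      have hcs : ∀ w : golayCode, support₂ (w : GolayPt → ZMod 2) ∈
          supports (golayCode : Set (GolayPt → ZMod 2)) := fun w => ⟨w, w.2, rfl⟩
      have hce : ∀ w : golayCode, Even (support₂ (w : GolayPt → ZMod 2)).card := by
        intro w
        have := SporadicA.GolayBase.card_of_mem_supports (hcs w)
        rw [Nat.even_iff]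
        omega
      refine Nat.card_congr (Equiv.ofBijective (fun w : golayCode =>
        (⟨Multiplicative.ofAdd ⟨(w : GolayPt → ZMod 2), (hev _).2 (hce w)⟩, ?_⟩ : ψ.ker)) ⟨?_, ?_⟩)
      · rw [MonoidHom.mem_ker]
        show fw e (w : GolayPt → ZMod 2) = 1
        rw [fw, P.he.ker _ (hce w)]
        exact hcs w
      · intro v w h
        apply Subtype.ext
        exact congrArg (fun x : ψ.ker => ((Multiplicative.toAdd (x : Multiplicative s.ker) : s.ker) :
          GolayPt → ZMod 2)) h
      · rintro ⟨w, hw⟩
        rw [MonoidHom.mem_ker] at hw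
        have h3 : fw e ((Multiplicative.toAdd w : s.ker) : GolayPt → ZMod 2) = 1 := hw
        have h4 : Even (support₂ ((Multiplicative.toAdd w : s.ker) : GolayPt → ZMod 2)).card :=
          (hev _).1 (Multiplicative.toAdd w : s.ker).2
        rw [fw, P.he.ker _ h4] at h3
        obtain ⟨v, hv, hvw⟩ := h3
        have h5 : v = ((Multiplicative.toAdd w : s.ker) : GolayPt → ZMod 2) := by
          funext p
          have h6 : (p ∈ support₂ v) ↔ (p ∈ support₂ ((Multiplicative.toAdd w : s.ker) : GolayPt → ZMod 2)) := by
            rw [hvw]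
          simp only [support₂, Finset.mem_filter, Finset.mem_univ, true_and] at h6
          generalize v p = a at h6 ⊢
          generalize ((Multiplicative.toAdd w : s.ker) : GolayPt → ZMod 2) p = b at h6 ⊢
          revert a b
          decide
        refine ⟨⟨v, hv⟩, ?_⟩
        apply Subtype.ext
        show Multiplicative.ofAdd _ = w
        apply Multiplicative.toAdd.injective
        apply Subtype.ext
        exact h5
    rw [h2, h1]
    norm_num
  have h1 := Subgroup.card_mul_index ψ.ker
  rw [Subgroup.index_ker, MonoidHom.range_eq_top.2 hψ, Subgroup.card_top, hker] at h1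
  have h2 : Nat.card (Multiplicative s.ker) = 2 ^ 23 := hV0
  rw [h2, show (2 : ℕ) ^ 23 = 2 ^ 12 * 2 ^ 11 by norm_num] at h1
  exact Nat.eq_of_mul_eq_mul_left (by positivity) h1

end comm

/-! ### Systems -/

variable {K : Type*} [Group K] {e : GolayPt → K}

/-- The subgroup generated by the system. -/
def As (e : GolayPt → K) : Subgroup K := Subgroup.closure (Set.range e)

theorem mem_As (e : GolayPt → K) (p : GolayPt) : e p ∈ As e := Subgroup.subset_closure ⟨p, rfl⟩

theorem comm_As (S : Sys e) : ∀ a b : As e, a * b = b * a := by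
  have h : IsMulCommutative (As e) := Subgroup.isMulCommutative_closure (by
    rintro _ ⟨p, rfl⟩ _ ⟨q, rfl⟩
    exact S.comm p q)
  exact h.is_comm.comm

theorem sch_of_sys [Finite K] [IsSimpleGroup K] (hK : ¬ IsMulCommutative K) (S : Sys e)
    (h22 : ¬ 2 ^ 22 ∣ Nat.card K) (h89 : ¬ 89 ∣ Nat.card K) : Sch K := by
  classical
  let _ : CommGroup (As e) := { (inferInstance : Group (As e)) with mul_comm := comm_As S }
  let eA : GolayPt → As e := fun p => ⟨e p, mem_As e p⟩
  have heA : ∀ p, ((eA p : As e) : K) = e p := fun p => rfl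
  have hsq : ∀ p, eA p * eA p = 1 := fun p => Subtype.ext (S.sq p)
  have hnone : eA Option.none = 1 := Subtype.ext S.zero
  have hinj : Function.Injective eA := fun p q h => S.inj (congrArg Subtype.val h)
  -- conjugation
  have hconj : ∀ m : M24, ∃ (n : K) (g : As e →* As e), (∀ a : As e, ((g a : As e) : K) = n * a * n⁻¹) ∧
      ∀ p, g (eA p) = eA ((m : Equiv.Perm GolayPt) p) * eA ((m : Equiv.Perm GolayPt) Option.none) := by
    intro m
    obtain ⟨n, hn⟩ := S.full m
    have hmap : ∀ a : As e, n * (a : K) * n⁻¹ ∈ As e := by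
      rintro ⟨a, ha⟩
      show n * a * n⁻¹ ∈ As e
      have ha' : a ∈ Subgroup.closure (Set.range e) := ha
      induction ha' using Subgroup.closure_induction with
      | mem x hx =>
        obtain ⟨p, rfl⟩ := hx
        rw [hn]
        exact mul_mem (mem_As e _) (mem_As e _)
      | one => simp [one_mem]
      | mul x y hx' hy' hx hy =>
        have : n * (x * y) * n⁻¹ = (n * x * n⁻¹) * (n * y * n⁻¹) := by group
        rw [this]
        exact mul_mem (hx hx') (hy hy')
      | inv x hx' hx =>
        have : n * x⁻¹ * n⁻¹ = (n * x * n⁻¹)⁻¹ := by group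
        rw [this]
        exact inv_mem (hx hx')
    let g : As e →* As e :=
      { toFun := fun a => ⟨n * a * n⁻¹, hmap a⟩
        map_one' := Subtype.ext (by simp)
        map_mul' := fun a b => Subtype.ext (by
          show n * ((a : K) * (b : K)) * n⁻¹ = (n * a * n⁻¹) * (n * b * n⁻¹)
          group) }
    exact ⟨n, g, fun a => rfl, fun p => Subtype.ext (hn p)⟩
  have hconjS : ∀ (m : M24) (g : As e →* As e),
      (∀ p, g (eA p) = eA ((m : Equiv.Perm GolayPt) p) * eA ((m : Equiv.Perm GolayPt) Option.none)) →
      ∀ T : Finset GolayPt, Even T.card → g (∏ p ∈ T, eA p) = ∏ p ∈ T, eA ((m : Equiv.Perm GolayPt) p) := by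
    intro m g hg T hT
    rw [_root_.map_prod]
    simp only [hg]
    rw [Finset.prod_mul_distrib, Finset.prod_const]
    obtain ⟨k, hk⟩ := hT
    rw [hk, ← two_mul, pow_mul, pow_two, hsq, one_pow, mul_one]
  -- octads
  have hoct : ∀ O ∈ octads, ∏ p ∈ O, eA p = 1 := by
    obtain ⟨l, hl1, hl2, hl3⟩ := S.oct
    have h0 : ∏ p ∈ l.toFinset, eA p = 1 := by
      rw [List.prod_toFinset _ hl1]
      apply Subtype.ext
      show (As e).subtype ((l.map eA).prod) = 1
      rw [map_list_prod, List.map_map]
      exact hl3
    intro O hO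
    obtain ⟨m, hm⟩ := Cfsg.Agent.S0367.result _ _ hl2 hO
    obtain ⟨n, g, -, hg⟩ := hconj m
    have h8 : l.toFinset.card = 8 := hl2.2
    have h1 := hconjS m g hg l.toFinset (by rw [h8]; decide)
    rw [h0, map_one] at h1
    have h2 : l.toFinset.map (m : Equiv.Perm GolayPt).toEmbedding = O := by
      rw [← SporadicA.GolayPerm.smul_finset_eq_map]; exact hm
    rw [← h2, Finset.prod_map]
    exact h1.symm
  -- no short relations
  have h24 : ∀ T : Finset GolayPt, T.card = 2 ∨ T.card = 4 → ∏ p ∈ T, eA p ≠ 1 := by
    rintro T (hT | hT) h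
    · obtain ⟨p, q, hpq, rfl⟩ := Finset.card_eq_two.1 hT
      rw [Finset.prod_pair hpq] at h
      apply hpq
      apply hinj
      calc eA p = eA p * (eA q * eA q) := by rw [hsq, mul_one]
        _ = (eA p * eA q) * eA q := (mul_assoc _ _ _).symm
        _ = eA q := by rw [h, one_mul]
    · -- replace one point by another one
      obtain ⟨s, hs⟩ : T.Nonempty := Finset.card_pos.1 (by omega)
      obtain ⟨t, ht⟩ : ∃ t, t ∉ T := by
        by_contra hcon
        push Not at hcon
        have h1 : (Finset.univ : Finset GolayPt) ⊆ T := fun x _ => hcon x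
        have h2 := Finset.card_le_card h1
        rw [Finset.card_univ, ← Nat.card_eq_fintype_card, card_pt] at h2
        omega
      -- an element of `M24` fixing `T \ {s}` pointwise and taking `s` to `t`
      let U : Finset GolayPt := T.erase s
      have hU : U.card = 3 := by rw [Finset.card_erase_of_mem hs]; omega
      obtain ⟨a, b, c, hab, hac, hbc, hUe⟩ := Finset.card_eq_three.1 hU
      have hsU : s ∉ U := Finset.notMem_erase s T
      have htU : t ∉ U := fun h1 => ht (Finset.mem_of_mem_erase h1)
      rw [hUe] at hsU htU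
      simp only [Finset.mem_insert, Finset.mem_singleton, not_or] at hsU htU
      obtain ⟨m, hm⟩ := exists_map_emb (n := 4) (by norm_num)
        ⟨![a, b, c, s], by
          intro x y
          fin_cases x <;> fin_cases y <;>
            simp [hab, hac, hbc, hab.symm, hac.symm, hbc.symm, hsU.1, hsU.2.1, hsU.2.2,
              Ne.symm hsU.1, Ne.symm hsU.2.1, Ne.symm hsU.2.2]⟩
        ⟨![a, b, c, t], by
          intro x y
          fin_cases x <;> fin_cases y <;>
            simp [hab, hac, hbc, hab.symm, hac.symm, hbc.symm, htU.1, htU.2.1, htU.2.2,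
              Ne.symm htU.1, Ne.symm htU.2.1, Ne.symm htU.2.2]⟩
      have m0 : (m : Equiv.Perm GolayPt) a = a := hm 0
      have m1 : (m : Equiv.Perm GolayPt) b = b := hm 1
      have m2 : (m : Equiv.Perm GolayPt) c = c := hm 2
      have m3 : (m : Equiv.Perm GolayPt) s = t := hm 3
      obtain ⟨n, g, -, hg⟩ := hconj m
      have h1 := hconjS m g hg T (by rw [hT]; decide)
      rw [h, map_one] at h1
      have hT' : T = insert s U := (Finset.insert_erase hs).symm
      have hsU' : s ∉ U := Finset.notMem_erase s T
      have h3 : ∀ f : GolayPt → As e, ∏ p ∈ U, f p = f a * (f b * f c) := by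
        intro f
        rw [hUe, Finset.prod_insert (by simp [hab, hac]), Finset.prod_pair hbc]
      rw [hT', Finset.prod_insert hsU', h3, m0, m1, m2, m3] at h1
      rw [hT', Finset.prod_insert hsU', h3] at h
      have h4 : eA s = eA t := mul_right_cancel (h.trans h1)
      have h5 := hinj h4
      rw [h5] at hs
      exact ht hs
  have hco : IsCocode eA := isCocode_of hsq hoct h24
  have hgen : ∀ a : As e, ∃ T : Finset GolayPt, Even T.card ∧ a = ∏ i ∈ T, eA i := by
    rintro ⟨a, ha⟩
    have ha' : a ∈ Subgroup.closure (Set.range e) := ha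
    induction ha' using Subgroup.closure_induction with
    | mem x hx =>
      obtain ⟨p, rfl⟩ := hx
      by_cases hp : p = Option.none
      · subst hp
        refine ⟨∅, by simp, ?_⟩
        rw [Finset.prod_empty]
        exact hnone
      · refine ⟨{p, Option.none}, by rw [Finset.card_pair hp]; decide, ?_⟩
        rw [Finset.prod_pair hp, hnone, mul_one]
    | one => exact ⟨∅, by simp, by rw [Finset.prod_empty]; rfl⟩
    | mul x y hx' hy' hx hy =>
      obtain ⟨T, hT, h1⟩ := hx hx'
      obtain ⟨U, hU, h2⟩ := hy hy'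
      refine ⟨symmDiff T U, even_symmDiff hT hU, ?_⟩
      rw [prod_symmDiff hsq, ← h1, ← h2]
      rfl
    | inv x hx' hx =>
      obtain ⟨T, hT, h1⟩ := hx hx'
      refine ⟨T, hT, ?_⟩
      rw [← h1]
      have h2 : (⟨x, hx'⟩ : As e) * ⟨x, hx'⟩ = 1 := by
        rw [h1, ← Finset.prod_mul_distrib]
        simp only [hsq, Finset.prod_const_one]
      have h3 := inv_eq_of_mul_eq_one_left h2
      exact h3
  have P : Pres eA := ⟨hco, hgen⟩
  have hA := card_of_pres P
  have hfin : Finite (As e) := Nat.finite_of_card_ne_zero (by rw [hA]; norm_num)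
  refine sch_of_cocode_orbit hK P (As e).subtype (As e).subtype_injective hA h22 h89 ?_
  intro m
  obtain ⟨n, g, h1, h2⟩ := hconj m
  refine ⟨n, fun a => ?_⟩
  obtain ⟨T, hT, rfl⟩ := P.hgen a
  rw [actE_prod P m hT, ← hconjS m g h2 T hT]
  exact (h1 _).symm

end Cfsg.Agent.Schreier.CocodeSys
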