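import Mathlib
import Cfsg.Agent.Schreier.Crit
import Cfsg.Agent.Schreier.Section
import Cfsg.Agent.Schreier.CyclicMod

/-!
# Simple groups with an involution centraliser `2^{1+2n}.L`
-/

set_option autoImplicit false

namespace Cfsg.Agent.Schreier.ExtraCent

open Cfsg.Agent.Schreier.Basic Cfsg.Agent.Schreier.Tools Cfsg.Agent.Schreier.Crit

variable {K : Type*} [Group K]

open scoped commutatorElement

/-- a Sylow 2-subgroup contained in a subgroup of odd index -/
theorem exists_sylow_le [Finite K] (C : Subgroup K) (hodd : Odd C.index) :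
    ∃ T : Sylow 2 K, (T : Subgroup K) ≤ C := by
  haveI : Fact (Nat.Prime 2) := ⟨Nat.prime_two⟩
  obtain ⟨P⟩ : Nonempty (Sylow 2 C) := inferInstance
  have h1 : IsPGroup 2 ((P : Subgroup C).map C.subtype) := P.2.map _
  obtain ⟨T, hT⟩ := h1.exists_le_sylow
  have hcard : Nat.card (T : Subgroup K) ≤ Nat.card ((P : Subgroup C).map C.subtype) := by
    rw [Nat.card_congr ((P : Subgroup C).equivMapOfInjective C.subtype C.subtype_injective).toEquiv.symm,
      T.card_eq_multiplicity, P.card_eq_multiplicity]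
    have h2 : Nat.card K = Nat.card C * C.index := (Subgroup.card_mul_index C).symm
    have h3 : (Nat.card K).factorization 2 = (Nat.card C).factorization 2 := by
      rw [h2, Nat.factorization_mul (Nat.card_pos.ne') (Subgroup.index_ne_zero_of_finite)]
      simp only [Finsupp.coe_add, Pi.add_apply]
      rw [Nat.factorization_eq_zero_of_not_dvd (n := C.index), add_zero]
      rw [← even_iff_two_dvd, Nat.not_even_iff_odd]
      exact hodd
    rw [h3]
  have heq : (P : Subgroup C).map C.subtype = (T : Subgroup K) := by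
    apply SetLike.coe_injective
    exact Set.eq_of_subset_of_ncard_le hT hcard (Set.toFinite _)
  refine ⟨T, ?_⟩
  rw [← heq]
  exact Subgroup.map_subtype_le _

/-- A normal 2-subgroup of `C` lies in every Sylow 2-subgroup of `K` contained in `C`. -/
theorem normal_le_sylow [Finite K] (C Q : Subgroup K) (hQC : Q ≤ C) (hQn : ∀ c ∈ C, ∀ q ∈ Q, c * q * c⁻¹ ∈ Q)
    (hQ : IsPGroup 2 Q) (T : Sylow 2 K) (hT : (T : Subgroup K) ≤ C) : Q ≤ (T : Subgroup K) := by
  have h1 : (T : Subgroup K) ≤ Subgroup.normalizer (Q : Set K) := by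
    intro t ht
    rw [Subgroup.mem_normalizer_iff]
    intro q
    refine ⟨fun hq => hQn t (hT ht) q hq, fun hq => ?_⟩
    have h2 := hQn t⁻¹ (inv_mem (hT ht)) _ hq
    have h3 : t⁻¹ * (t * q * t⁻¹) * t⁻¹⁻¹ = q := by group
    rwa [h3] at h2
  have h2 : IsPGroup 2 ((T : Subgroup K) ⊔ Q : Subgroup K) := by
    rw [sup_comm]
    exact hQ.to_sup_of_normal_left' T.2 h1
  have h3 : (T : Subgroup K) ⊔ Q = T := T.3 h2 le_sup_left
  rw [← h3]
  exact le_sup_right

/-- **Criterion.** `K` simple, `z` an involution whose centraliser `C` has odd index, `Q` a normal 2-subgroup of `C`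
with `[Q, Q] ≤ ⟨z⟩`, `C_C(Q) ≤ Q`, `Z(Q) ≤ ⟨z⟩`, containing all normal 2-subgroups of `C`; `C / Q` has the Schreier
property and `Q / ⟨z⟩` is a cyclic module for an element `x` of `C`. Then `K` has the Schreier property. -/
theorem sch_of_cyclic [Finite K] [IsSimpleGroup K] (hK : ¬ IsMulCommutative K) (z : K) (hz : z ^ 2 = 1)
    (hz1 : z ≠ 1) (C : Subgroup K) (hC : ∀ k : K, k ∈ C ↔ k * z = z * k) (hodd : Odd C.index)
    (Q : Subgroup K) (hQC : Q ≤ C) (hQn : ∀ c ∈ C, ∀ q ∈ Q, c * q * c⁻¹ ∈ Q) (hQ2 : IsPGroup 2 Q)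
    (hzQ : z ∈ Q) (hab : ⁅Q, Q⁆ ≤ Subgroup.zpowers z)
    (hcent : ∀ c ∈ C, (∀ q ∈ Q, c * q = q * c) → c ∈ Subgroup.zpowers z)
    {L : Type*} [Group L] (f : C →* L) (hf : Function.Surjective f) (hker : f.ker = Q.subgroupOf C) (hL : Sch L)
    (hO : ∀ N : Subgroup L, N.Normal → IsPGroup 2 N → N = ⊥)
    (x : K) (hx : x ∈ C) (c : K) (hc : c ∈ Q)
    (hgen : ∀ N : Subgroup K, z ∈ N → c ∈ N → (∀ n ∈ N, n ∈ Q → x * n * x⁻¹ ∈ N) → Q ≤ N) : Sch K := by
  haveI : Fact (Nat.Prime 2) := ⟨Nat.prime_two⟩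
  obtain ⟨T, hTC⟩ := exists_sylow_le C hodd
  have hQT := normal_le_sylow C Q hQC hQn hQ2 T hTC
  refine sch_of_sylow hK T ?_
  intro D hD hT
  -- the centre of `T`
  have hZT : (T : Subgroup K) ⊓ Subgroup.centralizer ((T : Subgroup K) : Set K) = Subgroup.zpowers z := by
    apply le_antisymm
    · rintro t ⟨ht, ht'⟩
      apply hcent t (hTC ht)
      intro q hq
      exact (Subgroup.mem_centralizer_iff.1 ht' q (hQT hq)).symm
    · rw [Subgroup.zpowers_le]
      refine ⟨hQT hzQ, Subgroup.mem_centralizer_iff.2 fun t ht => ?_⟩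
      exact (hC t).1 (hTC ht)
  have hZ : Inv D (Subgroup.zpowers z) := by
    rw [← hZT]
    exact hT.center
  have hmemz : ∀ y ∈ Subgroup.zpowers z, y = 1 ∨ y = z := by
    rintro _ ⟨n, rfl⟩
    have hz2 : z ^ (2 : ℤ) = 1 := by exact_mod_cast hz
    rcases Int.even_or_odd' n with ⟨k, rfl | rfl⟩
    · left
      show z ^ (2 * k) = 1
      rw [zpow_mul, hz2, one_zpow]
    · right
      show z ^ (2 * k + 1) = z
      rw [zpow_add, zpow_mul, hz2, one_zpow, one_mul, zpow_one]
  have hφz : ∀ φ ∈ D, φ z = z := by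
    intro φ hφ
    rcases hmemz _ (hZ.apply_mem hφ (Subgroup.mem_zpowers z)) with h | h
    · exact absurd ((MulEquiv.map_eq_one_iff φ).1 h) hz1
    · exact h
  have hTrZ : Tr D (Subgroup.zpowers z) := by
    intro φ hφ a ha
    rcases hmemz a ha with rfl | rfl
    · exact map_one φ
    · exact hφz φ hφ
  have hCinv : Inv D C := by
    refine inv_iff.2 fun φ hφ k hk => ?_
    rw [hC] at hk ⊢
    have := congrArg φ hk
    rw [map_mul, map_mul, hφz φ hφ] at this
    exact this
  have hQinv : Inv D Q := by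
    refine inv_iff.2 fun φ hφ q hq => ?_
    -- the image of `φ(Q)` in `L`
    let N : Subgroup L := ((Q.map φ.toMonoidHom).subgroupOf C).map f
    have hle : Q.map φ.toMonoidHom ≤ C := by
      rintro _ ⟨q, hq, rfl⟩
      exact hCinv.apply_mem hφ (hQC hq)
    have hNn : N.Normal := by
      have : ((Q.map φ.toMonoidHom).subgroupOf C).Normal := by
        constructor
        rintro ⟨y, hy⟩ hyQ ⟨d, hd⟩
        rw [Subgroup.mem_subgroupOf] at hyQ ⊢
        obtain ⟨q, hq, hqy⟩ := hyQ
        have h1 := hQn (φ⁻¹ d) (hCinv.apply_mem (inv_mem hφ) hd) q hq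
        refine ⟨_, h1, ?_⟩
        show φ (φ⁻¹ d * q * (φ⁻¹ d)⁻¹) = d * y * d⁻¹
        have hqy' : φ q = y := hqy
        rw [map_mul, map_mul, map_inv, MulAut.apply_inv_self, hqy']
      exact this.map f hf
    have hN2 : IsPGroup 2 N := by
      have h1 : IsPGroup 2 (Q.map φ.toMonoidHom) := hQ2.map _
      exact (h1.comap_subtype (K := C)).map f
    have hN1 := hO N hNn hN2
    have h2 : f ⟨φ q, hCinv.apply_mem hφ (hQC hq)⟩ ∈ N :=
      ⟨_, (show (⟨φ q, hCinv.apply_mem hφ (hQC hq)⟩ : C) ∈ (Q.map φ.toMonoidHom).subgroupOf C from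
        Subgroup.mem_subgroupOf.2 ⟨q, hq, rfl⟩), rfl⟩
    rw [hN1, Subgroup.mem_bot, ← MonoidHom.mem_ker, hker, Subgroup.mem_subgroupOf] at h2
    exact h2
  have hTodd : Odd ((T : Subgroup K).relIndex C) := by
    have h1 : (T : Subgroup K).relIndex C ∣ (T : Subgroup K).index := Subgroup.relIndex_dvd_index_of_le hTC
    have h2 : Odd (T : Subgroup K).index := by
      rw [← Nat.not_even_iff_odd, even_iff_two_dvd]
      exact T.not_dvd_index
    exact Odd.of_dvd_nat h2 h1
  have hCQ : TrMod D C Q := Section.trMod_of_sch_of_surjective hD hCinv hQinv hT T.2 hTodd f hf hker hL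
  have hQZ : TrMod D Q (Subgroup.zpowers z) := by
    have hzl : Subgroup.zpowers z ≤ Q := by rwa [Subgroup.zpowers_le]
    have hcz : ∀ k ∈ C, ∀ y ∈ Subgroup.zpowers z, k * y * k⁻¹ ∈ Subgroup.zpowers z := by
      intro k hk y hy
      rcases hmemz y hy with rfl | rfl
      · simp
      · rw [(hC k).1 hk]
        simp
    refine CyclicMod.trMod_of_cyclic (R := Q) hD hQinv hZ hzl hab ?_ {x} ?_ ?_ ?_ ?_ c hc ?_
    · intro r hr q hq
      have h1 : ⁅q⁻¹, r⁆ ∈ Subgroup.zpowers z := hab (Subgroup.commutator_mem_commutator (inv_mem hq) hr)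
      have h2 : q⁻¹ * (r * q * r⁻¹) = ⁅q⁻¹, r⁆ := by
        rw [commutatorElement_def]; group
      rw [h2]
      exact h1
    · intro s hs q hq
      rw [Set.mem_singleton_iff] at hs
      subst hs
      exact hQn _ hx q hq
    · intro s hs y hy
      rw [Set.mem_singleton_iff] at hs
      subst hs
      exact hcz _ hx y hy
    · intro φ hφ s hs
      rw [Set.mem_singleton_iff] at hs
      subst hs
      exact hCQ φ hφ _ hx
    · intro s hs t ht
      rw [Set.mem_singleton_iff] at hs ht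
      subst hs
      subst ht
      simp
    · intro N hN hcN hN2
      refine hgen N (hN (Subgroup.mem_zpowers z)) hcN fun n hn hnQ => hN2 x rfl n hn hnQ
  have hsolZ : Group.IsSolvable (Subgroup.zpowers z) := by infer_instance
  have hsolQ : Group.IsSolvable Q := by
    have : Group.IsNilpotent Q := hQ2.isNilpotent
    infer_instance
  have hTrQ : Tr D Q := tr_of_trMod hD hsolZ hTrZ hQZ
  exact (tr_of_trMod hD hsolQ hTrQ hCQ).mono hTC

end Cfsg.Agent.Schreier.ExtraCent
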