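import Mathlib
import Cfsg.Agent.Schreier.Tools

/-!
# Perfect groups acting on irreducible sections and commuting with operators

`trMod_of_irreducible`: `D` a perfect group of automorphisms, `Z ≤ Q` invariant subgroups with `[Q, Q] ≤ Z`, a set `S`
of operators on `Q / Z` commuting with `D` (modulo a group acting trivially) and irreducible on `Q / Z`. Then `D` acts
trivially on `Q / Z` (the centraliser of the operators is a finite division ring, so it is commutative).
-/

set_option autoImplicit false

namespace Cfsg.Agent.Schreier.IrrMod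

open Cfsg.Agent.Schreier.Basic Cfsg.Agent.Schreier.Tools

open scoped commutatorElement

/-- The centraliser of an irreducible set of operators on a finite abelian group is commutative. -/
theorem comm_of_irreducible {M : Type*} [AddCommGroup M] [Finite M] (X : Set (AddMonoid.End M))
    (hirr : ∀ N : AddSubgroup M, (∀ x ∈ X, ∀ n ∈ N, x n ∈ N) → N = ⊥ ∨ N = ⊤)
    (f g : AddMonoid.End M) (hf : ∀ x ∈ X, x * f = f * x) (hg : ∀ x ∈ X, x * g = g * x) : f * g = g * f := by
  rcases subsingleton_or_nontrivial M with hM | hM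
  · ext m
    exact Subsingleton.elim _ _
  let E : Subring (AddMonoid.End M) := Subring.centralizer X
  have hinj : ∀ a : AddMonoid.End M, a ∈ E → a ≠ 0 → ∀ m, a m = 0 → m = 0 := by
    intro a ha ha0 m hm
    let kr : AddSubgroup M :=
      { carrier := {m | a m = 0}
        zero_mem' := map_zero a
        add_mem' := by
          intro u v hu hv
          have hu' : a u = 0 := hu
          have hv' : a v = 0 := hv
          show a (u + v) = 0
          rw [map_add, hu', hv', add_zero]
        neg_mem' := by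
          intro u hu
          have hu' : a u = 0 := hu
          show a (-u) = 0
          rw [map_neg, hu', neg_zero] }
    have h1 := hirr kr (by
      intro x hx n hn
      have h2 : x * a = a * x := Subring.mem_centralizer_iff.1 ha x hx
      have hn' : a n = 0 := hn
      have h3 : a (x n) = x (a n) := (DFunLike.congr_fun h2 n).symm
      show a (x n) = 0
      rw [h3, hn', map_zero])
    rcases h1 with h1 | h1
    · have : m ∈ kr := hm
      rw [h1] at this
      exact this
    · exfalso
      apply ha0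
      ext n
      have : n ∈ kr := by rw [h1]; trivial
      exact this
  have hfinM : Finite (AddMonoid.End M) :=
    Finite.of_injective (fun (h : AddMonoid.End M) (m : M) => h m) fun _ _ h => AddMonoidHom.ext (congrFun h)
  have hfin : Finite E := inferInstance
  have : NoZeroDivisors E := by
    constructor
    rintro ⟨a, ha⟩ ⟨b, hb⟩ hab
    by_cases h : a = 0
    · left
      exact Subtype.ext h
    · right
      apply Subtype.ext
      show b = 0
      ext m
      have h1 : a * b = 0 := congrArg Subtype.val hab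
      exact hinj a ha h _ (DFunLike.congr_fun h1 m)
  have : Nontrivial E := by
    refine ⟨⟨0, 1, ?_⟩⟩
    intro h
    obtain ⟨m, hm⟩ := exists_ne (0 : M)
    apply hm
    have h1 : (0 : AddMonoid.End M) = 1 := congrArg Subtype.val h
    exact (DFunLike.congr_fun h1 m).symm
  have : IsDomain E := NoZeroDivisors.to_isDomain E
  have hfld := Finite.isDomain_to_isField E
  have h1 := hfld.mul_comm (⟨f, Subring.mem_centralizer_iff.2 hf⟩ : E) ⟨g, Subring.mem_centralizer_iff.2 hg⟩
  exact congrArg Subtype.val h1

variable {K : Type*} [Group K]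

/-- The irreducible module lemma. -/
theorem trMod_of_irreducible [Finite K] {D : Subgroup (MulAut K)} (hD : ⁅D, D⁆ = D) {Q Z R : Subgroup K}
    (hQ : Inv D Q) (hZ : Inv D Z) (hZQ : Z ≤ Q) (hab : ⁅Q, Q⁆ ≤ Z)
    (hRQ : ∀ r ∈ R, ∀ q ∈ Q, q⁻¹ * (r * q * r⁻¹) ∈ Z)
    (S : Set K) (hSQ : ∀ s ∈ S, ∀ q ∈ Q, s * q * s⁻¹ ∈ Q) (hSZ : ∀ s ∈ S, ∀ z ∈ Z, s * z * s⁻¹ ∈ Z)
    (hSD : ∀ φ ∈ D, ∀ s ∈ S, s⁻¹ * φ s ∈ R)
    (hirr : ∀ N : Subgroup K, Z ≤ N → N ≤ Q → (∀ s ∈ S, ∀ n ∈ N, s * n * s⁻¹ ∈ N) → N ≤ Z ∨ Q ≤ N) :
    TrMod D Q Z := by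
  classical
  have hZn : (Z.subgroupOf Q).Normal := by
    constructor
    intro z hz q
    rw [Subgroup.mem_subgroupOf] at hz ⊢
    have h1 : ⁅(q : K), (z : K)⁆ ∈ Z := hab (Subgroup.commutator_mem_commutator q.2 z.2)
    have h2 : ((q * z * q⁻¹ : Q) : K) = ⁅(q : K), (z : K)⁆ * z := by
      simp [commutatorElement_def]
    rw [h2]
    exact mul_mem h1 hz
  let W := Q ⧸ Z.subgroupOf Q
  have hcomm : ∀ a b : W, a * b = b * a := by
    intro a b
    induction a using QuotientGroup.induction_on with
    | H a =>
      induction b using QuotientGroup.induction_on with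
      | H b =>
        rw [← QuotientGroup.mk_mul, ← QuotientGroup.mk_mul, QuotientGroup.eq, Subgroup.mem_subgroupOf]
        have h1 : ⁅(b : K)⁻¹, (a : K)⁻¹⁆ ∈ Z :=
          hab (Subgroup.commutator_mem_commutator (inv_mem b.2) (inv_mem a.2))
        have h2 : (((a * b)⁻¹ * (b * a) : Q) : K) = ⁅(b : K)⁻¹, (a : K)⁻¹⁆ := by
          simp [commutatorElement_def, mul_assoc]
        rw [h2]
        exact h1
  letI : CommGroup W := { (inferInstance : Group W) with mul_comm := hcomm }
  -- operators
  have hop : ∀ (f : K →* K) (h1 : ∀ q ∈ Q, f q ∈ Q) (h2 : ∀ z ∈ Z, f z ∈ Z),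
      ∃ g : W →* W, ∀ q : Q, g (QuotientGroup.mk q) = QuotientGroup.mk (⟨f q, h1 q q.2⟩ : Q) := by
    intro f h1 h2
    let f' : Q →* Q :=
      { toFun := fun q => ⟨f q, h1 q q.2⟩
        map_one' := Subtype.ext (map_one f)
        map_mul' := fun a b => Subtype.ext (map_mul f _ _) }
    refine ⟨QuotientGroup.map (Z.subgroupOf Q) (Z.subgroupOf Q) f' ?_, fun q => rfl⟩
    intro z hz
    rw [Subgroup.mem_comap, Subgroup.mem_subgroupOf]
    exact h2 _ hz
  have hopD : ∀ φ : D, ∃ g : W →* W, ∀ q : Q, g (QuotientGroup.mk q) =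
      QuotientGroup.mk (⟨(φ : MulAut K) q, hQ.apply_mem φ.2 q.2⟩ : Q) := fun φ =>
    hop ((φ : MulAut K) : K ≃* K).toMonoidHom (fun q hq => hQ.apply_mem φ.2 hq) (fun z hz => hZ.apply_mem φ.2 hz)
  choose F hF using hopD
  have hopS : ∀ s : S, ∃ g : W →* W, ∀ q : Q, g (QuotientGroup.mk q) =
      QuotientGroup.mk (⟨(s : K) * q * (s : K)⁻¹, hSQ s s.2 q q.2⟩ : Q) := fun s =>
    hop (MulAut.conj (s : K)).toMonoidHom (fun q hq => hSQ s s.2 q hq) (fun z hz => hSZ s s.2 z hz)
  choose X hX using hopS
  -- equality in W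
  have heq : ∀ (a b : Q), (a : K)⁻¹ * b ∈ Z → (QuotientGroup.mk a : W) = QuotientGroup.mk b := by
    intro a b h
    rw [QuotientGroup.eq, Subgroup.mem_subgroupOf]
    exact h
  -- conjugation by an element of `R` is trivial on `W`; `u r` and `u` act in the same way
  have hRact : ∀ (u r q : K), r ∈ R → q ∈ Q → (∀ z ∈ Z, u * z * u⁻¹ ∈ Z) →
      (u * q * u⁻¹)⁻¹ * ((u * r) * q * (u * r)⁻¹) ∈ Z := by
    intro u r q hr hq hu
    have h1 := hu _ (hRQ r hr q hq)
    have h2 : (u * q * u⁻¹)⁻¹ * ((u * r) * q * (u * r)⁻¹) = u * (q⁻¹ * (r * q * r⁻¹)) * u⁻¹ := by group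
    rw [h2]
    exact h1
  -- the operators commute
  have hFX : ∀ (φ : D) (s : S) (w : W), F φ (X s w) = X s (F φ w) := by
    intro φ s w
    induction w using QuotientGroup.induction_on with
    | H q =>
      rw [hX, hF, hF, hX]
      symm
      apply heq
      show ((s : K) * ((φ : MulAut K) q) * (s : K)⁻¹)⁻¹ * (φ : MulAut K) ((s : K) * q * (s : K)⁻¹) ∈ Z
      have hr := hSD φ φ.2 s s.2
      have h1 := hRact s _ ((φ : MulAut K) q) hr (hQ.apply_mem φ.2 q.2) (hSZ s s.2)
      have h2 : (s : K) * ((s : K)⁻¹ * (φ : MulAut K) s) = (φ : MulAut K) s := by group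
      rw [h2] at h1
      rw [map_mul, map_mul, map_inv]
      exact h1
  -- additive versions
  let toEnd : (W →* W) → AddMonoid.End (Additive W) := fun g => MonoidHom.toAdditive g
  let XS : Set (AddMonoid.End (Additive W)) := Set.range fun s : S => toEnd (X s)
  have hcommF : ∀ (φ ψ : D) (w : W), F φ (F ψ w) = F ψ (F φ w) := by
    intro φ ψ w
    have h1 : toEnd (F φ) * toEnd (F ψ) = toEnd (F ψ) * toEnd (F φ) := by
      refine comm_of_irreducible XS ?_ _ _ ?_ ?_
      · intro N hN
        -- the preimage of `N` in `K`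
        let P : Subgroup K :=
          { carrier := {k | ∃ hk : k ∈ Q, Additive.ofMul (QuotientGroup.mk (⟨k, hk⟩ : Q) : W) ∈ N}
            one_mem' := ⟨one_mem _, by
              have : (QuotientGroup.mk (⟨1, one_mem Q⟩ : Q) : W) = 1 := rfl
              rw [this]
              exact zero_mem N⟩
            mul_mem' := by
              rintro a b ⟨ha, ha'⟩ ⟨hb, hb'⟩
              exact ⟨mul_mem ha hb, add_mem ha' hb'⟩
            inv_mem' := by
              rintro a ⟨ha, ha'⟩
              exact ⟨inv_mem ha, neg_mem ha'⟩ }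
        have hP := hirr P ?_ ?_ ?_
        · rcases hP with hP | hP
          · left
            rw [eq_bot_iff]
            intro w hw
            obtain ⟨q, hq⟩ := QuotientGroup.mk_surjective w.toMul
            have h2 : (q : K) ∈ P := by
              refine ⟨q.2, ?_⟩
              have : (Additive.ofMul (QuotientGroup.mk (⟨(q : K), q.2⟩ : Q) : W)) = w := by
                rw [show (⟨(q : K), q.2⟩ : Q) = q from rfl, hq]
                rfl
              rw [this]
              exact hw
            have h3 := hP h2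
            rw [AddSubgroup.mem_bot]
            have h4 : (QuotientGroup.mk q : W) = 1 := by
              rw [QuotientGroup.eq_one_iff, Subgroup.mem_subgroupOf]
              exact h3
            rw [h4] at hq
            exact congrArg Additive.ofMul hq.symm
          · right
            rw [AddSubgroup.eq_top_iff']
            intro w
            obtain ⟨q, hq⟩ := QuotientGroup.mk_surjective w.toMul
            obtain ⟨hk, hk'⟩ := hP q.2
            have : (Additive.ofMul (QuotientGroup.mk (⟨(q : K), hk⟩ : Q) : W)) = w := by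
              rw [show (⟨(q : K), hk⟩ : Q) = q from rfl, hq]
              rfl
            rw [← this]
            exact hk'
        · intro z hz
          refine ⟨hZQ hz, ?_⟩
          have : (QuotientGroup.mk (⟨z, hZQ hz⟩ : Q) : W) = 1 := by
            rw [QuotientGroup.eq_one_iff, Subgroup.mem_subgroupOf]
            exact hz
          rw [this]
          exact zero_mem N
        · rintro k ⟨hk, _⟩
          exact hk
        · rintro s hs n ⟨hn, hn'⟩
          refine ⟨hSQ s hs n hn, ?_⟩
          have h1 := hN _ ⟨⟨s, hs⟩, rfl⟩ _ hn'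
          have h2 : toEnd (X ⟨s, hs⟩) (Additive.ofMul (QuotientGroup.mk (⟨n, hn⟩ : Q) : W)) =
              Additive.ofMul (QuotientGroup.mk (⟨s * n * s⁻¹, hSQ s hs n hn⟩ : Q) : W) :=
            congrArg Additive.ofMul (hX ⟨s, hs⟩ ⟨n, hn⟩)
          rw [h2] at h1
          exact h1
      · rintro _ ⟨s, rfl⟩
        ext w
        exact (congrArg Additive.ofMul (hFX φ s w.toMul)).symm
      · rintro _ ⟨s, rfl⟩
        ext w
        exact (congrArg Additive.ofMul (hFX ψ s w.toMul)).symm
    exact congrArg Additive.toMul (DFunLike.congr_fun h1 (Additive.ofMul w))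
  -- now the homomorphism
  have hFmul : ∀ (φ ψ : D) (w : W), F (φ * ψ) w = F φ (F ψ w) := by
    intro φ ψ w
    induction w using QuotientGroup.induction_on with
    | H q => rw [hF, hF, hF]; rfl
  have hF1 : ∀ w : W, F 1 w = w := by
    intro w
    induction w using QuotientGroup.induction_on with
    | H q => rw [hF]; rfl
  let f : D →* Equiv.Perm W :=
    { toFun := fun φ =>
        { toFun := F φ
          invFun := F φ⁻¹
          left_inv := fun w => by rw [← hFmul, inv_mul_cancel, hF1]
          right_inv := fun w => by rw [← hFmul, mul_inv_cancel, hF1] }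
      map_one' := by
        ext w
        exact hF1 w
      map_mul' := fun φ ψ => by
        ext w
        exact hFmul φ ψ w }
  have hcomm' : ∀ a b : f.range, a * b = b * a := by
    rintro ⟨_, φ, rfl⟩ ⟨_, ψ, rfl⟩
    apply Subtype.ext
    ext w
    exact hcommF φ ψ w
  have hsol : Group.IsSolvable f.range := by
    letI : CommGroup f.range := { (inferInstance : Group f.range) with mul_comm := hcomm' }
    exact Group.isSolvable_of_comm hcomm'
  intro φ hφ q hq
  have h1 := hom_eq_one hD f.rangeRestrict ⟨φ, hφ⟩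
  have h2 : f ⟨φ, hφ⟩ (QuotientGroup.mk (⟨q, hq⟩ : Q)) = QuotientGroup.mk (⟨q, hq⟩ : Q) := by
    have := congrArg (fun x : f.range => (x : Equiv.Perm W) (QuotientGroup.mk (⟨q, hq⟩ : Q))) h1
    exact this
  have h3 : (QuotientGroup.mk (⟨φ q, hQ.apply_mem hφ hq⟩ : Q) : W) = QuotientGroup.mk (⟨q, hq⟩ : Q) := by
    rw [← h2]
    exact (hF ⟨φ, hφ⟩ ⟨q, hq⟩).symm
  have h4 := h3.symm
  rw [QuotientGroup.eq, Subgroup.mem_subgroupOf] at h4
  exact h4

end Cfsg.Agent.Schreier.IrrMod
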