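import Mathlib
import Cfsg.Agent.Schreier.Crit
import Cfsg.Agent.Schreier.Section
import Cfsg.Agent.Schreier.IrrMod
import Cfsg.Agent.Schreier.ExtraCent

/-!
# Simple groups with an involution centraliser `2^{1+2n}.L`, `L` irreducible on `2^{2n}`
-/

set_option autoImplicit false

namespace Cfsg.Agent.Schreier.ExtraIrr

open Cfsg.Agent.Schreier.Basic Cfsg.Agent.Schreier.Tools Cfsg.Agent.Schreier.Crit Cfsg.Agent.Schreier.ExtraCent

variable {K : Type*} [Group K]

open scoped commutatorElement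

/-- **Criterion.** `K` simple, `z` an involution whose centraliser `C` has odd index, `Q` a normal 2-subgroup of `C`
with `[Q, Q] ≤ ⟨z⟩`, `C_C(Q) ≤ ⟨z⟩`, containing all normal 2-subgroups of `C`; `C / Q` has the Schreier property and
`C` is irreducible on `Q / ⟨z⟩`. Then `K` has the Schreier property. -/
theorem sch_of_irreducible [Finite K] [IsSimpleGroup K] (hK : ¬ IsMulCommutative K) (z : K) (hz : z ^ 2 = 1)
    (hz1 : z ≠ 1) (C : Subgroup K) (hC : ∀ k : K, k ∈ C ↔ k * z = z * k) (hodd : Odd C.index)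
    (Q : Subgroup K) (hQC : Q ≤ C) (hQn : ∀ c ∈ C, ∀ q ∈ Q, c * q * c⁻¹ ∈ Q) (hQ2 : IsPGroup 2 Q)
    (hzQ : z ∈ Q) (hab : ⁅Q, Q⁆ ≤ Subgroup.zpowers z)
    (hcent : ∀ c ∈ C, (∀ q ∈ Q, c * q = q * c) → c ∈ Subgroup.zpowers z)
    {L : Type*} [Group L] (f : C →* L) (hf : Function.Surjective f) (hker : f.ker = Q.subgroupOf C) (hL : Sch L)
    (hO : ∀ N : Subgroup L, N.Normal → IsPGroup 2 N → N = ⊥)
    (hirr : ∀ N : Subgroup K, z ∈ N → N ≤ Q → (∀ c ∈ C, ∀ n ∈ N, c * n * c⁻¹ ∈ N) →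
      N ≤ Subgroup.zpowers z ∨ Q ≤ N) : Sch K := by
  haveI : Fact (Nat.Prime 2) := ⟨Nat.prime_two⟩
  obtain ⟨T, hTC⟩ := exists_sylow_le C hodd
  have hQT := normal_le_sylow C Q hQC hQn hQ2 T hTC
  refine sch_of_sylow hK T ?_
  intro D hD hT
  -- the centre of `T`
  have hZT : (T : Subgroup K) ⊓ Subgroup.centralizer ((T : Subgroup K) : Set K) = Subgroup.zpowers z := by
    apply le_antisymm
    · rintro t ⟨ht, ht'⟩
      apply hcent t (hTC ht)
      intro q hq
      exact (Subgroup.mem_centralizer_iff.1 ht' q (hQT hq)).symm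
    · rw [Subgroup.zpowers_le]
      refine ⟨hQT hzQ, Subgroup.mem_centralizer_iff.2 fun t ht => ?_⟩
      exact (hC t).1 (hTC ht)
  have hZ : Inv D (Subgroup.zpowers z) := by
    rw [← hZT]
    exact hT.center
  have hmemz : ∀ y ∈ Subgroup.zpowers z, y = 1 ∨ y = z := by
    rintro _ ⟨n, rfl⟩
    have hz2 : z ^ (2 : ℤ) = 1 := by exact_mod_cast hz
    rcases Int.even_or_odd' n with ⟨k, rfl | rfl⟩
    · left
      show z ^ (2 * k) = 1
      rw [zpow_mul, hz2, one_zpow]
    · right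
      show z ^ (2 * k + 1) = z
      rw [zpow_add, zpow_mul, hz2, one_zpow, one_mul, zpow_one]
  have hφz : ∀ φ ∈ D, φ z = z := by
    intro φ hφ
    rcases hmemz _ (hZ.apply_mem hφ (Subgroup.mem_zpowers z)) with h | h
    · exact absurd ((MulEquiv.map_eq_one_iff φ).1 h) hz1
    · exact h
  have hTrZ : Tr D (Subgroup.zpowers z) := by
    intro φ hφ a ha
    rcases hmemz a ha with rfl | rfl
    · exact map_one φ
    · exact hφz φ hφ
  have hCinv : Inv D C := by
    refine inv_iff.2 fun φ hφ k hk => ?_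
    rw [hC] at hk ⊢
    have := congrArg φ hk
    rw [map_mul, map_mul, hφz φ hφ] at this
    exact this
  have hQinv : Inv D Q := by
    refine inv_iff.2 fun φ hφ q hq => ?_
    -- the image of `φ(Q)` in `L`
    let N : Subgroup L := ((Q.map φ.toMonoidHom).subgroupOf C).map f
    have hle : Q.map φ.toMonoidHom ≤ C := by
      rintro _ ⟨q, hq, rfl⟩
      exact hCinv.apply_mem hφ (hQC hq)
    have hNn : N.Normal := by
      have : ((Q.map φ.toMonoidHom).subgroupOf C).Normal := by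
        constructor
        rintro ⟨y, hy⟩ hyQ ⟨d, hd⟩
        rw [Subgroup.mem_subgroupOf] at hyQ ⊢
        obtain ⟨q, hq, hqy⟩ := hyQ
        have h1 := hQn (φ⁻¹ d) (hCinv.apply_mem (inv_mem hφ) hd) q hq
        refine ⟨_, h1, ?_⟩
        show φ (φ⁻¹ d * q * (φ⁻¹ d)⁻¹) = d * y * d⁻¹
        have hqy' : φ q = y := hqy
        rw [map_mul, map_mul, map_inv, MulAut.apply_inv_self, hqy']
      exact this.map f hf
    have hN2 : IsPGroup 2 N := by
      have h1 : IsPGroup 2 (Q.map φ.toMonoidHom) := hQ2.map _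
      exact (h1.comap_subtype (K := C)).map f
    have hN1 := hO N hNn hN2
    have h2 : f ⟨φ q, hCinv.apply_mem hφ (hQC hq)⟩ ∈ N :=
      ⟨_, (show (⟨φ q, hCinv.apply_mem hφ (hQC hq)⟩ : C) ∈ (Q.map φ.toMonoidHom).subgroupOf C from
        Subgroup.mem_subgroupOf.2 ⟨q, hq, rfl⟩), rfl⟩
    rw [hN1, Subgroup.mem_bot, ← MonoidHom.mem_ker, hker, Subgroup.mem_subgroupOf] at h2
    exact h2
  have hTodd : Odd ((T : Subgroup K).relIndex C) := by
    have h1 : (T : Subgroup K).relIndex C ∣ (T : Subgroup K).index := Subgroup.relIndex_dvd_index_of_le hTC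
    have h2 : Odd (T : Subgroup K).index := by
      rw [← Nat.not_even_iff_odd, even_iff_two_dvd]
      exact T.not_dvd_index
    exact Odd.of_dvd_nat h2 h1
  have hCQ : TrMod D C Q := Section.trMod_of_sch_of_surjective hD hCinv hQinv hT T.2 hTodd f hf hker hL
  have hQZ : TrMod D Q (Subgroup.zpowers z) := by
    have hzl : Subgroup.zpowers z ≤ Q := by rwa [Subgroup.zpowers_le]
    have hcz : ∀ k ∈ C, ∀ y ∈ Subgroup.zpowers z, k * y * k⁻¹ ∈ Subgroup.zpowers z := by
      intro k hk y hy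
      rcases hmemz y hy with rfl | rfl
      · simp
      · rw [(hC k).1 hk]
        simp
    refine IrrMod.trMod_of_irreducible (R := Q) hD hQinv hZ hzl hab ?_ (C : Set K) ?_ ?_ ?_ ?_
    · intro r hr q hq
      have h1 : ⁅q⁻¹, r⁆ ∈ Subgroup.zpowers z := hab (Subgroup.commutator_mem_commutator (inv_mem hq) hr)
      have h2 : q⁻¹ * (r * q * r⁻¹) = ⁅q⁻¹, r⁆ := by
        rw [commutatorElement_def]; group
      rw [h2]
      exact h1
    · intro s hs q hq
      exact hQn _ hs q hq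
    · intro s hs y hy
      exact hcz _ hs y hy
    · intro φ hφ s hs
      exact hCQ φ hφ _ hs
    · intro N hN hNQ hN2
      exact hirr N (hN (Subgroup.mem_zpowers z)) hNQ hN2
  have hsolZ : Group.IsSolvable (Subgroup.zpowers z) := by infer_instance
  have hsolQ : Group.IsSolvable Q := by
    have : Group.IsNilpotent Q := hQ2.isNilpotent
    infer_instance
  have hTrQ : Tr D Q := tr_of_trMod hD hsolZ hTrZ hQZ
  exact (tr_of_trMod hD hsolQ hTrQ hCQ).mono hTC

end Cfsg.Agent.Schreier.ExtraIrr
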