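import Cfsg.Agent.HN.TSyl
import Cfsg.Agent.HN.Simple
import Cfsg.Agent.Schreier.Crit
import Cfsg.Agent.Schreier.Flag

/-!
# The Schreier property of the Harada–Norton group, from its order

The Sylow 2-subgroup `T = Pc s 14` (order `2 ^ 14`) has the characteristic subgroups `Pc s 12` and
`Pc s 10 = [T, T]`, and the indices of the chain are 4.
-/

set_option autoImplicit false

namespace Cfsg.Agent.Schreier.HNCore

open Cfsg.Agent.Schreier.Basic Cfsg.Agent.Schreier.Tools Cfsg.Agent.Schreier.Flag Cfsg.Agent.Schreier.Crit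
open Cfsg.Agent.HN.Rep Cfsg.Agent.HN.TGroup Cfsg.Agent.HN.PC Cfsg.Agent.HN.TRel Cfsg.Agent.HN.TSyl
open scoped commutatorElement

section

variable (hinj : Function.Injective rho) [Finite Cfsg.Spor.HN] {D : Subgroup (MulAut Cfsg.Spor.HN)}
include hinj

omit [Finite Cfsg.Spor.HN] in
theorem inv_step {k l : ℕ} (hk : k ≤ 14) (hl : l ≤ 10) (h : ∀ i < k, lev i ≤ l) (h' : ∀ i < l, ci i < k)
    (hT : Inv D (Pc s 14)) (hA : Inv D (Pc s k)) : Inv D (Pc s l) := by
  rw [← commutator_eq hinj hk hl h h']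
  exact hT.commutator hA

omit [Finite Cfsg.Spor.HN] in
theorem inv10 (hT : Inv D (Pc s 14)) : Inv D (Pc s 10) :=
  inv_step hinj (by norm_num) (by norm_num) (by decide) (by decide) hT hT

omit [Finite Cfsg.Spor.HN] in
theorem inv3 (hT : Inv D (Pc s 14)) : Inv D (Pc s 3) :=
  inv_step hinj (k := 5) (by norm_num) (by norm_num) (by decide) (by decide) hT
    (inv_step hinj (k := 7) (by norm_num) (by norm_num) (by decide) (by decide) hT
      (inv_step hinj (k := 10) (by norm_num) (by norm_num) (by decide) (by decide) hT (inv10 hinj hT)))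

omit [Finite Cfsg.Spor.HN] in
theorem inv2 (hT : Inv D (Pc s 14)) : Inv D (Pc s 2) :=
  inv_step hinj (k := 3) (by norm_num) (by norm_num) (by decide) (by decide) hT (inv3 hinj hT)

omit [Finite Cfsg.Spor.HN] in
theorem inv1 (hT : Inv D (Pc s 14)) : Inv D (Pc s 1) :=
  inv_step hinj (k := 2) (by norm_num) (by norm_num) (by decide) (by decide) hT (inv2 hinj hT)

theorem inv12 (hT : Inv D (Pc s 14)) : Inv D (Pc s 12) := by
  refine inv_iff.2 fun φ hφ x hx => ?_
  rw [mem_M_iff hinj] at hx ⊢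
  obtain ⟨h0, h1, h2⟩ := hx
  refine ⟨hT.apply_mem hφ h0, fun y hy => ?_, fun y hy => ?_⟩
  · have h3 := h1 _ ((inv2 hinj hT).apply_mem (inv_mem hφ) hy)
    rw [Subgroup.mem_bot] at h3 ⊢
    have h4 := congrArg φ h3
    rwa [map_commutatorElement, MulAut.apply_inv_self, map_one] at h4
  · have h3 := h2 _ ((inv3 hinj hT).apply_mem (inv_mem hφ) hy)
    have h4 := (inv1 hinj hT).apply_mem hφ h3
    rwa [map_commutatorElement, MulAut.apply_inv_self] at h4

theorem relIndex_Pc {k l : ℕ} (hkl : k ≤ l) (hl : l ≤ 14) : (Pc s k).relIndex (Pc s l) = 2 ^ (l - k) := by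
  have h1 : Nat.card ((Pc s k).subgroupOf (Pc s l)) = Nat.card (Pc s k) :=
    Nat.card_congr (Subgroup.subgroupOfEquivOfLe (Pc_mono hkl)).toEquiv
  have h2 := ((Pc s k).subgroupOf (Pc s l)).card_mul_index
  rw [h1, card_Pc hinj (hkl.trans hl), card_Pc hinj hl] at h2
  have h3 : (2 : ℕ) ^ l = 2 ^ k * 2 ^ (l - k) := by rw [← pow_add]; congr 1; omega
  rw [h3] at h2
  exact Nat.eq_of_mul_eq_mul_left (Nat.two_pow_pos k) h2

theorem isPGroup : IsPGroup 2 (Pc s 14) := IsPGroup.of_card (card_Pc14 hinj)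

/-- perfect groups of automorphisms normalising `T` centralise `T`. -/
theorem tr (hD : ⁅D, D⁆ = D) (hT : Inv D (Pc s 14)) : Tr D (Pc s 14) := by
  have h2 := isPGroup hinj
  apply tr_of_trMod_phi hD h2 hT
  have r1 := relIndex_Pc hinj (k := 12) (l := 14) (by norm_num) (by norm_num)
  have r2 := relIndex_Pc hinj (k := 10) (l := 12) (by norm_num) (by norm_num)
  have m1 : TrMod D (Pc s 14) (Pc s 12) := trMod_of_relIndex_le_four hD hT (inv12 hinj hT)
    (by rw [r1]; norm_num) (by rw [r1]; norm_num)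
  have m2 : TrMod D (Pc s 12) (Pc s 10) := trMod_of_relIndex_le_four hD (inv12 hinj hT) (inv10 hinj hT)
    (by rw [r2]; norm_num) (by rw [r2]; norm_num)
  have m3 : TrMod D (Pc s 14) (Pc s 10) := TrMod.trans hD
    (fun a ha c hc => norm hinj (by norm_num) ha hc) (Pc_mono (by norm_num))
    (isSolvable_of_le h2 (Pc_mono (by norm_num))) m1 m2
  have h10 : Pc s 10 ≤ phi (Pc s 14) := by
    rw [← commutator_eq hinj (k := 14) (l := 10) (by norm_num) (by norm_num) (by decide) (by decide),
      Subgroup.commutator_le]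
    intro a ha b hb
    exact commutator_mem_phi h2 ha hb
  intro φ hφ a ha
  exact h10 (m3 φ hφ a ha)

end

/-- The Schreier property, from simplicity and order. -/
theorem sch_of_isHN [Finite Cfsg.Spor.HN] (h : Cfsg.IsHN Cfsg.Spor.HN) : Sch Cfsg.Spor.HN := by
  have hs : IsSimpleGroup Cfsg.Spor.HN := h.1
  have hc : Nat.card Cfsg.Spor.HN = 273030912000000 := h.2
  have hinj := Cfsg.Agent.HN.Simple.rho_injective hc.le
  have hf : (Nat.card Cfsg.Spor.HN).factorization 2 = 14 := by
    rw [hc, show (273030912000000 : ℕ) = 2 ^ 14 * 16664484375 by norm_num]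
    have h2 : (16664484375 : ℕ).factorization 2 = 0 := Nat.factorization_eq_zero_of_not_dvd (by norm_num)
    rw [Nat.factorization_mul (by norm_num) (by norm_num), Nat.Prime.factorization_pow Nat.prime_two,
      Finsupp.add_apply, h2, Finsupp.single_eq_same]
  exact sch_of_sylow (not_comm hinj) (Sylow.ofCard (Pc s 14) (by rw [hf]; exact card_Pc14 hinj))
    (fun D hD hT => tr hinj hD hT)

end Cfsg.Agent.Schreier.HNCore
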