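import Cfsg.Agent.Schreier.Cocode
import Cfsg.Agent.J4Type.DuadCode
import Cfsg.Agent.J4Type.Final

/-!
# The Schreier property of J4 (R20, helper552)

`EJ` (order `2^11` in `Cfsg.Spor.J4`) is the even Golay cocode: duads are the conjugates of `d`.
-/

set_option autoImplicit false

open Cfsg

namespace Cfsg.Agent.Schreier.J4Core

open Cfsg.Agent.SporadicA.GolayBase Cfsg.Agent.J4Type.CocodeMask
open Cfsg.Agent.J4Type.DuadStab Cfsg.Agent.Schreier.CocodeSmall Cfsg.Agent.Schreier.Basic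
open Cfsg.Agent.J4.Invol (EJ s d)
open Cfsg.Agent.J4.M24Hom (XM YM X Y closure_XYM)
open Cfsg.Agent.J4.Rep112 (rho)
open Cfsg.Agent.J4.Lower (qs Q)
open Cfsg.Agent.J4.ClassesData (Ax Ay)
open Cfsg.Agent.J4.Classes (hyp psi psi_norm)
open Cfsg.Agent.J4Type.DuadCode (em linE)

/-! ### The masks -/

/-- change of coordinates on the even cocode -/
def LL : ℕ → ℕ := fun i =>
  [1713, 383, 376, 957, 377, 217, 1862, 1496, 27, 1749, 1347].getD i 0

/-- the inverse change of coordinates -/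
def LI : ℕ → ℕ := fun i =>
  [20, 1388, 1406, 1475, 443, 1715, 460, 1408, 771, 298, 951].getD i 0

theorem LL_aux : allR 11 0 (fun a => bif Nat.beq (lin LL a) 0 then Nat.beq a 0 else true) = true := by
  decide +kernel

theorem LL_lt_aux : allR 11 0 (fun a => Nat.blt (lin LL a) 2048) = true := by
  decide +kernel

theorem LI_aux : allR 11 0 (fun a => Nat.beq (lin LL (lin LI a)) a) = true := by
  decide +kernel

theorem LI_lt_aux : allR 11 0 (fun a => Nat.blt (lin LI a) 2048) = true := by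
  decide +kernel

theorem LL_inj {a : ℕ} (ha : a < 2048) (h : lin LL a = 0) : a = 0 := by
  have h1 := allR_zero_spec LL_aux a ha
  rw [h] at h1
  exact Nat.eq_of_beq_eq_true h1

theorem LL_lt {a : ℕ} (ha : a < 2048) : lin LL a < 2048 := by
  have h := allR_zero_spec LL_lt_aux a ha
  rwa [Nat.blt_eq] at h

theorem LI_lt {a : ℕ} (ha : a < 2048) : lin LI a < 2048 := by
  have h := allR_zero_spec LI_lt_aux a ha
  rwa [Nat.blt_eq] at h

theorem LL_LI {a : ℕ} (ha : a < 2048) : lin LL (lin LI a) = a :=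
  Nat.eq_of_beq_eq_true (allR_zero_spec LI_aux a ha)

/-- the mask of the point `p` -/
def um (p : GolayPt) : ℕ := lin LL (em (idx p))

theorem um_X : ∀ p : GolayPt, Cfsg.Agent.J4.Beta.lin Ax (um p) = um (X p) ^^^ um (X none) := by
  decide +kernel

theorem um_Y : ∀ p : GolayPt, Cfsg.Agent.J4.Beta.lin Ay (um p) = um (Y.symm p) ^^^ um (Y.symm none) := by
  decide +kernel

theorem um_d : um (some 3) ^^^ um (some 8) = 5 := by decide +kernel

/-! ### The elements -/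

theorem exists_eb (v : ℕ) : ∃ a : EJ, rho (a : Spor.J4) = Cfsg.Agent.J4.Beta.beta qs v := by
  have h1 : Cfsg.Agent.J4.Beta.beta qs v ∈ Q :=
    Cfsg.Agent.J4.Beta.beta_mem Q qs (fun a ha => Subgroup.subset_closure ha) _
  rw [← Cfsg.Agent.J4.Invol.map_EJ] at h1
  obtain ⟨a, ha, h⟩ := h1
  exact ⟨⟨a, ha⟩, h⟩

/-- the element of `EJ` with mask `v` -/
noncomputable def eb (v : ℕ) : EJ := (exists_eb v).choose

theorem rho_eb (v : ℕ) : rho (eb v : Spor.J4) = Cfsg.Agent.J4.Beta.beta qs v := (exists_eb v).choose_spec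

/-- the element of `EJ` attached to the point `p` -/
noncomputable def pe (p : GolayPt) : EJ := eb (um p)

variable (inj : Function.Injective rho)

include inj

theorem eb_xor (v w : ℕ) : eb (v ^^^ w) = eb v * eb w := by
  apply Subtype.ext
  apply inj
  rw [Subgroup.coe_mul, map_mul, rho_eb, rho_eb, rho_eb]
  exact Cfsg.Agent.J4.Beta.beta_xor qs hyp.sq hyp.comm v w

theorem phi_xor (a b : ℕ) : eb (lin LL (a ^^^ b)) = eb (lin LL a) * eb (lin LL b) := by
  rw [lin_xor, eb_xor inj]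

theorem phi_inj (a : ℕ) (ha : a < 2048) (h : eb (lin LL a) = 1) : a = 0 := by
  apply LL_inj ha
  have h1 : Cfsg.Agent.J4.Beta.beta qs (lin LL a) = 1 := by
    rw [← rho_eb, h, Subgroup.coe_one, map_one]
  exact Cfsg.Agent.J4.Beta.beta_inj_one hyp.ind (by rw [hyp.len]; exact LL_lt ha) h1

/-- `EJ` is commutative. -/
@[reducible] def commEJ : CommGroup EJ :=
  { (inferInstance : Group EJ) with
    mul_comm := fun a b => Subtype.ext (Cfsg.Agent.J4.Invol.EJ_comm inj a b a.2 b.2) }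

theorem pres : @Pres EJ (commEJ inj) pe := by
  let _ : CommGroup EJ := commEJ inj
  refine ⟨?_, ?_⟩
  · exact Cfsg.Agent.J4Type.DuadCode.isCocode (Φ := fun a => eb (lin LL a)) (phi_xor inj) (phi_inj inj)
  · intro a
    obtain ⟨v, hv, h⟩ := Cfsg.Agent.J4.Beta.exists_beta hyp.sq hyp.comm
      ((Cfsg.Agent.J4.Invol.mem_EJ_iff inj a).mp a.2)
    rw [hyp.len] at hv
    have h1 : a = eb (lin LL (lin LI v)) := by
      apply Subtype.ext
      apply inj
      rw [LL_LI hv, rho_eb, h]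
    rw [h1]
    exact Cfsg.Agent.J4Type.DuadCode.exists_prod (Φ := fun a => eb (lin LL a)) (phi_xor inj) (LI_lt hv)

theorem pe_mul (p q : GolayPt) : rho ((pe p : Spor.J4) * (pe q : Spor.J4)) = Cfsg.Agent.J4.Beta.beta qs (um p ^^^ um q) := by
  rw [map_mul, pe, pe, rho_eb, rho_eb]
  exact (Cfsg.Agent.J4.Beta.beta_xor qs hyp.sq hyp.comm _ _).symm

theorem conj_X (p : GolayPt) : Cfsg.Agent.J4.Pres.phi XM * (pe p : Spor.J4) * (Cfsg.Agent.J4.Pres.phi XM)⁻¹ =
    (pe (X p) : Spor.J4) * (pe (X none) : Spor.J4) := by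
  apply inj
  rw [pe_mul inj, ← um_X, map_mul, map_mul, map_inv, pe, rho_eb]
  exact hyp.actX (um p)

theorem conj_Y (p : GolayPt) :
    (Cfsg.Agent.J4.Pres.phi YM)⁻¹ * (pe p : Spor.J4) * ((Cfsg.Agent.J4.Pres.phi YM)⁻¹)⁻¹ =
    (pe (Y.symm p) : Spor.J4) * (pe (Y.symm none) : Spor.J4) := by
  apply inj
  rw [pe_mul inj, ← um_Y, map_mul, map_mul, map_inv, map_inv, map_inv, pe, rho_eb]
  exact hyp.actY (um p)

theorem pe_sq (p : GolayPt) : (pe p : Spor.J4) * (pe p : Spor.J4) = 1 :=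
  Cfsg.Agent.J4.Invol.EJ_sq inj _ (pe p).2

theorem conj_XX (p q : GolayPt) : Cfsg.Agent.J4.Pres.phi XM * ((pe p : Spor.J4) * (pe q : Spor.J4)) *
    (Cfsg.Agent.J4.Pres.phi XM)⁻¹ = (pe (X p) : Spor.J4) * (pe (X q) : Spor.J4) := by
  have h1 : Cfsg.Agent.J4.Pres.phi XM * ((pe p : Spor.J4) * (pe q : Spor.J4)) *
      (Cfsg.Agent.J4.Pres.phi XM)⁻¹ =
      (Cfsg.Agent.J4.Pres.phi XM * (pe p : Spor.J4) * (Cfsg.Agent.J4.Pres.phi XM)⁻¹) *
      (Cfsg.Agent.J4.Pres.phi XM * (pe q : Spor.J4) * (Cfsg.Agent.J4.Pres.phi XM)⁻¹) := by group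
  have hc := Cfsg.Agent.J4.Invol.EJ_comm inj _ _ (pe (X none)).2 (pe (X q)).2
  rw [h1, conj_X inj, conj_X inj, ← hc, mul_assoc, ← mul_assoc (pe (X none) : Spor.J4),
    pe_sq inj, one_mul]

theorem conj_YY (p q : GolayPt) : (Cfsg.Agent.J4.Pres.phi YM)⁻¹ * ((pe p : Spor.J4) * (pe q : Spor.J4)) *
    ((Cfsg.Agent.J4.Pres.phi YM)⁻¹)⁻¹ = (pe (Y.symm p) : Spor.J4) * (pe (Y.symm q) : Spor.J4) := by
  have h1 : (Cfsg.Agent.J4.Pres.phi YM)⁻¹ * ((pe p : Spor.J4) * (pe q : Spor.J4)) *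
      ((Cfsg.Agent.J4.Pres.phi YM)⁻¹)⁻¹ =
      ((Cfsg.Agent.J4.Pres.phi YM)⁻¹ * (pe p : Spor.J4) * ((Cfsg.Agent.J4.Pres.phi YM)⁻¹)⁻¹) *
      ((Cfsg.Agent.J4.Pres.phi YM)⁻¹ * (pe q : Spor.J4) * ((Cfsg.Agent.J4.Pres.phi YM)⁻¹)⁻¹) := by group
  have hc := Cfsg.Agent.J4.Invol.EJ_comm inj _ _ (pe (Y.symm none)).2 (pe (Y.symm q)).2
  rw [h1, conj_Y inj, conj_Y inj, ← hc, mul_assoc, ← mul_assoc (pe (Y.symm none) : Spor.J4),
    pe_sq inj, one_mul]

/-- `M24` permutes the duads. -/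
theorem conj_pair (m : M24) (p q : GolayPt) :
    Cfsg.Agent.J4.Pres.phi m * ((pe p : Spor.J4) * (pe q : Spor.J4)) * (Cfsg.Agent.J4.Pres.phi m)⁻¹ =
      (pe ((m : Equiv.Perm GolayPt) p) : Spor.J4) * (pe ((m : Equiv.Perm GolayPt) q) : Spor.J4) := by
  let S : Subgroup M24 :=
    { carrier := {m | ∀ p q : GolayPt, Cfsg.Agent.J4.Pres.phi m *
        ((pe p : Spor.J4) * (pe q : Spor.J4)) * (Cfsg.Agent.J4.Pres.phi m)⁻¹ =
        (pe ((m : Equiv.Perm GolayPt) p) : Spor.J4) * (pe ((m : Equiv.Perm GolayPt) q) : Spor.J4)}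
      one_mem' := by
        intro p q
        rw [map_one, one_mul, inv_one, mul_one]
        rfl
      mul_mem' := by
        intro g h hg hh p q
        have h1 : Cfsg.Agent.J4.Pres.phi (g * h) * ((pe p : Spor.J4) * (pe q : Spor.J4)) *
            (Cfsg.Agent.J4.Pres.phi (g * h))⁻¹ = Cfsg.Agent.J4.Pres.phi g *
            (Cfsg.Agent.J4.Pres.phi h * ((pe p : Spor.J4) * (pe q : Spor.J4)) *
            (Cfsg.Agent.J4.Pres.phi h)⁻¹) * (Cfsg.Agent.J4.Pres.phi g)⁻¹ := by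
          rw [map_mul]; group
        rw [h1, hh, hg]
        rfl
      inv_mem' := by
        intro g hg p q
        have h1 := hg (((g⁻¹ : M24) : Equiv.Perm GolayPt) p) (((g⁻¹ : M24) : Equiv.Perm GolayPt) q)
        have e1 : ∀ p : GolayPt, (g : Equiv.Perm GolayPt) (((g⁻¹ : M24) : Equiv.Perm GolayPt) p) = p := by
          intro p
          exact (g : Equiv.Perm GolayPt).apply_symm_apply p
        rw [e1, e1] at h1
        rw [← h1, map_inv]
        group }
  have hX : XM ∈ S := fun p q => conj_XX inj p q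
  have hY : YM⁻¹ ∈ S := by
    intro p q
    rw [map_inv]
    exact conj_YY inj p q
  have hS : S = ⊤ := by
    rw [eq_top_iff, ← closure_XYM, Subgroup.closure_le]
    rintro g (rfl | rfl)
    · exact hX
    · have := S.inv_mem hY
      rwa [inv_inv] at this
  have hm : m ∈ S := by rw [hS]; trivial
  exact hm p q

/-- conjugation by `phi m` on `EJ` -/
noncomputable def conjHom (m : M24) : EJ →* EJ :=
  MonoidHom.mk' (fun a => ⟨Cfsg.Agent.J4.Pres.phi m * (a : Spor.J4) * (Cfsg.Agent.J4.Pres.phi m)⁻¹, by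
    rw [Cfsg.Agent.J4.Invol.mem_EJ_iff inj, map_mul, map_mul, map_inv]
    exact (Subgroup.mem_normalizer_iff.mp (psi_norm ⟨m, rfl⟩) _).mp
      ((Cfsg.Agent.J4.Invol.mem_EJ_iff inj a).mp a.2)⟩) (by
    intro a b
    apply Subtype.ext
    simp only [Subgroup.coe_mul]
    group)

theorem conj_act (m : M24) (a : EJ) :
    Cfsg.Agent.J4.Pres.phi m * (a : Spor.J4) * (Cfsg.Agent.J4.Pres.phi m)⁻¹ =
      (@actE EJ (commEJ inj) pe (pres inj) m a : EJ) := by
  let _ : CommGroup EJ := commEJ inj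
  have h : conjHom inj m = actE (pres inj) m := by
    apply CocodeSmall.hom_ext (pres inj)
    intro i j _
    rw [actE_pair']
    apply Subtype.ext
    exact conj_pair inj m i j
  rw [← h]
  rfl

/-- the duad involution `d` is the duad `{3, 8}` -/
theorem d_eq : (d : Spor.J4) = (pe (some 3) : Spor.J4) * (pe (some 8) : Spor.J4) := by
  apply inj
  rw [pe_mul inj, um_d]
  exact Cfsg.Agent.J4.Invol.rho_d

theorem fusion {i j : GolayPt} (hij : i ≠ j) (a : EJ)
    (h : IsConj ((pe i : Spor.J4) * (pe j : Spor.J4)) (a : Spor.J4)) :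
    ∃ k l : GolayPt, k ≠ l ∧ a = pe k * pe l := by
  obtain ⟨g, hg1, hg2⟩ := Cfsg.Agent.J4Type.CloseInst.exists_two
    (show (some 3 : GolayPt) ≠ some 8 by decide) hij
  have h1 : IsConj d ((pe i : Spor.J4) * (pe j : Spor.J4)) := by
    rw [isConj_iff]
    refine ⟨Cfsg.Agent.J4.Pres.phi g, ?_⟩
    rw [d_eq inj, conj_pair inj, hg1, hg2]
  have h2 := h1.trans h
  have hd1 : d ≠ 1 := by
    intro h3
    have h4 := congrArg rho h3
    rw [Cfsg.Agent.J4.Invol.rho_d, map_one] at h4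
    have := Cfsg.Agent.J4.Beta.beta_inj_one hyp.ind (by rw [hyp.len]; norm_num) h4
    omega
  have ha1 : (a : Spor.J4) ≠ 1 := by
    intro h3
    rw [h3] at h2
    exact hd1 (isConj_one_right.1 h2.symm)
  obtain ⟨m, hm | hm⟩ := Cfsg.Agent.J4.Invol.EJ_cases inj a a.2 ha1
  · exfalso
    apply Cfsg.Agent.J4.Invol.not_isConj_s_d
    have h3 : IsConj s (a : Spor.J4) := isConj_iff.2 ⟨Cfsg.Agent.J4.Pres.phi m, hm.symm⟩
    exact h3.trans h2.symm
  · refine ⟨(m : Equiv.Perm GolayPt) (some 3), (m : Equiv.Perm GolayPt) (some 8), ?_, ?_⟩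
    · intro h3
      exact absurd ((m : Equiv.Perm GolayPt).injective h3) (by decide)
    · apply Subtype.ext
      rw [hm, d_eq inj, conj_pair inj]
      rfl

end Cfsg.Agent.Schreier.J4Core

namespace Cfsg.Agent.Schreier.J4Core

open Cfsg.Agent.SporadicA.GolayBase Cfsg.Agent.J4Type.CocodeMask
open Cfsg.Agent.J4Type.DuadStab Cfsg.Agent.Schreier.CocodeSmall Cfsg.Agent.Schreier.Basic
open Cfsg.Agent.J4.Invol (EJ s d)

/-- The Schreier property of J4. -/
theorem sch_of_isJ4 (hJ : Cfsg.IsJ4 Cfsg.Spor.J4) : Sch Cfsg.Spor.J4 := by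
  have inj := Cfsg.Agent.J4Type.Final.rho_injective hJ
  have := Cfsg.Agent.J4Type.Final.finite_J4 hJ
  have := hJ.1
  let _ : CommGroup EJ := commEJ inj
  have hK : ¬ IsMulCommutative Cfsg.Spor.J4 := by
    intro hc
    let _ : CommGroup Cfsg.Spor.J4 :=
      { (inferInstance : Group Cfsg.Spor.J4) with mul_comm := hc.is_comm.comm }
    have h1 := IsSimpleGroup.prime_card (α := Cfsg.Spor.J4)
    rw [hJ.2] at h1
    norm_num at h1
  refine Cocode.sch_of_cocode hK (pres inj) EJ.subtype EJ.subtype_injective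
    (Cfsg.Agent.J4.Invol.card_EJ inj) (by rw [hJ.2]; norm_num)
    (fun m => ⟨Cfsg.Agent.J4.Pres.phi m, conj_act inj m⟩) (fun i j hij a h => fusion inj hij a h)
    ![s, d, s, d] ?_
  intro u hu hu1
  rcases Cfsg.Agent.J4Type.Final.invol hJ u hu hu1 with h | h
  · exact ⟨0, h⟩
  · exact ⟨1, h⟩

end Cfsg.Agent.Schreier.J4Core
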