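import Mathlib
import Cfsg.Agent.SporadicA.Co0Mono
import Cfsg.Agent.SporadicA.GolayPerm
import Cfsg.Agent.Schreier.MonoModel

/-!
# Packed permutations, the code, and the conditions of `MonoModel`

The conditions of `MonoModel.Good` are reduced to Boolean checks on masks.
-/

set_option autoImplicit false
set_option linter.unusedSectionVars false

namespace Cfsg.Agent.Schreier.MonoRep

open Cfsg Cfsg.Agent.SporadicA.GolayBase Cfsg.Agent.SporadicA.GolayPerm Cfsg.Agent.SporadicA.Co0Mono
open Cfsg.Agent.Schreier.MonoModel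
open scoped Pointwise

/-! ### Packed permutations representing elements of `M24` -/

/-- The packed permutation `P` represents `σ`. -/
def Rep (P : ℕ) (σ : M24) : Prop := ∀ i, i < 24 → papp P i = idx ((σ : Equiv.Perm GolayPt) (pt i))

/-- The packed identity. -/
def idP : ℕ := pack (List.range 24)

theorem rep_permOf {P : ℕ} (hP : isPerm P = true) (hA : isAut P = true) :
    Rep P ⟨permOf P hP, permOf_mem_M24 hP hA⟩ := fun i hi => by
  show papp P i = idx (permOf P hP (pt i))
  rw [idx_permOf, idx_pt hi]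

/-- The element of `M24` packed in `P`. -/
noncomputable def ofP (P : ℕ) : M24 :=
  if h : isPerm P = true ∧ isAut P = true then ⟨permOf P h.1, permOf_mem_M24 h.1 h.2⟩ else 1

theorem rep_ofP {P : ℕ} (h : (isPerm P && isAut P) = true) : Rep P (ofP P) := by
  rw [Bool.and_eq_true] at h
  unfold ofP
  rw [dif_pos h]
  exact rep_permOf h.1 h.2

theorem Rep.mul {P Q : ℕ} {σ τ : M24} (h : Rep P σ) (h' : Rep Q τ) : Rep (pcomp P Q) (σ * τ) := fun i hi => by
  rw [papp_pcomp P Q hi, h' i hi, h _ (idx_lt _), pt_idx]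
  rfl

theorem Rep.eq {P : ℕ} {σ τ : M24} (h : Rep P σ) (h' : Rep P τ) : σ = τ := by
  apply Subtype.ext
  ext1 p
  apply idx_injective
  rw [← pt_idx p, ← h _ (idx_lt p), ← h' _ (idx_lt p)]

theorem rep_one : Rep idP 1 := by
  have h : ∀ i, i < 24 → papp idP i = i := by decide +kernel
  intro i hi
  rw [h i hi]
  exact (idx_pt hi).symm

theorem Rep.isPerm {P : ℕ} {σ : M24} (h : Rep P σ) : isPerm P = true := by
  apply isPerm_of_injOn
  · intro i hi
    rw [h i hi]
    exact idx_lt _
  · intro i j hi hj hij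
    rw [h i hi, h j hj] at hij
    have := (σ : Equiv.Perm GolayPt).injective (idx_injective hij)
    rw [← idx_pt hi, ← idx_pt hj, this]

theorem Rep.permOf_eq {P : ℕ} {σ : M24} (h : Rep P σ) : permOf P h.isPerm = σ := by
  ext1 p
  apply idx_injective
  rw [idx_permOf, h _ (idx_lt p), pt_idx]

theorem Rep.maskW {P : ℕ} {σ : M24} (h : Rep P σ) (c : golayCode) :
    maskW (wordPerm σ c : GolayPt → ZMod 2) = pimg P (maskW (c : GolayPt → ZMod 2)) := by
  rw [← maskOf_support₂, ← maskOf_support₂]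
  have h1 : support₂ (wordPerm σ c : GolayPt → ZMod 2) =
      (σ : Equiv.Perm GolayPt) • support₂ (c : GolayPt → ZMod 2) := by
    rw [smul_support₂]
    rfl
  rw [h1, ← h.permOf_eq, maskOf_smul h.isPerm]

/-! ### Straight line programs -/

/-- The list of the packed permutations computed by a program. -/
def slp (d : ℕ) (init : List ℕ) (prog : List (ℕ × ℕ)) : List ℕ :=
  prog.foldl (fun acc ij => acc ++ [pcomp (acc.getD ij.1 d) (acc.getD ij.2 d)]) init

theorem slp_good {Good : ℕ → Prop} (hmul : ∀ P Q, Good P → Good Q → Good (pcomp P Q)) {d : ℕ} (hd : Good d)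
    (prog : List (ℕ × ℕ)) : ∀ init : List ℕ, (∀ P ∈ init, Good P) → ∀ P ∈ slp d init prog, Good P := by
  induction prog with
  | nil => exact fun init h => h
  | cons a l ih =>
    intro init h
    have hg : ∀ i, Good (init.getD i d) := by
      intro i
      rw [List.getD_eq_getElem?_getD]
      rcases lt_or_ge i init.length with hi | hi
      · rw [List.getElem?_eq_getElem hi]
        exact h _ (List.getElem_mem hi)
      · rw [List.getElem?_eq_none hi]
        exact hd
    apply ih
    intro P hP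
    rcases List.mem_append.1 hP with hP | hP
    · exact h P hP
    · rw [List.mem_singleton.1 hP]
      exact hmul _ _ (hg _) (hg _)

/-- Represented by an element of a subgroup. -/
def RepIn (S : Subgroup M24) (P : ℕ) : Prop := ∃ σ ∈ S, Rep P σ

theorem RepIn.mul {S : Subgroup M24} {P Q : ℕ} (h : RepIn S P) (h' : RepIn S Q) : RepIn S (pcomp P Q) := by
  obtain ⟨σ, hσ, h1⟩ := h
  obtain ⟨τ, hτ, h2⟩ := h'
  exact ⟨_, mul_mem hσ hτ, h1.mul h2⟩

theorem repIn_id (S : Subgroup M24) : RepIn S idP := ⟨1, one_mem _, rep_one⟩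

/-! ### Closure in a finite group -/

theorem closure_cases {G : Type*} [Group G] [Finite G] {S : Set G} {R : G → Prop} (h1 : R 1)
    (hmul : ∀ g ∈ S, ∀ x, R x → R (g * x)) {x : G} (hx : x ∈ Subgroup.closure S) : R x := by
  have hpow : ∀ g ∈ S, ∀ n : ℕ, ∀ x, R x → R (g ^ n * x) := by
    intro g hg n
    induction n with
    | zero =>
      intro x hx
      rwa [pow_zero, one_mul]
    | succ n ih =>
      intro x hx
      rw [pow_succ', mul_assoc]
      exact hmul g hg _ (ih x hx)
  refine Subgroup.closure_induction_left (p := fun x _ => R x) h1 ?_ ?_ hx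
  · intro g hg y _ hy
    exact hmul g hg y hy
  · intro g hg y _ hy
    have h3 : g⁻¹ = g ^ (orderOf g - 1) := by
      rw [eq_comm, eq_inv_iff_mul_eq_one, ← pow_succ, Nat.sub_add_cancel (orderOf_pos g), pow_orderOf_eq_one]
    rw [h3]
    exact hpow g hg _ y hy

/-! ### Groups `A B` given by lists -/

/-- The check that the lists `LA`, `LB` describe the group generated by `GB` (with inverses) and `a0`. -/
def chkClosed (GB : List (ℕ × ℕ)) (a0 : ℕ) (LA LB : List ℕ) : Bool :=
  GB.all (fun b => Nat.beq (pcomp b.1 b.2) idP && isPerm b.1 && isAut b.1 && isPerm b.2 && isAut b.2 &&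
    LB.all (fun Q => LB.elem (pcomp b.1 Q)) && LA.all (fun P => LA.elem (pcomp (pcomp b.1 P) b.2))) &&
  LA.all (fun P => LA.elem (pcomp a0 P)) && LA.elem idP && LB.elem idP && isPerm a0 && isAut a0

theorem decomp {GB : List (ℕ × ℕ)} {a0 : ℕ} {LA LB : List ℕ} (h : chkClosed GB a0 LA LB = true) {σ : M24}
    (hσ : σ ∈ Subgroup.closure ({τ : M24 | Rep a0 τ ∨ ∃ b ∈ GB, Rep b.1 τ})) :
    ∃ P ∈ LA, ∃ Q ∈ LB, ∃ a b : M24, Rep P a ∧ Rep Q b ∧ σ = a * b := by
  unfold chkClosed at h
  simp only [Bool.and_eq_true] at h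
  obtain ⟨⟨⟨⟨⟨hB, hA⟩, hA1⟩, hB1⟩, ha1⟩, ha2⟩ := h
  refine closure_cases (R := fun σ => ∃ P ∈ LA, ∃ Q ∈ LB, ∃ a b : M24, Rep P a ∧ Rep Q b ∧ σ = a * b) ?_ ?_ hσ
  · exact ⟨idP, by simpa using hA1, idP, by simpa using hB1, 1, 1, rep_one, rep_one, (mul_one 1).symm⟩
  · rintro g (hg | ⟨c, hc, hg⟩) x ⟨P, hP, Q, hQ, a, b, ha, hb, rfl⟩
    · refine ⟨pcomp a0 P, ?_, Q, hQ, g * a, b, hg.mul ha, hb, by rw [mul_assoc]⟩
      have := List.all_eq_true.1 hA P hP
      simpa using this
    · have h1 := List.all_eq_true.1 hB c hc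
      simp only [Bool.and_eq_true] at h1
      obtain ⟨⟨⟨⟨⟨⟨h2, -⟩, -⟩, h3⟩, h4⟩, h5⟩, h6⟩ := h1
      have hi : Rep c.2 g⁻¹ := by
        have h7 : Rep c.2 (ofP c.2) := rep_ofP (by rw [h3, h4]; rfl)
        have h8 := hg.mul h7
        rw [Nat.eq_of_beq_eq_true h2] at h8
        have h9 : g * ofP c.2 = 1 := h8.eq rep_one
        rw [← eq_inv_of_mul_eq_one_right h9]
        exact h7
      refine ⟨pcomp (pcomp c.1 P) c.2, ?_, pcomp c.1 Q, ?_, g * a * g⁻¹, g * b, (hg.mul ha).mul hi, hg.mul hb, ?_⟩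
      · have := List.all_eq_true.1 h6 P hP
        simpa using this
      · have := List.all_eq_true.1 h5 Q hQ
        simpa using this
      · group

end Cfsg.Agent.Schreier.MonoRep
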