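import Mathlib
import Cfsg.Agent.Schreier.MonoRep

/-!
# The conditions of `MonoModel.Good` from Boolean checks on masks
-/

set_option autoImplicit false
set_option linter.unusedSectionVars false

namespace Cfsg.Agent.Schreier.MonoCheck

open Cfsg Cfsg.Agent.SporadicA.GolayBase Cfsg.Agent.SporadicA.GolayPerm
open Cfsg.Agent.Schreier.MonoModel Cfsg.Agent.Schreier.MonoRep

variable {K V H : Type*} [Group K] [AddCommGroup V] [Group H]

/-- The masks of the elements of `V` are the masks of code words which pass the test `chk`. -/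
structure Coding (mk : V → ℕ) (rep : ℕ → H → Prop) (chk : ℕ → Bool) (act : H → V → V) : Prop where
  mk_add : ∀ a b, mk (a + b) = mk a ^^^ mk b
  mk_inj : Function.Injective mk
  mk_enc : ∀ v, ∃ i < 4096, mk v = enc i ∧ chk (enc i) = true
  mk_surj : ∀ i < 4096, chk (enc i) = true → ∃ v, mk v = enc i
  rep_one : rep idP 1
  rep_mul : ∀ {P Q g h}, rep P g → rep Q h → rep (pcomp P Q) (g * h)
  mk_act : ∀ {P h}, rep P h → ∀ v, mk (act h v) = pimg P (mk v)

variable {mk : V → ℕ} {rep : ℕ → H → Prop} {chk : ℕ → Bool} {act : H → V → V}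

theorem Coding.mk_zero (c : Coding mk rep chk act) : mk 0 = 0 := by
  have h := c.mk_add 0 0
  rw [add_zero, Nat.xor_self] at h
  exact h

/-- All code masks which pass the test. -/
def allC (chk : ℕ → Bool) (f : ℕ → Bool) : Bool := allR 12 0 fun i => !(chk (enc i)) || f (enc i)

theorem Coding.of_allC (c : Coding mk rep chk act) {f : ℕ → Bool} (h : allC chk f = true) (v : V) :
    f (mk v) = true := by
  obtain ⟨i, hi, h1, h2⟩ := c.mk_enc v
  have h3 := allR_zero_spec h i hi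
  rw [h2, Bool.not_true, Bool.false_or] at h3
  rw [h1]
  exact h3

/-- Masks of elements of `V`. -/
def isV (chk : ℕ → Bool) (m : ℕ) : Bool := isCode m && chk m

theorem Coding.exists_of_isV (c : Coding mk rep chk act) {m : ℕ} (h : isV chk m = true) : ∃ v, mk v = m := by
  unfold isV at h
  rw [Bool.and_eq_true] at h
  obtain ⟨i, hi, rfl⟩ := isCode_iff_exists.1 h.1
  exact c.mk_surj i hi h.2

/-- Reduction with respect to a list of pivots and masks. -/
def red (l : List (ℕ × ℕ)) (m : ℕ) : ℕ := l.foldr (fun x acc => ((m >>> x.1) % 2 * x.2) ^^^ acc) 0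

/-- Membership in the span of a list of masks in reduced form. -/
def zm (l : List (ℕ × ℕ)) (m : ℕ) : Bool := Nat.beq (red l m) m

/-- The check for the upper central series. -/
def chkZ (chk : ℕ → Bool) (L L' : List (ℕ × ℕ)) (g0 g1 g2 g3 : ℕ) : Bool :=
  allC chk fun m => (zm L' m == (zm L (m ^^^ pimg g0 m) && zm L (m ^^^ pimg g1 m) && zm L (m ^^^ pimg g2 m) &&
    zm L (m ^^^ pimg g3 m)))

variable {s : V → K} {p : H →* K}

theorem mem_succ_of_check (m : Model s p act) (c : Coding mk rep chk act) {G : Fin 4 → H}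
    (hG : Subgroup.closure (Set.range G) = ⊤) {g0 g1 g2 g3 : ℕ} (h0 : rep g0 (G 0)) (h1 : rep g1 (G 1))
    (h2 : rep g2 (G 2)) (h3 : rep g3 (G 3)) {k : ℕ} {L L' : List (ℕ × ℕ)}
    (hL : ∀ v, v ∈ m.Zs k ↔ zm L (mk v) = true) (hc : chkZ chk L L' g0 g1 g2 g3 = true) (v : V) :
    v ∈ m.Zs (k + 1) ↔ zm L' (mk v) = true := by
  have h4 := c.of_allC hc v
  rw [beq_iff_eq] at h4
  rw [h4, m.mem_Zs_succ_iff hG]
  simp only [Bool.and_eq_true]
  have key : ∀ {g : ℕ} {h : H}, rep g h → (v + act h v ∈ m.Zs k ↔ zm L (mk v ^^^ pimg g (mk v)) = true) := by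
    intro g h hr
    rw [hL, c.mk_add, c.mk_act hr]
  rw [← key h0, ← key h1, ← key h2, ← key h3]
  constructor
  · intro h
    exact ⟨⟨⟨h _ ⟨0, rfl⟩, h _ ⟨1, rfl⟩⟩, h _ ⟨2, rfl⟩⟩, h _ ⟨3, rfl⟩⟩
  · rintro ⟨⟨⟨a0, a1⟩, a2⟩, a3⟩ _ ⟨i, rfl⟩
    fin_cases i
    · exact a0
    · exact a1
    · exact a2
    · exact a3

/-- The check for one further dimension. -/
def chkOne (chk : ℕ → Bool) (L L' : List (ℕ × ℕ)) (z : ℕ) : Bool :=
  allC chk fun m => !(zm L' m) || zm L m || zm L (m ^^^ z)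

theorem cov_of_check (m : Model s p act) (c : Coding mk rep chk act) {k k' : ℕ} {L L' : List (ℕ × ℕ)}
    (hL : ∀ v, v ∈ m.Zs k ↔ zm L (mk v) = true) (hL' : ∀ v, v ∈ m.Zs k' ↔ zm L' (mk v) = true) {z : V}
    (hc : chkOne chk L L' (mk z) = true) : ∀ v ∈ m.Zs k', v ∈ m.Zs k ∨ v + z ∈ m.Zs k := by
  intro v hv
  have h4 := c.of_allC hc v
  rw [(hL' v).1 hv] at h4
  rw [hL, hL, c.mk_add]
  simpa using h4

/-- The check for two further dimensions. -/
def chkTwo (chk : ℕ → Bool) (L L' : List (ℕ × ℕ)) (z z' : ℕ) : Bool :=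
  allC chk fun m => !(zm L' m) || zm L m || zm L (m ^^^ z) || zm L (m ^^^ z') || zm L (m ^^^ (z ^^^ z'))

theorem cov_two_of_check (m : Model s p act) (c : Coding mk rep chk act) {k k' : ℕ} {L L' : List (ℕ × ℕ)}
    (hL : ∀ v, v ∈ m.Zs k ↔ zm L (mk v) = true) (hL' : ∀ v, v ∈ m.Zs k' ↔ zm L' (mk v) = true) {z z' : V}
    (hc : chkTwo chk L L' (mk z) (mk z') = true) :
    ∀ v ∈ m.Zs k', v ∈ m.Zs k ∨ v + z ∈ m.Zs k ∨ v + z' ∈ m.Zs k ∨ v + (z + z') ∈ m.Zs k := by
  intro v hv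
  have h4 := c.of_allC hc v
  rw [(hL' v).1 hv] at h4
  rw [hL, hL, hL, hL, c.mk_add, c.mk_add, c.mk_add, c.mk_add]
  simpa [or_assoc] using h4

/-! ### Generation of the module -/

/-- Combination of a list of masks. -/
def comb : List ℕ → ℕ → ℕ
  | [], _ => 0
  | x :: l, t => (t % 2 * x) ^^^ comb l (t / 2)

/-- The check for the generation of `V`: `U` is a list of pairs (generator, mask), `VL` a basis of `V` in reduced form,
`C` the coefficients. -/
def chkGen (chk : ℕ → Bool) (e : ℕ) (Z : List ℕ) (U : List (ℕ × ℕ)) (VL : List (ℕ × ℕ)) (C : List ℕ) : Bool :=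
  U.all (fun u => isV chk u.2) && allC chk (zm VL) &&
  Nat.beq VL.length C.length &&
  (List.zip VL C).all (fun x => Nat.beq (comb (e :: (Z ++ U.map fun u => u.2 ^^^ pimg u.1 u.2)) x.2) x.1.2)

theorem span_of_check (m : Model s p act) (c : Coding mk rep chk act) {e : V} {Z : List ℕ} {U : List (ℕ × ℕ)}
    {VL : List (ℕ × ℕ)} {C : List ℕ} (hZ : ∀ z ∈ Z, ∃ v, mk v = z ∧ s v = 1)
    (hU : ∀ u ∈ U, ∃ h, rep u.1 h) (hc : chkGen chk (mk e) Z U VL C = true) :
    ∀ v, ∃ w ∈ AddSubgroup.closure {x | ∃ c h, x = c + act h c}, s v = s w ∨ s v = s (e + w) := by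
  unfold chkGen at hc
  simp only [Bool.and_eq_true] at hc
  obtain ⟨⟨⟨h1, h2⟩, h3⟩, h4⟩ := hc
  set W : AddSubgroup V := AddSubgroup.closure {x | ∃ c h, x = c + act h c} with hW
  let S : AddSubgroup V :=
    { carrier := {v | ∃ w ∈ W, s v = s w ∨ s v = s (e + w)}
      zero_mem' := ⟨0, zero_mem _, Or.inl rfl⟩
      add_mem' := by
        rintro a b ⟨w, hw, h⟩ ⟨w', hw', h'⟩
        refine ⟨w + w', add_mem hw hw', ?_⟩
        rcases h with h | h <;> rcases h' with h' | h'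
        · left
          rw [m.s_add, h, h', m.s_add]
        · right
          rw [m.s_add, h, h', ← m.s_add]
          congr 1
          abel
        · right
          rw [m.s_add, h, h', ← m.s_add, add_assoc]
        · left
          rw [m.s_add, h, h', ← m.s_add]
          have : e + w + (e + w') = (e + e) + (w + w') := by abel
          rw [this, m.two, zero_add]
      neg_mem' := by
        rintro a ⟨w, hw, h⟩
        rw [m.neg_eq]
        exact ⟨w, hw, h⟩ }
  have hWS : W ≤ S := fun w hw => ⟨w, hw, Or.inl rfl⟩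
  -- masks of elements of `S`
  let good : ℕ → Prop := fun x => ∃ v ∈ S, mk v = x
  have g0 : good 0 := ⟨0, zero_mem _, c.mk_zero⟩
  have gx : ∀ x y, good x → good y → good (x ^^^ y) := by
    rintro _ _ ⟨v, hv, rfl⟩ ⟨w, hw, rfl⟩
    exact ⟨v + w, add_mem hv hw, c.mk_add v w⟩
  have gb : ∀ n x, good x → good (n % 2 * x) := by
    intro n x hx
    rcases Nat.mod_two_eq_zero_or_one n with h | h <;> rw [h]
    · rw [zero_mul]
      exact g0
    · rwa [one_mul]
  have ge : good (mk e) := ⟨e, ⟨0, zero_mem _, Or.inr (by rw [add_zero])⟩, rfl⟩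
  have gcomb : ∀ (l : List ℕ) (t : ℕ), (∀ x ∈ l, good x) → good (comb l t) := by
    intro l
    induction l with
    | nil => exact fun t _ => g0
    | cons x l ih =>
      intro t hl
      exact gx _ _ (gb _ _ (hl x List.mem_cons_self)) (ih _ fun y hy => hl y (List.mem_cons_of_mem _ hy))
  have gU : ∀ u ∈ U, good (u.2 ^^^ pimg u.1 u.2) := by
    intro u hu
    obtain ⟨h, hh⟩ := hU u hu
    obtain ⟨v, hv⟩ := c.exists_of_isV (List.all_eq_true.1 h1 u hu)
    refine ⟨v + act h v, hWS (AddSubgroup.subset_closure ⟨v, h, rfl⟩), ?_⟩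
    rw [c.mk_add, c.mk_act hh, hv]
  have gall : ∀ x ∈ mk e :: (Z ++ U.map fun u => u.2 ^^^ pimg u.1 u.2), good x := by
    intro x hx
    rcases List.mem_cons.1 hx with rfl | hx
    · exact ge
    rcases List.mem_append.1 hx with hx | hx
    · obtain ⟨v, hv, hv1⟩ := hZ x hx
      exact ⟨v, ⟨0, zero_mem _, Or.inl (by rw [hv1, m.s_zero])⟩, hv⟩
    · obtain ⟨u, hu, rfl⟩ := List.mem_map.1 hx
      exact gU u hu
  have gVL : ∀ x ∈ VL, good x.2 := by
    intro x hx
    obtain ⟨i, hi, rfl⟩ := List.mem_iff_getElem.1 hx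
    have hlen := Nat.eq_of_beq_eq_true h3
    have hi' : i < (List.zip VL C).length := by
      rw [List.length_zip, ← hlen, min_self]
      exact hi
    have h5 := List.all_eq_true.1 h4 _ (List.getElem_mem hi')
    rw [List.getElem_zip] at h5
    rw [← Nat.eq_of_beq_eq_true h5]
    exact gcomb _ _ gall
  have gred : ∀ (n : ℕ) (l : List (ℕ × ℕ)), (∀ x ∈ l, good x.2) → good (red l n) := by
    intro n l
    induction l with
    | nil => exact fun _ => g0
    | cons x l ih =>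
      intro hl
      exact gx _ _ (gb _ _ (hl x List.mem_cons_self)) (ih fun y hy => hl y (List.mem_cons_of_mem _ hy))
  intro v
  have h6 := c.of_allC h2 v
  have h7 := gred (mk v) VL gVL
  rw [Nat.eq_of_beq_eq_true h6] at h7
  obtain ⟨w, hw, hwv⟩ := h7
  rw [← c.mk_inj hwv]
  exact hw

/-! ### Separation -/

/-- The pattern of a packed permutation. -/
def pat (L0 L1 L2 : List (ℕ × ℕ)) (z2 z3 z4 z5 P : ℕ) : List Bool :=
  [zm L0 (pimg P z2 ^^^ z2), zm L1 (pimg P z3 ^^^ z3), zm L2 (pimg P z4 ^^^ z4), zm L2 (pimg P z5 ^^^ z5)]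

/-- The eight products of `a`, `b`, `d`. -/
def eight {H : Type*} [Group H] (a b d : H) : Fin 8 → H := ![1, a, b, a * b, d, a * d, b * d, a * (b * d)]

/-- The eight products of packed permutations. -/
def eightP (a b d : ℕ) : Fin 8 → ℕ :=
  ![idP, a, b, pcomp a b, d, pcomp a d, pcomp b d, pcomp a (pcomp b d)]

theorem rep_eight (c : Coding mk rep chk act) {a b d : H} {P Q R : ℕ} (ha : rep P a) (hb : rep Q b) (hd : rep R d)
    (i : Fin 8) : rep (eightP P Q R i) (eight a b d i) := by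
  fin_cases i
  · exact c.rep_one
  · exact ha
  · exact hb
  · exact c.rep_mul ha hb
  · exact hd
  · exact c.rep_mul ha hd
  · exact c.rep_mul hb hd
  · exact c.rep_mul ha (c.rep_mul hb hd)

/-- The check for the separation. -/
def chkSep (L0 L1 L2 : List (ℕ × ℕ)) (z2 z3 z4 z5 P Q R : ℕ) : Bool :=
  decide (∀ i j : Fin 8, pat L0 L1 L2 z2 z3 z4 z5 (eightP P Q R i) = pat L0 L1 L2 z2 z3 z4 z5 (eightP P Q R j) → i = j)

theorem sep_of_check (m : Model s p act) (c : Coding mk rep chk act) {L0 L1 L2 : List (ℕ × ℕ)}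
    (hL0 : ∀ v, v ∈ m.Zs 0 ↔ zm L0 (mk v) = true) (hL1 : ∀ v, v ∈ m.Zs 1 ↔ zm L1 (mk v) = true)
    (hL2 : ∀ v, v ∈ m.Zs 2 ↔ zm L2 (mk v) = true) {z2 z3 z4 z5 : V}
    {a b d : H} {P Q R : ℕ} (ha : rep P a) (hb : rep Q b) (hd : rep R d)
    (hc : chkSep L0 L1 L2 (mk z2) (mk z3) (mk z4) (mk z5) P Q R = true) : ∀ i j,
    (act (eight a b d i) z2 + z2 ∈ m.Zs 0 ↔ act (eight a b d j) z2 + z2 ∈ m.Zs 0) →
    (act (eight a b d i) z3 + z3 ∈ m.Zs 1 ↔ act (eight a b d j) z3 + z3 ∈ m.Zs 1) →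
    (act (eight a b d i) z4 + z4 ∈ m.Zs 2 ↔ act (eight a b d j) z4 + z4 ∈ m.Zs 2) →
    (act (eight a b d i) z5 + z5 ∈ m.Zs 2 ↔ act (eight a b d j) z5 + z5 ∈ m.Zs 2) → i = j := by
  intro i j h1 h2 h3 h4
  have hr := rep_eight c ha hb hd
  simp only [hL0, hL1, hL2, c.mk_add, c.mk_act (hr i), c.mk_act (hr j)] at h1 h2 h3 h4
  rw [← Bool.eq_iff_iff] at h1 h2 h3 h4
  apply of_decide_eq_true hc i j
  unfold pat
  rw [h1, h2, h3, h4]

/-! ### Faithfulness -/

/-- The check that a product of the lists which is trivial modulo `L` is the identity. -/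
def chkFaith (L : List (ℕ × ℕ)) (VL : List (ℕ × ℕ)) (LA LB : List ℕ) : Bool :=
  LA.all fun P => LB.all fun Q => Nat.beq (pcomp P Q) idP || VL.any fun x => !(zm L (pimg (pcomp P Q) x.2 ^^^ x.2))

theorem faithful_of_check (m : Model s p act) (c : Coding mk rep chk act) {k : ℕ} {L VL : List (ℕ × ℕ)}
    {LA LB : List ℕ} (hL : ∀ v, v ∈ m.Zs k ↔ zm L (mk v) = true) (hVL : ∀ x ∈ VL, isV chk x.2 = true)
    (hrep : ∀ h : H, ∃ P ∈ LA, ∃ Q ∈ LB, rep (pcomp P Q) h) (hone : ∀ h : H, rep idP h → h = 1)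
    (hc : chkFaith L VL LA LB = true) : ∀ h, (∀ v, act h v + v ∈ m.Zs k) → h = 1 := by
  intro h hh
  obtain ⟨P, hP, Q, hQ, hr⟩ := hrep h
  have h1 := List.all_eq_true.1 (List.all_eq_true.1 hc P hP) Q hQ
  rw [Bool.or_eq_true] at h1
  rcases h1 with h1 | h1
  · rw [Nat.eq_of_beq_eq_true h1] at hr
    exact hone h hr
  · obtain ⟨x, hx, h2⟩ := List.any_eq_true.1 h1
    obtain ⟨v, hv⟩ := c.exists_of_isV (hVL x hx)
    have h3 := (hL _).1 (hh v)
    rw [c.mk_add, c.mk_act hr, hv] at h3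
    rw [h3] at h2
    exact absurd h2 (by simp)

end Cfsg.Agent.Schreier.MonoCheck
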