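import Mathlib
import Cfsg.Agent.Schreier.MonoRep

/-!
# 2-subgroups of `M24` given by lists of packed permutations
-/

set_option autoImplicit false
set_option linter.unusedSectionVars false

namespace Cfsg.Agent.Schreier.MonoGroup

open Cfsg Cfsg.Agent.SporadicA.GolayBase Cfsg.Agent.SporadicA.GolayPerm Cfsg.Agent.Schreier.MonoRep

/-- The group generated by four packed permutations. -/
noncomputable def TT (g0 g1 g2 g3 : ℕ) : Subgroup M24 :=
  Subgroup.closure {ofP g0, ofP g1, ofP g2, ofP g3}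

/-- Its generators. -/
noncomputable def gens (g0 g1 g2 g3 : ℕ) : Fin 4 → TT g0 g1 g2 g3 :=
  ![⟨ofP g0, Subgroup.subset_closure (by simp)⟩, ⟨ofP g1, Subgroup.subset_closure (by simp)⟩,
    ⟨ofP g2, Subgroup.subset_closure (by simp)⟩, ⟨ofP g3, Subgroup.subset_closure (by simp)⟩]

theorem closure_gens (g0 g1 g2 g3 : ℕ) : Subgroup.closure (Set.range (gens g0 g1 g2 g3)) = ⊤ := by
  have h := Subgroup.closure_closure_coe_preimage (k := ({ofP g0, ofP g1, ofP g2, ofP g3} : Set M24))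
  rw [eq_top_iff]
  refine le_trans (le_of_eq h.symm) (Subgroup.closure_mono ?_)
  rintro x hx
  have hx' : (x : M24) ∈ ({ofP g0, ofP g1, ofP g2, ofP g3} : Set M24) := hx
  simp only [Set.mem_insert_iff, Set.mem_singleton_iff] at hx'
  rcases hx' with hx | hx | hx | hx
  · exact ⟨0, Subtype.ext hx.symm⟩
  · exact ⟨1, Subtype.ext hx.symm⟩
  · exact ⟨2, Subtype.ext hx.symm⟩
  · exact ⟨3, Subtype.ext hx.symm⟩

/-- The checks on the lists. -/
structure Data (g0 g1 g2 g3 i0 i1 i2 : ℕ) (LA LB : List ℕ) : Prop where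
  closed : chkClosed [(g0, i0), (g1, i1), (g2, i2)] g3 LA LB = true
  progA : ∃ prog, LA.all (fun P => (slp idP [idP, g3, g0, g1, g2] prog).elem P) = true
  progB : ∃ prog, LB.all (fun P => (slp idP [idP, g0, g1, g2] prog).elem P) = true
  fixB : LB.all (fun Q => Nat.beq (papp Q 1) 1 && Nat.beq (pcomp Q idP) Q) = true
  nodupA : (LA.map fun P => papp P 1).Nodup
  nodupB : LB.Nodup

variable {g0 g1 g2 g3 i0 i1 i2 : ℕ} {LA LB : List ℕ}

theorem Data.perm (d : Data g0 g1 g2 g3 i0 i1 i2 LA LB) :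
    (isPerm g0 && isAut g0) = true ∧ (isPerm g1 && isAut g1) = true ∧ (isPerm g2 && isAut g2) = true ∧
      (isPerm g3 && isAut g3) = true := by
  have h := d.closed
  unfold chkClosed at h
  simp only [Bool.and_eq_true, List.all_cons] at h ⊢
  obtain ⟨⟨⟨⟨⟨⟨h0, h1, h2, -⟩, -⟩, -⟩, -⟩, h3⟩, h4⟩ := h
  exact ⟨⟨h0.1.1.1.1.1.2, h0.1.1.1.1.2⟩, ⟨h1.1.1.1.1.1.2, h1.1.1.1.1.2⟩, ⟨h2.1.1.1.1.1.2, h2.1.1.1.1.2⟩, h3, h4⟩

theorem Data.rep (d : Data g0 g1 g2 g3 i0 i1 i2 LA LB) :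
    Rep g0 (ofP g0) ∧ Rep g1 (ofP g1) ∧ Rep g2 (ofP g2) ∧ Rep g3 (ofP g3) :=
  ⟨rep_ofP d.perm.1, rep_ofP d.perm.2.1, rep_ofP d.perm.2.2.1, rep_ofP d.perm.2.2.2⟩

theorem Data.repIn (d : Data g0 g1 g2 g3 i0 i1 i2 LA LB) : RepIn (TT g0 g1 g2 g3) g0 ∧ RepIn (TT g0 g1 g2 g3) g1 ∧
    RepIn (TT g0 g1 g2 g3) g2 ∧ RepIn (TT g0 g1 g2 g3) g3 :=
  ⟨⟨_, (gens g0 g1 g2 g3 0).2, d.rep.1⟩, ⟨_, (gens g0 g1 g2 g3 1).2, d.rep.2.1⟩,
    ⟨_, (gens g0 g1 g2 g3 2).2, d.rep.2.2.1⟩, ⟨_, (gens g0 g1 g2 g3 3).2, d.rep.2.2.2⟩⟩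

theorem Data.repA (d : Data g0 g1 g2 g3 i0 i1 i2 LA LB) {P : ℕ} (hP : P ∈ LA) : RepIn (TT g0 g1 g2 g3) P := by
  obtain ⟨prog, h⟩ := d.progA
  have h1 := List.all_eq_true.1 h P hP
  refine slp_good (Good := RepIn (TT g0 g1 g2 g3)) (fun P Q h h' => h.mul h') (repIn_id _) prog _ ?_ P
    (by simpa using h1)
  intro Q hQ
  simp only [List.mem_cons, List.not_mem_nil, or_false] at hQ
  rcases hQ with rfl | rfl | rfl | rfl | rfl
  · exact repIn_id _
  · exact d.repIn.2.2.2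
  · exact d.repIn.1
  · exact d.repIn.2.1
  · exact d.repIn.2.2.1

theorem Data.repB (d : Data g0 g1 g2 g3 i0 i1 i2 LA LB) {P : ℕ} (hP : P ∈ LB) : RepIn (TT g0 g1 g2 g3) P := by
  obtain ⟨prog, h⟩ := d.progB
  have h1 := List.all_eq_true.1 h P hP
  refine slp_good (Good := RepIn (TT g0 g1 g2 g3)) (fun P Q h h' => h.mul h') (repIn_id _) prog _ ?_ P
    (by simpa using h1)
  intro Q hQ
  simp only [List.mem_cons, List.not_mem_nil, or_false] at hQ
  rcases hQ with rfl | rfl | rfl | rfl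
  · exact repIn_id _
  · exact d.repIn.1
  · exact d.repIn.2.1
  · exact d.repIn.2.2.1

theorem Data.decomp (d : Data g0 g1 g2 g3 i0 i1 i2 LA LB) (h : TT g0 g1 g2 g3) :
    ∃ P ∈ LA, ∃ Q ∈ LB, ∃ a b : M24, Rep P a ∧ Rep Q b ∧ (h : M24) = a * b := by
  refine MonoRep.decomp d.closed ?_
  have h1 : (h : M24) ∈ Subgroup.closure ({ofP g0, ofP g1, ofP g2, ofP g3} : Set M24) := h.2
  refine Subgroup.closure_mono ?_ h1
  intro x hx
  simp only [Set.mem_insert_iff, Set.mem_singleton_iff] at hx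
  rcases hx with rfl | rfl | rfl | rfl
  · exact Or.inr ⟨_, List.mem_cons_self, d.rep.1⟩
  · exact Or.inr ⟨_, List.mem_cons_of_mem _ List.mem_cons_self, d.rep.2.1⟩
  · exact Or.inr ⟨_, List.mem_cons_of_mem _ (List.mem_cons_of_mem _ List.mem_cons_self), d.rep.2.2.1⟩
  · exact Or.inl d.rep.2.2.2

theorem papp_idP {i : ℕ} (hi : i < 24) : papp idP i = i := by
  have h : ∀ i, i < 24 → papp idP i = i := by decide +kernel
  exact h i hi

theorem pcomp_idP_eq {P Q : ℕ} (h : ∀ i, i < 24 → papp P i = papp Q i) : pcomp P idP = pcomp Q idP := by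
  have h' : ∀ i, i < 24 → papp P (papp idP i) = papp Q (papp idP i) := by
    intro i hi
    rw [papp_idP hi]
    exact h i hi
  unfold pcomp
  rw [h' 0 (by norm_num), h' 1 (by norm_num), h' 2 (by norm_num), h' 3 (by norm_num), h' 4 (by norm_num),
    h' 5 (by norm_num), h' 6 (by norm_num), h' 7 (by norm_num), h' 8 (by norm_num), h' 9 (by norm_num),
    h' 10 (by norm_num), h' 11 (by norm_num), h' 12 (by norm_num), h' 13 (by norm_num), h' 14 (by norm_num),
    h' 15 (by norm_num), h' 16 (by norm_num), h' 17 (by norm_num), h' 18 (by norm_num), h' 19 (by norm_num),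
    h' 20 (by norm_num), h' 21 (by norm_num), h' 22 (by norm_num), h' 23 (by norm_num)]

theorem Data.card (d : Data g0 g1 g2 g3 i0 i1 i2 LA LB) :
    Nat.card (TT g0 g1 g2 g3) = LA.length * LB.length := by
  choose! a ha ha' using fun (P : ℕ) (hP : P ∈ LA) => d.repA hP
  choose! b hb hb' using fun (P : ℕ) (hP : P ∈ LB) => d.repB hP
  have hfix : ∀ Q ∈ LB, papp Q 1 = 1 ∧ pcomp Q idP = Q := by
    intro Q hQ
    have h := List.all_eq_true.1 d.fixB Q hQ
    rw [Bool.and_eq_true] at h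
    exact ⟨Nat.eq_of_beq_eq_true h.1, Nat.eq_of_beq_eq_true h.2⟩
  let F : Fin LA.length × Fin LB.length → TT g0 g1 g2 g3 := fun x =>
    ⟨a LA[x.1] * b LB[x.2], mul_mem (ha _ (List.getElem_mem _)) (hb _ (List.getElem_mem _))⟩
  have hF : Function.Bijective F := by
    constructor
    · rintro ⟨i, j⟩ ⟨i', j'⟩ h
      have h1 : a LA[i] * b LB[j] = a LA[i'] * b LB[j'] := congrArg Subtype.val h
      have r1 := (ha' LA[i] (List.getElem_mem _)).mul (hb' LB[j] (List.getElem_mem _))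
      have r2 := (ha' LA[i'] (List.getElem_mem _)).mul (hb' LB[j'] (List.getElem_mem _))
      rw [← h1] at r2
      have e1 := (r1 1 (by norm_num)).trans (r2 1 (by norm_num)).symm
      rw [papp_pcomp _ _ (by norm_num), papp_pcomp _ _ (by norm_num), (hfix LB[j] (List.getElem_mem _)).1,
        (hfix LB[j'] (List.getElem_mem _)).1] at e1
      have e2 : i = i' := by
        have h3 := d.nodupA
        rw [List.nodup_iff_injective_get] at h3
        have h4 : (⟨i, by rw [List.length_map]; exact i.2⟩ : Fin (LA.map fun P => papp P 1).length) =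
            ⟨i', by rw [List.length_map]; exact i'.2⟩ := by
          apply h3
          simpa using e1
        exact Fin.ext (Fin.mk.inj h4)
      subst e2
      have e3 : b LB[j] = b LB[j'] := mul_left_cancel h1
      have e4 : LB[j] = LB[j'] := by
        have r3 := hb' LB[j] (List.getElem_mem _)
        have r4 := hb' LB[j'] (List.getElem_mem _)
        rw [← e3] at r4
        rw [← (hfix LB[j] (List.getElem_mem _)).2, ← (hfix LB[j'] (List.getElem_mem _)).2]
        exact pcomp_idP_eq fun k hk => (r3 k hk).trans (r4 k hk).symm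
      have e5 : j = j' := by
        have h3 := d.nodupB
        rw [List.nodup_iff_injective_get] at h3
        exact h3 e4
      rw [e5]
    · intro h
      obtain ⟨P, hP, Q, hQ, x, y, hx, hy, hxy⟩ := d.decomp h
      obtain ⟨i, hi, rfl⟩ := List.mem_iff_getElem.1 hP
      obtain ⟨j, hj, rfl⟩ := List.mem_iff_getElem.1 hQ
      refine ⟨(⟨i, hi⟩, ⟨j, hj⟩), Subtype.ext ?_⟩
      show a LA[i] * b LB[j] = h
      rw [hxy, (ha' _ hP).eq hx, (hb' _ hQ).eq hy]
  have h := Nat.card_congr (Equiv.ofBijective F hF)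
  rw [← h, Nat.card_prod, Nat.card_eq_fintype_card, Nat.card_eq_fintype_card, Fintype.card_fin, Fintype.card_fin]

end Cfsg.Agent.Schreier.MonoGroup
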