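import Cfsg.Agent.Bimonster.Bim

/-!
# The presented Monster, if simple, is every nontrivial group satisfying the relations

No order bound is used: the homomorphism from the Bimonster to the wreath product gives an epimorphism from
`Spor.Monster`, which is injective when `Spor.Monster` is simple.
-/

set_option autoImplicit false

namespace Cfsg.Agent.Schreier.MonsterIso

open Cfsg.Agent.Bimonster Cfsg.Agent.Bimonster.Tits Cfsg.Spor
open scoped commutatorElement

/-- all nodes are conjugate to the centre of the graph -/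
theorem exists_conj_node : ∀ i < 16, ∃ g : Spor.Bimonster, g * tB 0 * g⁻¹ = tB i := by
  have key : ∀ {i j : ℕ}, i < 16 → j < 16 → adjB i j = true →
      (tB i * tB j) * tB i * (tB i * tB j)⁻¹ = tB j := by
    intro i j hi hj hij
    have h1 := tB_cox.br i hi j hj hij
    rw [h1]
    group
  have hpar : ∀ i < 16, i ≠ 0 → adjB (par i) i = true ∧ par i < i := by decide
  intro i
  induction i using Nat.strong_induction_on with
  | _ i ih =>
    intro hi
    by_cases h0 : i = 0
    · subst h0
      exact ⟨1, by group⟩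
    · obtain ⟨h1, h2⟩ := hpar i hi h0
      obtain ⟨g, hg⟩ := ih (par i) h2 (h2.trans hi)
      refine ⟨(tB (par i) * tB i) * g, ?_⟩
      have h3 : (tB (par i) * tB i) * g * tB 0 * ((tB (par i) * tB i) * g)⁻¹ =
          (tB (par i) * tB i) * (g * tB 0 * g⁻¹) * (tB (par i) * tB i)⁻¹ := by group
      rw [h3, hg]
      exact key (h2.trans hi) hi h1

theorem mul_node_mem_commutator {i : ℕ} (hi : i < 16) : tB 15 * tB i ∈ commutator Spor.Bimonster := by
  obtain ⟨g, hg⟩ := exists_conj_node i hi
  obtain ⟨k, hk⟩ := exists_conj_node 15 (by norm_num)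
  have h15 : tB 15 * tB 15 = 1 := tB_cox.sq 15 (by norm_num)
  have h1 : tB i = (g * k⁻¹) * tB 15 * (g * k⁻¹)⁻¹ := by
    rw [← hg, ← hk]; group
  have h2 : (tB 15)⁻¹ = tB 15 := inv_eq_of_mul_eq_one_left h15
  have h3 : tB 15 * tB i = ⁅tB 15, g * k⁻¹⁆ := by
    rw [commutatorElement_def, h1, h2]
    group
  rw [h3, commutator_def]
  exact Subgroup.commutator_mem_commutator (Subgroup.mem_top _) (Subgroup.mem_top _)

/-- the group of the node `f3` -/
def N15 : Subgroup Spor.Bimonster := Subgroup.centralizer {tB 15} ⊓ commutator Spor.Bimonster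

theorem mul_node_mem {i : ℕ} (hi : i < 14) : tB 15 * tB i ∈ N15 := by
  refine ⟨?_, mul_node_mem_commutator (by omega)⟩
  have hadj : ∀ i < 14, adjB 15 i = false := by decide
  have h1 : tB 15 * tB i = tB i * tB 15 := tB_cox.cm 15 (by norm_num) i (by omega) (hadj i hi)
  have h2 : tB 15 * (tB 15 * tB i) = tB 15 * tB i * tB 15 := by rw [mul_assoc, ← h1]
  refine Subgroup.mem_centralizer_iff.2 ?_
  rintro _ rfl
  exact h2

section

variable {P : Type*} [Group P] {y : ℕ → P} {Ψ : Spor.Bimonster →* Equiv.Perm (Bool × P)}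
  {sgn : Spor.Bimonster →* ℤˣ}

/-- the shape of the elements of the image -/
theorem shape (hΨ : ∀ i < 16, Ψ (tB i) = wT y i) (hs : ∀ i < 16, sgn (tB i) = -1) (g : Spor.Bimonster) :
    ∃ (s : Bool) (p q : P), sgn g = (bif s then -1 else 1) ∧
      ∀ a : Bool × P, Ψ g a = (xor s a.1, (bif a.1 then p else q) * a.2) := by
  have hg : g ∈ Subgroup.closure (nodes 16 tB) := by rw [tB_gen]; trivial
  induction hg using Subgroup.closure_induction with
  | mem x hx =>
    obtain ⟨i, hi, rfl⟩ := hx
    rw [hΨ i hi, hs i hi]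
    rcases (show i < 14 ∨ i = 14 ∨ i = 15 by omega) with h1 | rfl | rfl
    · refine ⟨true, y i, y i, rfl, fun a => ?_⟩
      rw [wT_lt y h1, Equiv.Perm.mul_apply, wL_apply, wS_apply]
      rcases a with ⟨b, a⟩
      cases b <;> rfl
    · refine ⟨true, (ev y zW)⁻¹, ev y zW, rfl, fun a => ?_⟩
      rw [wT_14, Equiv.Perm.mul_apply, wZ_apply, wS_apply]
      rcases a with ⟨b, a⟩
      cases b <;> rfl
    · refine ⟨true, 1, 1, rfl, fun a => ?_⟩
      rw [wT_15, wS_apply]
      rcases a with ⟨b, a⟩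
      cases b <;> simp
  | one =>
    refine ⟨false, 1, 1, by simp, fun a => ?_⟩
    rcases a with ⟨b, a⟩
    cases b <;> simp
  | mul g k _ _ hg hk =>
    obtain ⟨s, p, q, h1, h2⟩ := hg
    obtain ⟨t, u, v, h3, h4⟩ := hk
    refine ⟨xor s t, (bif xor t true then p else q) * u, (bif xor t false then p else q) * v, ?_, fun a => ?_⟩
    · rw [map_mul, h1, h3]
      cases s <;> cases t <;> simp
    · rw [map_mul, Equiv.Perm.mul_apply, h4, h2]
      rcases a with ⟨b, a⟩
      cases b <;> cases s <;> cases t <;> simp [mul_assoc]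
  | inv g _ hg =>
    obtain ⟨s, p, q, h1, h2⟩ := hg
    refine ⟨s, (bif xor s true then p else q)⁻¹, (bif xor s false then p else q)⁻¹, ?_, fun a => ?_⟩
    · rw [map_inv, h1]
      cases s <;> simp
    · rw [map_inv, Equiv.Perm.inv_eq_iff_eq, h2]
      rcases a with ⟨b, a⟩
      cases b <;> cases s <;> simp

/-- the elements of `N15` act as left multiplications -/
theorem exists_wL (hΨ : ∀ i < 16, Ψ (tB i) = wT y i) (hs : ∀ i < 16, sgn (tB i) = -1) {g : Spor.Bimonster}
    (hg : g ∈ N15) : ∃ p : P, Ψ g = wL p := by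
  obtain ⟨s, p, q, h1, h2⟩ := shape hΨ hs g
  have h3 : sgn g = 1 := by
    have : commutator Spor.Bimonster ≤ sgn.ker := Abelianization.commutator_subset_ker sgn
    exact this hg.2
  have h4 : s = false := by
    cases s
    · rfl
    · rw [h3] at h1
      exact absurd h1 (by decide)
  subst h4
  have h5 : tB 15 * g = g * tB 15 := (Subgroup.mem_centralizer_iff.mp hg.1) _ rfl
  have h6 := congrArg (fun e : Equiv.Perm (Bool × P) => e (true, 1)) (congrArg Ψ h5)
  simp only [map_mul, Equiv.Perm.mul_apply, hΨ 15 (by norm_num), wT_15, wS_apply, h2] at h6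
  have h7 : p = q := by simpa using congrArg Prod.snd h6
  subst h7
  refine ⟨p, ?_⟩
  ext a
  · rw [h2, wL_apply]
    rcases a with ⟨b, a⟩
    cases b <;> simp
  · rw [h2, wL_apply]
    rcases a with ⟨b, a⟩
    cases b <;> simp

/-- every left multiplication is in the image of `N15` -/
theorem exists_of_wL (hΨ : ∀ i < 16, Ψ (tB i) = wT y i) (hgen : Subgroup.closure (nodes 14 y) = ⊤) (p : P) :
    ∃ g ∈ N15, Ψ g = wL p := by
  have hp : p ∈ Subgroup.closure (nodes 14 y) := by rw [hgen]; trivial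
  induction hp using Subgroup.closure_induction with
  | mem x hx =>
    obtain ⟨i, hi, rfl⟩ := hx
    refine ⟨_, mul_node_mem hi, ?_⟩
    rw [map_mul, hΨ 15 (by norm_num), hΨ i (by omega), wT_15, wT_lt y hi, ← mul_assoc, wS_sq, one_mul]
  | one => exact ⟨1, one_mem _, by rw [map_one, map_one]⟩
  | mul a b _ _ ha hb =>
    obtain ⟨g, hg, h1⟩ := ha
    obtain ⟨k, hk, h2⟩ := hb
    exact ⟨g * k, mul_mem hg hk, by rw [map_mul, h1, h2, map_mul]⟩
  | inv a _ ha =>
    obtain ⟨g, hg, h1⟩ := ha
    exact ⟨g⁻¹, inv_mem hg, by rw [map_inv, h1, map_inv]⟩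

end

/-- conjugation from the node `a` to the node `f3` -/
theorem exists_hom : ∃ e : Spor.Monster →* N15, Function.Surjective e := by
  obtain ⟨g, hg⟩ := exists_conj
  have hn : (commutator Spor.Bimonster).Normal := inferInstance
  have h1 : ∀ m : Spor.Monster, g * (m : Spor.Bimonster) * g⁻¹ ∈ N15 := by
    rintro ⟨s, hs1, hs2⟩
    refine ⟨?_, hn.conj_mem _ hs2 g⟩
    have h1 : tB 0 * s = s * tB 0 := (Subgroup.mem_centralizer_iff.mp hs1) _ rfl
    refine Subgroup.mem_centralizer_iff.2 ?_
    rintro _ rfl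
    show tB 15 * (g * s * g⁻¹) = g * s * g⁻¹ * tB 15
    rw [← hg]
    calc g * tB 0 * g⁻¹ * (g * s * g⁻¹) = g * (tB 0 * s) * g⁻¹ := by group
      _ = g * (s * tB 0) * g⁻¹ := by rw [h1]
      _ = _ := by group
  refine ⟨{ toFun := fun m => ⟨g * (m : Spor.Bimonster) * g⁻¹, h1 m⟩
            map_one' := Subtype.ext (by simp)
            map_mul' := fun a b => Subtype.ext (by
              show g * ((a * b : Spor.Monster) : Spor.Bimonster) * g⁻¹ = g * a * g⁻¹ * (g * b * g⁻¹)
              rw [Subgroup.coe_mul]; group) }, ?_⟩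
  rintro ⟨k, hk1, hk2⟩
  have h2 : tB 15 * k = k * tB 15 := (Subgroup.mem_centralizer_iff.mp hk1) _ rfl
  refine ⟨⟨g⁻¹ * k * g, ?_, ?_⟩, ?_⟩
  · have h3 : g⁻¹ * k * g ∈ Subgroup.centralizer {tB 0} := by
      rw [Subgroup.mem_centralizer_iff]
      rintro _ rfl
      have h4 : tB 0 = g⁻¹ * tB 15 * g := by rw [← hg]; group
      rw [h4]
      calc g⁻¹ * tB 15 * g * (g⁻¹ * k * g) = g⁻¹ * (tB 15 * k) * g := by group
        _ = g⁻¹ * (k * tB 15) * g := by rw [h2]
        _ = _ := by group
    exact h3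
  · have := hn.conj_mem _ hk2 g⁻¹
    rwa [inv_inv] at this
  · apply Subtype.ext
    show g * (g⁻¹ * k * g) * g⁻¹ = k
    group

/-- **If the presented Monster is simple, it is isomorphic to every nontrivial group generated by elements satisfying
the relations.** -/
theorem equiv_of_simple [IsSimpleGroup Spor.Monster] {P : Type*} [Group P] [Nontrivial P] {y : ℕ → P}
    (hy : PRel y) (hz : ZRel y) (hgen : Subgroup.closure (nodes 14 y) = ⊤) : Nonempty (Spor.Monster ≃* P) := by
  obtain ⟨Ψ, hΨ⟩ := bi_univ (wT_birel hy hz)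
  obtain ⟨sgn, hs⟩ := exists_sgn
  have hex : ∀ g : N15, ∃ p : P, Ψ g = wL p := fun g => exists_wL hΨ hs g.2
  choose f hf using hex
  let F : N15 →* P :=
    { toFun := f
      map_one' := by
        apply wL_inj
        rw [← hf, map_one, Subgroup.coe_one, map_one]
      map_mul' := fun a b => by
        apply wL_inj
        rw [← hf, map_mul, ← hf, ← hf, Subgroup.coe_mul, map_mul] }
  have hF : Function.Surjective F := by
    intro p
    obtain ⟨g, hg, h1⟩ := exists_of_wL hΨ hgen p
    refine ⟨⟨g, hg⟩, ?_⟩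
    apply wL_inj
    show wL (f ⟨g, hg⟩) = wL p
    rw [← hf, h1]
  obtain ⟨e, he⟩ := exists_hom
  have hS : Function.Surjective (F.comp e) := hF.comp he
  have hinj : Function.Injective (F.comp e) := by
    rw [← MonoidHom.ker_eq_bot_iff]
    rcases (MonoidHom.normal_ker (F.comp e)).eq_bot_or_eq_top with h | h
    · exact h
    · exfalso
      obtain ⟨p, hp⟩ := exists_ne (1 : P)
      obtain ⟨m, rfl⟩ := hS p
      apply hp
      have : m ∈ (F.comp e).ker := by rw [h]; trivial
      exact this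
  exact ⟨MulEquiv.ofBijective _ ⟨hinj, hS⟩⟩

end Cfsg.Agent.Schreier.MonsterIso
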