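import Cfsg.Agent.Schreier.MonsterModel
import Cfsg.Agent.Schreier.MonsterIso

/-!
# The Schreier property of the presented Monster, from the model and the nodes in the model
-/

set_option autoImplicit false

namespace Cfsg.Agent.Schreier.Monster

open Cfsg.Agent.Schreier.Basic Cfsg.Agent.MonsterX Cfsg.Agent.MonsterX.Model Cfsg.Agent.MonsterX.MainBasic
  Cfsg.Agent.MonsterX.MainSimple Cfsg.Agent.Bimonster

variable {W : Type} [AddCommGroup W] [Module ℚ W] {M : MData W}

/-- **The presented Monster, if it is simple, has the Schreier property** (in the form needed by `Cases.of_model`; no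
bound for the order of the presented group is used). -/
theorem sch_of_nodes (hsimp : IsSimpleGroup Cfsg.Spor.Monster) (hG : MGroup M Cfsg.Spor.Co1) (hR : MRep M)
    (hL : MLat M) (hO : MOrbit M) (hT : MTrans M) (hS : Sch Cfsg.Spor.Co1) {y : ℕ → M.G} (hy : PRel y)
    (hz : ZRel y) (hgen : Subgroup.closure (nodes 14 y) = ⊤) : Sch Cfsg.Spor.Monster := by
  have h1 := isSimple hG hR hL hO hT
  have : Nontrivial M.G := h1.toNontrivial
  obtain ⟨e⟩ := MonsterIso.equiv_of_simple hy hz hgen
  exact (MonsterModel.sch hG hR hL hO hT hS).of_equiv e.symm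

end Cfsg.Agent.Schreier.Monster
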