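import Cfsg.Agent.Schreier.Monster
import Cfsg.Agent.Schreier.Co1
import Cfsg.Agent.MonsterX.Instance
import Cfsg.Agent.MonsterX.OrbDone
import Cfsg.Agent.MonsterX.KStabSpan
import Cfsg.Agent.MonsterX.KStabDone

/-!
# The Schreier property of the presented Monster: the concrete model plugged in

What remains as a hypothesis: the nodes of the presentation in the concrete group.
-/

set_option autoImplicit false

namespace Cfsg.Agent.Schreier.MonsterInst

open Cfsg.Agent.Schreier.Basic Cfsg.Agent.MonsterX Cfsg.Agent.MonsterX.Model Cfsg.Agent.Bimonster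

/-- `MOrbit` for the concrete data. -/
theorem mOrbit : MOrbit InstData.M :=
  Instance.mOrbit OrbDone.closed OrbDone.disjoint KStabSpan.X_span OrbDone.card_X OrbDone.card_pairs KStabDone.stab

/-- The presented Monster, if it is simple, has the Schreier property, given the nodes in the concrete group. -/
theorem sch (hsimp : IsSimpleGroup Cfsg.Spor.Monster) {y : ℕ → InstData.M.G} (hy : PRel y) (hz : ZRel y)
    (hgen : Subgroup.closure (nodes 14 y) = ⊤) : Sch Cfsg.Spor.Monster :=
  Monster.sch_of_nodes hsimp Instance.mGroup Instance.mRep Instance.mLat mOrbit Instance.mTrans Co1.sch hy hz hgen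

end Cfsg.Agent.Schreier.MonsterInst
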