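import Cfsg.Agent.Schreier.ExtraIrr
import Cfsg.Agent.MonsterX.MainSimple
import Cfsg.Prelude.Def_Spor_M
import Cfsg.Prelude.Def_Spor_Conway

/-!
# The Schreier property of the Monster (the group of the `196884`-dimensional model)
-/

set_option autoImplicit false

namespace Cfsg.Agent.Schreier.MonsterModel

open Cfsg.Agent.Schreier.Basic Cfsg.Agent.MonsterX Cfsg.Agent.MonsterX.Model Cfsg.Agent.MonsterX.MainBasic
  Cfsg.Agent.MonsterX.MainTrans Cfsg.Agent.MonsterX.MainSimple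

open scoped commutatorElement

variable {W : Type} [AddCommGroup W] [Module ℚ W] {M : MData W} {K₀ : Type} [Group K₀]

/-- Every element of `C` centralising `Q` is in `⟨z⟩`. -/
theorem cent_Q (hG : MGroup M K₀) {c : W ≃ₗ[ℚ] W} (hc : c ∈ M.C) (h : ∀ q ∈ M.Q, c * q = q * c) :
    c = 1 ∨ c = M.z := by
  obtain ⟨π, hs, hπ⟩ := hG.quot
  have hsimple := hG.simple
  have hfinQ : Finite M.Q := Nat.finite_of_card_ne_zero (by rw [hG.Q_card]; norm_num)
  -- the elements of `C` acting on `Q` like elements of `Q`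
  let R : Subgroup M.C :=
    { carrier := {x | ∃ q ∈ M.Q, ∀ y ∈ M.Q, (x : W ≃ₗ[ℚ] W) * y * (x : W ≃ₗ[ℚ] W)⁻¹ = q * y * q⁻¹}
      one_mem' := ⟨1, M.Q.one_mem, fun y _ => by simp⟩
      mul_mem' := by
        rintro a b ⟨p, hp, ha⟩ ⟨q, hq, hb⟩
        refine ⟨p * q, M.Q.mul_mem hp hq, fun y hy => ?_⟩
        have h1 := ha _ (M.Q.mul_mem (M.Q.mul_mem hq hy) (M.Q.inv_mem hq))
        have h2 := hb y hy
        have h3 : ((a * b : M.C) : W ≃ₗ[ℚ] W) * y * ((a * b : M.C) : W ≃ₗ[ℚ] W)⁻¹ =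
            (a : W ≃ₗ[ℚ] W) * ((b : W ≃ₗ[ℚ] W) * y * (b : W ≃ₗ[ℚ] W)⁻¹) * (a : W ≃ₗ[ℚ] W)⁻¹ := by
          rw [Subgroup.coe_mul]; group
        rw [h3, h2, h1]
        group
      inv_mem' := by
        rintro a ⟨p, hp, ha⟩
        refine ⟨p⁻¹, M.Q.inv_mem hp, fun y hy => ?_⟩
        have h1 := ha _ (M.Q.mul_mem (M.Q.mul_mem (M.Q.inv_mem hp) hy) (M.Q.inv_mem (M.Q.inv_mem hp)))
        have h2 : p * (p⁻¹ * y * p⁻¹⁻¹) * p⁻¹ = y := by group
        rw [h2] at h1
        have h3 : (p⁻¹ * y * p⁻¹⁻¹) = (a : W ≃ₗ[ℚ] W)⁻¹ * y * (a : W ≃ₗ[ℚ] W) := by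
          have h4 : (a : W ≃ₗ[ℚ] W)⁻¹ *
              ((a : W ≃ₗ[ℚ] W) * (p⁻¹ * y * p⁻¹⁻¹) * (a : W ≃ₗ[ℚ] W)⁻¹) * (a : W ≃ₗ[ℚ] W) = p⁻¹ * y * p⁻¹⁻¹ := by
            generalize p⁻¹ * y * p⁻¹⁻¹ = u
            group
          rw [← h4, h1]
        show ((a⁻¹ : M.C) : W ≃ₗ[ℚ] W) * y * ((a⁻¹ : M.C) : W ≃ₗ[ℚ] W)⁻¹ = p⁻¹ * y * p⁻¹⁻¹
        rw [h3, Subgroup.coe_inv, inv_inv] }
  have hRn : R.Normal := by
    refine ⟨?_⟩
    rintro x ⟨q, hq, hx⟩ g
    refine ⟨(g : W ≃ₗ[ℚ] W) * q * (g : W ≃ₗ[ℚ] W)⁻¹, Q_normal hG g g.2 q hq, fun y hy => ?_⟩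
    have h1 := hx _ (Q_normal hG (g : W ≃ₗ[ℚ] W)⁻¹ (M.C.inv_mem g.2) y hy)
    have h2 : ((g * x * g⁻¹ : M.C) : W ≃ₗ[ℚ] W) * y * ((g * x * g⁻¹ : M.C) : W ≃ₗ[ℚ] W)⁻¹ =
        (g : W ≃ₗ[ℚ] W) * ((x : W ≃ₗ[ℚ] W) * ((g : W ≃ₗ[ℚ] W)⁻¹ * y * (g : W ≃ₗ[ℚ] W)⁻¹⁻¹) * (x : W ≃ₗ[ℚ] W)⁻¹) *
          (g : W ≃ₗ[ℚ] W)⁻¹ := by
      rw [Subgroup.coe_mul, Subgroup.coe_mul, Subgroup.coe_inv]; group
    rw [h2, h1]
    group
  have hker : π.ker ≤ R := by
    intro x hx
    exact ⟨x, (hπ x).1 hx, fun y _ => rfl⟩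
  have hmapn : (R.map π).Normal := hRn.map π hs
  have hcR : (⟨c, hc⟩ : M.C) ∈ R := ⟨1, M.Q.one_mem, fun y hy => by
    show c * y * c⁻¹ = _
    rw [h y hy]; group⟩
  have hcQ : c ∈ M.Q := by
    rcases hmapn.eq_bot_or_eq_top with h1 | h1
    · have h2 : π ⟨c, hc⟩ ∈ R.map π := ⟨_, hcR, rfl⟩
      rw [h1, Subgroup.mem_bot] at h2
      exact (hπ _).1 h2
    · exfalso
      have hall : ∀ x : M.C, x ∈ R := by
        intro x
        have h2 : π x ∈ R.map π := by rw [h1]; trivial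
        obtain ⟨r, hr, e⟩ := h2
        have h3 : r⁻¹ * x ∈ R := hker (by rw [MonoidHom.mem_ker, map_mul, map_inv, e, inv_mul_cancel])
        have h4 := R.mul_mem hr h3
        rwa [mul_inv_cancel_left] at h4
      -- a subgroup of order at most four which contains `z` strictly
      obtain ⟨t, ht, ht1, ht2⟩ : ∃ t ∈ M.Q, t ≠ 1 ∧ t ≠ M.z := by
        by_contra hcon
        push Not at hcon
        have h2 : (M.Q : Set (W ≃ₗ[ℚ] W)) ⊆ {1, M.z} := by
          intro t ht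
          by_cases h3 : t = 1
          · exact Or.inl h3
          · exact Or.inr (hcon t ht h3)
        have h3 : (M.Q : Set (W ≃ₗ[ℚ] W)).ncard ≤ ({1, M.z} : Set (W ≃ₗ[ℚ] W)).ncard :=
          Set.ncard_le_ncard h2 (Set.toFinite _)
        have h4 : ({1, M.z} : Set (W ≃ₗ[ℚ] W)).ncard ≤ 2 := Set.ncard_insert_le _ _ |>.trans (by simp)
        have h5 : (M.Q : Set (W ≃ₗ[ℚ] W)).ncard = 2 ^ 25 := hG.Q_card
        omega
      let N : Subgroup (W ≃ₗ[ℚ] W) := Subgroup.closure {t, M.z}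
      have hNQ : N ≤ M.Q := by
        rw [Subgroup.closure_le]
        rintro x (rfl | hx)
        · exact ht
        · rw [Set.mem_singleton_iff.1 hx]; exact hG.z_mem
      have hzN : M.z ∈ N := Subgroup.subset_closure (Or.inr rfl)
      have htN : t ∈ N := Subgroup.subset_closure (Or.inl rfl)
      have hQN : ∀ q ∈ M.Q, ∀ n ∈ N, q * n * q⁻¹ ∈ N := by
        intro q hq n hn
        have h2 : q * n = n * q ∨ q * n = n * q * M.z := hG.Q_comm q hq n (hNQ hn)
        rcases h2 with h2 | h2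
        · rw [h2, mul_inv_cancel_right]; exact hn
        · have h3 : q * n * q⁻¹ = n * M.z := by
            rw [h2, mul_assoc, mul_assoc, ← hG.z_comm _ (M.C.inv_mem (hG.Q_le hq)), mul_inv_cancel_left]
          rw [h3]
          exact N.mul_mem hn hzN
      have hinv : ∀ g ∈ M.C, ∀ n ∈ N, g * n * g⁻¹ ∈ N := by
        intro g hg n hn
        obtain ⟨q, hq, hgq⟩ := hall ⟨g, hg⟩
        have := hgq n (hNQ hn)
        show (g : W ≃ₗ[ℚ] W) * n * g⁻¹ ∈ N
        rw [show g * n * g⁻¹ = q * n * q⁻¹ from this]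
        exact hQN q hq n hn
      rcases hG.Q_irred N hNQ hinv with h2 | h2
      · rcases h2 t htN with h3 | h3
        · exact ht1 h3
        · exact ht2 h3
      · -- `N = Q` is abelian, but `Z(Q) = ⟨z⟩`
        have hNab : ∀ y ∈ N, t * y = y * t := by
          intro y hy
          induction hy using Subgroup.closure_induction with
          | mem y hy =>
            rcases hy with rfl | hy
            · rfl
            · rw [Set.mem_singleton_iff.1 hy]
              exact hG.z_comm t (hG.Q_le ht)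
          | one => rw [mul_one, one_mul]
          | mul a b _ _ ha hb => rw [← mul_assoc, ha, mul_assoc, hb, mul_assoc]
          | inv a _ ha =>
            have h3 : a⁻¹ * (t * a) * a⁻¹ = a⁻¹ * (a * t) * a⁻¹ := by rw [ha]
            have h4 : a⁻¹ * (t * a) * a⁻¹ = a⁻¹ * t := by group
            have h5 : a⁻¹ * (a * t) * a⁻¹ = t * a⁻¹ := by group
            rw [h4, h5] at h3
            exact h3.symm
        rcases hG.Q_center t ht (fun y hy => hNab y (by rw [h2]; exact hy)) with h3 | h3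
        · exact ht1 h3
        · exact ht2 h3
  exact hG.Q_center c hcQ h

/-- **The Monster of the model has the Schreier property**, if `Co1` has it. -/
theorem sch (hG : MGroup M K₀) (hR : MRep M) (hL : MLat M) (hO : MOrbit M) (hT : MTrans M) (hS : Sch K₀) :
    Sch M.G := by
  have hfin := G_finite hO
  have hsimp := isSimple hG hR hL hO hT
  have hcard := MainOrder.card_G hG hR hL hO
  have H := hyp hG hR hL hO hT
  obtain ⟨π, hs, hπ⟩ := hG.quot
  have hmem := mem_cent_iff hG hR hL hO hT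
  have hnc : ¬ IsMulCommutative M.G := by
    intro hc
    obtain ⟨a, _, b, _, hab⟩ := H.nab
    exact hab (hc.is_comm.comm a b)
  have hz2 : (zG hG) ^ 2 = 1 := by rw [pow_two]; exact H.sq
  set C := Subgroup.centralizer ({zG hG} : Set M.G) with hC
  have hcardC : Nat.card C = 2 ^ 25 * 4157776806543360000 := by
    rw [← card_C hG]
    refine Nat.card_congr ⟨fun x => ⟨(x : M.G), (hmem _).1 x.2⟩, fun c => ⟨⟨c, C_le c.2⟩, (hmem _).2 c.2⟩,
      fun x => rfl, fun c => rfl⟩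
  have hodd : Odd C.index := by
    have h1 := C.card_mul_index
    rw [hcard, hcardC] at h1
    have h2 : C.index = 5791748068511982636944259375 := by omega
    rw [h2]
    exact ⟨2895874034255991318472129687, by norm_num⟩
  let ι : C →* M.C :=
    { toFun := fun x => ⟨(x : M.G), (hmem _).1 x.2⟩
      map_one' := rfl
      map_mul' := fun _ _ => rfl }
  have hι : Function.Surjective ι := fun c => ⟨⟨⟨c, C_le c.2⟩, (hmem _).2 c.2⟩, rfl⟩
  have hmemz : ∀ y : M.G, y ∈ Subgroup.zpowers (zG hG) ↔ y = 1 ∨ y = zG hG := by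
    intro y
    constructor
    · rintro ⟨n, rfl⟩
      have hz2' : (zG hG) ^ (2 : ℤ) = 1 := by exact_mod_cast hz2
      rcases Int.even_or_odd' n with ⟨k, rfl | rfl⟩
      · left
        show (zG hG) ^ (2 * k) = 1
        rw [zpow_mul, hz2', one_zpow]
      · right
        show (zG hG) ^ (2 * k + 1) = zG hG
        rw [zpow_add, zpow_mul, hz2', one_zpow, one_mul, zpow_one]
    · rintro (rfl | rfl)
      · exact Subgroup.one_mem _
      · exact Subgroup.mem_zpowers _
  refine ExtraIrr.sch_of_irreducible hnc (zG hG) hz2 H.ne C (fun k => SimpleCrit.mem_cent) hodd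
    (M.Q.subgroupOf M.G) H.le H.inv H.two H.mem ?_ ?_ (π.comp ι) (hs.comp hι) ?_ hS ?_ ?_
  · rw [Subgroup.commutator_le]
    intro a ha b hb
    rw [hmemz, commutatorElement_def]
    rcases hG.Q_comm a ha b hb with h1 | h1
    · left
      have h2 : a * b = b * a := Subtype.ext h1
      rw [h2]; group
    · right
      have h2 : a * b = b * a * zG hG := Subtype.ext h1
      have h3 : a⁻¹ * (zG hG) = (zG hG) * a⁻¹ := Subtype.ext (hG.z_comm _ (M.C.inv_mem (hG.Q_le ha)))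
      have h4 : b⁻¹ * (zG hG) = (zG hG) * b⁻¹ := Subtype.ext (hG.z_comm _ (M.C.inv_mem (hG.Q_le hb)))
      calc a * b * a⁻¹ * b⁻¹ = b * a * ((zG hG) * a⁻¹) * b⁻¹ := by rw [h2]; group
        _ = b * ((zG hG) * b⁻¹) := by rw [← h3]; group
        _ = zG hG := by rw [← h4]; group
  · intro c hc h
    have h1 := cent_Q hG ((hmem c).1 hc) (fun q hq => by
      exact congrArg Subtype.val (h ⟨q, C_le (hG.Q_le hq)⟩ hq))
    rw [hmemz]
    rcases h1 with h1 | h1
    · exact Or.inl (Subtype.ext h1)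
    · exact Or.inr (Subtype.ext h1)
  · ext x
    rw [MonoidHom.mem_ker]
    exact hπ (ι x)
  · intro N hN hN2
    have := hG.simple
    rcases hN.eq_bot_or_eq_top with h1 | h1
    · exact h1
    · exfalso
      subst h1
      have hfin0 : Finite K₀ := Nat.finite_of_card_ne_zero (by rw [hG.card]; norm_num)
      have h2 : IsPGroup 2 K₀ := hN2.of_equiv Subgroup.topEquiv
      obtain ⟨n, hn⟩ := IsPGroup.iff_card.1 h2
      rw [hG.card] at hn
      have h3 : 3 ∣ 2 ^ n := by rw [← hn]; norm_num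
      have h4 := (Nat.prime_three.dvd_of_dvd_pow h3)
      omega
  · intro N hzN hNQ hinv
    rcases H.irr N hNQ hinv with h1 | h1
    · left
      intro n hn
      rw [hmemz]
      exact h1 n hn
    · right
      rw [h1]

/-- **The Monster has the Schreier property**, from the model, `Co1` and the identification of the presented group. -/
theorem sch_monster (hG : MGroup M Cfsg.Spor.Co1) (hR : MRep M) (hL : MLat M) (hO : MOrbit M) (hT : MTrans M)
    (hS : Sch Cfsg.Spor.Co1) (he : Nonempty (M.G ≃* Cfsg.Spor.Monster)) : Sch Cfsg.Spor.Monster := by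
  obtain ⟨e⟩ := he
  exact (sch hG hR hL hO hT hS).of_equiv e

end Cfsg.Agent.Schreier.MonsterModel
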