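import Mathlib
import Cfsg.Agent.Schreier.LowerCrit

/-!
# Central series given by generators

`g 0, ..., g (n-1)` elements of a finite group, `N k = ⟨g k, ..., g (n-1)⟩`, `g i ^ 2 ∈ N (i+1)` and
`g i g j ∈ g j g i N (j+1)` for `i < j`. Then all `N k` are normal in `N 0` and `|N k|` divides `2 ^ (n-k)`.
-/

set_option autoImplicit false

namespace Cfsg.Agent.Schreier.PcSeries

open Cfsg.Agent.Schreier.LowerCrit
open scoped commutatorElement

variable {K : Type*} [Group K]

/-- the `k`-th member of the series -/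
def N (g : ℕ → K) (n k : ℕ) : Subgroup K := Subgroup.closure {x | ∃ i, k ≤ i ∧ i < n ∧ x = g i}

theorem mem_N {g : ℕ → K} {n k i : ℕ} (h1 : k ≤ i) (h2 : i < n) : g i ∈ N g n k :=
  Subgroup.subset_closure ⟨i, h1, h2, rfl⟩

theorem N_mono {g : ℕ → K} {n k l : ℕ} (h : k ≤ l) : N g n l ≤ N g n k := by
  apply Subgroup.closure_mono
  rintro x ⟨i, h1, h2, rfl⟩
  exact ⟨i, h.trans h1, h2, rfl⟩

theorem N_eq_bot {g : ℕ → K} {n k : ℕ} (h : n ≤ k) : N g n k = ⊥ := by
  rw [eq_bot_iff, N, Subgroup.closure_le]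
  rintro x ⟨i, h1, h2, rfl⟩
  omega

theorem N_succ {g : ℕ → K} {n k : ℕ} (h : k < n) : N g n k = N g n (k + 1) ⊔ Subgroup.zpowers (g k) := by
  apply le_antisymm
  · rw [N, Subgroup.closure_le]
    rintro x ⟨i, h1, h2, rfl⟩
    rcases h1.eq_or_lt with h1 | h1
    · rw [← h1]; exact Subgroup.mem_sup_right (Subgroup.mem_zpowers _)
    · exact Subgroup.mem_sup_left (mem_N h1 h2)
  · refine sup_le (N_mono (Nat.le_succ k)) ?_
    rw [Subgroup.zpowers_le]
    exact mem_N le_rfl h

/-- a product of generators -/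
theorem prod_mem_N {g : ℕ → K} {n k : ℕ} {e : List ℕ} (h : ∀ i ∈ e, k ≤ i ∧ i < n) :
    (e.map g).prod ∈ N g n k := by
  apply list_prod_mem
  intro x hx
  obtain ⟨i, hi, rfl⟩ := List.mem_map.1 hx
  exact mem_N (h i hi).1 (h i hi).2

/-- The certificate. -/
structure Cert (g : ℕ → K) (n : ℕ) : Prop where
  sq : ∀ i < n, g i * g i ∈ N g n (i + 1)
  comm : ∀ i j, i < j → j < n → ∃ w ∈ N g n (j + 1), g i * g j = g j * g i * w

variable {g : ℕ → K} {n : ℕ}

theorem Cert.conj (h : Cert g n) : ∀ (d j : ℕ), n ≤ j + d → ∀ i < n, ∀ x ∈ N g n j, g i * x * (g i)⁻¹ ∈ N g n j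
  | 0, j, hj, i, _, x, hx => by
    rw [N_eq_bot (by omega), Subgroup.mem_bot] at hx
    rw [hx, mul_one, mul_inv_cancel]
    exact one_mem _
  | d + 1, j, hj, i, hi, x, hx => by
    rw [N] at hx
    induction hx using Subgroup.closure_induction with
    | one => rw [mul_one, mul_inv_cancel]; exact one_mem _
    | mul x y _ _ hx hy =>
      have e : g i * (x * y) * (g i)⁻¹ = (g i * x * (g i)⁻¹) * (g i * y * (g i)⁻¹) := by group
      rw [e]; exact mul_mem hx hy
    | inv x _ hx =>
      have e : g i * x⁻¹ * (g i)⁻¹ = (g i * x * (g i)⁻¹)⁻¹ := by group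
      rw [e]; exact inv_mem hx
    | mem x hx =>
      obtain ⟨m, hm1, hm2, rfl⟩ := hx
      rcases lt_trichotomy i m with him | him | him
      · obtain ⟨w, hw, hr⟩ := h.comm i m him hm2
        have e : g i * g m * (g i)⁻¹ = g m * (g i * w * (g i)⁻¹) := by
          rw [hr]; group
        rw [e]
        exact mul_mem (mem_N hm1 hm2)
          (N_mono (by omega : j ≤ m + 1) (Cert.conj h d (m + 1) (by omega) i hi w hw))
      · rw [him, mul_inv_cancel_right]
        exact mem_N hm1 hm2
      · obtain ⟨w, hw, hr⟩ := h.comm m i him hi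
        have e : g i * g m * (g i)⁻¹ = g m * (g i * w⁻¹ * (g i)⁻¹) := by
          have : g i * g m = g m * g i * w⁻¹ := by rw [hr]; group
          rw [this]; group
        rw [e]
        exact mul_mem (mem_N hm1 hm2)
          (N_mono (by omega : j ≤ i + 1) (Cert.conj h d (i + 1) (by omega) i hi w⁻¹ (inv_mem hw)))

theorem Cert.mem_normalizer [Finite K] (h : Cert g n) {i : ℕ} (hi : i < n) (j : ℕ) :
    g i ∈ Subgroup.normalizer (N g n j : Set K) :=
  Subgroup.mem_normalizer_fintype (fun x hx => h.conj n j (Nat.le_add_left n j) i hi x hx)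

theorem Cert.le_normalizer [Finite K] (h : Cert g n) (k j : ℕ) :
    N g n k ≤ Subgroup.normalizer (N g n j : Set K) := by
  rw [N, Subgroup.closure_le]
  rintro x ⟨i, _, h2, rfl⟩
  exact h.mem_normalizer h2 j

theorem Cert.card_dvd [Finite K] (h : Cert g n) : ∀ (d j : ℕ), n ≤ j + d → Nat.card (N g n j) ∣ 2 ^ d
  | 0, j, hj => by
    rw [N_eq_bot (by omega), Subgroup.card_bot]
    exact one_dvd _
  | d + 1, j, hj => by
    rcases Nat.lt_or_ge j n with hjn | hjn
    · have h1 := Cert.card_dvd h d (j + 1) (by omega)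
      have hnorm := Subgroup.mem_normalizer_iff.1 (h.mem_normalizer hjn (j + 1))
      have h2 := relIndex_sup_zpowers_le (A := N g n (j + 1)) (x := g j) (h.sq j hjn)
        (fun a ha => (hnorm a).1 ha) (by
          intro a ha
          refine (hnorm _).2 ?_
          have e : g j * ((g j)⁻¹ * a * g j) * (g j)⁻¹ = a := by group
          rw [e]; exact ha)
      rw [← N_succ hjn] at h2
      have h3 : Nat.card (N g n (j + 1)) * (N g n (j + 1)).relIndex (N g n j) = Nat.card (N g n j) :=
        by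
          have h5 := Subgroup.relIndex_mul_relIndex ⊥ (N g n (j + 1)) (N g n j) bot_le (N_mono (Nat.le_succ j))
          rwa [Subgroup.relIndex_bot_left, Subgroup.relIndex_bot_left] at h5
      rw [← h3, pow_succ]
      refine mul_dvd_mul h1 ?_
      have h4 : (N g n (j + 1)).relIndex (N g n j) = 1 ∨ (N g n (j + 1)).relIndex (N g n j) = 2 := by omega
      rcases h4 with h4 | h4 <;> rw [h4]
      exact one_dvd _
    · rw [N_eq_bot hjn, Subgroup.card_bot]
      exact one_dvd _

/-- commutators of the generators -/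
theorem Cert.comm_mem [Finite K] (h : Cert g n) {i j b : ℕ} (hi : i < n) (hj : j < n) {w : K} (hw : w ∈ N g n b)
    (hr : g i * g j = g j * g i * w) : ⁅g i, g j⁆ ∈ N g n b ∧ ⁅g j, g i⁆ ∈ N g n b := by
  have e : ⁅g i, g j⁆ ∈ N g n b := by
    have e1 : ⁅g i, g j⁆ = (g j * g i) * w * (g j * g i)⁻¹ := by
      rw [commutatorElement_def, hr]; group
    rw [e1]
    exact (Subgroup.mem_normalizer_iff.1 (mul_mem (h.mem_normalizer hj b) (h.mem_normalizer hi b)) w).1 hw
  refine ⟨e, ?_⟩
  rw [← commutatorElement_inv]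
  exact inv_mem e

end Cfsg.Agent.Schreier.PcSeries
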