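import Cfsg.Agent.SporadicB.RuOrder
import Cfsg.Agent.Schreier.RuNet

/-!
The three involutions are automorphisms of the Rudvalis graph.
-/

set_option autoImplicit false
set_option maxRecDepth 100000
set_option exponentiation.threshold 5000

namespace Cfsg.Agent.Schreier.RuMem

open Cfsg.Agent.SporadicB.RuData Cfsg.Agent.Lib.BitNet Cfsg.Agent.SporadicB Cfsg.Agent.Schreier.RuNet

theorem inv0 : invCheck 12 row n0 = true := by decide +kernel
theorem inv1 : invCheck 12 row n1 = true := by decide +kernel
theorem inv2 : invCheck 12 row n2 = true := by decide +kernel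
theorem ok0 : okNet 4060 n0 = true := by decide +kernel
theorem ok1 : okNet 4060 n1 = true := by decide +kernel
theorem ok2 : okNet 4060 n2 = true := by decide +kernel

theorem mem0 : perm (okNet_sound ok0) ∈ RuOrder.H := perm_mem_Aut (K := 12) (by norm_num) RuOrder.sym inv0 _
theorem mem1 : perm (okNet_sound ok1) ∈ RuOrder.H := perm_mem_Aut (K := 12) (by norm_num) RuOrder.sym inv1 _
theorem mem2 : perm (okNet_sound ok2) ∈ RuOrder.H := perm_mem_Aut (K := 12) (by norm_num) RuOrder.sym inv2 _

end Cfsg.Agent.Schreier.RuMem
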