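import Cfsg.Agent.Schreier.PcSeries
import Cfsg.Agent.Schreier.RuMem

/-!
A Sylow 2-subgroup `T` of the group of the Rudvalis graph: three involutions, a central series with fourteen
generators, `|T| = 2 ^ 14`, the seventh term of the lower central series has at most four elements and is not central.
-/

set_option autoImplicit false
set_option maxRecDepth 100000
set_option exponentiation.threshold 5000

namespace Cfsg.Agent.Schreier.RuSyl

open Cfsg.Agent.SporadicB Cfsg.Agent.Lib.BitNet Cfsg.Agent.Schreier.RuNet Cfsg.Agent.Schreier.RuMem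
open Cfsg.Agent.Schreier.PcSeries Cfsg.Agent.Schreier.LowerCrit
open scoped commutatorElement

/-! ### words -/

/-- forced evaluation -/
noncomputable def fr (x : ℕ) (k : ℕ → ℕ) : ℕ := @Nat.rec (fun _ => ℕ) (k 0) (fun n _ => k (Nat.succ n)) x

theorem fr_eq (x : ℕ) (k : ℕ → ℕ) : fr x k = k x := by cases x <;> rfl

def net : ℕ → List (ℕ × ℕ)
  | 0 => n0
  | 1 => n1
  | _ => n2

/-- the letters -/
noncomputable def L : ℕ → RuOrder.H
  | 0 => ⟨_, mem0⟩
  | 1 => ⟨_, mem1⟩
  | _ => ⟨_, mem2⟩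

theorem L_apply (l : ℕ) (p : Fin 4060) : (((L l : RuOrder.H) : Equiv.Perm (Fin 4060)) p : ℕ) = app (net l) p := by
  unfold L net
  split <;> rfl

/-- value of a word at a point -/
noncomputable def ev : List ℕ → ℕ → ℕ
  | [], p => p
  | l :: w, p => fr (ev w p) (app (net l))

noncomputable def W (w : List ℕ) : RuOrder.H := (w.map L).prod

theorem W_append (u v : List ℕ) : W (u ++ v) = W u * W v := by
  unfold W; rw [List.map_append, List.prod_append]

theorem W_cons (l : ℕ) (v : List ℕ) : W (l :: v) = L l * W v := by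
  unfold W; rw [List.map_cons, List.prod_cons]

theorem W_nil : W [] = 1 := rfl

theorem W_single (l : ℕ) : W [l] = L l := by rw [W_cons, W_nil, mul_one]

theorem W_apply (p : Fin 4060) : ∀ w : List ℕ, (((W w : RuOrder.H) : Equiv.Perm (Fin 4060)) p : ℕ) = ev w p
  | [] => rfl
  | l :: w => by
    rw [W_cons]
    change (((L l : RuOrder.H) : Equiv.Perm (Fin 4060)) (((W w : RuOrder.H) : Equiv.Perm (Fin 4060)) p) : ℕ) = _
    rw [L_apply, W_apply p w, ev, fr_eq]

/-- an automorphism of the graph is determined by the images of the base points -/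
theorem eq_of_base {σ τ : RuOrder.H}
    (h1 : (σ : Equiv.Perm (Fin 4060)) RuOrder.b1 = (τ : Equiv.Perm (Fin 4060)) RuOrder.b1)
    (h2 : (σ : Equiv.Perm (Fin 4060)) RuOrder.b2 = (τ : Equiv.Perm (Fin 4060)) RuOrder.b2)
    (h3 : (σ : Equiv.Perm (Fin 4060)) RuOrder.b3 = (τ : Equiv.Perm (Fin 4060)) RuOrder.b3)
    (h4 : (σ : Equiv.Perm (Fin 4060)) RuOrder.b4 = (τ : Equiv.Perm (Fin 4060)) RuOrder.b4) : σ = τ := by
  apply Subtype.ext
  obtain ⟨σ, hσ⟩ := σ
  obtain ⟨τ, hτ⟩ := τ
  change σ = τ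
  have key : ∀ b, σ b = τ b → (τ⁻¹ * σ) b = b := by
    intro b hb
    rw [Equiv.Perm.mul_apply, hb]
    exact τ.symm_apply_apply b
  have hm : τ⁻¹ * σ ∈ RuOrder.H4 := by
    refine ⟨⟨⟨⟨RuOrder.H.mul_mem (RuOrder.H.inv_mem hτ) hσ, ?_⟩, ?_⟩, ?_⟩, ?_⟩
    · exact key _ h1
    · exact key _ h2
    · exact key _ h3
    · exact key _ h4
  have h5 : RuOrder.H4 = ⊥ := Subgroup.eq_bot_of_card_eq _ RuOrder.card_H4
  rw [h5, Subgroup.mem_bot] at hm
  exact (inv_mul_eq_one.1 hm).symm

/-- comparison of two words on the base points -/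
noncomputable def eqw (u v : List ℕ) : Bool :=
  cond (Nat.beq (ev u 0) (ev v 0)) (cond (Nat.beq (ev u 29) (ev v 29)) (cond (Nat.beq (ev u 580) (ev v 580))
    (Nat.beq (ev u 577) (ev v 577)) false) false) false

theorem and_of_cond {a b : Bool} (h : cond a b false = true) : a = true ∧ b = true := by
  cases a
  · exact absurd h Bool.false_ne_true
  · exact ⟨rfl, h⟩

theorem eqw_sound {u v : List ℕ} (h : eqw u v = true) : W u = W v := by
  unfold eqw at h
  obtain ⟨h1, h⟩ := and_of_cond h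
  obtain ⟨h2, h⟩ := and_of_cond h
  obtain ⟨h3, h4⟩ := and_of_cond h
  have key : ∀ b : Fin 4060, Nat.beq (ev u b) (ev v b) = true →
      ((W u : RuOrder.H) : Equiv.Perm (Fin 4060)) b = ((W v : RuOrder.H) : Equiv.Perm (Fin 4060)) b := by
    intro b hb
    apply Fin.ext
    rw [W_apply, W_apply]
    exact Nat.eq_of_beq_eq_true hb
  exact eq_of_base (key _ h1) (key _ h2) (key _ h3) (key _ h4)

/-! ### data -/

/-- words of the fourteen generators -/
def gw : List (List ℕ) := [
  [0],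
  [1],
  [2],
  [1, 2, 1, 2],
  [0, 2, 0, 2],
  [0, 1, 0, 1],
  [0, 1, 0, 2, 0, 2, 1, 2, 0, 2],
  [0, 1, 0, 1, 2, 0, 1, 0, 1, 2],
  [0, 1, 2, 0, 1, 2, 0, 1, 2, 0, 1, 2],
  [0, 1, 0, 2, 1, 2, 0, 1, 0, 2, 1, 2],
  [1, 2, 1, 2, 1, 2, 1, 2],
  [0, 2, 0, 2, 0, 2, 0, 2],
  [0, 1, 2, 0, 2, 1, 0, 1, 2, 0, 2, 1],
  [0, 1, 0, 1, 0, 1, 0, 1]]

/-- squares -/
def sqd : List (List ℕ) := [[], [], [], [10], [11], [13], [13], [11], [13], [], [], [], [], []]

/-- commutators: `g i g j = g j g i w` -/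
def cmd : List (List (List ℕ)) := [
  [[], [5], [4], [6, 7, 8, 10], [11], [13], [11, 12, 13], [11, 12], [11, 12, 13], [11], [11, 13], [], [], []],
  [[], [], [3], [10], [6, 11, 13], [13], [12, 13], [9, 11, 12, 13], [10, 13], [12], [], [12], [], []],
  [[], [], [], [10], [11], [7, 11, 13], [8, 9, 11, 12], [11], [10, 11], [10, 11, 13], [], [], [13], []],
  [[], [], [], [], [8, 9, 10, 11], [9, 10, 12, 13], [10], [10, 11], [12, 13], [12], [], [13], [], []],
  [[], [], [], [], [], [11, 12, 13], [12, 13], [13], [11], [11, 13], [], [], [], []],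
  [[], [], [], [], [], [], [12], [11], [11, 13], [12], [12], [], [], []],
  [[], [], [], [], [], [], [], [11, 12, 13], [12], [12], [], [], [], []],
  [[], [], [], [], [], [], [], [], [12, 13], [12], [13], [], [], []],
  [[], [], [], [], [], [], [], [], [], [13], [], [], [], []],
  [[], [], [], [], [], [], [], [], [], [], [], [], [], []],
  [[], [], [], [], [], [], [], [], [], [], [], [], [], []],
  [[], [], [], [], [], [], [], [], [], [], [], [], [], []],
  [[], [], [], [], [], [], [], [], [], [], [], [], [], []],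
  [[], [], [], [], [], [], [], [], [], [], [], [], [], []]]

def gwd (i : ℕ) : List ℕ := gw.getD i []
def sqi (i : ℕ) : List ℕ := sqd.getD i []
def cmi (i j : ℕ) : List ℕ := (cmd.getD i []).getD j []

noncomputable def g (i : ℕ) : RuOrder.H := W (gwd i)

/-- expansion of a word in the generators -/
def ex : List ℕ → List ℕ
  | [] => []
  | i :: e => gwd i ++ ex e

theorem W_ex : ∀ e : List ℕ, W (ex e) = (e.map g).prod
  | [] => rfl
  | i :: e => by rw [ex, W_append, W_ex e, List.map_cons, List.prod_cons]; rfl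

/-- all entries in `[b, 14)` -/
def ge (b : ℕ) (e : List ℕ) : Bool := e.all fun i => Nat.ble b i && Nat.blt i 14

theorem ge_spec {b : ℕ} {e : List ℕ} (h : ge b e = true) : ∀ i ∈ e, b ≤ i ∧ i < 14 := by
  intro i hi
  have h1 := List.all_eq_true.1 h i hi
  rw [Bool.and_eq_true] at h1
  exact ⟨Nat.le_of_ble_eq_true h1.1, Nat.blt_eq.mp h1.2⟩

theorem W_ex_mem {b : ℕ} {e : List ℕ} (h : ge b e = true) : W (ex e) ∈ N g 14 b := by
  rw [W_ex]
  exact prod_mem_N (ge_spec h)

theorem chkS : ∀ i < 14, (cond (ge (i + 1) (sqi i)) (eqw (gwd i ++ gwd i) (ex (sqi i))) false) = true := by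
  decide +kernel

theorem chkG : ∀ j < 14, ∀ i < j, ge (j + 1) (cmi i j) = true := by decide +kernel

theorem chkC : ∀ j < 14, ∀ i < j, eqw (gwd i ++ gwd j) (gwd j ++ (gwd i ++ ex (cmi i j))) = true := by decide +kernel

theorem comm_rel {i j : ℕ} (hij : i < j) (hj : j < 14) : g i * g j = g j * g i * W (ex (cmi i j)) := by
  have h := eqw_sound (chkC j hj i hij)
  rw [W_append, W_append, W_append] at h
  rw [mul_assoc]
  exact h

theorem sq_rel {i : ℕ} (hi : i < 14) : g i * g i = W (ex (sqi i)) := by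
  have h := eqw_sound (and_of_cond (chkS i hi)).2
  rw [W_append] at h
  exact h

theorem cert : Cert g 14 where
  sq i hi := by
    rw [sq_rel hi]
    exact W_ex_mem (and_of_cond (chkS i hi)).1
  comm i j hij hj := ⟨_, W_ex_mem (chkG j hj i hij), comm_rel hij hj⟩

/-! ### the subgroup -/

/-- the Sylow subgroup -/
noncomputable def T : Subgroup RuOrder.H := N g 14 0

theorem g_eq_L (i : ℕ) (hi : i < 3) : g i = L i := by
  rcases (by omega : i = 0 ∨ i = 1 ∨ i = 2) with rfl | rfl | rfl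
  · exact W_single 0
  · exact W_single 1
  · exact W_single 2

theorem L_mem_T (l : ℕ) : L l ∈ T := by
  rcases (by omega : l = 0 ∨ l = 1 ∨ 2 ≤ l) with rfl | rfl | h
  · rw [← g_eq_L 0 (by norm_num)]; exact mem_N le_rfl (by norm_num)
  · rw [← g_eq_L 1 (by norm_num)]; exact mem_N (by norm_num) (by norm_num)
  · have : L l = L 2 := by
      obtain ⟨m, rfl⟩ : ∃ m, l = m + 2 := ⟨l - 2, by omega⟩
      rfl
    rw [this, ← g_eq_L 2 (by norm_num)]; exact mem_N (by norm_num) (by norm_num)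

theorem W_mem_T (w : List ℕ) : W w ∈ T := by
  apply list_prod_mem
  intro x hx
  obtain ⟨l, _, rfl⟩ := List.mem_map.1 hx
  exact L_mem_T l

theorem T_eq : T = Subgroup.closure {x | x ∈ [g 0, g 1, g 2]} := by
  apply le_antisymm
  · rw [T, N, Subgroup.closure_le]
    rintro x ⟨i, _, _, rfl⟩
    apply list_prod_mem
    intro x hx
    obtain ⟨l, _, rfl⟩ := List.mem_map.1 hx
    rcases (by omega : l = 0 ∨ l = 1 ∨ 2 ≤ l) with rfl | rfl | h
    · rw [← g_eq_L 0 (by norm_num)]; exact Subgroup.subset_closure (by simp)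
    · rw [← g_eq_L 1 (by norm_num)]; exact Subgroup.subset_closure (by simp)
    · have : L l = L 2 := by
        obtain ⟨m, rfl⟩ : ∃ m, l = m + 2 := ⟨l - 2, by omega⟩
        rfl
      rw [this, ← g_eq_L 2 (by norm_num)]; exact Subgroup.subset_closure (by simp)
  · rw [Subgroup.closure_le]
    intro x hx
    simp only [List.mem_cons, List.not_mem_nil, or_false] at hx
    rcases hx with rfl | rfl | rfl <;> exact W_mem_T _

theorem card_T_dvd : Nat.card T ∣ 2 ^ 14 := cert.card_dvd 14 0 (by norm_num)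

/-! ### the order -/

/-- words of the stabiliser of the point 990 -/
def sw8 : List (List ℕ) := [[], [2, 1, 2], [0, 1, 2, 1, 2, 1, 0], [0, 1, 2, 1, 2, 1, 0, 2, 1, 2],
  [1, 0, 2, 1, 0, 1, 2, 1, 2, 1, 0, 2], [2, 0, 1, 2, 1, 2, 1, 0, 1, 2, 0, 1], [0, 2, 0, 1, 2, 0, 1, 0, 2, 1, 0, 2, 1],
  [1, 2, 0, 1, 2, 0, 2, 1, 2, 1, 2, 0, 2]]
def im8 : List ℕ := [0, 3410, 408, 232, 52, 1336, 3403, 956]

theorem chk8 : ∀ i < 8, Nat.beq (ev (sw8.getD i []) 990) 990 = true ∧
    Nat.beq (ev (sw8.getD i []) 0) (im8.getD i 0) = true := by decide +kernel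

theorem im8_inj : ∀ i < 8, ∀ j < 8, im8.getD i 0 = im8.getD j 0 → i = j := by decide

/-- the group on the points -/
noncomputable def TP : Subgroup (Equiv.Perm (Fin 4060)) := T.map RuOrder.H.subtype

theorem gens_TP : ∀ n ∈ [n0, n1, n2], ∃ h : OkNet 4060 n, perm h ∈ TP := by
  intro n hn
  simp only [List.mem_cons, List.not_mem_nil, or_false] at hn
  rcases hn with rfl | rfl | rfl
  · exact ⟨okNet_sound ok0, L 0, L_mem_T 0, rfl⟩
  · exact ⟨okNet_sound ok1, L 1, L_mem_T 1, rfl⟩
  · exact ⟨okNet_sound ok2, L 2, L_mem_T 2, rfl⟩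

theorem orb : Nat.ble 2048 (popc 12 (iter [n0, n1, n2] 13 (Nat.pow 2 990))) = true := by decide +kernel

theorem card_T : Nat.card T = 2 ^ 14 := by
  have e : Nat.card TP = Nat.card T := Nat.card_congr
    (T.equivMapOfInjective RuOrder.H.subtype RuOrder.H.subtype_injective).symm.toEquiv
  have h1 : 2048 * Nat.card ↥(TP ⊓ MulAction.stabilizer (Equiv.Perm (Fin 4060)) (⟨990, by norm_num⟩ : Fin 4060)) ≤
      Nat.card TP := lower_step (K := 12) (k := 13) gens_TP orb
  have h2 : 8 ≤ Nat.card ↥(TP ⊓ MulAction.stabilizer (Equiv.Perm (Fin 4060)) (⟨990, by norm_num⟩ : Fin 4060)) := by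
    have h8 : Nat.card (Fin 8) = 8 := by simp
    rw [← h8]
    refine Nat.card_le_card_of_injective (fun i : Fin 8 =>
      (⟨((W (sw8.getD i []) : RuOrder.H) : Equiv.Perm (Fin 4060)), ⟨⟨_, W_mem_T _, rfl⟩, ?_⟩⟩ :
        ↥(TP ⊓ MulAction.stabilizer (Equiv.Perm (Fin 4060)) (⟨990, by norm_num⟩ : Fin 4060)))) ?_
    · apply Fin.ext
      change (((W (sw8.getD i []) : RuOrder.H) : Equiv.Perm (Fin 4060)) ⟨990, by norm_num⟩ : ℕ) = 990
      rw [W_apply]
      exact Nat.eq_of_beq_eq_true (chk8 i i.2).1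
    · intro i j hij
      apply Fin.ext
      apply im8_inj i i.2 j j.2
      have h3 := congrArg (fun x => ((x.1 (⟨0, by norm_num⟩ : Fin 4060) : Fin 4060) : ℕ)) hij
      change (((W (sw8.getD i []) : RuOrder.H) : Equiv.Perm (Fin 4060)) ⟨0, by norm_num⟩ : ℕ) =
        (((W (sw8.getD j []) : RuOrder.H) : Equiv.Perm (Fin 4060)) ⟨0, by norm_num⟩ : ℕ) at h3
      rw [W_apply, W_apply] at h3
      have h4 := Nat.eq_of_beq_eq_true (chk8 i i.2).2
      have h5 := Nat.eq_of_beq_eq_true (chk8 j j.2).2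
      rw [← h4, ← h5]
      exact h3
  have h3 := Nat.le_of_dvd (by norm_num) card_T_dvd
  omega

/-! ### the lower central series -/

def lvl (s b : ℕ) : Bool := (List.range 14).all fun j => (List.range 3).all fun i =>
  cond (Nat.blt j s) true (cond (Nat.beq i j) true (cond (Nat.blt i j) (ge b (cmi i j)) (ge b (cmi j i))))

theorem lvl_spec {s b : ℕ} (h : lvl s b = true) {i j : ℕ} (hi : i < 3) (hj : j < 14) (hs : s ≤ j) (hij : i ≠ j) :
    ge b (if i < j then cmi i j else cmi j i) = true := by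
  have h1 := List.all_eq_true.1 (List.all_eq_true.1 h j (List.mem_range.2 hj)) i (List.mem_range.2 hi)
  have e1 : Nat.blt j s = false := by
    rw [← Bool.not_eq_true, Nat.blt_eq]; omega
  have e2 : Nat.beq i j = false := by
    cases h2 : Nat.beq i j with
    | false => rfl
    | true => exact absurd (Nat.eq_of_beq_eq_true h2) hij
  simp only [e1, e2, cond_false] at h1
  by_cases h3 : i < j
  · have e3 : Nat.blt i j = true := Nat.blt_eq.mpr h3
    rw [e3, cond_true] at h1
    rw [if_pos h3]; exact h1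
  · have e3 : Nat.blt i j = false := by rw [← Bool.not_eq_true, Nat.blt_eq]; exact h3
    rw [e3, cond_false] at h1
    rw [if_neg h3]; exact h1

theorem comm_mem_of_lvl {s b : ℕ} (h : lvl s b = true) {i j : ℕ} (hi : i < 3) (hj : j < 14) (hs : s ≤ j) :
    ⁅g j, g i⁆ ∈ N g 14 b := by
  by_cases hij : i = j
  · rw [hij, commutatorElement_self]; exact one_mem _
  · have h1 := lvl_spec h hi hj hs hij
    by_cases h3 : i < j
    · rw [if_pos h3] at h1
      exact (cert.comm_mem (by omega) hj (W_ex_mem h1) (comm_rel h3 hj)).2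
    · rw [if_neg h3] at h1
      exact (cert.comm_mem hj (by omega) (W_ex_mem h1) (comm_rel (by omega) (by omega))).1

theorem comm_le {s b : ℕ} (h : lvl s b = true) : ⁅N g 14 s, T⁆ ≤ N g 14 b := by
  rw [T_eq, N]
  apply commutator_closure_le
  · exact cert.le_normalizer s b
  · rw [← T_eq]; exact cert.le_normalizer 0 b
  · rintro x ⟨j, h1, h2, rfl⟩ y hy
    simp only [List.mem_cons, List.not_mem_nil, or_false] at hy
    rcases hy with rfl | rfl | rfl
    · exact comm_mem_of_lvl h (by norm_num) h2 h1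
    · exact comm_mem_of_lvl h (by norm_num) h2 h1
    · exact comm_mem_of_lvl h (by norm_num) h2 h1

theorem comm_le_one : ⁅T, T⁆ ≤ N g 14 3 := by
  rw [T_eq]
  apply commutator_closure_le
  · rw [← T_eq]; exact cert.le_normalizer 0 3
  · rw [← T_eq]; exact cert.le_normalizer 0 3
  · have h01 := cert.comm_mem (i := 0) (j := 1) (b := 3) (by norm_num) (by norm_num)
      (W_ex_mem (by decide)) (comm_rel (by norm_num) (by norm_num))
    have h02 := cert.comm_mem (i := 0) (j := 2) (b := 3) (by norm_num) (by norm_num)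
      (W_ex_mem (by decide)) (comm_rel (by norm_num) (by norm_num))
    have h12 := cert.comm_mem (i := 1) (j := 2) (b := 3) (by norm_num) (by norm_num)
      (W_ex_mem (by decide)) (comm_rel (by norm_num) (by norm_num))
    intro x hx y hy
    simp only [List.mem_cons, List.not_mem_nil, or_false] at hx hy
    rcases hx with rfl | rfl | rfl <;> rcases hy with rfl | rfl | rfl
    · rw [commutatorElement_self]; exact one_mem _
    · exact h01.1
    · exact h02.1
    · exact h01.2
    · rw [commutatorElement_self]; exact one_mem _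
    · exact h12.1
    · exact h02.2
    · exact h12.2
    · rw [commutatorElement_self]; exact one_mem _

/-- the seventh term -/
noncomputable def U : Subgroup RuOrder.H := ⁅⁅⁅⁅⁅⁅T, T⁆, T⁆, T⁆, T⁆, T⁆, T⁆

theorem U_le : U ≤ N g 14 12 := by
  have c2 := comm_le (s := 3) (b := 6) (by decide)
  have c3 := comm_le (s := 6) (b := 8) (by decide)
  have c4 := comm_le (s := 8) (b := 10) (by decide)
  have c5 := comm_le (s := 10) (b := 11) (by decide)
  have c6 := comm_le (s := 11) (b := 12) (by decide)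
  have d1 := comm_le_one
  have d2 := (Subgroup.commutator_mono d1 le_rfl).trans c2
  have d3 := (Subgroup.commutator_mono d2 le_rfl).trans c3
  have d4 := (Subgroup.commutator_mono d3 le_rfl).trans c4
  have d5 := (Subgroup.commutator_mono d4 le_rfl).trans c5
  exact (Subgroup.commutator_mono d5 le_rfl).trans c6

theorem commute_of_nil {i j : ℕ} (hij : i < j) (hj : j < 14) (h : cmi i j = []) : g i * g j = g j * g i := by
  have h1 := comm_rel hij hj
  rw [h] at h1
  have h2 : W (ex []) = 1 := rfl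
  rw [h2, mul_one] at h1
  exact h1

theorem nils : ∀ i < 14, i ≠ 2 → (i < 12 → cmi i 12 = []) ∧ (i < 13 → cmi i 13 = []) := by decide

theorem mem_centralizer_U {i : ℕ} (hi : i < 14) (h2 : i ≠ 2) : g i ∈ Subgroup.centralizer (U : Set RuOrder.H) := by
  have h3 : N g 14 12 ≤ Subgroup.centralizer {g i} := by
    rw [N, Subgroup.closure_le]
    rintro x ⟨j, h4, h5, rfl⟩
    rw [SetLike.mem_coe, Subgroup.mem_centralizer_singleton_iff]
    obtain ⟨n1, n2⟩ := nils i hi h2
    rcases (by omega : j = 12 ∨ j = 13) with rfl | rfl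
    · rcases (by omega : i < 12 ∨ i = 12 ∨ i = 13) with h | rfl | rfl
      · exact (commute_of_nil h (by norm_num) (n1 h)).symm
      · rfl
      · exact commute_of_nil (by norm_num) (by norm_num) ((nils 12 (by norm_num) (by norm_num)).2 (by norm_num))
    · rcases (by omega : i < 13 ∨ i = 13) with h | rfl
      · exact (commute_of_nil h (by norm_num) (n2 h)).symm
      · rfl
  rw [Subgroup.mem_centralizer_iff]
  intro u hu
  exact (Subgroup.mem_centralizer_singleton_iff.1 (h3 (U_le hu)))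

theorem N3_le : N g 14 3 ≤ Subgroup.centralizer (U : Set RuOrder.H) := by
  rw [N, Subgroup.closure_le]
  rintro x ⟨j, h4, h5, rfl⟩
  exact mem_centralizer_U h5 (by omega)

/-! ### `U` is not central -/

theorem L_sq (l : ℕ) (hl : l < 3) : L l * L l = 1 := by
  rw [← g_eq_L l hl, sq_rel (by omega)]
  rcases (by omega : l = 0 ∨ l = 1 ∨ l = 2) with rfl | rfl | rfl <;> rfl

theorem W_reverse : ∀ w : List ℕ, (∀ l ∈ w, l < 3) → W w.reverse = (W w)⁻¹
  | [], _ => by rw [List.reverse_nil, W_nil, inv_one]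
  | l :: w, h => by
    rw [List.reverse_cons, W_append, W_single, W_cons, mul_inv_rev,
      W_reverse w (fun m hm => h m (List.mem_cons_of_mem _ hm))]
    congr 1
    exact eq_inv_of_mul_eq_one_left (L_sq l (h l List.mem_cons_self))

/-- word of the commutator with a letter -/
def cw (u : List ℕ) (l : ℕ) : List ℕ := u ++ (l :: (u.reverse ++ [l]))

theorem cw_lt {u : List ℕ} {l : ℕ} (hu : ∀ m ∈ u, m < 3) (hl : l < 3) : ∀ m ∈ cw u l, m < 3 := by
  intro m hm
  unfold cw at hm
  simp only [List.mem_append, List.mem_cons, List.mem_reverse, List.not_mem_nil, or_false] at hm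
  rcases hm with h | rfl | h | rfl
  · exact hu m h
  · exact hl
  · exact hu m h
  · exact hl

theorem W_cw {u : List ℕ} {l : ℕ} (hu : ∀ m ∈ u, m < 3) (hl : l < 3) : W (cw u l) = ⁅W u, L l⁆ := by
  have e : (L l)⁻¹ = L l := inv_eq_of_mul_eq_one_left (L_sq l hl)
  unfold cw
  rw [W_append, W_cons, W_append, W_single, W_reverse u hu, commutatorElement_def, e]
  group

/-- the word of an element of `U` -/
def uw : List ℕ := cw (cw (cw (cw (cw (cw [0] 1) 2) 1) 2) 0) 1

theorem uw_mem : W uw ∈ U := by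
  have l0 : ∀ m ∈ [0], m < 3 := by decide
  have l1 := cw_lt l0 (l := 1) (by norm_num)
  have l2 := cw_lt l1 (l := 2) (by norm_num)
  have l3 := cw_lt l2 (l := 1) (by norm_num)
  have l4 := cw_lt l3 (l := 2) (by norm_num)
  have l5 := cw_lt l4 (l := 0) (by norm_num)
  have m1 : W (cw [0] 1) ∈ ⁅T, T⁆ := by
    rw [W_cw l0 (by norm_num)]
    exact Subgroup.commutator_mem_commutator (W_mem_T _) (L_mem_T _)
  have m2 : W (cw (cw [0] 1) 2) ∈ ⁅⁅T, T⁆, T⁆ := by
    rw [W_cw l1 (by norm_num)]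
    exact Subgroup.commutator_mem_commutator m1 (L_mem_T _)
  have m3 : W (cw (cw (cw [0] 1) 2) 1) ∈ ⁅⁅⁅T, T⁆, T⁆, T⁆ := by
    rw [W_cw l2 (by norm_num)]
    exact Subgroup.commutator_mem_commutator m2 (L_mem_T _)
  have m4 : W (cw (cw (cw (cw [0] 1) 2) 1) 2) ∈ ⁅⁅⁅⁅T, T⁆, T⁆, T⁆, T⁆ := by
    rw [W_cw l3 (by norm_num)]
    exact Subgroup.commutator_mem_commutator m3 (L_mem_T _)
  have m5 : W (cw (cw (cw (cw (cw [0] 1) 2) 1) 2) 0) ∈ ⁅⁅⁅⁅⁅T, T⁆, T⁆, T⁆, T⁆, T⁆ := by
    rw [W_cw l4 (by norm_num)]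
    exact Subgroup.commutator_mem_commutator m4 (L_mem_T _)
  unfold uw
  rw [W_cw l5 (by norm_num)]
  exact Subgroup.commutator_mem_commutator m5 (L_mem_T _)

theorem chkU : Nat.beq (ev (2 :: uw) 0) (ev (uw ++ [2]) 0) = false := by decide +kernel

theorem c_not_mem : g 2 ∉ Subgroup.centralizer (U : Set RuOrder.H) := by
  intro h
  rw [Subgroup.mem_centralizer_iff] at h
  have h1 := h _ uw_mem
  rw [g_eq_L 2 (by norm_num)] at h1
  have h2 : W (uw ++ [2]) = W (2 :: uw) := by rw [W_append, W_single, W_cons, h1]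
  have h3 := congrArg (fun x : RuOrder.H => (((x : Equiv.Perm (Fin 4060)) RuOrder.b1 : Fin 4060) : ℕ)) h2
  simp only [W_apply] at h3
  have h4 := chkU
  rw [show ((RuOrder.b1 : Fin 4060) : ℕ) = 0 from rfl] at h3
  rw [h3] at h4
  rw [Nat.beq_refl] at h4
  exact absurd h4 (by decide)

end Cfsg.Agent.Schreier.RuSyl
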