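import Cfsg.Agent.Th.CStruct
import Cfsg.Agent.Schreier.ExtraCent

/-!
# The Schreier property of the Thompson group: the centraliser `2^{1+8}.A9`
-/

set_option autoImplicit false
set_option maxRecDepth 100000

namespace Cfsg.Agent.Schreier.ThCore

open Cfsg.Agent.Th.Base Cfsg.Agent.Th.Word Cfsg.Agent.Th.RelWords Cfsg.Agent.Th.PermTab
  Cfsg.Agent.Th.KOracle Cfsg.Agent.Th.KPerm Cfsg.Agent.Th.NineAct Cfsg.Agent.Th.CStruct
open Cfsg.Agent.Schreier.Basic Cfsg.Agent.Th
open scoped commutatorElement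

universe u

variable {G : Type u} [Group G] {γ : ℕ → G}

/-- a normal 2-subgroup of `A9` is trivial -/
theorem normal_two_alt (N : Subgroup (alternatingGroup (Fin 9))) (hN : N.Normal) (h2 : IsPGroup 2 N) : N = ⊥ := by
  have hs : IsSimpleGroup (alternatingGroup (Fin 9)) := by
    apply alternatingGroup.isSimpleGroup
    simp
  rcases hN.eq_bot_or_eq_top with h | h
  · exact h
  · exfalso
    subst h
    haveI : Fact (Nat.Prime 2) := ⟨Nat.prime_two⟩
    obtain ⟨n, hn⟩ := IsPGroup.iff_card.1 h2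
    rw [Subgroup.card_top, nat_card_alternatingGroup, Nat.card_eq_fintype_card, Fintype.card_fin] at hn
    have h3 : (3 : ℕ) ∣ 2 ^ n := by
      rw [← hn]
      decide
    have := Nat.Prime.dvd_of_dvd_pow Nat.prime_three h3
    omega

section

variable (hγ : InvCompat γ) (hK : RelK (γ 1) (γ 2) (γ 3) (γ 4) (γ 5) (γ 6) (γ 8))
  (hC : RelC (γ 1) (γ 3) (γ 4) (γ 5) (γ 6) (γ 8) (γ 10))
  (hcardK : Nat.card (sub γ isK) = 634023936) (hcardC : Nat.card (sub γ isC) = 92897280)
  (ha : γ 1 ≠ 1)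

include hγ hK hC hcardK hcardC

theorem Q0_le_C : Q0 γ ≤ sub γ isC := by
  refine Q0_le_B.trans ?_
  unfold sub
  apply Subgroup.closure_mono
  rintro g ⟨x, hx, rfl⟩
  exact ⟨x, isC_of_isB hx, rfl⟩

/-- the epimorphism onto `A9` with kernel `Q0` -/
theorem exists_epi : ∃ f : sub γ isC →* alternatingGroup (Fin 9), Function.Surjective f ∧
    f.ker = (Q0 γ).subgroupOf (sub γ isC) ∧
    ∀ (w : List ℕ) (hw : ∀ x ∈ w, isC x = true),
      ((f ⟨ev γ w, ev_mem_sub hw⟩ : alternatingGroup (Fin 9)) : Equiv.Perm (Fin 9)) = ev (rho isTab9) w := by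
  obtain ⟨φ, hφ, hφ2⟩ := exists_hom9 hγ hC hcardC
  have hfinC : Finite (sub γ isC) := Nat.finite_of_card_ne_zero (by rw [hcardC]; norm_num)
  have hQC : Q0 γ ≤ sub γ isC := Q0_le_C hγ hK hC hcardK hcardC
  -- order of the kernel
  have hker : Nat.card φ.ker = 512 := by
    have h1 := Subgroup.card_mul_index φ.ker
    have h2 : φ.ker.index = 181440 := by
      rw [Subgroup.index_ker, hφ, nat_card_alternatingGroup, Nat.card_eq_fintype_card, Fintype.card_fin]
      decide
    rw [h2, hcardC] at h1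
    omega
  have hle : (Q0 γ).subgroupOf (sub γ isC) ≤ φ.ker := by
    rintro ⟨y, hy⟩ hyQ
    rw [Subgroup.mem_subgroupOf] at hyQ
    have hyQ : y ∈ Q0 γ := hyQ
    -- the preimage of the kernel contains the generators
    have h1 : Q0 γ ≤ φ.ker.map (sub γ isC).subtype := by
      unfold Q0
      rw [Subgroup.closure_le]
      have key : ∀ (w : List ℕ) (hw : ∀ x ∈ w, isC x = true), (∀ p < 9, tr act9 w p = p) →
          ev γ w ∈ φ.ker.map (sub γ isC).subtype := by
        intro w hw hp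
        refine ⟨⟨ev γ w, ev_mem_sub hw⟩, ?_, rfl⟩
        rw [SetLike.mem_coe, MonoidHom.mem_ker, hφ2 w hw]
        exact ev_rho_eq_one isTab9 hw hp
      rintro z (rfl | ⟨i, rfl⟩)
      · have := key [1] (by decide +kernel) (by decide +kernel)
        rwa [ev_singleton] at this
      · refine key (wc i) (fun x hx => isC_of_isB ((allL_iff _ _).mp ((allB_iff _ _).mp K_check i i.2) x hx)) ?_
        intro p hp
        exact Nat.eq_of_beq_eq_true ((allB_iff _ _).mp ((allB_iff _ _).mp nine_check i i.2) p hp)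
    obtain ⟨z, hz, hzy⟩ := h1 hyQ
    have : (⟨y, hy⟩ : sub γ isC) = z := Subtype.ext hzy.symm
    rw [this]; exact hz
  have hcQ : Nat.card ((Q0 γ).subgroupOf (sub γ isC)) = Nat.card (Q0 γ) :=
    Nat.card_congr (Subgroup.subgroupOfEquivOfLe hQC).toEquiv
  have hge := card_Q0_ge hγ hK hcardK
  have heq : (Q0 γ).subgroupOf (sub γ isC) = φ.ker := by
    apply Subgroup.eq_of_le_of_card_ge hle
    rw [hker, hcQ]; exact hge
  let e : φ.range ≃* alternatingGroup (Fin 9) := MulEquiv.subgroupCongr hφ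
  refine ⟨e.toMonoidHom.comp φ.rangeRestrict, ?_, ?_, ?_⟩
  · exact e.surjective.comp φ.rangeRestrict_surjective
  · rw [heq]
    ext x
    rw [MonoidHom.mem_ker, MonoidHom.mem_ker]
    constructor
    · intro h
      have h1 : e (φ.rangeRestrict x) = 1 := h
      rw [map_eq_one_iff e e.injective] at h1
      exact congrArg Subtype.val h1
    · intro h
      show e (φ.rangeRestrict x) = 1
      rw [map_eq_one_iff e e.injective]
      exact Subtype.ext h
  · intro w hw
    exact hφ2 w hw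

theorem card_Q0 : Nat.card (Q0 γ) = 512 := by
  obtain ⟨f, hf, hker, -⟩ := exists_epi hγ hK hC hcardK hcardC
  have hfinC : Finite (sub γ isC) := Nat.finite_of_card_ne_zero (by rw [hcardC]; norm_num)
  have h1 := Subgroup.card_mul_index f.ker
  have h2 : f.ker.index = 181440 := by
    rw [Subgroup.index_ker, MonoidHom.range_eq_top.2 hf, Subgroup.card_top, nat_card_alternatingGroup,
      Nat.card_eq_fintype_card, Fintype.card_fin]
    decide
  have h3 : Nat.card f.ker = Nat.card (Q0 γ) := by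
    rw [hker]
    exact Nat.card_congr (Subgroup.subgroupOfEquivOfLe (Q0_le_C hγ hK hC hcardK hcardC)).toEquiv
  rw [h2, h3, hcardC] at h1
  omega

/-- the element of `C` permuting the nine involutions cyclically -/
def x0 (γ : ℕ → G) : G := (ev γ [4, 5, 6])⁻¹

omit hC hcardK hcardC in
theorem x0_conj (i : Fin 9) (j : Fin 9) (hj : (j : ℕ) = tr act9 [4, 5, 6] i) :
    x0 γ * cc γ i * (x0 γ)⁻¹ = cc γ j := by
  have h4 : act9 4 i < 9 := isTab9.lt 4 (by decide) i i.2
  have h5 : act9 5 (act9 4 i) < 9 := isTab9.lt 5 (by decide) _ h4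
  have e4 := cc_conj hγ hK i (x := 4) (by simp) ⟨act9 4 i, h4⟩ rfl
  have e5 := cc_conj hγ hK ⟨act9 4 i, h4⟩ (x := 5) (by simp) ⟨act9 5 (act9 4 i), h5⟩ rfl
  have e6 := cc_conj hγ hK ⟨act9 5 (act9 4 i), h5⟩ (x := 6) (by simp) j hj
  unfold x0
  rw [ev_cons, ev_cons, ev_singleton, inv_inv, ← e6, ← e5, ← e4]
  group

omit hcardK hcardC in
theorem x0_mem : x0 γ ∈ sub γ isC := inv_mem (ev_mem_sub (by decide))

omit hC hcardK hcardC in
theorem x0_gen (N : Subgroup G) (h1 : γ 1 ∈ N) (h0 : cc γ 0 ∈ N)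
    (hN : ∀ n ∈ N, n ∈ Q0 γ → x0 γ * n * (x0 γ)⁻¹ ∈ N) : Q0 γ ≤ N := by
  have hm : ∀ i : Fin 9, cc γ i ∈ Q0 γ := fun i => Subgroup.subset_closure (Or.inr ⟨i, rfl⟩)
  have step : ∀ i j : Fin 9, (j : ℕ) = tr act9 [4, 5, 6] i → cc γ i ∈ N → cc γ j ∈ N := by
    intro i j hj hi
    rw [← x0_conj hγ hK i j hj]
    exact hN _ hi (hm i)
  -- 0→6→5→3→7→4→8→2→1→0
  have h6 := step 0 6 (by decide +kernel) h0
  have h5 := step 6 5 (by decide +kernel) h6
  have h3 := step 5 3 (by decide +kernel) h5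
  have h7 := step 3 7 (by decide +kernel) h3
  have h4 := step 7 4 (by decide +kernel) h7
  have h8 := step 4 8 (by decide +kernel) h4
  have h2 := step 8 2 (by decide +kernel) h8
  have h1' := step 2 1 (by decide +kernel) h2
  unfold Q0
  rw [Subgroup.closure_le]
  rintro y (rfl | ⟨i, rfl⟩)
  · exact h1
  · fin_cases i
    · exact h0
    · exact h1'
    · exact h2
    · exact h3
    · exact h4
    · exact h5
    · exact h6
    · exact h7
    · exact h8

include ha

/-- the main theorem -/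
theorem main [Finite G] [IsSimpleGroup G] (hnc : ¬ IsMulCommutative G) (hodd : Odd (sub γ isC).index)
    (hcent : Subgroup.centralizer ({γ 1} : Set G) = sub γ isC)
    (hA9 : Sch (alternatingGroup (Fin 9))) : Sch G := by
  have hD := nineData hγ hK ha
  obtain ⟨f, hf, hker, hfw⟩ := exists_epi hγ hK hC hcardK hcardC
  have hQC := Q0_le_C hγ hK hC hcardK hcardC
  have hcard := card_Q0 hγ hK hC hcardK hcardC
  have hmemC : ∀ k : G, k ∈ sub γ isC ↔ k * γ 1 = γ 1 * k := by
    intro k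
    rw [← hcent, Subgroup.mem_centralizer_singleton_iff]
  have hQn : ∀ c ∈ sub γ isC, ∀ q ∈ Q0 γ, c * q * c⁻¹ ∈ Q0 γ := by
    intro c hc q hq
    have h1 : (⟨q, hQC hq⟩ : sub γ isC) ∈ f.ker := by
      rw [hker, Subgroup.mem_subgroupOf]; exact hq
    have hn : (f.ker).Normal := inferInstance
    have h2 := hn.conj_mem _ h1 ⟨c, hc⟩
    rw [hker, Subgroup.mem_subgroupOf] at h2
    exact h2
  have hQ2 : IsPGroup 2 (Q0 γ) := IsPGroup.of_card (n := 9) (by rw [hcard]; norm_num)
  have haQ : γ 1 ∈ Q0 γ := Subgroup.subset_closure (Or.inl rfl)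
  have hcm : ∀ i : Fin 9, cc γ i ∈ Q0 γ := fun i => Subgroup.subset_closure (Or.inr ⟨i, rfl⟩)
  have hex : Cfsg.IsExtraspecial 2 (Q0 γ) := NineExtra.isExtraspecial hD hcard
  -- the centre of `Q0`
  have hcen : ∀ q ∈ Q0 γ, (∀ r ∈ Q0 γ, q * r = r * q) → q ∈ Subgroup.zpowers (γ 1) := by
    intro q hq hqc
    have hfin : Finite (Q0 γ) := inferInstance
    have h1 : (⟨q, hq⟩ : Q0 γ) ∈ Subgroup.center (Q0 γ) := by
      rw [Subgroup.mem_center_iff]
      intro r
      exact Subtype.ext (hqc r r.2).symm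
    have h2 : (⟨γ 1, haQ⟩ : Q0 γ) ∈ Subgroup.center (Q0 γ) := by
      rw [Subgroup.mem_center_iff]
      intro r
      exact Subtype.ext (NineExtra.comm_a hD r.2).symm
    have h3 : Nat.card (Subgroup.center (Q0 γ)) = 2 := hex.2
    by_contra hcon
    have h4 : q ≠ 1 := fun h => hcon (by rw [h]; exact one_mem _)
    have h5 : q ≠ γ 1 := fun h => hcon (by rw [h]; exact Subgroup.mem_zpowers _)
    have h6 : ({1, ⟨γ 1, haQ⟩, ⟨q, hq⟩} : Set (Q0 γ)) ⊆ (Subgroup.center (Q0 γ) : Set (Q0 γ)) := by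
      rintro y (rfl | rfl | rfl)
      · exact one_mem _
      · exact h2
      · exact h1
    have h7 : ({1, ⟨γ 1, haQ⟩, ⟨q, hq⟩} : Set (Q0 γ)).ncard = 3 := by
      rw [Set.ncard_eq_three]
      refine ⟨_, _, _, ?_, ?_, ?_, rfl⟩
      · intro h; exact ha (congrArg Subtype.val h).symm
      · intro h; exact h4 (congrArg Subtype.val h).symm
      · intro h; exact h5 (congrArg Subtype.val h).symm
    have h8 := Set.ncard_le_ncard h6 (Set.toFinite _)
    have h9 : (Subgroup.center (Q0 γ) : Set (Q0 γ)).ncard = 2 := h3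
    omega
  refine ExtraCent.sch_of_cyclic hnc (γ 1) ?_ ha (sub γ isC) hmemC hodd (Q0 γ) hQC hQn hQ2 haQ ?_ ?_ f hf hker hA9
    normal_two_alt (x0 γ) (x0_mem hγ hK hC) (cc γ 0) (hcm 0) ?_
  · rw [pow_two]; exact hD.aa
  · -- commutators
    rw [Subgroup.commutator_le]
    intro q hq r hr
    have hsp := hex.1.2.2
    have h1 : ⁅(⟨q, hq⟩ : Q0 γ), (⟨r, hr⟩ : Q0 γ)⁆ ∈ Subgroup.center (Q0 γ) := by
      rw [← hsp]
      exact Subgroup.commutator_mem_commutator (Subgroup.mem_top _) (Subgroup.mem_top _)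
    have h2 := Subgroup.mem_center_iff.1 h1
    refine hcen _ (mul_mem (mul_mem (mul_mem hq hr) (inv_mem hq)) (inv_mem hr)) fun s hs => ?_
    exact (congrArg Subtype.val (h2 ⟨s, hs⟩)).symm
  · -- the centraliser of `Q0` in `C`
    intro c hc hcq
    -- the image of `C_C(Q0)` in `A9`
    let X : Subgroup (sub γ isC) :=
      { carrier := {c | ∀ q ∈ Q0 γ, (c : G) * q = q * c}
        one_mem' := fun q _ => by simp
        mul_mem' := by
          intro a b ha' hb q hq
          show (a : G) * b * q = q * (a * b)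
          rw [mul_assoc, hb q hq, ← mul_assoc, ha' q hq, mul_assoc]
        inv_mem' := by
          intro a ha' q hq
          show (a : G)⁻¹ * q = q * (a : G)⁻¹
          rw [inv_mul_eq_iff_eq_mul, ← mul_assoc, ha' q hq, mul_assoc, mul_inv_cancel, mul_one] }
    have hXn : X.Normal := by
      constructor
      intro y hy g q hq
      have h1 := hQn (g : G)⁻¹ (inv_mem g.2) q hq
      have h2 := hy _ h1
      show (g : G) * y * (g : G)⁻¹ * q = q * (g * y * (g : G)⁻¹)
      have h3 : (g : G) * y * (g : G)⁻¹ * q = g * (y * ((g : G)⁻¹ * q * (g : G)⁻¹⁻¹)) * (g : G)⁻¹ := by group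
      rw [h3, h2]
      group
    have hs : IsSimpleGroup (alternatingGroup (Fin 9)) := by
      apply alternatingGroup.isSimpleGroup
      simp
    rcases (hXn.map f hf).eq_bot_or_eq_top with h | h
    · have h1 : f ⟨c, hc⟩ ∈ X.map f := ⟨⟨c, hc⟩, hcq, rfl⟩
      rw [h, Subgroup.mem_bot, ← MonoidHom.mem_ker, hker, Subgroup.mem_subgroupOf] at h1
      exact hcen c h1 hcq
    · exfalso
      have h1 : f ⟨x0 γ, x0_mem hγ hK hC⟩ ∈ X.map f := by rw [h]; trivial
      obtain ⟨y, hy, hfy⟩ := h1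
      have h2 : y⁻¹ * ⟨x0 γ, x0_mem hγ hK hC⟩ ∈ f.ker := by
        rw [MonoidHom.mem_ker, map_mul, map_inv, hfy, inv_mul_cancel]
      rw [hker, Subgroup.mem_subgroupOf] at h2
      -- `x0 = y q`
      set q : G := (y : G)⁻¹ * x0 γ with hq
      have hqQ : q ∈ Q0 γ := h2
      have h3 : x0 γ = y * q := by rw [hq]; group
      have h4 := x0_conj hγ hK 0 6 (by decide +kernel)
      have h5 : q * cc γ 0 * q⁻¹ ∈ Q0 γ := mul_mem (mul_mem hqQ (hcm 0)) (inv_mem hqQ)
      have h6 : x0 γ * cc γ 0 * (x0 γ)⁻¹ = q * cc γ 0 * q⁻¹ := by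
        rw [h3]
        have := hy _ h5
        calc (y : G) * q * cc γ 0 * ((y : G) * q)⁻¹ = (y : G) * (q * cc γ 0 * q⁻¹) * (y : G)⁻¹ := by group
          _ = (q * cc γ 0 * q⁻¹) * y * (y : G)⁻¹ := by rw [this]
          _ = q * cc γ 0 * q⁻¹ := by group
      rw [h4] at h6
      -- `c6 = q c0 q⁻¹ ∈ {c0, a c0}`
      have h7 := NineExtra.comm_c hD 0 hqQ
      have h8 : cc γ 6 = cc γ 0 ∨ cc γ 6 = γ 1 * cc γ 0 := by
        rcases h7 with h7 | h7
        · left
          rw [h6, h7]; group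
        · right
          rw [h6, h7]; group
      have h9 := hD.com 0 6 (by decide)
      have h10 : cc γ 0 * cc γ 6 = cc γ 6 * cc γ 0 := by
        rcases h8 with h8 | h8
        · rw [h8]
        · rw [h8, ← mul_assoc, ← hD.ac 0]
      exact NineExtra.not_both hD 6 (cc γ 0) h10 h9
  · intro N h1 h2 h3
    exact x0_gen hγ hK N h1 h2 h3

end

end Cfsg.Agent.Schreier.ThCore
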