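import Mathlib
import Cfsg.Agent.Schreier.BNTwisted
import Cfsg.Agent.Schreier.BNArith
import Cfsg.Agent.ChevalleyStructure.D4Twisted
import Cfsg.Agent.S1032
import Cfsg.Agent.S1048
import Cfsg.Agent.S1067
import Cfsg.Agent.S1088
import Cfsg.Agent.S1109

/-!
# The Schreier property of ³D₄(q)
-/

set_option autoImplicit false

namespace Cfsg.Agent.Schreier.TwDFour

open Cfsg.Lie
open Cfsg.Agent.ChevalleyStructure.D4Fixed (sig coe_sig fix mem_fix twisted_le_fix twisted_induction)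
open Cfsg.Agent.ChevalleyStructure.D4Cols (xU coe_xU wU)
open Cfsg.Agent.ChevalleyStructure.D4Comm
open Cfsg.Agent.ChevalleyStructure.D4CommTab
open Cfsg.Agent.ChevalleyStructure.D4Pos
open Cfsg.Agent.ChevalleyStructure.D4NCheck
open Cfsg.Agent.ChevalleyStructure.D4NConj (nR nR_def nG nG_conj nG_def hR hR_def nR_eq nR_inv xG_inv simple_eq
  coe_nR coe_hR torG torG_conj chi)
open Cfsg.Agent.ChevalleyStructure.TwistedU
open Cfsg.Agent.ChevalleyStructure.D4U
open Cfsg.Agent.ChevalleyStructure.D4RGD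
open Cfsg.Agent.ChevalleyStructure.D4Twisted
open Cfsg.Agent.ChevalleyStructure.TwistedBN
open Cfsg.Agent.ChevalleyStructure
open Cfsg.Agent.Schreier.BNTwisted

variable {K : Type*} [Field K] {q : ℕ} {φ : K →+* K}

theorem hD4 : chevD4 ∈ [chevG2, chevB2, chevD4, chevF4, chevE6, chevE7, chevE8] := by simp

theorem hR_conj {i r s : ℕ} (hi : i < 4) (hr : chevD4.simple i = r) (hr24 : r < 24) (hs : s < 24) {c : K}
    (hc : c ≠ 0) {k : ℤ} (hk : chevD4.cartan i s = k) (t : K) :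
    hR r c * xG s t * (hR r c)⁻¹ = xG s (c ^ k * t) := by
  rw [mul_inv_eq_iff_eq_mul]
  apply Units.ext
  rw [Units.val_mul, Units.val_mul, coe_hR hr24, coe_xG, coe_xG]
  subst hr hk
  exact Cfsg.Agent.S1032.result (F := K) chevD4 hD4 i s hi hs c hc t

/-- The action of `H` on a root group. -/
theorem H_act {h : GL chevD4.Idx K} (hh : h ∈ chevD4.diagonalSubgroup K) {s : ℕ} (hs : s < 24) :
    ∃ c : K, c ≠ 0 ∧ ∀ t, h * xG s t * h⁻¹ = xG s (c * t) := by
  obtain ⟨c, rfl⟩ := diagonal_le_torus K hh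
  exact ⟨chi c s, D4NConj.chi_ne_zero c s, fun t => torG_conj c hs t⟩

/-- The action on `X(t)` from the action on `x_18`. -/
theorem X_act (hφ : ∀ x, φ x = x ^ q) (hle : twistedD4 K q ≤ fix φ)
    {h : GL chevD4.Idx K} (hh : h ∈ chevD4.diagonalSubgroup K) (hG : h ∈ twistedD4 K q) {c : K}
    (hc : ∀ t, h * xG 18 t * h⁻¹ = xG 18 (c * t)) (t : K) :
    h * D4Fixed.X φ t * h⁻¹ = D4Fixed.X φ (c * t) := by
  obtain ⟨c1, -, hc1⟩ := H_act hh (s := 13) (by norm_num)
  obtain ⟨c2, -, hc2⟩ := H_act hh (s := 12) (by norm_num)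
  have e : h * D4Fixed.X φ t * h⁻¹ = xG 18 (c * t) * (xG 13 (c1 * φ t) * (xG 12 (c2 * φ (φ t)) * 1)) := by
    unfold D4Fixed.X
    rw [xU_eq, xU_eq, xU_eq, ← hc, ← hc1, ← hc2]
    group
  have h1 : h * D4Fixed.X φ t * h⁻¹ ∈ fix φ := hle (mul_mem (mul_mem hG (D4Fixed.X_mem hφ t)) (inv_mem hG))
  have h2 : h * D4Fixed.X φ t * h⁻¹ ∈ RS K [18, 13, 12] := by
    rw [e, mul_one]
    exact mul_mem (mem_rspan xG (S := {k | k ∈ [18, 13, 12]}) (by simp) _)
      (mul_mem (mem_rspan xG (S := {k | k ∈ [18, 13, 12]}) (by simp) _)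
        (mem_rspan xG (S := {k | k ∈ [18, 13, 12]}) (by simp) _))
  obtain ⟨t', ht'⟩ := RS_outer_fix h2 h1
  have h3 : lprod xG [18, 13, 12] (fun r => if r = 18 then c * t else if r = 13 then c1 * φ t else c2 * φ (φ t)) =
      lprod xG [18, 13, 12] (fun r => if r = 18 then t' else if r = 13 then φ t' else φ (φ t')) := by
    have e1 : lprod xG [18, 13, 12] (fun r => if r = 18 then c * t else if r = 13 then c1 * φ t else c2 * φ (φ t)) =
        h * D4Fixed.X φ t * h⁻¹ := by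
      rw [e]; rfl
    have e2 : lprod xG [18, 13, 12] (fun r => if r = 18 then t' else if r = 13 then φ t' else φ (φ t')) =
        D4Fixed.X φ t' := by
      unfold D4Fixed.X
      rw [xU_eq, xU_eq, xU_eq, mul_assoc, ← mul_one (xG 12 (φ (φ t')))]
      rfl
    rw [e1, e2, ht']
  have h4 := lprod_inj [18, 13, 12] (by decide +kernel) h3 18 (by simp)
  simp only [if_true] at h4
  rw [ht', ← h4]

theorem X_comm (φ : K →+* K) (s t : K) : D4Fixed.X φ s * D4Fixed.X φ t = D4Fixed.X φ t * D4Fixed.X φ s := by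
  have key : ∀ r ∈ [18, 13, 12], ∀ r' ∈ [18, 13, 12], ∀ a b : K, Commute (xU r a : GL chevD4.Idx K) (xU r' b) := by
    have hsame : ∀ (r : ℕ) (a b : K), Commute (xU r a : GL chevD4.Idx K) (xU r b) := by
      intro r a b
      show _ * _ = _ * _
      rw [xU_eq, xU_eq, ← xG_add, ← xG_add, add_comm]
    intro r hr r' hr' a b
    simp only [List.mem_cons, List.not_mem_nil, or_false] at hr hr'
    rcases hr with rfl | rfl | rfl <;> rcases hr' with rfl | rfl | rfl
    · exact hsame _ _ _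
    · exact D4Fixed.c_18_13 _ _
    · exact D4Fixed.c_18_12 _ _
    · exact (D4Fixed.c_18_13 _ _).symm
    · exact hsame _ _ _
    · exact D4Fixed.c_13_12 _ _
    · exact (D4Fixed.c_18_12 _ _).symm
    · exact (D4Fixed.c_13_12 _ _).symm
    · exact hsame _ _ _
  have h1 : ∀ r ∈ [18, 13, 12], ∀ a : K, Commute (xU r a : GL chevD4.Idx K) (D4Fixed.X φ t) := by
    intro r hr a
    unfold D4Fixed.X
    exact ((key r hr 18 (by simp) _ _).mul_right (key r hr 13 (by simp) _ _)).mul_right (key r hr 12 (by simp) _ _)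
  have h2 : Commute (D4Fixed.X φ s) (D4Fixed.X φ t) := by
    conv_lhs => unfold D4Fixed.X
    exact ((h1 18 (by simp) _).mul_left (h1 13 (by simp) _)).mul_left (h1 12 (by simp) _)
  exact h2

theorem X_zero (φ : K →+* K) : D4Fixed.X φ 0 = 1 := by
  unfold D4Fixed.X
  rw [map_zero, map_zero, xU_eq, xU_eq, xU_eq, xG_zero, xG_zero, xG_zero, mul_one, mul_one]

theorem X_one (φ : K →+* K) : D4Fixed.X φ 1 ≠ 1 := by
  intro h
  have h1 : lprod xG [18, 13, 12] (fun _ => (1 : K)) = lprod xG [18, 13, 12] (fun _ => (0 : K)) := by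
    have e1 : lprod xG [18, 13, 12] (fun _ => (1 : K)) = D4Fixed.X φ 1 := by
      unfold D4Fixed.X
      rw [xU_eq, xU_eq, xU_eq, map_one, map_one, mul_assoc, ← mul_one (xG 12 (1 : K))]
      rfl
    have e2 : lprod xG [18, 13, 12] (fun _ => (0 : K)) = 1 := by
      rw [lprod_cons, lprod_cons, lprod_cons, lprod_nil, xG_zero, xG_zero, xG_zero, mul_one, mul_one, mul_one]
    rw [e1, e2, h]
  exact one_ne_zero (lprod_inj [18, 13, 12] (by decide +kernel) h1 18 (by simp))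

/-! ### The complements -/

instance decInRootSub (L : List ℕ) (r : ℕ) : Decidable (chevD4.InRootSub {j | j ∈ L} r) :=
  inferInstanceAs (Decidable (r < chevD4.nroots ∧ ∀ i < chevD4.rank, ¬ i ∈ L → (chevD4.coroot.getD r #[]).getD i 0 = 0))

/-- The unipotent radical of the class. -/
def VD (K : Type*) [Field K] (L : List ℕ) : Subgroup (GL chevD4.Idx K) :=
  chevD4.unipotentRadical K {j | j ∈ L}

theorem VD_le_U (L : List ℕ) : VD K L ≤ chevD4.posUnipotent K := by
  refine (Subgroup.closure_le _).2 ?_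
  rintro g ⟨r, t, hr, -, hg⟩
  exact Subgroup.subset_closure ⟨r, t, hr, hg⟩

theorem par_le (L : List ℕ) :
    chevD4.parabolicSubgroup K {j | j ∈ L} ≤ Subgroup.normalizer (VD K L : Set (GL chevD4.Idx K)) :=
  (Cfsg.Agent.S1048.result (F := K) chevD4 hD4 {j | j ∈ L}).1

theorem conj_VD {L : List ℕ} {m v : GL chevD4.Idx K} (hm : m ∈ chevD4.parabolicSubgroup K {j | j ∈ L})
    (hv : v ∈ VD K L) : m * v * m⁻¹ ∈ VD K L :=
  (Subgroup.mem_normalizer_iff.1 (par_le L hm) v).1 hv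

theorem nG_mem_par {L : List ℕ} {i : ℕ} (hi : i < 4) (hiL : i ∈ L) :
    nG K i ∈ chevD4.parabolicSubgroup K {j | j ∈ L} := by
  refine (le_sup_right : _ ≤ chevD4.parabolicSubgroup K {j | j ∈ L}) (Subgroup.subset_closure ?_)
  refine ⟨i, hiL, hi, ?_⟩
  rw [nG_def, coe_nR (sp_lt hi), simple_eq hi]

theorem tail_sub : ∀ s ∈ ordA.tail, chevD4.IsPosRoot s ∧ ¬ chevD4.InRootSub {j | j ∈ [1]} s := by decide +kernel

theorem drop_sub : ∀ s ∈ ordB.drop 3, chevD4.IsPosRoot s ∧ ¬ chevD4.InRootSub {j | j ∈ [0, 2, 3]} s := by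
  decide +kernel

theorem RS_le_VD {L l : List ℕ} (h : ∀ s ∈ l, chevD4.IsPosRoot s ∧ ¬ chevD4.InRootSub {j | j ∈ L} s) :
    RS K l ≤ VD K L := by
  refine rspan_le xG fun s hs t => ?_
  obtain ⟨h1, h2⟩ := h s hs
  exact Subgroup.subset_closure ⟨s, t, h1, h2, coe_xG s t⟩

theorem neg_B {l : List ℕ} (hl : ∀ s ∈ l, s < 12) {y : GL chevD4.Idx K} (hy : y ∈ RS K l)
    (hB : y ∈ chevD4.borelSubgroup K) : y = 1 := by
  have h2 : y ∈ chevD4.negUnipotent K := by
    have : RS K l ≤ chevD4.negUnipotent K := by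
      refine rspan_le xG fun s hs t => Subgroup.subset_closure ⟨s, t, (D4RGD.isNegRoot_iff _).2 (hl s hs), coe_xG _ _⟩
    exact this hy
  have h3 := Triangular.borel_inf_neg mem_types (diagonal_le_diagSub K)
  have h4 : y ∈ (⊥ : Subgroup (GL chevD4.Idx K)) := by
    rw [← h3]; exact ⟨hB, h2⟩
  rwa [Subgroup.mem_bot] at h4

/-! ### The local data -/

/-- The class `{p₂}`. -/
noncomputable def locA (hφ : ∀ x, φ x = x ^ q) (hle : twistedD4 K q ≤ fix φ) : Loc (tdata hφ hle) 0 (φ.eqLocusField (RingHom.id K)) where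
  V := VD K [1]
  x := fun t => xG 14 (t : K)
  V_le := VD_le_U _
  sub := fun v hv => RS_le_VD tail_sub hv
  norm_B := fun b hb v hv => conj_VD (Subgroup.mem_sup_left hb) hv
  norm_n := fun v hv => by
    have := conj_VD (inv_mem (nG_mem_par (K := K) (L := [1]) (i := 1) (by norm_num) (by simp))) hv
    rwa [inv_inv] at this
  x_mem_X := fun t => mem_rspan xG (S := {k | k ∈ [14]}) (by simp) _
  x_mem_G := fun t => xG14_mem hφ t.2
  X_mem_U := fun y hy => RS14_le_U hy
  x_surj := fun y hy hyG => by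
    obtain ⟨t, ht, rfl⟩ := RS_14_fix hy (hle hyG)
    exact ⟨⟨t, ht⟩, rfl⟩
  x_comm := fun s t => by
    show xG 14 (s : K) * xG 14 (t : K) = xG 14 (t : K) * xG 14 (s : K)
    rw [← xG_add, ← xG_add, add_comm]
  x_zero := xG_zero 14
  x_one := fun h => one_ne_zero ((xG_eq_one_iff (by norm_num) (1 : K)).1 h)
  Y_B := fun y hy h => neg_B (by decide) hy h
  act := fun h hh hG => by
    obtain ⟨c, hc0, hc⟩ := H_act hh (s := 14) (by norm_num)
    have h1 : h * xG 14 (1 : K) * h⁻¹ ∈ twistedD4 K q :=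
      mul_mem (mul_mem hG (xG14_mem hφ (map_one φ))) (inv_mem hG)
    rw [hc, mul_one] at h1
    obtain ⟨c', hc', e⟩ := RS_14_fix (mem_rspan xG (S := {k | k ∈ [14]}) (by simp) _) (hle h1)
    have e1 : c = c' := by
      have h5 := lprod_inj [14] (by decide +kernel) (t := fun _ => c) (t' := fun _ => c') (by
        rw [lprod_cons, lprod_cons, lprod_nil, lprod_nil, e]) 14 (by simp)
      exact h5
    subst e1
    exact ⟨⟨c, hc'⟩, fun h => hc0 (congrArg Subtype.val h), fun t => hc t⟩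
  tor := fun c hc0 => by
    have hcK : (c : K) ≠ 0 := fun h => hc0 (Subtype.ext h)
    have hcf : φ (c : K) = c := c.2
    have hc2 : (c : K) ^ 2 ≠ 0 := pow_ne_zero _ hcK
    refine ⟨hb φ c * hR 14 ((c : K) ^ 2), mul_mem (hb_mem_diagonal φ hcK) (hR_mem (by norm_num) hc2),
      mul_mem (hb_mem hφ _) (h14_mem hφ (by rw [map_pow, hcf])), fun t => ?_⟩
    have h14 : ∀ t : K, hR 14 ((c : K) ^ 2) * xG 14 t * (hR 14 ((c : K) ^ 2))⁻¹ = xG 14 (((c : K) ^ 2) ^ (2 : ℤ) * t) :=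
      fun t => hR_conj (i := 1) (by norm_num) (by decide +kernel) (by norm_num) (by norm_num) hc2
        (by decide +kernel) t
    have hb18 : ∀ t : K, hR 18 (c : K) * xG 14 t * (hR 18 (c : K))⁻¹ = xG 14 ((c : K) ^ (-1 : ℤ) * t) :=
      fun t => hR_conj (i := 0) (by norm_num) (by decide +kernel) (by norm_num) (by norm_num) hcK
        (by decide +kernel) t
    have hb13 : ∀ t : K, hR 13 (c : K) * xG 14 t * (hR 13 (c : K))⁻¹ = xG 14 ((c : K) ^ (-1 : ℤ) * t) :=
      fun t => hR_conj (i := 2) (by norm_num) (by decide +kernel) (by norm_num) (by norm_num) hcK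
        (by decide +kernel) t
    have hb12 : ∀ t : K, hR 12 (c : K) * xG 14 t * (hR 12 (c : K))⁻¹ = xG 14 ((c : K) ^ (-1 : ℤ) * t) :=
      fun t => hR_conj (i := 3) (by norm_num) (by decide +kernel) (by norm_num) (by norm_num) hcK
        (by decide +kernel) t
    have e : ∀ a b c d g : GL chevD4.Idx K, (a * b * c) * d * g * ((a * b * c) * d)⁻¹ =
        a * (b * (c * (d * g * d⁻¹) * c⁻¹) * b⁻¹) * a⁻¹ := by
      intro a b c d g; group
    show hb φ c * hR 14 ((c : K) ^ 2) * xG 14 (t : K) * (hb φ c * hR 14 ((c : K) ^ 2))⁻¹ = xG 14 ((c : K) * t)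
    unfold hb
    rw [hcf, hcf, e, h14, hb12, hb13, hb18]
    congr 1
    rw [zpow_neg_one, zpow_ofNat]
    field_simp

/-- The class `{p₁, p₃, p₄}`. -/
noncomputable def locB (hφ : ∀ x, φ x = x ^ q) (hle : twistedD4 K q ≤ fix φ)
    (h3 : ∀ t, φ (φ (φ t)) = t) : Loc (tdata hφ hle) 1 K where
  V := VD K [0, 2, 3]
  x := D4Fixed.X φ
  V_le := VD_le_U _
  sub := fun v hv => RS_le_VD drop_sub hv
  norm_B := fun b hb v hv => conj_VD (Subgroup.mem_sup_left hb) hv
  norm_n := fun v hv => by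
    have hn : nb K ∈ chevD4.parabolicSubgroup K {j | j ∈ [0, 2, 3]} :=
      mul_mem (mul_mem (nG_mem_par (K := K) (i := 0) (by norm_num) (by simp))
        (nG_mem_par (K := K) (i := 2) (by norm_num) (by simp))) (nG_mem_par (K := K) (i := 3) (by norm_num) (by simp))
    have := conj_VD (inv_mem hn) hv
    rwa [inv_inv] at this
  x_mem_X := fun t => X_mem_RS t
  x_mem_G := fun t => D4Fixed.X_mem hφ t
  X_mem_U := fun y hy => RSouter_le_U hy
  x_surj := fun y hy hyG => by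
    obtain ⟨t, ht⟩ := RS_outer_fix hy (hle hyG)
    exact ⟨t, ht⟩
  x_comm := X_comm φ
  x_zero := X_zero φ
  x_one := X_one φ
  Y_B := fun y hy h => neg_B (by decide) hy h
  act := fun h hh hG => by
    obtain ⟨c, hc0, hc⟩ := H_act hh (s := 18) (by norm_num)
    exact ⟨c, hc0, fun t => X_act hφ hle hh hG hc t⟩
  tor := fun c hc0 => by
    -- `c = (c ^ (m + 1)) ^ 2 * N(c)⁻¹` with `q ^ 2 + q + 1 = 2 m + 1`
    obtain ⟨m, hm⟩ : ∃ m, q ^ 2 + q = 2 * m := by
      have h : Even (q ^ 2 + q) := by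
        rw [sq]
        have := Nat.even_mul_succ_self q
        rwa [Nat.mul_succ] at this
      obtain ⟨m, hm⟩ := h
      exact ⟨m, by omega⟩
    set N : K := c * φ c * φ (φ c) with hN
    have hN0 : N ≠ 0 := mul_ne_zero (mul_ne_zero hc0 ((map_ne_zero φ).2 hc0)) ((map_ne_zero φ).2 ((map_ne_zero φ).2 hc0))
    have hNf : φ N = N := by
      rw [hN, map_mul, map_mul, h3]; ring
    have hNp : N = c ^ (2 * m + 1) := by
      rw [hN, hφ c, hφ (c ^ q), ← hm, pow_succ, pow_add, pow_two q, pow_mul]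
      ring
    have hs0 : c ^ (m + 1) ≠ 0 := pow_ne_zero _ hc0
    refine ⟨hb φ (c ^ (m + 1)) * hR 14 N, mul_mem (hb_mem_diagonal φ hs0) (hR_mem (by norm_num) hN0),
      mul_mem (hb_mem hφ _) (h14_mem hφ hNf), fun t => ?_⟩
    refine X_act hφ hle (mul_mem (hb_mem_diagonal φ hs0) (hR_mem (by norm_num) hN0))
      (mul_mem (hb_mem hφ _) (h14_mem hφ hNf)) ?_ t
    intro t
    have h14 : ∀ t : K, hR 14 N * xG 18 t * (hR 14 N)⁻¹ = xG 18 (N ^ (-1 : ℤ) * t) :=
      fun t => hR_conj (i := 1) (by norm_num) (by decide +kernel) (by norm_num) (by norm_num) hN0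
        (by decide +kernel) t
    have hb18 : ∀ t : K, hR 18 (c ^ (m + 1)) * xG 18 t * (hR 18 (c ^ (m + 1)))⁻¹ =
        xG 18 ((c ^ (m + 1)) ^ (2 : ℤ) * t) :=
      fun t => hR_conj (i := 0) (by norm_num) (by decide +kernel) (by norm_num) (by norm_num) hs0
        (by decide +kernel) t
    have hb13 : ∀ t : K, hR 13 (φ (c ^ (m + 1))) * xG 18 t * (hR 13 (φ (c ^ (m + 1))))⁻¹ =
        xG 18 ((φ (c ^ (m + 1))) ^ (0 : ℤ) * t) :=
      fun t => hR_conj (i := 2) (by norm_num) (by decide +kernel) (by norm_num) (by norm_num)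
        ((map_ne_zero φ).2 hs0) (by decide +kernel) t
    have hb12 : ∀ t : K, hR 12 (φ (φ (c ^ (m + 1)))) * xG 18 t * (hR 12 (φ (φ (c ^ (m + 1)))))⁻¹ =
        xG 18 ((φ (φ (c ^ (m + 1)))) ^ (0 : ℤ) * t) :=
      fun t => hR_conj (i := 3) (by norm_num) (by decide +kernel) (by norm_num) (by norm_num)
        ((map_ne_zero φ).2 ((map_ne_zero φ).2 hs0)) (by decide +kernel) t
    have e : ∀ a b c d g : GL chevD4.Idx K, (a * b * c) * d * g * ((a * b * c) * d)⁻¹ =
        a * (b * (c * (d * g * d⁻¹) * c⁻¹) * b⁻¹) * a⁻¹ := by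
      intro a b c d g; group
    unfold hb
    rw [e, h14, hb12, hb13, hb18]
    congr 1
    rw [zpow_zero, zpow_zero, one_mul, one_mul, zpow_neg_one, zpow_ofNat, ← mul_assoc]
    congr 1
    rw [mul_inv_eq_iff_eq_mul₀ hN0, hNp]
    ring

/-! ### The Schreier property -/

theorem sch [Fintype K] (hq : IsPrimePow q) (hK : Fintype.card K = q ^ 3) : Basic.Sch ↥(twistedD4 K q) := by
  obtain ⟨φ, hφ⟩ := D4Fixed.exists_frob hq hK
  have hle := twisted_le_fix hK hφ
  have h3 := phi3 hK hφ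
  obtain ⟨p, k, hp, hk, hpk⟩ := (isPrimePow_nat_iff _).1 hq
  have : Fact p.Prime := ⟨hp⟩
  have hfin : Finite (tdata hφ hle).G := inferInstanceAs (Finite ↥(twistedD4 K q))
  have hq1 : 1 < q := hq.one_lt
  have hpq : p ∣ q := hpk ▸ dvd_pow_self p hk.ne'
  have hcU : Nat.card ((chevD4.posUnipotent K).subgroupOf (twistedD4 K q)) = q ^ 12 := by
    rw [BNArith.card_subgroupOf]
    exact Cfsg.Agent.S1088.result hq hK
  have hcG := Cfsg.Agent.S1067.result hq hK
  refine sch_of_twisted (tdata hφ hle) (p := p) (by simp) ?_ ?_ ?_ ?_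
  · have h := Cfsg.Agent.S1109.result hq hK
    rw [Subgroup.inf_subgroupOf_right] at h
    exact h
  · apply IsPGroup.of_card (n := k * 12)
    rw [pow_mul, hpk]
    exact hcU
  · have h1 := ((chevD4.posUnipotent K).subgroupOf (twistedD4 K q)).card_mul_index
    rw [hcU, hcG, mul_assoc, mul_assoc] at h1
    have h2 := Nat.eq_of_mul_eq_mul_left (pow_pos (by omega : 0 < q) 12) h1
    show ¬ p ∣ ((chevD4.posUnipotent K).subgroupOf (twistedD4 K q)).index
    rw [h2, hp.dvd_mul, hp.dvd_mul]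
    rintro (h | h | h)
    · exact BNArith.not_dvd_pow_sub_one hp hpq hq1 (by norm_num) h
    · exact BNArith.not_dvd_pow_sub_one hp hpq hq1 (by norm_num) h
    · have h5 : p ∣ q ^ 8 + q ^ 4 := dvd_add (dvd_pow hpq (by norm_num)) (dvd_pow hpq (by norm_num))
      exact hp.one_lt.ne' (Nat.dvd_one.1 ((Nat.dvd_add_right h5).1 h))
  · intro i
    fin_cases i
    · exact ⟨φ.eqLocusField (RingHom.id K), inferInstance, inferInstance, ⟨locA hφ hle⟩⟩
    · exact ⟨K, inferInstance, inferInstance, ⟨locB hφ hle h3⟩⟩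

theorem sch_of_iso3D4 {G : Type*} [Group G] (h : Iso3D4 G) : Basic.Sch G := by
  obtain ⟨K, _, _, q, hq, hK, ⟨e⟩⟩ := h
  exact (sch hq hK).of_equiv e.symm

end Cfsg.Agent.Schreier.TwDFour
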